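import Mathlib
import Cfsg.Prelude.Def_RootSubgroups
import Cfsg.Agent.Lib.Helper8.RN4

/-!
# Three root subgroups: nilpotency of `⟨A, B, C⟩`
-/

set_option autoImplicit false

namespace Cfsg.Agent.Lib.Helper8

variable {G : Type*} [Group G]

open scoped commutatorElement

theorem conj_mem_of_conjBy_le {K : Subgroup G} {T : Set G} (hT : ∀ t ∈ T, t⁻¹ ∈ T)
    (h : ∀ t ∈ T, Cfsg.conjBy K t ≤ K) :
    ∀ t ∈ T, ∀ n ∈ K, t * n * t⁻¹ ∈ K ∧ t⁻¹ * n * t ∈ K := by
  intro t ht n hn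
  constructor
  · exact h t ht (conj_mem_conjBy hn)
  · have := h t⁻¹ (hT t ht) (conj_mem_conjBy (g := t⁻¹) hn)
    rwa [inv_inv] at this

theorem conjBy_eq_self_of_comm {K : Subgroup G} {t : G} (h : ∀ k ∈ K, t * k = k * t) :
    Cfsg.conjBy K t = K := by
  apply conjBy_eq_self_iff.mpr
  apply Subgroup.centralizer_le_normalizer
  rw [Subgroup.mem_centralizer_iff]
  intro k hk
  exact (h k hk).symm

theorem comm_elt_eq_one {x y : G} (h : x * y = y * x) : x * y * x⁻¹ * y⁻¹ = 1 := by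
  rw [h]; group

theorem sup4_eq_closure_union (P Q R' T : Subgroup G) :
    (P ⊔ Q) ⊔ (R' ⊔ T) = Subgroup.closure (((P : Set G) ∪ Q) ∪ ((R' : Set G) ∪ T)) := by
  rw [Subgroup.closure_union, Subgroup.closure_union, Subgroup.closure_union,
    Subgroup.closure_eq, Subgroup.closure_eq, Subgroup.closure_eq, Subgroup.closure_eq]

section Triple

variable {S : Set (Subgroup G)} {A B C : Subgroup G}

theorem TripleCfg.ZX_le (t : TripleCfg S A B C) :
    ⁅A, ⁅C, B⁆⁆ ≤ (A ⊔ ⁅A, B⁆) ⊔ (C ⊔ ⁅C, B⁆) :=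
  le_trans commutator_le_sup' (sup_le (le_trans le_sup_left le_sup_left)
    (le_trans le_sup_right le_sup_right))

theorem TripleCfg.M_le (t : TripleCfg S A B C) :
    (A ⊔ ⁅A, B⁆) ⊔ (C ⊔ ⁅C, B⁆) ≤ A ⊔ B ⊔ C := by
  rw [← t.M_sup_B]; exact le_sup_left

/-- The core of the nilpotency argument. -/
theorem TripleCfg.nilpotent_core (t : TripleCfg S A B C)
    (hZXc : ∀ z ∈ ⁅A, ⁅C, B⁆⁆, ∀ x ∈ (A ⊔ ⁅A, B⁆) ⊔ (C ⊔ ⁅C, B⁆), z * x = x * z)
    (hZYc : ∀ z ∈ ⁅C, ⁅A, B⁆⁆, ∀ x ∈ (A ⊔ ⁅A, B⁆) ⊔ (C ⊔ ⁅C, B⁆), z * x = x * z)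
    (hWX : ∀ w ∈ ⁅B, ⁅A, ⁅C, B⁆⁆⁆, ∀ b ∈ B, w * b = b * w)
    (hWY : ∀ w ∈ ⁅B, ⁅C, ⁅A, B⁆⁆⁆, ∀ b ∈ B, w * b = b * w) :
    Group.IsNilpotent ↥(A ⊔ B ⊔ C) := by
  set E := ⁅A, B⁆ with hE
  set F := ⁅C, B⁆ with hF
  set ZX := ⁅A, F⁆ with hZX
  set ZY := ⁅C, E⁆ with hZY
  set M := (A ⊔ E) ⊔ (C ⊔ F) with hM
  set Z := ZX ⊔ ZY with hZ
  set K := (E ⊔ F) ⊔ (ZX ⊔ ZY) with hK
  set W := ⁅B, ZX⁆ ⊔ ⁅B, ZY⁆ with hW
  set R := A ⊔ B ⊔ C with hR
  set T : Set G := (A : Set G) ∪ B ∪ C with hTdef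
  have hRT : R = Subgroup.closure T := sup3_eq_closure_union A B C
  have hTinv : ∀ x ∈ T, x⁻¹ ∈ T := by
    rintro x ((hx | hx) | hx)
    · exact Or.inl (Or.inl (A.inv_mem hx))
    · exact Or.inl (Or.inr (B.inv_mem hx))
    · exact Or.inr (C.inv_mem hx)
  have hAM : A ≤ M := le_trans le_sup_left le_sup_left
  have hCM : C ≤ M := le_trans le_sup_left le_sup_right
  have hEM : E ≤ M := le_trans le_sup_right le_sup_left
  have hFM : F ≤ M := le_trans le_sup_right le_sup_right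
  have hMR : M ≤ R := t.M_le
  have hZXM : ZX ≤ M := t.ZX_le
  have hZYM : ZY ≤ M := by
    have := t.symm.ZX_le
    rwa [sup_comm] at this
  have hZM : Z ≤ M := sup_le hZXM hZYM
  -- `Z` is central in `M`
  have hZc : ∀ z ∈ Z, ∀ x ∈ M, z * x = x * z := by
    intro z hz x hx
    exact (comm_sup_of_comm (fun p hp => (hZXc p hp x hx).symm)
      (fun q hq => (hZYc q hq x hx).symm) z hz).symm
  -- conjugation by `B` on `ZX`, `ZY`
  have hswapX : ∀ b ∈ B, Cfsg.conjBy ZX b ≤ Z := by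
    intro b hb
    by_cases hb1 : b = 1
    · rw [hb1, conjBy_one]; exact le_sup_left
    · exact le_trans (t.conj_swap hb hb1) le_sup_right
  have hswapY : ∀ b ∈ B, Cfsg.conjBy ZY b ≤ Z := by
    intro b hb
    by_cases hb1 : b = 1
    · rw [hb1, conjBy_one]; exact le_sup_right
    · exact le_trans (t.symm.conj_swap hb hb1) le_sup_left
  -- `Z` is normalized by the generators
  have hconjZ : ∀ x ∈ T, Cfsg.conjBy Z x ≤ Z := by
    rintro x ((hx | hx) | hx)
    · rw [conjBy_eq_self_of_comm (fun k hk => (hZc k hk x (hAM hx)).symm)]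
    · rw [conjBy_sup]; exact sup_le (hswapX x hx) (hswapY x hx)
    · rw [conjBy_eq_self_of_comm (fun k hk => (hZc k hk x (hCM hx)).symm)]
  have hnormZ := conj_mem_of_conjBy_le hTinv hconjZ
  -- `W ≤ Z`
  have hWXZ : ⁅B, ZX⁆ ≤ Z := by
    rw [Subgroup.commutator_le]
    intro b hb z hz
    rw [commutatorElement_def]
    exact Z.mul_mem (hswapX b hb (conj_mem_conjBy hz)) (Z.inv_mem (Subgroup.mem_sup_left hz))
  have hWYZ : ⁅B, ZY⁆ ≤ Z := by
    rw [Subgroup.commutator_le]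
    intro b hb z hz
    rw [commutatorElement_def]
    exact Z.mul_mem (hswapY b hb (conj_mem_conjBy hz)) (Z.inv_mem (Subgroup.mem_sup_right hz))
  have hWZ : W ≤ Z := sup_le hWXZ hWYZ
  -- `W` is centralized by the generators
  have hWc : ∀ x ∈ T, ∀ w ∈ W, x * w = w * x := by
    rintro x ((hx | hx) | hx) w hw
    · exact (hZc w (hWZ hw) x (hAM hx)).symm
    · exact comm_sup_of_comm (fun p hp => (hWX p hp x hx).symm)
        (fun q hq => (hWY q hq x hx).symm) w hw
    · exact (hZc w (hWZ hw) x (hCM hx)).symm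
  have hnormW : ∀ x ∈ T, ∀ n ∈ W, x * n * x⁻¹ ∈ W ∧ x⁻¹ * n * x ∈ W := by
    intro x hx n hn
    have h1 := hWc x hx n hn
    have h2 := hWc x⁻¹ (hTinv x hx) n hn
    have e1 : x * n * x⁻¹ = n := by rw [h1]; group
    have e2 : x⁻¹ * n * x = n := by rw [h2]; group
    rw [e1, e2]; exact ⟨hn, hn⟩
  -- `K` is normalized by the generators
  have hconjE_A : ∀ a ∈ A, Cfsg.conjBy E a = E := fun a ha =>
    conjBy_eq_self_of_comm (fun e he => (t.comm_EA he ha).symm)
  have hconjF_C : ∀ c ∈ C, Cfsg.conjBy F c = F := fun c hc =>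
    conjBy_eq_self_of_comm (fun f hf => (t.symm.comm_EA hf hc).symm)
  have hconjF_A : ∀ a ∈ A, Cfsg.conjBy F a ≤ K := by
    intro a ha
    have h1 : Cfsg.conjBy F a ≤ F ⊔ ⁅F, A⁆ := conjBy_le_sup_commutator ha
    rw [Subgroup.commutator_comm] at h1
    exact le_trans h1 (sup_le (le_trans le_sup_right le_sup_left)
      (le_trans le_sup_left le_sup_right))
  have hconjE_C : ∀ c ∈ C, Cfsg.conjBy E c ≤ K := by
    intro c hc
    have h1 : Cfsg.conjBy E c ≤ E ⊔ ⁅E, C⁆ := conjBy_le_sup_commutator hc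
    rw [Subgroup.commutator_comm] at h1
    exact le_trans h1 (sup_le (le_trans le_sup_left le_sup_left)
      (le_trans le_sup_right le_sup_right))
  have hZK : Z ≤ K := le_sup_right
  have hconjK : ∀ x ∈ T, Cfsg.conjBy K x ≤ K := by
    intro x hx
    have hZx := hconjZ x hx
    rw [hK, conjBy_sup (E ⊔ F), conjBy_sup E]
    refine sup_le (sup_le ?_ ?_) (le_trans hZx hZK)
    · rcases hx with (hx | hx) | hx
      · rw [hconjE_A x hx]; exact le_trans le_sup_left le_sup_left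
      · rw [t.conjBy_E hx]; exact le_trans le_sup_left le_sup_left
      · exact hconjE_C x hx
    · rcases hx with (hx | hx) | hx
      · exact hconjF_A x hx
      · rw [t.symm.conjBy_E hx]; exact le_trans le_sup_right le_sup_left
      · rw [hconjF_C x hx]; exact le_trans le_sup_right le_sup_left
  have hnormK := conj_mem_of_conjBy_le hTinv hconjK
  -- step 0: `[R, R] ≤ K`
  have hEK : E ≤ K := le_trans le_sup_left le_sup_left
  have hFK : F ≤ K := le_trans le_sup_right le_sup_left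
  have step0 : ∀ x ∈ R, ∀ g ∈ R, x * g * x⁻¹ * g⁻¹ ∈ K := by
    rw [hRT]
    apply comm_mem_of_gens hnormK Subgroup.subset_closure
    rintro k ((hk | hk) | hk) x ((hx | hx) | hx)
    · rw [comm_elt_eq_one (t.comm_AA hk hx)]; exact K.one_mem
    · exact hEK (comm_mem_commutator hk hx)
    · rw [comm_elt_eq_one (t.comm k hk x hx)]; exact K.one_mem
    · have := comm_mem_commutator (A := A) (B := B) hx hk
      have e : k * x * k⁻¹ * x⁻¹ = (x * k * x⁻¹ * k⁻¹)⁻¹ := by group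
      rw [e]; exact hEK (Subgroup.inv_mem _ this)
    · rw [comm_elt_eq_one (t.comm_BB hk hx)]; exact K.one_mem
    · have := comm_mem_commutator (A := C) (B := B) hx hk
      have e : k * x * k⁻¹ * x⁻¹ = (x * k * x⁻¹ * k⁻¹)⁻¹ := by group
      rw [e]; exact hFK (Subgroup.inv_mem _ this)
    · rw [comm_elt_eq_one (t.comm x hx k hk).symm]; exact K.one_mem
    · exact hFK (comm_mem_commutator hk hx)
    · rw [comm_elt_eq_one (t.symm.comm_AA hk hx)]; exact K.one_mem
  -- step 1: `[K, R] ≤ Z`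
  have hER : E ≤ R := le_trans hEM hMR
  have hFR : F ≤ R := le_trans hFM hMR
  have hZR : Z ≤ R := le_trans hZM hMR
  have step1 : ∀ k ∈ K, ∀ g ∈ R, k * g * k⁻¹ * g⁻¹ ∈ Z := by
    rw [hRT, hK, sup4_eq_closure_union]
    apply comm_mem_of_gens hnormZ
    · rw [← hRT]
      rintro k ((hk | hk) | (hk | hk))
      · exact hER hk
      · exact hFR hk
      · exact hZR (Subgroup.mem_sup_left hk)
      · exact hZR (Subgroup.mem_sup_right hk)
    · rintro k ((hk | hk) | (hk | hk)) x ((hx | hx) | hx)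
      · rw [comm_elt_eq_one (t.comm_EA hk hx)]; exact Z.one_mem
      · rw [comm_elt_eq_one (t.comm_EB hk hx)]; exact Z.one_mem
      · have := comm_mem_commutator (A := C) (B := E) hx hk
        have e : k * x * k⁻¹ * x⁻¹ = (x * k * x⁻¹ * k⁻¹)⁻¹ := by group
        rw [e]; exact Subgroup.mem_sup_right (Subgroup.inv_mem _ this)
      · have := comm_mem_commutator (A := A) (B := F) hx hk
        have e : k * x * k⁻¹ * x⁻¹ = (x * k * x⁻¹ * k⁻¹)⁻¹ := by group
        rw [e]; exact Subgroup.mem_sup_left (Subgroup.inv_mem _ this)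
      · rw [comm_elt_eq_one (t.symm.comm_EB hk hx)]; exact Z.one_mem
      · rw [comm_elt_eq_one (t.symm.comm_EA hk hx)]; exact Z.one_mem
      · rw [comm_elt_eq_one (hZc k (Subgroup.mem_sup_left hk) x (hAM hx))]; exact Z.one_mem
      · have h1 := hswapX x hx (conj_mem_conjBy (Subgroup.inv_mem _ hk))
        have e : k * x * k⁻¹ * x⁻¹ = k * (x * k⁻¹ * x⁻¹) := by group
        rw [e]; exact Z.mul_mem (Subgroup.mem_sup_left hk) h1
      · rw [comm_elt_eq_one (hZc k (Subgroup.mem_sup_left hk) x (hCM hx))]; exact Z.one_mem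
      · rw [comm_elt_eq_one (hZc k (Subgroup.mem_sup_right hk) x (hAM hx))]; exact Z.one_mem
      · have h1 := hswapY x hx (conj_mem_conjBy (Subgroup.inv_mem _ hk))
        have e : k * x * k⁻¹ * x⁻¹ = k * (x * k⁻¹ * x⁻¹) := by group
        rw [e]; exact Z.mul_mem (Subgroup.mem_sup_right hk) h1
      · rw [comm_elt_eq_one (hZc k (Subgroup.mem_sup_right hk) x (hCM hx))]; exact Z.one_mem
  -- step 2: `[Z, R] ≤ W`
  have step2 : ∀ z ∈ Z, ∀ g ∈ R, z * g * z⁻¹ * g⁻¹ ∈ W := by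
    rw [hRT, hZ, sup_eq_closure_union]
    apply comm_mem_of_gens hnormW
    · rw [← hRT]
      rintro k (hk | hk)
      · exact hZR (Subgroup.mem_sup_left hk)
      · exact hZR (Subgroup.mem_sup_right hk)
    · rintro k (hk | hk) x ((hx | hx) | hx)
      · rw [comm_elt_eq_one (hZc k (Subgroup.mem_sup_left hk) x (hAM hx))]; exact W.one_mem
      · have := comm_mem_commutator (A := B) (B := ZX) hx hk
        have e : k * x * k⁻¹ * x⁻¹ = (x * k * x⁻¹ * k⁻¹)⁻¹ := by group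
        rw [e]; exact Subgroup.mem_sup_left (Subgroup.inv_mem _ this)
      · rw [comm_elt_eq_one (hZc k (Subgroup.mem_sup_left hk) x (hCM hx))]; exact W.one_mem
      · rw [comm_elt_eq_one (hZc k (Subgroup.mem_sup_right hk) x (hAM hx))]; exact W.one_mem
      · have := comm_mem_commutator (A := B) (B := ZY) hx hk
        have e : k * x * k⁻¹ * x⁻¹ = (x * k * x⁻¹ * k⁻¹)⁻¹ := by group
        rw [e]; exact Subgroup.mem_sup_right (Subgroup.inv_mem _ this)
      · rw [comm_elt_eq_one (hZc k (Subgroup.mem_sup_right hk) x (hCM hx))]; exact W.one_mem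
  -- step 3: `[W, R] = 1`
  have step3 : ∀ w ∈ W, ∀ g ∈ R, w * g * w⁻¹ * g⁻¹ ∈ (⊥ : Subgroup G) := by
    intro w hw g hg
    rw [Subgroup.mem_bot]
    apply comm_elt_eq_one
    have hle : R ≤ Subgroup.centralizer ({w} : Set G) := by
      rw [hRT, Subgroup.closure_le]
      intro x hx
      show x ∈ Subgroup.centralizer ({w} : Set G)
      rw [Subgroup.mem_centralizer_iff]
      intro y hy
      rw [Set.mem_singleton_iff] at hy
      rw [hy]; exact (hWc x hx w hw).symm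
    have := hle hg
    rw [Subgroup.mem_centralizer_iff] at this
    exact this w rfl
  -- the chain
  refine nilpotent_of_chain R (fun i => match i with
    | 0 => R
    | 1 => K
    | 2 => Z
    | 3 => W
    | _ => ⊥) 4 rfl rfl ?_
  intro i
  match i with
  | 0 => exact step0
  | 1 => exact step1
  | 2 => exact step2
  | 3 => exact step3
  | (n + 4) =>
    intro x hx g _
    have hx1 : x = 1 := by
      have : x ∈ (⊥ : Subgroup G) := hx
      rwa [Subgroup.mem_bot] at this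
    rw [hx1]
    simp

end Triple

end Cfsg.Agent.Lib.Helper8
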