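import Mathlib
import Cfsg.Prelude.Def_RootSubgroups
import Cfsg.Agent.Lib.Helper8.RN5

/-!
# Three root subgroups: the main statement
-/

set_option autoImplicit false

namespace Cfsg.Agent.Lib.Helper8

variable {G : Type*} [Group G]

open scoped commutatorElement

section Triple

variable {S : Set (Subgroup G)} {A B C : Subgroup G}

/-- `⁅B, Z_X⁆` is centralized by `B` when `Z_X ∈ S` commutes with `Z_Y`. -/
theorem TripleCfg.W_comm (t : TripleCfg S A B C) (hZXS : ⁅A, ⁅C, B⁆⁆ ∈ S)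
    (hcomm : ∀ z ∈ ⁅A, ⁅C, B⁆⁆, ∀ z' ∈ ⁅C, ⁅A, B⁆⁆, z' * z = z * z') :
    ∀ w ∈ ⁅B, ⁅A, ⁅C, B⁆⁆⁆, ∀ b ∈ B, w * b = b * w := by
  rcases t.hS.pair B t.hB _ hZXS with h1 | h2 | h3
  · intro w hw b _
    rw [h1, Subgroup.mem_bot] at hw
    rw [hw]; simp
  · exfalso
    obtain ⟨b, hb, hb1⟩ := RootPreConfig.exists_ne_one t.hS t.hB
    refine rankOnePair_conj_not_centralize h2 hb hb1 ?_
    intro c₁ hc₁ c₃ hc₃
    have hb1' : b⁻¹ ≠ 1 := fun h => hb1 (inv_eq_one.mp h)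
    have hmem : b⁻¹ * c₁ * b ∈ ⁅C, ⁅A, B⁆⁆ := by
      apply t.conj_swap (B.inv_mem hb) hb1'
      have := conj_mem_conjBy (g := b⁻¹) hc₁
      rwa [inv_inv] at this
    exact hcomm c₃ hc₃ _ hmem
  · intro w hw b hb
    exact h3.2.1 w hw b (Subgroup.mem_sup_left hb)

/-- The main theorem on three root subgroups. -/
theorem TripleCfg.main (t : TripleCfg S A B C) {b : G} (hb : b ∈ B) (hb1 : b ≠ 1) :
    ((IsMulCommutative ↥(A ⊔ Cfsg.conjBy C b⁻¹) ∧ IsMulCommutative ↥(Cfsg.conjBy A b⁻¹ ⊔ C)) ∨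
      ((¬ IsMulCommutative ↥(A ⊔ Cfsg.conjBy C b⁻¹) ∧
          ⁅⁅A ⊔ Cfsg.conjBy C b⁻¹, A ⊔ Cfsg.conjBy C b⁻¹⁆, A ⊔ Cfsg.conjBy C b⁻¹⁆ = ⊥) ∧
        (¬ IsMulCommutative ↥(Cfsg.conjBy A b⁻¹ ⊔ C) ∧
          ⁅⁅Cfsg.conjBy A b⁻¹ ⊔ C, Cfsg.conjBy A b⁻¹ ⊔ C⁆, Cfsg.conjBy A b⁻¹ ⊔ C⁆ = ⊥))) ∧
    ⁅A ⊔ Cfsg.conjBy C b⁻¹, Cfsg.conjBy A b⁻¹ ⊔ C⁆ = ⊥ ∧
    (∀ r ∈ A ⊔ B ⊔ C, Cfsg.conjBy ((A ⊔ Cfsg.conjBy C b⁻¹) ⊔ (Cfsg.conjBy A b⁻¹ ⊔ C)) r =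
      (A ⊔ Cfsg.conjBy C b⁻¹) ⊔ (Cfsg.conjBy A b⁻¹ ⊔ C)) ∧
    ((A ⊔ Cfsg.conjBy C b⁻¹) ⊔ (Cfsg.conjBy A b⁻¹ ⊔ C)) ⊔ B = A ⊔ B ⊔ C ∧
    Group.IsNilpotent ↥(A ⊔ B ⊔ C) := by
  have hXY := t.commutator_XY hb
  have hM := t.XY_eq hb hb1
  have hCb : Cfsg.conjBy C b⁻¹ ∈ S := t.hS.conj_mem C t.hC _
  have hAb : Cfsg.conjBy A b⁻¹ ∈ S := t.hS.conj_mem A t.hA _
  refine ⟨?_, hXY, ?_, ?_, ?_⟩
  · rcases t.X_cases hb hb1 with ⟨hZ, hX⟩ | ⟨hZ, hX⟩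
    · left
      refine ⟨isMulCommutative_of_comm hX, ?_⟩
      rcases t.symm.X_cases hb hb1 with ⟨_, hY⟩ | ⟨hZ', _⟩
      · rw [sup_comm]; exact isMulCommutative_of_comm hY
      · exact absurd (t.ZY_eq_bot hZ) hZ'
    · right
      refine ⟨⟨commCase_not_commutative t.hS hX, commCase_class_two t.hS t.hA hCb hX⟩, ?_⟩
      rcases t.symm.X_cases hb hb1 with ⟨hZ', _⟩ | ⟨_, hY⟩
      · exact absurd (t.symm.ZY_eq_bot hZ') hZ
      · rw [sup_comm]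
        exact ⟨commCase_not_commutative t.hS hY, commCase_class_two t.hS t.hC hAb hY⟩
  · intro r hr
    rw [hM]; exact t.conjBy_M hr
  · rw [hM]; exact t.M_sup_B
  · rcases t.X_cases hb hb1 with ⟨hZ, _⟩ | ⟨hZ, hX⟩
    · have hZ' := t.ZY_eq_bot hZ
      apply t.nilpotent_core
      · intro z hz x _
        rw [hZ, Subgroup.mem_bot] at hz
        rw [hz]; simp
      · intro z hz x _
        rw [hZ', Subgroup.mem_bot] at hz
        rw [hz]; simp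
      · intro w hw b' _
        rw [hZ, Subgroup.commutator_bot_right, Subgroup.mem_bot] at hw
        rw [hw]; simp
      · intro w hw b' _
        rw [hZ', Subgroup.commutator_bot_right, Subgroup.mem_bot] at hw
        rw [hw]; simp
    · have hY : Cfsg.RootCommutatorCase S C (Cfsg.conjBy A b⁻¹) := by
        rcases t.symm.X_cases hb hb1 with ⟨hZ', _⟩ | ⟨_, hY⟩
        · exact absurd (t.symm.ZY_eq_bot hZ') hZ
        · exact hY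
      have hEqX := t.commutator_conj hb hb1
      have hEqY := t.symm.commutator_conj hb hb1
      -- centrality in `M`
      have hZXc : ∀ z ∈ ⁅A, ⁅C, B⁆⁆, ∀ x ∈ (A ⊔ ⁅A, B⁆) ⊔ (C ⊔ ⁅C, B⁆), z * x = x * z := by
        intro z hz x hx
        rw [← hEqX] at hz
        rw [← hM] at hx
        have hzX : z ∈ A ⊔ Cfsg.conjBy C b⁻¹ := commutator_le_sup' hz
        refine comm_sup_of_comm (fun p hp => hX.2.1 z hz p hp) ?_ x hx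
        intro q hq
        exact comm_of_commutator_eq_bot hXY hzX hq
      have hZYc : ∀ z ∈ ⁅C, ⁅A, B⁆⁆, ∀ x ∈ (A ⊔ ⁅A, B⁆) ⊔ (C ⊔ ⁅C, B⁆), z * x = x * z := by
        intro z hz x hx
        rw [← hEqY] at hz
        rw [← hM] at hx
        have hzY : z ∈ Cfsg.conjBy A b⁻¹ ⊔ C := by
          rw [sup_comm]; exact commutator_le_sup' hz
        refine comm_sup_of_comm ?_ (fun q hq => ?_) x hx
        · intro p hp
          exact (comm_of_commutator_eq_bot hXY hp hzY).symm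
        · have hq' : q ∈ C ⊔ Cfsg.conjBy A b⁻¹ := by rw [sup_comm]; exact hq
          exact hY.2.1 z hz q hq'
      have hZXS : ⁅A, ⁅C, B⁆⁆ ∈ S := by rw [← hEqX]; exact hX.1
      have hZYS : ⁅C, ⁅A, B⁆⁆ ∈ S := by rw [← hEqY]; exact hY.1
      have hZXM : ⁅A, ⁅C, B⁆⁆ ≤ (A ⊔ ⁅A, B⁆) ⊔ (C ⊔ ⁅C, B⁆) := t.ZX_le
      have hZYM : ⁅C, ⁅A, B⁆⁆ ≤ (A ⊔ ⁅A, B⁆) ⊔ (C ⊔ ⁅C, B⁆) := by
        have := t.symm.ZX_le
        rwa [sup_comm] at this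
      apply t.nilpotent_core hZXc hZYc
      · apply t.W_comm hZXS
        intro z hz z' hz'
        exact hZYc z' hz' z (hZXM hz)
      · apply t.symm.W_comm hZYS
        intro z hz z' hz'
        exact hZXc z' hz' z (hZYM hz)

end Triple

end Cfsg.Agent.Lib.Helper8
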