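import Mathlib
import Cfsg.Prelude.Def_Characters
import Cfsg.Agent.S0160
import Cfsg.Agent.S4866

/-!
# Normal subgroups of odd index: real characters of `G` versus orbits of real characters of `K`
-/

set_option autoImplicit false

namespace Cfsg.Agent.Lib.Helper8.RQ

open Cfsg

variable {G : Type*} [Group G]

theorem conj_pow_inv {g x : G} (h : x * g * x⁻¹ = g⁻¹) (k : ℕ) :
    x ^ k * g * (x ^ k)⁻¹ = if Even k then g else g⁻¹ := by
  induction k with
  | zero => simp
  | succ k ih =>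
    have e : x ^ (k + 1) * g * (x ^ (k + 1))⁻¹ = x * (x ^ k * g * (x ^ k)⁻¹) * x⁻¹ := by
      rw [pow_succ']
      group
    rw [e, ih]
    by_cases hk : Even k
    · have : ¬ Even (k + 1) := by
        rw [Nat.even_add_one]
        exact fun h => h hk
      rw [if_pos hk, if_neg this, h]
    · have : Even (k + 1) := by
        rw [Nat.even_add_one]
        exact hk
      rw [if_neg hk, if_pos this]
      have h2 : x * g⁻¹ * x⁻¹ = (x * g * x⁻¹)⁻¹ := by group
      rw [h2, h, inv_inv]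

/-- A real element of `G` lies in every normal subgroup of odd index, and is real there. -/
theorem real_mem_of_odd_index [Finite G] (K : Subgroup G) [hK : K.Normal] (hodd : Odd K.index)
    {g : G} (hg : IsConj g g⁻¹) :
    ∃ hgK : g ∈ K, IsConj (⟨g, hgK⟩ : K) (⟨g, hgK⟩ : K)⁻¹ := by
  obtain ⟨x, hx⟩ := isConj_iff.1 hg
  set m := K.index with hm
  have hxm : x ^ m ∈ K := Subgroup.pow_index_mem K x
  have hconj : x ^ m * g * (x ^ m)⁻¹ = g⁻¹ := by
    rw [conj_pow_inv hx m, if_neg (Nat.not_even_iff_odd.2 hodd)]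
  -- `g⁻¹ * g⁻¹ ∈ K`
  have h1 : x ^ m * g * (x ^ m)⁻¹ * g⁻¹ ∈ K := by
    have : x ^ m * g * (x ^ m)⁻¹ * g⁻¹ = x ^ m * (g * (x ^ m)⁻¹ * g⁻¹) := by group
    rw [this]
    exact K.mul_mem hxm (hK.conj_mem _ (K.inv_mem hxm) g)
  rw [hconj] at h1
  have h2 : g * g ∈ K := by
    have := K.inv_mem h1
    simpa using this
  have hgm : g ^ m ∈ K := Subgroup.pow_index_mem K g
  have hgK : g ∈ K := by
    obtain ⟨b, hb⟩ := hodd
    have h3 : (g * g) ^ b ∈ K := K.pow_mem h2 b
    have h4 : g = g ^ m * ((g * g) ^ b)⁻¹ := by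
      rw [hb, ← pow_two, ← pow_mul, pow_succ]
      group
    rw [h4]
    exact K.mul_mem hgm (K.inv_mem h3)
  refine ⟨hgK, ?_⟩
  rw [isConj_iff]
  refine ⟨⟨x ^ m, hxm⟩, ?_⟩
  apply Subtype.ext
  exact hconj

/-- The map from `K`-real elements of `K` to real classes of `G`. -/
def realClassOf [Finite G] (K : Subgroup G) (x : {x : K // IsConj x x⁻¹}) :
    {C : ConjClasses G // ∀ g : G, ConjClasses.mk g = C → IsConj g g⁻¹} :=
  ⟨ConjClasses.mk (x.1 : G), by
    intro g hg
    have h1 : IsConj g (x.1 : G) := ConjClasses.mk_eq_mk_iff_isConj.1 hg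
    have h2 : IsConj (x.1 : G) ((x.1 : G))⁻¹ := by
      obtain ⟨c, hc⟩ := isConj_iff.1 x.2
      rw [isConj_iff]
      refine ⟨(c : G), ?_⟩
      have := congrArg Subtype.val hc
      simpa using this
    have h3 : IsConj ((x.1 : G))⁻¹ g⁻¹ := by
      obtain ⟨c, hc⟩ := isConj_iff.1 h1.symm
      rw [isConj_iff]
      refine ⟨c, ?_⟩
      rw [← hc]
      group
    exact h1.trans (h2.trans h3)⟩

theorem card_real_classes_eq [Finite G] (K : Subgroup G) [hK : K.Normal] (hodd : Odd K.index) :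
    Nat.card (Quot (fun x y : {x : K // IsConj x x⁻¹} => ∃ g : G, (y.1 : G) = g * x.1 * g⁻¹)) =
      Nat.card {C : ConjClasses G // ∀ g : G, ConjClasses.mk g = C → IsConj g g⁻¹} := by
  apply Nat.card_eq_of_bijective
    (Quot.lift (realClassOf K) (by
      rintro x y ⟨g, hg⟩
      apply Subtype.ext
      show ConjClasses.mk (x.1 : G) = ConjClasses.mk (y.1 : G)
      rw [ConjClasses.mk_eq_mk_iff_isConj, isConj_iff]
      exact ⟨g, hg.symm⟩))
  constructor
  · intro a b
    induction a using Quot.inductionOn with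
    | _ x =>
    induction b using Quot.inductionOn with
    | _ y =>
    intro h
    have h1 : ConjClasses.mk (x.1 : G) = ConjClasses.mk (y.1 : G) := congrArg Subtype.val h
    rw [ConjClasses.mk_eq_mk_iff_isConj, isConj_iff] at h1
    obtain ⟨g, hg⟩ := h1
    exact Quot.sound ⟨g, hg.symm⟩
  · rintro ⟨C, hC⟩
    obtain ⟨g, rfl⟩ := ConjClasses.exists_rep C
    obtain ⟨hgK, hreal⟩ := real_mem_of_odd_index K hodd (hC g rfl)
    refine ⟨Quot.mk _ ⟨⟨g, hgK⟩, hreal⟩, ?_⟩
    apply Subtype.ext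
    rfl

/-- The number of real irreducible characters of `G` is the number of `G`-orbits of real
irreducible characters of a normal subgroup of odd index. -/
theorem card_real_irr_eq [Finite G] (K : Subgroup G) [K.Normal] (hodd : Odd K.index) :
    Nat.card {χ : IrrCharacter G // ∀ g : G, ((χ : G → ℂ) g).im = 0} =
    Nat.card (Quot (fun θ η : {θ : IrrCharacter K // (∀ k : K, ((θ : K → ℂ) k).im = 0)} =>
        ∃ g : G, ∀ k k' : K, (k' : G) = g * (k : G) * g⁻¹ →
          (η.1 : K → ℂ) k' = (θ.1 : K → ℂ) k)) := by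
  rw [Cfsg.Agent.S0160.result, Cfsg.Agent.S4866.result K hodd, card_real_classes_eq K hodd]

end Cfsg.Agent.Lib.Helper8.RQ
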