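import Mathlib
import Cfsg.Prelude.Def_Characters
import Cfsg.Agent.Lib.Helper8.RQ1
import Cfsg.Agent.Lib.Helper8.SR2
import Cfsg.Agent.Lib.Helper8.FI2
import Cfsg.Agent.Lib.Helper8.Cover1
import Cfsg.Agent.Lib.Helper4.IndNormal
import Cfsg.Agent.S0146

/-!
# Normal subgroups of odd index: Frobenius–Schur indicators of induced characters; constituents
-/

set_option autoImplicit false

namespace Cfsg.Agent.Lib.Helper8.RQ

open Cfsg Cfsg.Agent.Lib.Helper1 Cfsg.Agent.Lib.Helper4 Cfsg.Agent.Lib.Helper8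
  Cfsg.Agent.Lib.Helper8.SR
open scoped ComplexConjugate

variable {G : Type*} [Group G]

theorem mem_of_sq_mem [Finite G] (K : Subgroup G) (hodd : Odd K.index) [K.Normal] {g : G}
    (h2 : g * g ∈ K) : g ∈ K := by
  have hgm : g ^ K.index ∈ K := Subgroup.pow_index_mem K g
  obtain ⟨b, hb⟩ := hodd
  have h3 : (g * g) ^ b ∈ K := K.pow_mem h2 b
  have h4 : g = g ^ K.index * ((g * g) ^ b)⁻¹ := by
    rw [hb, ← pow_two, ← pow_mul, pow_succ]
    group
  rw [h4]
  exact K.mul_mem hgm (K.inv_mem h3)

/-- The Frobenius–Schur sum of a function induced from a normal subgroup of odd index. -/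
theorem fs_indFun [Fintype G] (K : Subgroup G) [K.Normal] (hodd : Odd K.index) (θ : K → ℂ) :
    (Nat.card G : ℂ)⁻¹ * ∑ g : G, indFun K θ (g * g) =
      (Nat.card K : ℂ)⁻¹ * ∑ᶠ k : K, θ (k * k) := by
  classical
  haveI : Fintype K := Fintype.ofFinite K
  rw [sum_indFun_sq, finsum_eq_sum_of_fintype]
  have hG0 : (Nat.card G : ℂ) ≠ 0 := Nat.cast_ne_zero.2 Nat.card_pos.ne'
  rw [← mul_assoc, inv_mul_cancel₀ hG0, one_mul]
  congr 1
  have e : ∀ g : G, extendByZero K θ (g * g) = extendByZero K (fun k : K => θ (k * k)) g := by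
    intro g
    by_cases hg : g ∈ K
    · rw [extendByZero_of_mem K _ hg, extendByZero_of_mem K _ (K.mul_mem hg hg)]
      rfl
    · have : g * g ∉ K := fun h => hg (mem_of_sq_mem K hodd h)
      rw [extendByZero_of_notMem K _ hg, extendByZero_of_notMem K _ this]
  rw [Finset.sum_congr rfl (fun g _ => e g), sum_extendByZero]

/-- The Frobenius–Schur sum of a class function in terms of its irreducible constituents. -/
theorem fs_expansion [Fintype G] [Fintype (IrrCharacter G)] {Ψ : G → ℂ}
    (hΨ : IsClassFunction G Ψ) :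
    ∑ g : G, Ψ (g * g) =
      ∑ χ : IrrCharacter G, classInner Ψ (χ : G → ℂ) * ∑ g : G, (χ : G → ℂ) (g * g) := by
  have hexp := class_function_expansion Ψ hΨ
  have : ∀ g : G, Ψ (g * g) =
      ∑ χ : IrrCharacter G, classInner Ψ (χ : G → ℂ) * (χ : G → ℂ) (g * g) := by
    intro g
    conv_lhs => rw [hexp]
    rw [Finset.sum_apply]
    rfl
  rw [Finset.sum_congr rfl (fun g _ => this g), Finset.sum_comm]
  refine Finset.sum_congr rfl fun χ _ => ?_
  rw [Finset.mul_sum]

/-- Two irreducible constituents of the restriction of an irreducible character to a normal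
subgroup are conjugate. -/
theorem exists_conj_of_constituents [Fintype G] (K : Subgroup G) [hK : K.Normal] [Fintype K]
    {χ : G → ℂ}
    (hχ : IsIrrCharacter G χ) {θ θ' : K → ℂ} (hθ : IsIrrCharacter K θ)
    (hθ' : IsIrrCharacter K θ') (h : classInner (fun k : K => χ k) θ ≠ 0)
    (h' : classInner (fun k : K => χ k) θ' ≠ 0) : ∃ g : G, θ' = conjFn K θ g := by
  classical
  obtain ⟨c, hc, hres⟩ := restrict_eq_smul_indFun K hχ hθ h
  rw [hres, indFun_normal_restrict, classInner_smul_left, classInner_smul_left,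
    classInner_sum_left] at h'
  by_contra hcon
  push Not at hcon
  apply h'
  have : ∑ g : G, classInner (conjFn K θ g) θ' = 0 := by
    apply Finset.sum_eq_zero
    intro g _
    exact classInner_irr_ne (isIrrCharacter_conjFn K hθ g) hθ' (fun e => hcon g e.symm)
  rw [this, mul_zero, mul_zero]

end Cfsg.Agent.Lib.Helper8.RQ
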