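import Mathlib
import Cfsg.Prelude.Def_Characters
import Cfsg.Agent.Lib.Helper8.RQ2

/-!
# Normal subgroups of odd index: a real irreducible character lies under a unique real character
-/

set_option autoImplicit false

namespace Cfsg.Agent.Lib.Helper8.RQ

open Cfsg Cfsg.Agent.Lib.Helper1 Cfsg.Agent.Lib.Helper4 Cfsg.Agent.Lib.Helper8
  Cfsg.Agent.Lib.Helper8.SR
open scoped ComplexConjugate

variable {G : Type*} [Group G]

/-- The Frobenius–Schur indicator of `θ` as a sum over the characters of `G` above it. -/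
theorem fs_sum_over [Fintype G] [Fintype (IrrCharacter G)] (K : Subgroup G) [K.Normal]
    [Fintype K] (hodd : Odd K.index) (θ : K → ℂ) :
    (Nat.card K : ℂ)⁻¹ * ∑ᶠ k : K, θ (k * k) =
      ∑ χ : IrrCharacter G, classInner θ (fun k : K => (χ : G → ℂ) k) *
        ((Nat.card G : ℂ)⁻¹ * ∑ g : G, (χ : G → ℂ) (g * g)) := by
  rw [← fs_indFun K hodd θ, fs_expansion (indFun_isClassFunction K θ), Finset.mul_sum]
  refine Finset.sum_congr rfl fun χ _ => ?_
  rw [Cfsg.Agent.S0146.result K θ _ (isClassFunction_irr χ.2)]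
  ring

theorem im_zero_iff_conj {H : Type*} (f : H → ℂ) :
    (∀ h : H, (f h).im = 0) ↔ ∀ h : H, conj (f h) = f h := by
  constructor
  · intro h x
    exact Complex.conj_eq_iff_im.2 (h x)
  · intro h x
    exact Complex.conj_eq_iff_im.1 (h x)

/-- Existence of a real character with nonzero indicator above a real character. -/
theorem exists_real_over [Fintype G] (K : Subgroup G) [K.Normal] [Fintype K]
    (hodd : Odd K.index) (θ : IrrCharacter K) (hθ : ∀ k : K, ((θ : K → ℂ) k).im = 0) :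
    ∃ χ : IrrCharacter G, (∀ g : G, ((χ : G → ℂ) g).im = 0) ∧
      classInner (fun k : K => (χ : G → ℂ) k) (θ : K → ℂ) ≠ 0 := by
  classical
  haveI : Fintype (IrrCharacter G) := Fintype.ofFinite _
  have h1 := fs_sum_over K hodd (θ : K → ℂ)
  have h2 : (Nat.card K : ℂ)⁻¹ * ∑ᶠ k : K, (θ : K → ℂ) (k * k) ≠ 0 := by
    rw [finsum_eq_sum_of_fintype]
    exact (fs_real_iff θ.2).1 ((im_zero_iff_conj _).1 hθ)
  rw [h1] at h2
  obtain ⟨χ, -, hχ⟩ := Finset.exists_ne_zero_of_sum_ne_zero h2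
  refine ⟨χ, ?_, ?_⟩
  · rw [im_zero_iff_conj]
    exact (fs_real_iff χ.2).2 (right_ne_zero_of_mul hχ)
  · have h3 := left_ne_zero_of_mul hχ
    intro h4
    apply h3
    have hsymm : classInner (θ : K → ℂ) (fun k : K => (χ : G → ℂ) k) =
        conj (classInner (fun k : K => (χ : G → ℂ) k) (θ : K → ℂ)) := by
      rw [classInner_def, classInner_def, map_mul, map_inv₀, Complex.conj_natCast, map_sum]
      congr 1
      refine Finset.sum_congr rfl fun k _ => ?_
      rw [map_mul, Complex.conj_conj, mul_comm]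
    rw [hsymm, h4, map_zero]

/-- Two real constituents of one character are related under the orbit relation. -/
theorem rel_of_over [Fintype G] (K : Subgroup G) [hK : K.Normal] [Fintype K]
    (χ : IrrCharacter G) (θ η : IrrCharacter K)
    (h : classInner (fun k : K => (χ : G → ℂ) k) (θ : K → ℂ) ≠ 0)
    (h' : classInner (fun k : K => (χ : G → ℂ) k) (η : K → ℂ) ≠ 0) :
    ∃ g : G, ∀ k k' : K, (k' : G) = g * (k : G) * g⁻¹ → (η : K → ℂ) k' = (θ : K → ℂ) k := by
  obtain ⟨g₀, hg₀⟩ := exists_conj_of_constituents K χ.2 θ.2 η.2 h h'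
  refine ⟨g₀⁻¹, ?_⟩
  intro k k' hk
  rw [hg₀, conjFn_apply]
  have e : (⟨g₀ * (k' : G) * g₀⁻¹, hK.conj_mem k' k'.2 g₀⟩ : K) = k := by
    apply Subtype.ext
    show g₀ * (k' : G) * g₀⁻¹ = k
    rw [hk]
    group
  rw [e]

theorem real_over_unique [Fintype G] (K : Subgroup G) [hK : K.Normal] [Fintype K]
    (hodd : Odd K.index) (θ : IrrCharacter K) (hθ : ∀ k : K, ((θ : K → ℂ) k).im = 0)
    {χ χ' : IrrCharacter G} (hχ : ∀ g : G, ((χ : G → ℂ) g).im = 0)
    (hχ' : ∀ g : G, ((χ' : G → ℂ) g).im = 0)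
    (h : classInner (fun k : K => (χ : G → ℂ) k) (θ : K → ℂ) ≠ 0)
    (h' : classInner (fun k : K => (χ' : G → ℂ) k) (θ : K → ℂ) ≠ 0) : χ = χ' := by
  classical
  have hcard := card_real_irr_eq K hodd
  set r := (fun θ η : {θ : IrrCharacter K // (∀ k : K, ((θ : K → ℂ) k).im = 0)} =>
        ∃ g : G, ∀ k k' : K, (k' : G) = g * (k : G) * g⁻¹ →
          (η.1 : K → ℂ) k' = (θ.1 : K → ℂ) k) with hr
  have hex : ∀ x : Quot r, ∃ ζ : {χ : IrrCharacter G // ∀ g : G, ((χ : G → ℂ) g).im = 0},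
      classInner (fun k : K => (ζ.1 : G → ℂ) k) ((Quot.out x).1 : K → ℂ) ≠ 0 := by
    intro x
    obtain ⟨ζ, hζ1, hζ2⟩ := exists_real_over K hodd (Quot.out x).1 (Quot.out x).2
    exact ⟨⟨ζ, hζ1⟩, hζ2⟩
  choose c hc using hex
  have hinj : Function.Injective c := by
    intro x y hxy
    have h1 := hc x
    have h2 := hc y
    rw [hxy] at h1
    have h3 := rel_of_over K (c y).1 (Quot.out x).1 (Quot.out y).1 h1 h2
    have h4 : Quot.mk r (Quot.out x) = Quot.mk r (Quot.out y) := Quot.sound h3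
    rwa [Quot.out_eq, Quot.out_eq] at h4
  have hbij : Function.Bijective c := hinj.bijective_of_nat_card_le hcard.le
  have key : ∀ ζ : IrrCharacter G, ∀ hζ : (∀ g : G, ((ζ : G → ℂ) g).im = 0),
      classInner (fun k : K => (ζ : G → ℂ) k) (θ : K → ℂ) ≠ 0 →
      (⟨ζ, hζ⟩ : {χ : IrrCharacter G // ∀ g : G, ((χ : G → ℂ) g).im = 0}) =
        c (Quot.mk r ⟨θ, hθ⟩) := by
    intro ζ hζ hover
    obtain ⟨y, hy⟩ := hbij.2 ⟨ζ, hζ⟩
    have h1 := hc y
    rw [hy] at h1
    have h3 := rel_of_over K ζ (Quot.out y).1 θ h1 hover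
    have h4 : Quot.mk r (Quot.out y) = Quot.mk r ⟨θ, hθ⟩ := Quot.sound h3
    rw [Quot.out_eq] at h4
    rw [← hy, h4]
  have e1 := key χ hχ h
  have e2 := key χ' hχ' h'
  have := e1.trans e2.symm
  exact congrArg Subtype.val this

end Cfsg.Agent.Lib.Helper8.RQ
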