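import Mathlib
import Cfsg.Prelude.Def_Characters
import Cfsg.Agent.Lib.Helper8.RV9

/-!
# Multiplicities modulo `p`: induction from `T` to `K` followed by restriction to `C`
-/

set_option autoImplicit false
set_option linter.unusedSectionVars false

namespace Cfsg.Agent.Lib.Helper8.RV

open Cfsg
open scoped ComplexConjugate
open Cfsg.Agent.Lib.Helper1 Cfsg.Agent.Lib.Helper4 Cfsg.Agent.Lib.Helper8

universe u

noncomputable local instance subFt10 {G : Type u} [Group G] [Finite G] (H : Subgroup G) : Fintype H :=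
  Fintype.ofFinite H

variable {Γ : Type u} [Group Γ] [Finite Γ]

/-- The conjugate subgroup `k T k⁻¹`. -/
def conjSub (k : Γ) (T : Subgroup Γ) : Subgroup Γ := T.comap (MulAut.conj k⁻¹).toMonoidHom

theorem mem_conjSub {k g : Γ} {T : Subgroup Γ} : g ∈ conjSub k T ↔ k⁻¹ * g * k ∈ T := by
  unfold conjSub
  rw [Subgroup.mem_comap]
  show (MulAut.conj k⁻¹) g ∈ T ↔ _
  rw [MulAut.conj_apply, inv_inv]

/-- The conjugate character on `k T k⁻¹`. -/
def conjFnTo (k : Γ) {T : Subgroup Γ} (ψ : T → ℂ) : conjSub k T → ℂ :=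
  fun g => ψ ((MulAut.conj k⁻¹).toMonoidHom.subgroupComap T g)

theorem isCharacter_conjFnTo (k : Γ) {T : Subgroup Γ} {ψ : T → ℂ} (hψ : IsCharacter T ψ) :
    IsCharacter (conjSub k T) (conjFnTo k ψ) :=
  isCharacter_comp_hom hψ ((MulAut.conj k⁻¹).toMonoidHom.subgroupComap T)

theorem extendByZero_conjFnTo (k : Γ) {T : Subgroup Γ} (ψ : T → ℂ) (g : Γ) :
    extendByZero (conjSub k T) (conjFnTo k ψ) g = extendByZero T ψ (k⁻¹ * g * k) := by
  by_cases hg : k⁻¹ * g * k ∈ T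
  · rw [extendByZero_of_mem _ _ hg, extendByZero_of_mem _ _ (mem_conjSub.2 hg)]
    unfold conjFnTo
    congr 1
    apply Subtype.ext
    show (MulAut.conj k⁻¹) g = _
    rw [MulAut.conj_apply, inv_inv]
  · rw [extendByZero_of_notMem _ _ hg, extendByZero_of_notMem _ _ (fun h => hg (mem_conjSub.1 h))]

section

variable {p : ℕ} [hp : Fact p.Prime] {P K Q C T D : Subgroup Γ}
  (hP : IsPGroup p P)
  (hPK : ∀ x ∈ P, Normalizes x K) (hPQ : ∀ x ∈ P, Normalizes x Q)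
  (hPT : ∀ x ∈ P, Normalizes x T) (hPC : ∀ x ∈ P, Normalizes x C)
  (hQK : Q ≤ K) (hKQ : ∀ k ∈ K, Normalizes k Q)
  (hcop : ¬ p ∣ Q.relIndex K)
  (hC : ∀ g : Γ, g ∈ C ↔ g ∈ K ∧ ∀ x ∈ P, x * g * x⁻¹ * g⁻¹ ∈ Q)
  (hQT : Q ≤ T) (hTK : T ≤ K)
  (hD : ∀ g : Γ, g ∈ D ↔ g ∈ T ∧ g ∈ C)
  (hCK : C ≤ K) (hDT : D ≤ T) (hDC : D ≤ C)

include hP hPK hPQ hPT hPC hQK hKQ hcop hC hQT hTK hD hCK hDT hDC in
/-- The multiplicity of a `P`-invariant character `ξ` of `C` in `(ψ^K)_C` is congruent modulo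
`p` to its multiplicity in `ψ_D`. -/
theorem mult_modEq {ψ : T → ℂ} (hψ : IsCharacter T ψ) (hψP : InvS P T ψ)
    {ξ : C → ℂ} (hξ : IsCharacter C ξ) (hξP : InvS P C ξ) :
    ∃ m₁ m₂ : ℕ, classInner (res hCK (rInd T K ψ)) ξ = m₁ ∧
      classInner (res hDT ψ) (res hDC ξ) = m₂ ∧ (m₁ : ℤ) ≡ m₂ [ZMOD p] := by
  classical
  have hQC : Q ≤ C := le_relCentralizer hPQ hQK hC
  have hTQ : ∀ t ∈ T, Normalizes t Q := fun t ht => hKQ t (hTK ht)
  have hD' : ∀ g : Γ, g ∈ D ↔ g ∈ T ∧ ∀ x ∈ P, x * g * x⁻¹ * g⁻¹ ∈ Q := by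
    intro g
    rw [hD, hC]
    exact ⟨fun h => ⟨h.1, h.2.2⟩, fun h => ⟨h.1, hTK h.1, h.2⟩⟩
  have hQD : Q ≤ D := le_relCentralizer hPQ hQT hD'
  have hψcf : IsClassFunction T ψ := isClassFunction_of_isCharacter hψ
  have hξcf : IsClassFunction C ξ := isClassFunction_of_isCharacter hξ
  obtain ⟨m₁, hm₁⟩ := classInner_char_nat (isCharacter_res hCK (isCharacter_rInd hTK hψ)) hξ
  obtain ⟨m₂, hm₂⟩ := classInner_char_nat (isCharacter_res hDT hψ) (isCharacter_res hDC hξ)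
  refine ⟨m₁, m₂, hm₁, hm₂, ?_⟩
  -- the function F
  set F : K → ℂ := fun k => ∑ c : C, extendByZero T ψ ((k : Γ)⁻¹ * c * k) * conj (ξ c) with hF
  have hT0 : (Nat.card T : ℂ) ≠ 0 := Nat.cast_ne_zero.2 Nat.card_pos.ne'
  have hC0 : (Nat.card C : ℂ) ≠ 0 := Nat.cast_ne_zero.2 Nat.card_pos.ne'
  have hQ0 : (Nat.card Q : ℂ) ≠ 0 := Nat.cast_ne_zero.2 Nat.card_pos.ne'
  have hD0 : (Nat.card D : ℂ) ≠ 0 := Nat.cast_ne_zero.2 Nat.card_pos.ne'
  -- Step 1
  have hsumF : ∑ k : K, F k = (Nat.card T : ℂ) * (Nat.card C : ℂ) * m₁ := by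
    rw [← hm₁, classInner_def]
    have h1 : ∑ c : C, res hCK (rInd T K ψ) c * conj (ξ c)
        = (Nat.card T : ℂ)⁻¹ * ∑ k : K, F k := by
      rw [hF, Finset.sum_comm, Finset.mul_sum]
      refine Finset.sum_congr rfl fun c _ => ?_
      show rInd T K ψ ⟨c, hCK c.2⟩ * conj (ξ c) = _
      rw [rInd_apply, mul_assoc, Finset.sum_mul]
    rw [h1]
    field_simp
  -- Step 2
  have hnat : ∀ k : K, ∃ n : ℕ, F k = (Nat.card Q : ℂ) * n := by
    intro k
    have hQA : Q ≤ conjSub (k : Γ) T := by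
      intro q hq
      rw [mem_conjSub]
      apply hQT
      have := ((hKQ k k.2).inv q).1 hq
      simpa using this
    obtain ⟨n, hn⟩ := nat_mult hQA hQC (isCharacter_conjFnTo (k : Γ) hψ) hξ
    refine ⟨n, ?_⟩
    rw [← hn, hF]
    refine Finset.sum_congr rfl fun c _ => ?_
    rw [extendByZero_conjFnTo]
  choose n hn using hnat
  have hinj : ∀ k k' : K, F k = F k' → n k = n k' := by
    intro k k' h
    rw [hn k, hn k'] at h
    exact_mod_cast mul_left_cancel₀ hQ0 h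
  -- invariance under Q
  have hFQ : ∀ k q : K, (q : Γ) ∈ Q → F (k * q) = F k := by
    intro k q hq
    rw [hF]
    refine Finset.sum_congr rfl fun c _ => ?_
    congr 1
    have e : ((k * q : K) : Γ)⁻¹ * c * ((k * q : K) : Γ)
        = (q : Γ)⁻¹ * ((k : Γ)⁻¹ * c * k) * q := by
      rw [Subgroup.coe_mul]; group
    rw [e, extendByZero_conj_of_mem hψcf (hQT hq)]
  -- invariance under P
  have hFP : ∀ (x : Γ) (hx : x ∈ P) (k : K), F (conjE (hPK x hx) k) = F k := by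
    intro x hx k
    rw [hF]
    show ∑ c : C, extendByZero T ψ (((conjE (hPK x hx) k : K) : Γ)⁻¹ * c * (conjE (hPK x hx) k : K))
      * conj (ξ c) = _
    rw [← Equiv.sum_comp (conjE (hPC x hx)).toEquiv]
    refine Finset.sum_congr rfl fun c _ => ?_
    have e : ((conjE (hPK x hx) k : K) : Γ)⁻¹ * (((conjE (hPC x hx)).toEquiv c : C) : Γ)
        * (conjE (hPK x hx) k : K) = x * ((k : Γ)⁻¹ * c * k) * x⁻¹ := by
      show (x * (k : Γ) * x⁻¹)⁻¹ * (x * (c : Γ) * x⁻¹) * (x * (k : Γ) * x⁻¹) = _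
      group
    rw [e, extendByZero_conjChar (hPT x hx), (invS_iff_conjChar hPT ψ).1 hψP x hx]
    congr 2
    exact hξP x hx c _ rfl
  -- values on C
  have hFC : ∀ k : K, (k : Γ) ∈ C → F k = F 1 := by
    intro k hk
    rw [hF]
    show ∑ c : C, extendByZero T ψ ((k : Γ)⁻¹ * c * k) * conj (ξ c)
      = ∑ c : C, extendByZero T ψ (((1 : K) : Γ)⁻¹ * c * ((1 : K) : Γ)) * conj (ξ c)
    rw [← Equiv.sum_comp (MulAut.conj (⟨k, hk⟩ : C)).toEquiv]
    refine Finset.sum_congr rfl fun c _ => ?_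
    have e1 : (k : Γ)⁻¹ * (((MulAut.conj (⟨k, hk⟩ : C)).toEquiv c : C) : Γ) * k
        = ((1 : K) : Γ)⁻¹ * c * ((1 : K) : Γ) := by
      show (k : Γ)⁻¹ * (((⟨k, hk⟩ : C) * c * (⟨k, hk⟩ : C)⁻¹ : C) : Γ) * k = _
      rw [Subgroup.coe_mul, Subgroup.coe_mul, Subgroup.coe_inv, Subgroup.coe_one]
      show (k : Γ)⁻¹ * ((k : Γ) * c * (k : Γ)⁻¹) * k = _
      group
    rw [e1]
    congr 2
    exact hξcf c ⟨k, hk⟩
  -- Step 4
  have hF1 : F 1 = (Nat.card D : ℂ) * m₂ := by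
    rw [← hm₂, classInner_def, hF]
    have h1 : ∑ c : C, extendByZero T ψ (((1 : K) : Γ)⁻¹ * c * ((1 : K) : Γ)) * conj (ξ c)
        = ∑ c : C, extendByZero T ψ (c : Γ) * conj (ξ c) := by
      refine Finset.sum_congr rfl fun c _ => ?_
      rw [Subgroup.coe_one]
      congr 2
      group
    show ∑ c : C, extendByZero T ψ (((1 : K) : Γ)⁻¹ * c * ((1 : K) : Γ)) * conj (ξ c) = _
    rw [h1, sum_inter hD ψ (fun c => conj (ξ c))]
    have h2 : ∑ e : D, ψ ⟨e, ((hD e).1 e.2).1⟩ * conj (ξ ⟨e, ((hD e).1 e.2).2⟩)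
        = ∑ e : D, res hDT ψ e * conj (res hDC ξ e) := rfl
    rw [h2]
    field_simp
  -- Step 5
  obtain ⟨a, b, ha, hb, hab⟩ := sum_cosets_modEq hP hPK hPQ hQK hKQ (fun k => (n k : ℤ))
    (fun k q hq => by
      have := hinj _ _ (hFQ k q hq)
      exact_mod_cast this)
    (fun x hx k => by
      have := hinj _ _ (hFP x hx k)
      exact_mod_cast this)
    (fun k : K => (k : Γ) ∈ C)
    (fun k => by rw [hC]; exact ⟨fun h1 => h1.2, fun h1 => ⟨k.2, h1⟩⟩)
  -- indices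
  set t := Q.relIndex T with ht
  set c := Q.relIndex C with hc
  set d := Q.relIndex D with hd
  have hcardT : Nat.card T = Nat.card Q * t := card_eq_card_mul_relIndex hQT
  have hcardC : Nat.card C = Nat.card Q * c := card_eq_card_mul_relIndex hQC
  have hcardD : Nat.card D = Nat.card Q * d := card_eq_card_mul_relIndex hQD
  have hQ0' : (Nat.card Q : ℤ) ≠ 0 := by exact_mod_cast Nat.card_pos.ne'
  have ha' : a = (t : ℤ) * c * m₁ := by
    have h1 : ((∑ k : K, (n k : ℤ) : ℤ) : ℂ) * (Nat.card Q : ℂ) = ∑ k : K, F k := by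
      push_cast
      rw [Finset.sum_mul]
      refine Finset.sum_congr rfl fun k _ => ?_
      rw [hn k, mul_comm]
    rw [ha, hsumF, hcardT, hcardC] at h1
    have h2 : ((Nat.card Q : ℤ) * a * (Nat.card Q : ℤ) : ℤ)
        = ((Nat.card Q : ℤ) * t * ((Nat.card Q : ℤ) * c) * m₁ : ℤ) := by
      have : (((Nat.card Q : ℤ) * a * (Nat.card Q : ℤ) : ℤ) : ℂ)
          = (((Nat.card Q : ℤ) * t * ((Nat.card Q : ℤ) * c) * m₁ : ℤ) : ℂ) := by
        push_cast
        push_cast at h1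
        exact h1
      exact_mod_cast this
    have h3 : (Nat.card Q : ℤ) * (Nat.card Q : ℤ) * a
        = (Nat.card Q : ℤ) * (Nat.card Q : ℤ) * ((t : ℤ) * c * m₁) := by
      linear_combination h2
    exact mul_left_cancel₀ (mul_ne_zero hQ0' hQ0') h3
  have hb' : b = (c : ℤ) * d * m₂ := by
    have hcount : ∑ k : K, (if (k : Γ) ∈ C then (n k : ℤ) else 0) = (Nat.card C : ℤ) * n 1 := by
      have h1 : ∀ k : K, (if (k : Γ) ∈ C then (n k : ℤ) else 0)
          = (if (k : Γ) ∈ C then (1 : ℤ) else 0) * n 1 := by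
        intro k
        by_cases hk : (k : Γ) ∈ C
        · rw [if_pos hk, if_pos hk, one_mul, hinj _ _ (hFC k hk)]
        · rw [if_neg hk, if_neg hk, zero_mul]
      rw [Finset.sum_congr rfl fun k _ => h1 k, ← Finset.sum_mul, Finset.sum_boole]
      have h3 : (Finset.univ.filter (fun k : K => (k : Γ) ∈ C)).card
          = Nat.card (C.subgroupOf K) := by
        rw [Nat.card_eq_fintype_card, Fintype.card_subtype]
        congr 1
      rw [h3, Nat.card_congr (eSub hCK).toEquiv]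
    rw [hcount] at hb
    have h4 : ((Nat.card Q : ℤ) : ℂ) * (n 1 : ℂ) = (Nat.card D : ℂ) * m₂ := by
      rw [← hF1, hn 1]
      push_cast
      rfl
    rw [hcardD] at h4
    have h5 : (n 1 : ℤ) = (d : ℤ) * m₂ := by
      have : (Nat.card Q : ℂ) * (n 1 : ℂ) = (Nat.card Q : ℂ) * ((d : ℂ) * m₂) := by
        push_cast at h4
        rw [h4]; ring
      have h6 := mul_left_cancel₀ hQ0 this
      exact_mod_cast h6
    rw [hcardC, h5] at hb
    push_cast at hb
    have h7 : (Nat.card Q : ℤ) * b = (Nat.card Q : ℤ) * ((c : ℤ) * d * m₂) := by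
      linear_combination -hb
    exact mul_left_cancel₀ hQ0' h7
  have htd : (t : ℤ) ≡ d [ZMOD p] := relIndex_modEq hP hPT hPQ hQT hTQ hD'
  -- p does not divide t, c
  have hpt : ¬ (p : ℤ) ∣ t := by
    intro h
    apply hcop
    rw [← Subgroup.relIndex_mul_relIndex Q T K hQT hTK]
    exact Dvd.dvd.mul_right (Int.natCast_dvd_natCast.1 h) _
  have hpc : ¬ (p : ℤ) ∣ c := by
    intro h
    apply hcop
    rw [← Subgroup.relIndex_mul_relIndex Q C K hQC hCK]
    exact Dvd.dvd.mul_right (Int.natCast_dvd_natCast.1 h) _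
  rw [ha', hb'] at hab
  have h8 : (t : ℤ) * c * m₁ ≡ (t : ℤ) * c * m₂ [ZMOD p] := by
    refine hab.trans ?_
    have := (htd.symm.mul_left (c : ℤ)).mul_right (m₂ : ℤ)
    refine this.trans ?_
    rw [mul_comm (c : ℤ) (t : ℤ)]
  have h9 : (p : ℤ) ∣ (t : ℤ) * c * ((m₂ : ℤ) - m₁) := by
    have := (Int.modEq_iff_dvd).1 h8
    rw [← mul_sub] at this
    exact this
  have hpp : Prime (p : ℤ) := Nat.prime_iff_prime_int.1 hp.out
  have h10 : (p : ℤ) ∣ (m₂ : ℤ) - m₁ := by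
    rcases hpp.dvd_or_dvd h9 with h | h
    · rcases hpp.dvd_or_dvd h with h' | h'
      · exact absurd h' hpt
      · exact absurd h' hpc
    · exact h
  exact (Int.modEq_iff_dvd).2 h10

end

end Cfsg.Agent.Lib.Helper8.RV
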