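import Mathlib
import Cfsg.Prelude.Def_Characters
import Cfsg.Agent.Lib.Helper8.RV6
import Cfsg.Agent.S4444

/-!
# The Glauberman correspondence for a `p`-group acting on a section `T/Q`
-/

set_option autoImplicit false
set_option linter.unusedSectionVars false

namespace Cfsg.Agent.Lib.Helper8.RV

open Cfsg
open scoped ComplexConjugate
open Cfsg.Agent.Lib.Helper1 Cfsg.Agent.Lib.Helper4 Cfsg.Agent.Lib.Helper8
open Cfsg.Agent.Lib.Helper8.CX

universe u

noncomputable local instance subFt7 {G : Type u} [Group G] [Finite G] (H : Subgroup G) : Fintype H :=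
  Fintype.ofFinite H

variable {Γ : Type u} [Group Γ] [Finite Γ]

section Transport

variable {P T Q : Subgroup Γ} (hPT : ∀ x ∈ P, Normalizes x T) (hTN : T ≤ NQ Q) (hPN : P ≤ NQ Q)

include hPT hPN in
theorem inv_deflate {β : T → ℂ} {β' : img Q T → ℂ} (h : ∀ t : T, β' (proj Q hTN t) = β t)
    (hβ : InvS P T β) :
    ∀ s ∈ img Q P, ∀ g g' : img Q T, (g' : Quo Q) = s * g * s⁻¹ → β' g' = β' g := by
  intro s hs g g' hg
  obtain ⟨x, rfl⟩ := proj_surjective Q hPN ⟨s, hs⟩ |>.imp fun x hx => congrArg Subtype.val hx.symm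
  obtain ⟨t, rfl⟩ := proj_surjective Q hTN g
  obtain ⟨t', rfl⟩ := proj_surjective Q hTN g'
  have h1 : proj Q hTN t' = proj Q hTN (conjE (hPT x x.2) t) := by
    apply Subtype.ext
    rw [hg, proj_conj Q hTN hPN x.2 (hPT x x.2) t]
  rw [h1, h, h]
  exact hβ x x.2 t _ rfl

include hPT hPN in
theorem inv_inflate {β' : img Q T → ℂ}
    (hβ' : ∀ s ∈ img Q P, ∀ g g' : img Q T, (g' : Quo Q) = s * g * s⁻¹ → β' g' = β' g) :
    InvS P T (fun t => β' (proj Q hTN t)) := by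
  intro x hx g g' hg
  have e : g' = conjE (hPT x hx) g := Subtype.ext hg
  rw [e]
  exact hβ' _ (proj Q hPN ⟨x, hx⟩).2 (proj Q hTN g) (proj Q hTN (conjE (hPT x hx) g))
    (proj_conj Q hTN hPN hx (hPT x hx) g)

end Transport

section

variable {p : ℕ} [hp : Fact p.Prime] {P T Q D : Subgroup Γ}
  (hP : IsPGroup p P)
  (hPT : ∀ x ∈ P, Normalizes x T) (hPQ : ∀ x ∈ P, Normalizes x Q)
  (hQT : Q ≤ T) (hTQ : ∀ t ∈ T, Normalizes t Q)
  (hcop : ¬ p ∣ Q.relIndex T)
  (hD : ∀ g : Γ, g ∈ D ↔ g ∈ T ∧ ∀ x ∈ P, x * g * x⁻¹ * g⁻¹ ∈ Q)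

include hD in
theorem relGlau_hDT : D ≤ T := fun g hg => ((hD g).1 hg).1

include hP hPT hPQ hQT hTQ hcop hD in
/-- The Glauberman correspondence for `P` acting on `T/Q`, stated for characters of `T` and
of `D` (where `D/Q` is the fixed point subgroup) that are trivial on `Q`. -/
theorem relGlau :
    (∀ β : IrrCharacter T, InvS P T (β : T → ℂ) → TrivOn Q T (β : T → ℂ) →
      ∃ γ : IrrCharacter D, TrivOn Q D (γ : D → ℂ) ∧ ∃ ε : ℤ, (ε = 1 ∨ ε = -1) ∧
        ∀ γ' : IrrCharacter D, ∃ m : ℕ,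
          classInner (res (relGlau_hDT hD) (β : T → ℂ)) (γ' : D → ℂ) = m ∧
          (m : ℤ) ≡ (if γ' = γ then ε else 0) [ZMOD p]) ∧
    (∀ β β' : IrrCharacter T, InvS P T (β : T → ℂ) → TrivOn Q T (β : T → ℂ) →
      InvS P T (β' : T → ℂ) → TrivOn Q T (β' : T → ℂ) →
      ∀ γ : IrrCharacter D, ∀ m m' : ℕ,
        classInner (res (relGlau_hDT hD) (β : T → ℂ)) (γ : D → ℂ) = m → ¬ p ∣ m →
        classInner (res (relGlau_hDT hD) (β' : T → ℂ)) (γ : D → ℂ) = m' → ¬ p ∣ m' → β = β') ∧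
    (∀ γ : IrrCharacter D, TrivOn Q D (γ : D → ℂ) →
      ∃ β : IrrCharacter T, InvS P T (β : T → ℂ) ∧ TrivOn Q T (β : T → ℂ) ∧ ∃ m : ℕ,
        classInner (res (relGlau_hDT hD) (β : T → ℂ)) (γ : D → ℂ) = m ∧ ¬ p ∣ m) := by
  classical
  have hDT : D ≤ T := relGlau_hDT hD
  have hTN : T ≤ NQ Q := le_NQ_of_normalizes hTQ
  have hPN : P ≤ NQ Q := le_NQ_of_normalizes hPQ
  haveI : Fintype (Quo Q) := Fintype.ofFinite _
  -- the fixed point subgroup upstairs
  set C' : Subgroup (Quo Q) :=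
    img Q T ⊓ Subgroup.centralizer ((img Q P : Subgroup (Quo Q)) : Set (Quo Q)) with hC'
  have hCG : C' ≤ img Q T := inf_le_left
  -- the map D → C'
  have hmem : ∀ d : D, ((img Q T).subtype.comp ((proj Q hTN).comp (Subgroup.inclusion hDT))) d
      ∈ C' := by
    intro d
    refine ⟨(proj Q hTN (Subgroup.inclusion hDT d)).2, ?_⟩
    apply Subgroup.mem_centralizer_iff.2
    intro h hh
    obtain ⟨x, rfl⟩ :=
      proj_surjective Q hPN ⟨h, hh⟩ |>.imp fun x hx => congrArg Subtype.val hx.symm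
    show qmk Q ⟨x, hPN x.2⟩ * qmk Q ⟨d, hTN (hDT d.2)⟩
      = qmk Q ⟨d, hTN (hDT d.2)⟩ * qmk Q ⟨x, hPN x.2⟩
    rw [qmk_comm_iff]
    exact ((hD d).1 d.2).2 x x.2
  set fD : D →* C' := MonoidHom.codRestrict
    ((img Q T).subtype.comp ((proj Q hTN).comp (Subgroup.inclusion hDT))) C' hmem with hfD
  have hfD_coe : ∀ d : D, ((fD d : C') : Quo Q) = qmk Q ⟨d, hTN (hDT d.2)⟩ := fun d => rfl
  have hfD_surj : Function.Surjective fD := by
    rintro ⟨c, hc⟩
    obtain ⟨t, ht⟩ := proj_surjective Q hTN ⟨c, hc.1⟩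
    have htc : qmk Q ⟨t, hTN t.2⟩ = c := congrArg Subtype.val ht
    have htD : (t : Γ) ∈ D := by
      rw [hD]
      refine ⟨t.2, fun x hx => ?_⟩
      have h1 := (Subgroup.mem_centralizer_iff.1 hc.2) _ (proj Q hPN ⟨x, hx⟩).2
      rw [← htc, proj_coe] at h1
      exact (qmk_comm_iff Q ⟨x, hPN hx⟩ ⟨t, hTN t.2⟩).1 h1
    exact ⟨⟨t, htD⟩, Subtype.ext htc⟩
  have hfD_one : ∀ d : D, (d : Γ) ∈ Q → fD d = 1 := by
    intro d hd
    apply Subtype.ext
    rw [hfD_coe]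
    exact (qmk_eq_one_iff Q _).2 hd
  have hfD_ker : ∀ d : D, d ∈ fD.ker → (d : Γ) ∈ Q := by
    intro d hd
    have h1 : ((fD d : C') : Quo Q) = 1 := by
      rw [MonoidHom.mem_ker.1 hd]; rfl
    rw [hfD_coe] at h1
    exact (qmk_eq_one_iff Q _).1 h1
  have hcompat : ∀ d : D, (⟨(fD d : Quo Q), hCG (fD d).2⟩ : img Q T) = proj Q hTN ⟨d, hDT d.2⟩ :=
    fun d => Subtype.ext rfl
  -- S4444 upstairs
  have hnorm : ∀ s ∈ img Q P, ∀ g ∈ img Q T, s * g * s⁻¹ ∈ img Q T := by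
    intro s hs g hg
    obtain ⟨x, rfl⟩ :=
      proj_surjective Q hPN ⟨s, hs⟩ |>.imp fun x hx => congrArg Subtype.val hx.symm
    obtain ⟨t, rfl⟩ :=
      proj_surjective Q hTN ⟨g, hg⟩ |>.imp fun x hx => congrArg Subtype.val hx.symm
    rw [← proj_conj Q hTN hPN x.2 (hPT x x.2) t]
    exact (proj Q hTN _).2
  have hPbar : IsPGroup p (img Q P) := hP.of_surjective (proj Q hPN) (proj_surjective Q hPN)
  have hcopr : (Nat.card (img Q T)).Coprime (Nat.card (img Q P)) := by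
    obtain ⟨n, hn⟩ := hPbar.exists_card_eq
    rw [hn, card_img Q hTN hQT]
    apply Nat.Coprime.pow_right
    exact ((Nat.Prime.coprime_iff_not_dvd hp.out).2 hcop).symm
  obtain ⟨hS1, hS2, hS3, hS4⟩ := Cfsg.Agent.S4444.result (Γ := Quo Q) (img Q T) (img Q P)
    hnorm hcopr p hp.out hPbar C' rfl hCG
  -- transport of inner products
  have hinner : ∀ (β' : img Q T → ℂ) (γ' : C' → ℂ),
      classInner (res hDT (fun t => β' (proj Q hTN t))) (fun d => γ' (fD d))
        = classInner (fun c : C' => β' ⟨c, hCG c.2⟩) γ' := by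
    intro β' γ'
    rw [← Cfsg.Agent.Lib.Helper2.RelMAbelian.classInner_comp_surjective fD hfD_surj
      (fun c : C' => β' ⟨c, hCG c.2⟩) γ']
    congr 1
  have hnot : ∀ (β' : img Q T → ℂ), IsCharacter (img Q T) β' → ∀ γ : D → ℂ, IsIrrCharacter D γ →
      (¬ ∃ ζ : IrrCharacter C', γ = fun d => (ζ : C' → ℂ) (fD d)) →
      classInner (res hDT (fun t => β' (proj Q hTN t))) γ = 0 := by
    intro β' hβ' γ hγ hno
    have hcf : IsClassFunction C' (fun c : C' => β' ⟨c, hCG c.2⟩) :=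
      isClassFunction_of_isCharacter (isCharacter_comp_hom hβ' (Subgroup.inclusion hCG))
    exact classInner_inflation_eq_zero fD hfD_surj hcf hγ hno
  -- deflation of characters of T trivial on Q
  have hdefl : ∀ β : T → ℂ, IsIrrCharacter T β → TrivOn Q T β →
      ∃ β' : img Q T → ℂ, IsIrrCharacter (img Q T) β' ∧ ∀ t : T, β' (proj Q hTN t) = β t := by
    intro β hβ hβQ
    apply exists_deflation_along (proj Q hTN) (proj_surjective Q hTN) hβ
    intro a ha
    exact hβQ a ((proj_eq_one_iff Q hTN a).1 (MonoidHom.mem_ker.1 ha))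
  refine ⟨?_, ?_, ?_⟩
  · -- the correspondence
    intro β hβP hβQ
    obtain ⟨β', hβ', hβ'β⟩ := hdefl β β.2 hβQ
    have hβeq : (β : T → ℂ) = fun t => β' (proj Q hTN t) := by
      funext t; exact (hβ'β t).symm
    have hβ'inv := inv_deflate hPT hTN hPN hβ'β hβP
    obtain ⟨γ', ⟨m₀, hm₀, hpm₀⟩, hγ'uniq⟩ := hS1 ⟨β', hβ'⟩ hβ'inv
    have hpm := hS2 ⟨β', hβ'⟩ hβ'inv γ' m₀ hm₀ hpm₀
    have hγirr : IsIrrCharacter D (fun d => (γ' : C' → ℂ) (fD d)) :=
      Cfsg.Agent.Lib.Helper2.PiSection.isIrrCharacter_comp_surjective γ'.2 fD hfD_surj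
    refine ⟨⟨_, hγirr⟩, ?_, ?_⟩
    · intro d hd
      show (γ' : C' → ℂ) (fD d) = (γ' : C' → ℂ) (fD 1)
      rw [hfD_one d hd, map_one]
    · obtain ⟨ε, hε, hmε⟩ : ∃ ε : ℤ, (ε = 1 ∨ ε = -1) ∧ (m₀ : ℤ) ≡ ε [ZMOD p] := by
        rcases hpm with h | h
        · exact ⟨1, Or.inl rfl, h⟩
        · exact ⟨-1, Or.inr rfl, h⟩
      refine ⟨ε, hε, ?_⟩
      intro γ₁
      by_cases hform : ∃ ζ : IrrCharacter C', (γ₁ : D → ℂ) = fun d => (ζ : C' → ℂ) (fD d)
      · obtain ⟨ζ, hζ⟩ := hform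
        obtain ⟨m, hm⟩ := classInner_char_irr_nat
          (isCharacter_comp_hom (isCharacter_of_irr hβ') (Subgroup.inclusion hCG)) ζ.2
        have hm' : classInner (fun c : C' => β' ⟨c, hCG c.2⟩) (ζ : C' → ℂ) = m := hm
        refine ⟨m, ?_, ?_⟩
        · rw [hβeq, hζ, hinner β' (ζ : C' → ℂ), hm']
        · by_cases hγ₁ : γ₁ = ⟨_, hγirr⟩
          · rw [if_pos hγ₁]
            have hζγ : ζ = γ' := by
              apply Subtype.ext
              funext c
              obtain ⟨d, rfl⟩ := hfD_surj c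
              have h1 := congrArg Subtype.val hγ₁
              have h2 := congrFun (hζ.symm.trans h1) d
              exact h2
            rw [hζγ] at hm'
            have : (m : ℂ) = (m₀ : ℂ) := by rw [← hm', hm₀]
            have hmm : m = m₀ := by exact_mod_cast this
            rw [hmm]
            exact hmε
          · rw [if_neg hγ₁]
            have hζγ : ζ ≠ γ' := by
              intro h1
              apply hγ₁
              apply Subtype.ext
              rw [hζ, h1]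
            have hdvd : p ∣ m := by
              by_contra hnd
              exact hζγ (hγ'uniq ζ ⟨m, hm', hnd⟩)
            exact (Int.modEq_zero_iff_dvd).2 (Int.natCast_dvd_natCast.2 hdvd)
      · refine ⟨0, ?_, ?_⟩
        · rw [hβeq, hnot β' (isCharacter_of_irr hβ') _ γ₁.2 hform, Nat.cast_zero]
        · have hγ₁ : γ₁ ≠ ⟨_, hγirr⟩ := by
            intro h1
            apply hform
            exact ⟨γ', congrArg Subtype.val h1⟩
          rw [if_neg hγ₁, Nat.cast_zero]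
  · -- injectivity
    intro β β₂ hβP hβQ hβ₂P hβ₂Q γ m m' hm hpm hm' hpm'
    obtain ⟨β', hβ', hβ'β⟩ := hdefl β β.2 hβQ
    obtain ⟨β₂', hβ₂', hβ₂'β⟩ := hdefl β₂ β₂.2 hβ₂Q
    have hβeq : (β : T → ℂ) = fun t => β' (proj Q hTN t) := by
      funext t; exact (hβ'β t).symm
    have hβ₂eq : (β₂ : T → ℂ) = fun t => β₂' (proj Q hTN t) := by
      funext t; exact (hβ₂'β t).symm
    have hform : ∃ ζ : IrrCharacter C', (γ : D → ℂ) = fun d => (ζ : C' → ℂ) (fD d) := by
      by_contra hno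
      have h1 := hnot β' (isCharacter_of_irr hβ') _ γ.2 hno
      rw [← hβeq, hm] at h1
      apply hpm
      have : m = 0 := by exact_mod_cast h1
      rw [this]
      exact dvd_zero p
    obtain ⟨ζ, hζ⟩ := hform
    rw [hβeq, hζ, hinner β' (ζ : C' → ℂ)] at hm
    rw [hβ₂eq, hζ, hinner β₂' (ζ : C' → ℂ)] at hm'
    have h3 := hS3 ⟨β', hβ'⟩ ⟨β₂', hβ₂'⟩ (inv_deflate hPT hTN hPN hβ'β hβP)
      (inv_deflate hPT hTN hPN hβ₂'β hβ₂P) ζ m m' hm hpm hm' hpm'
    apply Subtype.ext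
    rw [hβeq, hβ₂eq]
    have h4 : β' = β₂' := congrArg Subtype.val h3
    rw [h4]
  · -- surjectivity
    intro γ hγQ
    obtain ⟨γ', hγ', hγ'γ⟩ := exists_deflation_along fD hfD_surj γ.2
      (fun a ha => hγQ a (hfD_ker a ha))
    obtain ⟨β', hβ'inv, m, hm, hpm⟩ := hS4 ⟨γ', hγ'⟩
    have hβirr : IsIrrCharacter T (fun t => (β' : img Q T → ℂ) (proj Q hTN t)) :=
      Cfsg.Agent.Lib.Helper2.PiSection.isIrrCharacter_comp_surjective β'.2 (proj Q hTN)
        (proj_surjective Q hTN)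
    refine ⟨⟨_, hβirr⟩, inv_inflate hPT hTN hPN hβ'inv, ?_, m, ?_, hpm⟩
    · intro t ht
      show (β' : img Q T → ℂ) (proj Q hTN t) = (β' : img Q T → ℂ) (proj Q hTN 1)
      rw [(proj_eq_one_iff Q hTN t).2 ht, map_one]
    · have hγeq : (γ : D → ℂ) = fun d => γ' (fD d) := by
        funext d; exact (hγ'γ d).symm
      rw [hγeq]
      show classInner (res hDT (fun t => (β' : img Q T → ℂ) (proj Q hTN t))) (fun d => γ' (fD d)) = m
      rw [hinner (β' : img Q T → ℂ) γ']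
      exact hm

end

end Cfsg.Agent.Lib.Helper8.RV
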