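import Mathlib
import Cfsg.Prelude.Def_Characters
import Cfsg.Agent.Lib.Helper8.RV10
import Cfsg.Agent.Lib.Helper8.RV7

/-!
# Setup for the relative Glauberman correspondence: the subgroups `C`, `T`, `D`
-/

set_option autoImplicit false
set_option linter.unusedSectionVars false

namespace Cfsg.Agent.Lib.Helper8.RV

open Cfsg
open scoped ComplexConjugate
open Cfsg.Agent.Lib.Helper1 Cfsg.Agent.Lib.Helper4 Cfsg.Agent.Lib.Helper8
open Cfsg.Agent.Lib.Helper8.CX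

universe u

noncomputable local instance subFt11 {G : Type u} [Group G] [Finite G] (H : Subgroup G) : Fintype H :=
  Fintype.ofFinite H

variable {Γ : Type u} [Group Γ] [Finite Γ]

section

variable {P K Q C : Subgroup Γ}
  (hPK : ∀ x ∈ P, Normalizes x K) (hPQ : ∀ x ∈ P, Normalizes x Q)
  (hC : ∀ g : Γ, g ∈ C ↔ g ∈ K ∧ ∀ x ∈ P, x * g * x⁻¹ * g⁻¹ ∈ Q)

include hPK hPQ hC in
theorem relCent_conj_mem {x : Γ} (hx : x ∈ P) {g : Γ} (hg : g ∈ C) : x * g * x⁻¹ ∈ C := by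
  rw [hC] at hg ⊢
  refine ⟨(hPK x hx g).1 hg.1, fun y hy => ?_⟩
  have h1 := hg.2 (x⁻¹ * y * x) (P.mul_mem (P.mul_mem (P.inv_mem hx) hy) hx)
  have h2 := (hPQ x hx _).1 h1
  have e : x * (x⁻¹ * y * x * g * (x⁻¹ * y * x)⁻¹ * g⁻¹) * x⁻¹
      = y * (x * g * x⁻¹) * y⁻¹ * (x * g * x⁻¹)⁻¹ := by group
  rw [e] at h2
  exact h2

include hPK hPQ hC in
/-- `P` normalises the relative centraliser. -/
theorem normalizes_relCent : ∀ x ∈ P, Normalizes x C := by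
  intro x hx g
  constructor
  · exact relCent_conj_mem hPK hPQ hC hx
  · intro h
    have := relCent_conj_mem hPK hPQ hC (P.inv_mem hx) h
    have e : x⁻¹ * (x * g * x⁻¹) * x⁻¹⁻¹ = g := by group
    rwa [e] at this

end

section Stab

variable {P K Q : Subgroup Γ}
  (hPK : ∀ x ∈ P, Normalizes x K) (hPQ : ∀ x ∈ P, Normalizes x Q)
  (hKQ : ∀ k ∈ K, Normalizes k Q) (hQK : Q ≤ K)
  {θ : Q → ℂ}

include hQK in
theorem le_stab (hθ : IsClassFunction Q θ) : Q ≤ stab K Q hKQ θ := by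
  intro q hq
  refine ⟨hQK hq, ?_⟩
  intro n n' hn
  have e : n' = ⟨q, hq⟩ * n * (⟨q, hq⟩ : Q)⁻¹ := Subtype.ext hn
  rw [e]
  exact hθ n ⟨q, hq⟩

theorem stab_le : stab K Q hKQ θ ≤ K := fun _ hg => hg.1

include hPK hPQ in
theorem stab_conj_mem (hθP : InvS P Q θ) {x : Γ} (hx : x ∈ P) {g : Γ}
    (hg : g ∈ stab K Q hKQ θ) : x * g * x⁻¹ ∈ stab K Q hKQ θ := by
  refine ⟨(hPK x hx g).1 hg.1, ?_⟩
  have h1 : InvElt (x * g) Q θ := InvElt.mul (hKQ g hg.1) (hθP x hx) hg.2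
  exact InvElt.mul (hPQ x hx).inv h1 (InvElt.inv (hPQ x hx) (hθP x hx))

include hPK hPQ in
/-- `P` normalises the stabiliser of a `P`-invariant character. -/
theorem normalizes_stab (hθP : InvS P Q θ) : ∀ x ∈ P, Normalizes x (stab K Q hKQ θ) := by
  intro x hx g
  constructor
  · exact stab_conj_mem hPK hPQ hKQ hθP hx
  · intro h
    have := stab_conj_mem hPK hPQ hKQ hθP (P.inv_mem hx) h
    have e : x⁻¹ * (x * g * x⁻¹) * x⁻¹⁻¹ = g := by group
    rwa [e] at this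

end Stab

theorem normalizes_inf {x : Γ} {A B : Subgroup Γ} (hA : Normalizes x A) (hB : Normalizes x B) :
    Normalizes x (A ⊓ B) := by
  intro g
  rw [Subgroup.mem_inf, Subgroup.mem_inf, hA g, hB g]

/-- An irreducible character trivial on a normal subgroup is constant on its cosets. -/
theorem trivOn_mul_left {Q D : Subgroup Γ} (hDQ : ∀ d ∈ D, Normalizes d Q) {γ : D → ℂ}
    (hγ : IsIrrCharacter D γ) (hγQ : TrivOn Q D γ) (q d : D) (hq : (q : Γ) ∈ Q) :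
    γ (q * d) = γ d := by
  have hDN : D ≤ NQ Q := le_NQ_of_normalizes hDQ
  obtain ⟨γ', -, hγ'⟩ := exists_deflation_along (proj Q hDN) (proj_surjective Q hDN) hγ
    (fun a ha => hγQ a ((proj_eq_one_iff Q hDN a).1 (MonoidHom.mem_ker.1 ha)))
  rw [← hγ', ← hγ', map_mul, (proj_eq_one_iff Q hDN q).2 hq, one_mul]

/-- Characters of `D` trivial on `Q` are invariant under any group acting trivially on `D/Q`. -/
theorem invS_of_trivOn {P Q D : Subgroup Γ} (hDQ : ∀ d ∈ D, Normalizes d Q)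
    (hcomm : ∀ d ∈ D, ∀ x ∈ P, x * d * x⁻¹ * d⁻¹ ∈ Q) {γ : D → ℂ}
    (hγ : IsIrrCharacter D γ) (hγQ : TrivOn Q D γ) : InvS P D γ := by
  intro x hx g g' hg
  have hq : x * (g : Γ) * x⁻¹ * (g : Γ)⁻¹ ∈ Q := hcomm g g.2 x hx
  have hqD : x * (g : Γ) * x⁻¹ * (g : Γ)⁻¹ ∈ D := by
    have h1 : x * (g : Γ) * x⁻¹ ∈ D := by rw [← hg]; exact g'.2
    exact D.mul_mem h1 (D.inv_mem g.2)
  have e : g' = ⟨_, hqD⟩ * g := by
    apply Subtype.ext
    rw [hg]
    show _ = x * (g : Γ) * x⁻¹ * (g : Γ)⁻¹ * g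
    group
  rw [e]
  exact trivOn_mul_left hDQ hγ hγQ ⟨_, hqD⟩ g hq

end Cfsg.Agent.Lib.Helper8.RV
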