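import Mathlib
import Cfsg.Prelude.Def_Characters
import Cfsg.Agent.Lib.Helper8.RV11
import Cfsg.Agent.Lib.Helper8.CD4
import Cfsg.Agent.S0177

/-!
# The relative Glauberman correspondence over a fixed invariant character of `Q`: core step
-/

set_option autoImplicit false
set_option linter.unusedSectionVars false

namespace Cfsg.Agent.Lib.Helper8.RV

open Cfsg
open scoped ComplexConjugate
open Cfsg.Agent.Lib.Helper1 Cfsg.Agent.Lib.Helper4 Cfsg.Agent.Lib.Helper8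

universe u

noncomputable local instance subFt12 {G : Type u} [Group G] [Finite G] (H : Subgroup G) : Fintype H :=
  Fintype.ofFinite H

variable {Γ : Type u} [Group Γ] [Finite Γ]

/-- The correspondence relation between a character of `K` and a character of `C`. -/
def Corr (p : ℕ) (P : Subgroup Γ) {K C : Subgroup Γ} (hCK : C ≤ K) (χ : K → ℂ) (ξ : C → ℂ) :
    Prop :=
  ∃ ε : ℤ, (ε = 1 ∨ ε = -1) ∧
    (∀ ξ' : IrrCharacter C, InvS P C (ξ' : C → ℂ) → ∃ m : ℕ,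
      classInner (res hCK χ) (ξ' : C → ℂ) = m ∧
      (m : ℤ) ≡ (if (ξ' : C → ℂ) = ξ then ε else 0) [ZMOD p]) ∧
    (charDegree χ : ℤ) ≡ ε * (charDegree ξ : ℤ) [ZMOD p]

/-- The local data over a `P`-invariant irreducible character `θ` of `Q`. -/
structure Loc (p : ℕ) (P K Q C T D : Subgroup Γ) (θ : Q → ℂ) (η : T → ℂ) : Prop where
  hP : IsPGroup p P
  hPK : ∀ x ∈ P, Normalizes x K
  hPQ : ∀ x ∈ P, Normalizes x Q
  hPC : ∀ x ∈ P, Normalizes x C
  hPT : ∀ x ∈ P, Normalizes x T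
  hPD : ∀ x ∈ P, Normalizes x D
  hQK : Q ≤ K
  hKQ : ∀ k ∈ K, Normalizes k Q
  hcop : ¬ p ∣ Q.relIndex K
  hC : ∀ g : Γ, g ∈ C ↔ g ∈ K ∧ ∀ x ∈ P, x * g * x⁻¹ * g⁻¹ ∈ Q
  hT : ∀ g : Γ, g ∈ T ↔ g ∈ K ∧ InvElt g Q θ
  hD : ∀ g : Γ, g ∈ D ↔ g ∈ T ∧ g ∈ C
  hθ : IsIrrCharacter Q θ
  hθP : InvS P Q θ
  hQT : Q ≤ T
  hη : IsIrrCharacter T η
  hηθ : res hQT η = θ
  hηP : InvS P T η

namespace Loc

variable {p : ℕ} [hp : Fact p.Prime] {P K Q C T D : Subgroup Γ} {θ : Q → ℂ} {η : T → ℂ}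
  (L : Loc p P K Q C T D θ η)

include L

theorem hTK : T ≤ K := fun g hg => ((L.hT g).1 hg).1
theorem hCK : C ≤ K := fun g hg => ((L.hC g).1 hg).1
theorem hDT : D ≤ T := fun g hg => ((L.hD g).1 hg).1
theorem hDC : D ≤ C := fun g hg => ((L.hD g).1 hg).2
theorem hQC : Q ≤ C := le_relCentralizer L.hPQ L.hQK L.hC
theorem hQD : Q ≤ D := fun g hg => (L.hD g).2 ⟨L.hQT hg, L.hQC hg⟩
theorem hCQ : ∀ c ∈ C, Normalizes c Q := fun c hc => L.hKQ c (L.hCK hc)
theorem hTQ : ∀ t ∈ T, Normalizes t Q := fun t ht => L.hKQ t (L.hTK ht)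
theorem hDQ : ∀ d ∈ D, Normalizes d Q := fun d hd => L.hKQ d (L.hTK (L.hDT hd))

theorem hD' : ∀ g : Γ, g ∈ D ↔ g ∈ T ∧ ∀ x ∈ P, x * g * x⁻¹ * g⁻¹ ∈ Q := by
  intro g
  rw [L.hD, L.hC]
  exact ⟨fun h => ⟨h.1, h.2.2⟩, fun h => ⟨h.1, L.hTK h.1, h.2⟩⟩

/-- `D` is the stabiliser of `θ` in `C`. -/
theorem hDstab : ∀ g : Γ, g ∈ D ↔ g ∈ C ∧ InvElt g Q θ := by
  intro g
  rw [L.hD, L.hT]
  exact ⟨fun h => ⟨h.2, h.1.2⟩, fun h => ⟨⟨L.hCK h.1, h.2⟩, h.1⟩⟩

theorem hcopT : ¬ p ∣ Q.relIndex T := by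
  intro h
  apply L.hcop
  rw [← Subgroup.relIndex_mul_relIndex Q T K L.hQT L.hTK]
  exact Dvd.dvd.mul_right h _

theorem hcopC : ¬ p ∣ Q.relIndex C := by
  intro h
  apply L.hcop
  rw [← Subgroup.relIndex_mul_relIndex Q C K L.hQC L.hCK]
  exact Dvd.dvd.mul_right h _

/-- The restriction of `η` to `D`. -/
theorem ηD_res : res L.hQD (res L.hDT η) = θ := L.hηθ

theorem ηD_irr : IsIrrCharacter D (res L.hDT η) := by
  apply isIrrCharacter_of_res_irr L.hQD (isCharacter_res L.hDT (isCharacter_of_irr L.hη))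
  rw [L.ηD_res]
  exact L.hθ

theorem ηD_inv : InvS P D (res L.hDT η) := invS_res L.hDT L.hηP

theorem η_one : η 1 = θ 1 := congrFun L.hηθ 1

/-- Index congruence `|K : T| ≡ |C : D|`. -/
theorem index_modEq : (T.relIndex K : ℤ) ≡ (D.relIndex C : ℤ) [ZMOD p] := by
  have h1 : (Q.relIndex K : ℤ) ≡ (Q.relIndex C : ℤ) [ZMOD p] :=
    relIndex_modEq L.hP L.hPK L.hPQ L.hQK L.hKQ L.hC
  have h2 : (Q.relIndex T : ℤ) ≡ (Q.relIndex D : ℤ) [ZMOD p] :=
    relIndex_modEq L.hP L.hPT L.hPQ L.hQT L.hTQ L.hD'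
  have e1 : (Q.relIndex K : ℤ) = (Q.relIndex T : ℤ) * (T.relIndex K : ℤ) := by
    exact_mod_cast (Subgroup.relIndex_mul_relIndex Q T K L.hQT L.hTK).symm
  have e2 : (Q.relIndex C : ℤ) = (Q.relIndex D : ℤ) * (D.relIndex C : ℤ) := by
    exact_mod_cast (Subgroup.relIndex_mul_relIndex Q D C L.hQD L.hDC).symm
  rw [e1, e2] at h1
  have h3 : (Q.relIndex T : ℤ) * (T.relIndex K : ℤ) ≡ (Q.relIndex T : ℤ) * (D.relIndex C : ℤ)
      [ZMOD p] := h1.trans (h2.symm.mul_right _)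
  have h4 : (p : ℤ) ∣ (Q.relIndex T : ℤ) * ((D.relIndex C : ℤ) - (T.relIndex K : ℤ)) := by
    have := (Int.modEq_iff_dvd).1 h3
    rw [← mul_sub] at this
    exact this
  have hpp : Prime (p : ℤ) := Nat.prime_iff_prime_int.1 hp.out
  rcases hpp.dvd_or_dvd h4 with h | h
  · exact absurd (Int.natCast_dvd_natCast.1 h) L.hcopT
  · exact (Int.modEq_iff_dvd).2 h

/-- The core step: the correspondence for `(η β)^K` and `(η_D γ)^C` when `γ` is the Glauberman
correspondent of `β`. -/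
theorem core (β : IrrCharacter T) (hβP : InvS P T (β : T → ℂ)) (hβQ : TrivOn Q T (β : T → ℂ))
    (γ : IrrCharacter D) (hγQ : TrivOn Q D (γ : D → ℂ)) (ε : ℤ) (hε : ε = 1 ∨ ε = -1)
    (hγ : ∀ γ' : IrrCharacter D, ∃ m : ℕ,
      classInner (res L.hDT (β : T → ℂ)) (γ' : D → ℂ) = m ∧
      (m : ℤ) ≡ (if γ' = γ then ε else 0) [ZMOD p]) :
    (IsIrrCharacter K (rInd T K (η * (β : T → ℂ))) ∧ InvS P K (rInd T K (η * (β : T → ℂ))) ∧
      classInner (res L.hQK (rInd T K (η * (β : T → ℂ)))) θ ≠ 0) ∧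
    (IsIrrCharacter C (rInd D C (res L.hDT η * (γ : D → ℂ))) ∧
      InvS P C (rInd D C (res L.hDT η * (γ : D → ℂ))) ∧
      classInner (res L.hQC (rInd D C (res L.hDT η * (γ : D → ℂ)))) θ ≠ 0) ∧
    Corr p P L.hCK (rInd T K (η * (β : T → ℂ))) (rInd D C (res L.hDT η * (γ : D → ℂ))) := by
  classical
  haveI : Fintype (IrrCharacter D) := Fintype.ofFinite _
  -- irreducibility upstairs
  obtain ⟨hχirr, hχθ⟩ := cg_irr L.hQK L.hKQ L.hθ L.hT L.hQT L.hTK L.hη L.hηθ β.2 hβQ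
  have hχP : InvS P K (rInd T K (η * (β : T → ℂ))) := cg_inv L.hPT L.hPK L.hηP hβP
  -- irreducibility downstairs
  obtain ⟨hξirr, hξθ⟩ := cg_irr L.hQC L.hCQ L.hθ L.hDstab L.hQD L.hDC L.ηD_irr L.ηD_res γ.2 hγQ
  have hγP : InvS P D (γ : D → ℂ) :=
    invS_of_trivOn L.hDQ (fun d hd x hx => ((L.hD' d).1 hd).2 x hx) γ.2 hγQ
  have hξP : InvS P C (rInd D C (res L.hDT η * (γ : D → ℂ))) :=
    cg_inv L.hPD L.hPC L.ηD_inv hγP
  refine ⟨⟨hχirr, hχP, hχθ⟩, ⟨hξirr, hξP, hξθ⟩, ε, hε, ?_, ?_⟩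
  · -- multiplicities
    intro ξ' hξ'P
    have hψ : IsCharacter T (η * (β : T → ℂ)) :=
      Cfsg.Agent.S0177.isCharacter_mul (isCharacter_of_irr L.hη) (isCharacter_of_irr β.2)
    have hψP : InvS P T (η * (β : T → ℂ)) := invS_mul L.hηP hβP
    obtain ⟨m₁, m₂, hm₁, hm₂, hmod⟩ := mult_modEq L.hP L.hPK L.hPQ L.hPT L.hPC L.hQK L.hKQ L.hcop
      L.hC L.hQT L.hTK L.hD L.hCK L.hDT L.hDC hψ hψP (isCharacter_of_irr ξ'.2) hξ'P
    refine ⟨m₁, hm₁, hmod.trans ?_⟩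
    choose mult hmult using hγ
    have hexp : res L.hDT (β : T → ℂ) = ∑ γ' : IrrCharacter D, (mult γ' : ℂ) • (γ' : D → ℂ) := by
      conv_lhs => rw [class_function_expansion (res L.hDT (β : T → ℂ))
        (isClassFunction_of_isCharacter (isCharacter_res L.hDT (isCharacter_of_irr β.2)))]
      exact Finset.sum_congr rfl (fun γ' _ => by rw [(hmult γ').1])
    have hn : ∀ γ' : IrrCharacter D, ∃ n : ℕ,
        classInner (res L.hDT η * (γ' : D → ℂ)) (res L.hDC (ξ' : C → ℂ)) = n := fun γ' =>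
      classInner_char_nat
        (Cfsg.Agent.S0177.isCharacter_mul (isCharacter_of_irr L.ηD_irr) (isCharacter_of_irr γ'.2))
        (isCharacter_res L.hDC (isCharacter_of_irr ξ'.2))
    choose n hn using hn
    have hres : res L.hDT (η * (β : T → ℂ))
        = ∑ γ' : IrrCharacter D, (mult γ' : ℂ) • (res L.hDT η * (γ' : D → ℂ)) := by
      have h1 : res L.hDT (η * (β : T → ℂ)) = res L.hDT η * res L.hDT (β : T → ℂ) := rfl
      rw [h1, hexp, Finset.mul_sum]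
      refine Finset.sum_congr rfl fun γ' _ => ?_
      rw [mul_smul_comm]
    have hm₂' : (m₂ : ℂ) = ∑ γ' : IrrCharacter D, (mult γ' : ℂ) * (n γ' : ℂ) := by
      rw [← hm₂, hres, classInner_sum_left]
      refine Finset.sum_congr rfl fun γ' _ => ?_
      rw [classInner_smul_left, hn γ']
    have hm₂ℤ : (m₂ : ℤ) = ∑ γ' : IrrCharacter D, (mult γ' : ℤ) * (n γ' : ℤ) := by
      have : ((m₂ : ℤ) : ℂ) = ((∑ γ' : IrrCharacter D, (mult γ' : ℤ) * (n γ' : ℤ) : ℤ) : ℂ) := by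
        push_cast
        exact hm₂'
      exact_mod_cast this
    have hnγ : (n γ : ℤ) = if (ξ' : C → ℂ) = rInd D C (res L.hDT η * (γ : D → ℂ)) then 1 else 0 := by
      have h1 := hn γ
      rw [← frobenius L.hDC (res L.hDT η * (γ : D → ℂ)) (ξ' : C → ℂ) (isClassFunction_irr ξ'.2),
        classInner_irr hξirr ξ'.2] at h1
      by_cases hξξ : (ξ' : C → ℂ) = rInd D C (res L.hDT η * (γ : D → ℂ))
      · rw [if_pos hξξ]
        rw [if_pos hξξ.symm] at h1
        exact_mod_cast h1.symm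
      · rw [if_neg hξξ]
        rw [if_neg (fun h => hξξ h.symm)] at h1
        exact_mod_cast h1.symm
    have hsum2 : ∑ γ' : IrrCharacter D, (if γ' = γ then ε else 0) * (n γ' : ℤ) = ε * (n γ : ℤ) := by
      rw [Finset.sum_eq_single γ]
      · rw [if_pos rfl]
      · intro γ' _ hne
        rw [if_neg hne, zero_mul]
      · intro h
        exact absurd (Finset.mem_univ γ) h
    have hfin : (m₂ : ℤ) ≡ ε * (n γ : ℤ) [ZMOD p] := by
      rw [hm₂ℤ, ← hsum2]
      rw [Int.modEq_iff_dvd, ← Finset.sum_sub_distrib]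
      apply Finset.dvd_sum
      intro γ' _
      rw [← sub_mul]
      exact Dvd.dvd.mul_right ((Int.modEq_iff_dvd).1 (hmult γ').2) _
    refine hfin.trans ?_
    rw [hnγ]
    by_cases hξξ : (ξ' : C → ℂ) = rInd D C (res L.hDT η * (γ : D → ℂ))
    · rw [if_pos hξξ, if_pos hξξ, mul_one]
    · rw [if_neg hξξ, if_neg hξξ, mul_zero]
  · -- degrees
    choose mult hmult using hγ
    have hexp : res L.hDT (β : T → ℂ) = ∑ γ' : IrrCharacter D, (mult γ' : ℂ) • (γ' : D → ℂ) := by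
      conv_lhs => rw [class_function_expansion (res L.hDT (β : T → ℂ))
        (isClassFunction_of_isCharacter (isCharacter_res L.hDT (isCharacter_of_irr β.2)))]
      exact Finset.sum_congr rfl (fun γ' _ => by rw [(hmult γ').1])
    have hβ1 := apply_one_eq_sum_mult mult hexp
    have hβ1' : (β : T → ℂ) 1 = res L.hDT (β : T → ℂ) 1 := rfl
    obtain ⟨hdβ, -⟩ := irr_apply_one_eq_charDegree β.2
    obtain ⟨hdγ, -⟩ := irr_apply_one_eq_charDegree γ.2
    obtain ⟨hdθ, -⟩ := irr_apply_one_eq_charDegree L.hθ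
    obtain ⟨hdχ, -⟩ := irr_apply_one_eq_charDegree hχirr
    obtain ⟨hdξ, -⟩ := irr_apply_one_eq_charDegree hξirr
    have hdegβ : charDegree (β : T → ℂ)
        = ∑ γ' : IrrCharacter D, mult γ' * charDegree (γ' : D → ℂ) := by
      have : (charDegree (β : T → ℂ) : ℂ)
          = ((∑ γ' : IrrCharacter D, mult γ' * charDegree (γ' : D → ℂ) : ℕ) : ℂ) := by
        rw [← hdβ, hβ1', hβ1]
      exact_mod_cast this
    have hdegχ : charDegree (rInd T K (η * (β : T → ℂ)))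
        = T.relIndex K * (charDegree θ * charDegree (β : T → ℂ)) := by
      have : (charDegree (rInd T K (η * (β : T → ℂ))) : ℂ)
          = ((T.relIndex K * (charDegree θ * charDegree (β : T → ℂ)) : ℕ) : ℂ) := by
        rw [← hdχ, rInd_one L.hTK, Pi.mul_apply, L.η_one, hdθ, hdβ]
        push_cast
        ring
      exact_mod_cast this
    have hdegξ : charDegree (rInd D C (res L.hDT η * (γ : D → ℂ)))
        = D.relIndex C * (charDegree θ * charDegree (γ : D → ℂ)) := by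
      have : (charDegree (rInd D C (res L.hDT η * (γ : D → ℂ))) : ℂ)
          = ((D.relIndex C * (charDegree θ * charDegree (γ : D → ℂ)) : ℕ) : ℂ) := by
        rw [← hdξ, rInd_one L.hDC, Pi.mul_apply]
        have h1 : res L.hDT η 1 = θ 1 := L.η_one
        rw [h1, hdθ, hdγ]
        push_cast
        ring
      exact_mod_cast this
    have hβmod : (charDegree (β : T → ℂ) : ℤ) ≡ ε * (charDegree (γ : D → ℂ) : ℤ) [ZMOD p] := by
      have hsum2 : ∑ γ' : IrrCharacter D, (if γ' = γ then ε else 0) * (charDegree (γ' : D → ℂ) : ℤ)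
          = ε * (charDegree (γ : D → ℂ) : ℤ) := by
        rw [Finset.sum_eq_single γ]
        · rw [if_pos rfl]
        · intro γ' _ hne
          rw [if_neg hne, zero_mul]
        · intro h
          exact absurd (Finset.mem_univ γ) h
      rw [hdegβ, ← hsum2]
      push_cast
      rw [Int.modEq_iff_dvd, ← Finset.sum_sub_distrib]
      apply Finset.dvd_sum
      intro γ' _
      rw [← sub_mul]
      exact Dvd.dvd.mul_right ((Int.modEq_iff_dvd).1 (hmult γ').2) _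
    rw [hdegχ, hdegξ]
    push_cast
    have h1 := (L.index_modEq.mul (Int.ModEq.refl (charDegree θ : ℤ))).mul hβmod
    refine (Int.ModEq.trans ?_ h1).trans ?_
    · rw [mul_assoc]
    · have e : (D.relIndex C : ℤ) * (charDegree θ : ℤ) * (ε * (charDegree (γ : D → ℂ) : ℤ))
          = ε * ((D.relIndex C : ℤ) * ((charDegree θ : ℤ) * (charDegree (γ : D → ℂ) : ℤ))) := by
        ring
      rw [e]

end Loc

end Cfsg.Agent.Lib.Helper8.RV
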