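import Mathlib
import Cfsg.Prelude.Def_Characters
import Cfsg.Agent.Lib.Helper8.RV12

/-!
# The relative Glauberman correspondence over a fixed invariant character of `Q`
-/

set_option autoImplicit false
set_option linter.unusedSectionVars false

namespace Cfsg.Agent.Lib.Helper8.RV

open Cfsg
open scoped ComplexConjugate
open Cfsg.Agent.Lib.Helper1 Cfsg.Agent.Lib.Helper4 Cfsg.Agent.Lib.Helper8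

universe u

noncomputable local instance subFt13 {G : Type u} [Group G] [Finite G] (H : Subgroup G) : Fintype H :=
  Fintype.ofFinite H

variable {Γ : Type u} [Group Γ] [Finite Γ]

/-- The correspondent is unique. -/
theorem Corr.unique {p : ℕ} [hp : Fact p.Prime] {P K C : Subgroup Γ} {hCK : C ≤ K} {χ : K → ℂ}
    {ξ₁ ξ₂ : C → ℂ} (h1 : Corr p P hCK χ ξ₁) (h2 : Corr p P hCK χ ξ₂)
    (hξ₂ : IsIrrCharacter C ξ₂) (hξ₂P : InvS P C ξ₂) : ξ₁ = ξ₂ := by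
  obtain ⟨ε₁, hε₁, hm₁, -⟩ := h1
  obtain ⟨ε₂, hε₂, hm₂, -⟩ := h2
  obtain ⟨m, hm, hmod⟩ := hm₁ ⟨ξ₂, hξ₂⟩ hξ₂P
  obtain ⟨m', hm', hmod'⟩ := hm₂ ⟨ξ₂, hξ₂⟩ hξ₂P
  have hmm : m = m' := by
    have : (m : ℂ) = (m' : ℂ) := by rw [← hm, ← hm']
    exact_mod_cast this
  by_contra hne
  rw [if_neg (fun h => hne h.symm)] at hmod
  rw [if_pos rfl] at hmod'
  have h3 : p ∣ m := dvd_of_modEq_zero hmod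
  rw [hmm] at h3
  exact not_dvd_of_modEq_pm hp.out hε₂ hmod' h3

/-- A correspondent occurs with nonzero multiplicity. -/
theorem Corr.inner_ne_zero {p : ℕ} [hp : Fact p.Prime] {P K C : Subgroup Γ} {hCK : C ≤ K}
    {χ : K → ℂ} {ξ : C → ℂ} (h : Corr p P hCK χ ξ) (hξ : IsIrrCharacter C ξ)
    (hξP : InvS P C ξ) : classInner (res hCK χ) ξ ≠ 0 := by
  obtain ⟨ε, hε, hm, -⟩ := h
  obtain ⟨m, hm', hmod⟩ := hm ⟨ξ, hξ⟩ hξP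
  rw [if_pos rfl] at hmod
  have h3 := not_dvd_of_modEq_pm hp.out hε hmod
  show classInner (res hCK χ) ((⟨ξ, hξ⟩ : IrrCharacter C) : C → ℂ) ≠ 0
  rw [hm']
  intro h0
  apply h3
  have : m = 0 := by exact_mod_cast h0
  rw [this]
  exact dvd_zero p

namespace Loc

variable {p : ℕ} [hp : Fact p.Prime] {P K Q C T D : Subgroup Γ} {θ : Q → ℂ} {η : T → ℂ}
  (L : Loc p P K Q C T D θ η)

include L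

/-- Every invariant character of `K` over `θ` has a correspondent over `θ`. -/
theorem local_a {χ : K → ℂ} (hχ : IsIrrCharacter K χ) (hχP : InvS P K χ)
    (hχθ : classInner (res L.hQK χ) θ ≠ 0) :
    ∃ ξ : C → ℂ, IsIrrCharacter C ξ ∧ InvS P C ξ ∧ Corr p P L.hCK χ ξ := by
  obtain ⟨β, hβ, hβQ, rfl⟩ := cg_surj L.hQK L.hKQ L.hθ L.hT L.hQT L.hTK L.hη L.hηθ hχ hχθ
  have hβP : InvS P T β :=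
    cg_inv_of L.hQK L.hKQ L.hθ L.hT L.hQT L.hTK L.hη L.hηθ L.hPQ L.hPT L.hPK L.hηP hβ hβQ hχP
  obtain ⟨hG1, -, -⟩ := relGlau L.hP L.hPT L.hPQ L.hQT L.hTQ L.hcopT L.hD'
  obtain ⟨γ, hγQ, ε, hε, hγ⟩ := hG1 ⟨β, hβ⟩ hβP hβQ
  obtain ⟨-, ⟨h1, h2, -⟩, h3⟩ := L.core ⟨β, hβ⟩ hβP hβQ γ hγQ ε hε hγ
  exact ⟨_, h1, h2, h3⟩

/-- Injectivity over `θ`. -/
theorem local_b {χ₁ χ₂ : K → ℂ} (hχ₁ : IsIrrCharacter K χ₁) (hχ₁P : InvS P K χ₁)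
    (hχ₁θ : classInner (res L.hQK χ₁) θ ≠ 0)
    (hχ₂ : IsIrrCharacter K χ₂) (hχ₂P : InvS P K χ₂)
    (hχ₂θ : classInner (res L.hQK χ₂) θ ≠ 0) {ξ : C → ℂ}
    (h1 : Corr p P L.hCK χ₁ ξ) (h2 : Corr p P L.hCK χ₂ ξ) : χ₁ = χ₂ := by
  obtain ⟨β₁, hβ₁, hβ₁Q, rfl⟩ := cg_surj L.hQK L.hKQ L.hθ L.hT L.hQT L.hTK L.hη L.hηθ hχ₁ hχ₁θ
  obtain ⟨β₂, hβ₂, hβ₂Q, rfl⟩ := cg_surj L.hQK L.hKQ L.hθ L.hT L.hQT L.hTK L.hη L.hηθ hχ₂ hχ₂θ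
  have hβ₁P : InvS P T β₁ :=
    cg_inv_of L.hQK L.hKQ L.hθ L.hT L.hQT L.hTK L.hη L.hηθ L.hPQ L.hPT L.hPK L.hηP hβ₁ hβ₁Q hχ₁P
  have hβ₂P : InvS P T β₂ :=
    cg_inv_of L.hQK L.hKQ L.hθ L.hT L.hQT L.hTK L.hη L.hηθ L.hPQ L.hPT L.hPK L.hηP hβ₂ hβ₂Q hχ₂P
  obtain ⟨hG1, hG2, -⟩ := relGlau L.hP L.hPT L.hPQ L.hQT L.hTQ L.hcopT L.hD'
  obtain ⟨γ₁, hγ₁Q, ε₁, hε₁, hγ₁⟩ := hG1 ⟨β₁, hβ₁⟩ hβ₁P hβ₁Q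
  obtain ⟨γ₂, hγ₂Q, ε₂, hε₂, hγ₂⟩ := hG1 ⟨β₂, hβ₂⟩ hβ₂P hβ₂Q
  obtain ⟨-, ⟨a1, a2, -⟩, a3⟩ := L.core ⟨β₁, hβ₁⟩ hβ₁P hβ₁Q γ₁ hγ₁Q ε₁ hε₁ hγ₁
  obtain ⟨-, ⟨b1, b2, -⟩, b3⟩ := L.core ⟨β₂, hβ₂⟩ hβ₂P hβ₂Q γ₂ hγ₂Q ε₂ hε₂ hγ₂
  have e1 := Corr.unique h1 a3 a1 a2
  have e2 := Corr.unique h2 b3 b1 b2
  have e3 : (γ₁ : D → ℂ) = (γ₂ : D → ℂ) :=
    cg_inj L.hQC L.hCQ L.hθ L.hDstab L.hQD L.hDC L.ηD_irr L.ηD_res γ₁.2 hγ₁Q γ₂.2 hγ₂Q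
      (e1.symm.trans e2)
  have e4 : γ₁ = γ₂ := Subtype.ext e3
  obtain ⟨m₁, hm₁, hmod₁⟩ := hγ₁ γ₁
  obtain ⟨m₂, hm₂, hmod₂⟩ := hγ₂ γ₁
  rw [if_pos rfl] at hmod₁
  rw [if_pos e4] at hmod₂
  have e5 := hG2 ⟨β₁, hβ₁⟩ ⟨β₂, hβ₂⟩ hβ₁P hβ₁Q hβ₂P hβ₂Q γ₁ m₁ m₂ hm₁
    (not_dvd_of_modEq_pm hp.out hε₁ hmod₁) hm₂ (not_dvd_of_modEq_pm hp.out hε₂ hmod₂)
  have e6 : β₁ = β₂ := congrArg Subtype.val e5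
  rw [e6]

/-- Surjectivity over `θ`. -/
theorem local_c {ξ : C → ℂ} (hξ : IsIrrCharacter C ξ)
    (hξθ : classInner (res L.hQC ξ) θ ≠ 0) :
    ∃ χ : K → ℂ, IsIrrCharacter K χ ∧ InvS P K χ ∧ Corr p P L.hCK χ ξ := by
  obtain ⟨γ, hγ, hγQ, rfl⟩ :=
    cg_surj L.hQC L.hCQ L.hθ L.hDstab L.hQD L.hDC L.ηD_irr L.ηD_res hξ hξθ
  obtain ⟨hG1, -, hG3⟩ := relGlau L.hP L.hPT L.hPQ L.hQT L.hTQ L.hcopT L.hD'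
  obtain ⟨β, hβP, hβQ, m, hm, hpm⟩ := hG3 ⟨γ, hγ⟩ hγQ
  obtain ⟨γ', hγ'Q, ε, hε, hγ'⟩ := hG1 β hβP hβQ
  have hγγ' : (⟨γ, hγ⟩ : IrrCharacter D) = γ' := by
    by_contra hne
    obtain ⟨m', hm', hmod'⟩ := hγ' ⟨γ, hγ⟩
    rw [if_neg hne] at hmod'
    have hmm : m = m' := by
      have : (m : ℂ) = (m' : ℂ) := by rw [← hm, ← hm']
      exact_mod_cast this
    apply hpm
    rw [hmm]
    exact dvd_of_modEq_zero hmod'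
  obtain ⟨⟨h1, h2, -⟩, -, h3⟩ := L.core β hβP hβQ γ' hγ'Q ε hε hγ'
  rw [← hγγ'] at h3
  exact ⟨_, h1, h2, h3⟩

end Loc

end Cfsg.Agent.Lib.Helper8.RV
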