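import Mathlib
import Cfsg.Prelude.Def_Characters
import Cfsg.Agent.Lib.Helper8.RV13
import Cfsg.Agent.Lib.Helper8.GLS2

/-!
# The relative Glauberman correspondence: the global statement
-/

set_option autoImplicit false
set_option linter.unusedSectionVars false

namespace Cfsg.Agent.Lib.Helper8.RV

open Cfsg
open scoped ComplexConjugate
open Cfsg.Agent.Lib.Helper1 Cfsg.Agent.Lib.Helper4 Cfsg.Agent.Lib.Helper8

universe u

noncomputable local instance subFt14 {G : Type u} [Group G] [Finite G] (H : Subgroup G) : Fintype H :=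
  Fintype.ofFinite H

variable {Γ : Type u} [Group Γ] [Finite Γ]

/-- The global hypotheses. -/
structure Glob (p : ℕ) (P K Q C : Subgroup Γ) : Prop where
  hP : IsPGroup p P
  hPK : ∀ x ∈ P, Normalizes x K
  hPQ : ∀ x ∈ P, Normalizes x Q
  hQK : Q ≤ K
  hKQ : ∀ k ∈ K, Normalizes k Q
  hQp : ∃ a : ℕ, Nat.card Q = p ^ a
  hcop : ¬ p ∣ Q.relIndex K
  hC : ∀ g : Γ, g ∈ C ↔ g ∈ K ∧ ∀ x ∈ P, x * g * x⁻¹ * g⁻¹ ∈ Q

namespace Glob

variable {p : ℕ} [hp : Fact p.Prime] {P K Q C : Subgroup Γ} (G : Glob p P K Q C)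

include G

theorem hCK : C ≤ K := fun g hg => ((G.hC g).1 hg).1
theorem hQC : Q ≤ C := le_relCentralizer G.hPQ G.hQK G.hC
theorem hPC : ∀ x ∈ P, Normalizes x C := normalizes_relCent G.hPK G.hPQ G.hC
theorem hCQ : ∀ c ∈ C, Normalizes c Q := fun c hc => G.hKQ c (G.hCK hc)

/-- The local data exist. -/
theorem exists_loc {θ : Q → ℂ} (hθ : IsIrrCharacter Q θ) (hθP : InvS P Q θ) :
    ∃ (T D : Subgroup Γ) (η : T → ℂ), Loc p P K Q C T D θ η := by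
  have hPT := normalizes_stab G.hPK G.hPQ G.hKQ hθP
  have hQT : Q ≤ stab K Q G.hKQ θ := le_stab G.hKQ G.hQK (isClassFunction_irr hθ)
  have hTK : stab K Q G.hKQ θ ≤ K := stab_le G.hKQ
  have hTQ : ∀ t ∈ stab K Q G.hKQ θ, Normalizes t Q := fun t ht => G.hKQ t ht.1
  have hinv : InvS (stab K Q G.hKQ θ) Q θ := fun t ht => ht.2
  have hcopT : (Q.relIndex (stab K Q G.hKQ θ)).Coprime (Nat.card Q) := by
    obtain ⟨a, ha⟩ := G.hQp
    rw [ha]
    apply Nat.Coprime.pow_right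
    apply Nat.Coprime.symm
    rw [Nat.Prime.coprime_iff_not_dvd hp.out]
    intro h
    apply G.hcop
    rw [← Subgroup.relIndex_mul_relIndex Q _ K hQT hTK]
    exact Dvd.dvd.mul_right h _
  obtain ⟨η, hη, hηθ, hηP⟩ := exists_inv_extension hQT hTQ hθ hinv hcopT G.hPQ hPT hθP
  exact ⟨stab K Q G.hKQ θ, stab K Q G.hKQ θ ⊓ C, η,
    { hP := G.hP
      hPK := G.hPK
      hPQ := G.hPQ
      hPC := G.hPC
      hPT := hPT
      hPD := fun x hx => normalizes_inf (hPT x hx) (G.hPC x hx)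
      hQK := G.hQK
      hKQ := G.hKQ
      hcop := G.hcop
      hC := G.hC
      hT := fun g => Iff.rfl
      hD := fun g => Subgroup.mem_inf
      hθ := hθ
      hθP := hθP
      hQT := hQT
      hη := hη
      hηθ := hηθ
      hηP := hηP }⟩

theorem solvableP : Group.IsSolvable P := by
  haveI : Group.IsNilpotent P := G.hP.isNilpotent
  infer_instance

theorem coprimeP {n : ℕ} (hn : ¬ p ∣ n) : n.Coprime (Nat.card P) := by
  obtain ⟨a, ha⟩ := G.hP.exists_card_eq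
  rw [ha]
  apply Nat.Coprime.pow_right
  apply Nat.Coprime.symm
  rw [Nat.Prime.coprime_iff_not_dvd hp.out]
  exact hn

theorem hcopC : ¬ p ∣ Q.relIndex C := by
  intro h
  apply G.hcop
  rw [← Subgroup.relIndex_mul_relIndex Q C K G.hQC G.hCK]
  exact Dvd.dvd.mul_right h _

/-- An invariant constituent on `Q` of an invariant character of `K`. -/
theorem exists_inv_K {χ : K → ℂ} (hχ : IsIrrCharacter K χ) (hχP : InvS P K χ) :
    ∃ θ : Q → ℂ, IsIrrCharacter Q θ ∧ InvS P Q θ ∧ classInner (res G.hQK χ) θ ≠ 0 := by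
  haveI : Fintype Γ := Fintype.ofFinite Γ
  haveI : (Q.subgroupOf K).Normal := normal_subgroupOf_of_normalizes G.hKQ
  obtain ⟨θ, h1, h2⟩ := Cfsg.Agent.Lib.Helper8.GLS.exists_inv_constituent K P Q G.hPK G.hQK
    G.hKQ G.hPQ (G.coprimeP G.hcop) (Or.inl G.solvableP) ⟨χ, hχ⟩ hχP
  exact ⟨θ, θ.2, h2, h1⟩

/-- An invariant constituent on `Q` of an invariant character of `C`. -/
theorem exists_inv_C {ξ : C → ℂ} (hξ : IsIrrCharacter C ξ) (hξP : InvS P C ξ) :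
    ∃ θ : Q → ℂ, IsIrrCharacter Q θ ∧ InvS P Q θ ∧ classInner (res G.hQC ξ) θ ≠ 0 := by
  haveI : Fintype Γ := Fintype.ofFinite Γ
  haveI : (Q.subgroupOf C).Normal := normal_subgroupOf_of_normalizes G.hCQ
  obtain ⟨θ, h1, h2⟩ := Cfsg.Agent.Lib.Helper8.GLS.exists_inv_constituent C P Q G.hPC G.hQC
    G.hCQ G.hPQ (G.coprimeP G.hcopC) (Or.inl G.solvableP) ⟨ξ, hξ⟩ hξP
  exact ⟨θ, θ.2, h2, h1⟩

/-- Existence of the correspondent. -/
theorem global_exists {χ : K → ℂ} (hχ : IsIrrCharacter K χ) (hχP : InvS P K χ) :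
    ∃ ξ : C → ℂ, IsIrrCharacter C ξ ∧ InvS P C ξ ∧ Corr p P G.hCK χ ξ := by
  obtain ⟨θ, hθ, hθP, hχθ⟩ := G.exists_inv_K hχ hχP
  obtain ⟨T, D, η, L⟩ := G.exists_loc hθ hθP
  exact L.local_a hχ hχP hχθ

/-- Injectivity. -/
theorem global_inj {χ₁ χ₂ : K → ℂ} (hχ₁ : IsIrrCharacter K χ₁) (hχ₁P : InvS P K χ₁)
    (hχ₂ : IsIrrCharacter K χ₂) (hχ₂P : InvS P K χ₂) {ξ : C → ℂ} (hξ : IsIrrCharacter C ξ)
    (hξP : InvS P C ξ) (h1 : Corr p P G.hCK χ₁ ξ) (h2 : Corr p P G.hCK χ₂ ξ) : χ₁ = χ₂ := by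
  obtain ⟨θ, hθ, hθP, hξθ⟩ := G.exists_inv_C hξ hξP
  obtain ⟨T, D, η, L⟩ := G.exists_loc hθ hθP
  have hχ₁θ : classInner (res G.hQK χ₁) θ ≠ 0 :=
    over_trans G.hCK G.hQC (isCharacter_of_irr hχ₁) hξ hθ (h1.inner_ne_zero hξ hξP) hξθ
  have hχ₂θ : classInner (res G.hQK χ₂) θ ≠ 0 :=
    over_trans G.hCK G.hQC (isCharacter_of_irr hχ₂) hξ hθ (h2.inner_ne_zero hξ hξP) hξθ
  exact L.local_b hχ₁ hχ₁P hχ₁θ hχ₂ hχ₂P hχ₂θ h1 h2

/-- Surjectivity. -/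
theorem global_surj {ξ : C → ℂ} (hξ : IsIrrCharacter C ξ) (hξP : InvS P C ξ) :
    ∃ χ : K → ℂ, IsIrrCharacter K χ ∧ InvS P K χ ∧ Corr p P G.hCK χ ξ := by
  obtain ⟨θ, hθ, hθP, hξθ⟩ := G.exists_inv_C hξ hξP
  obtain ⟨T, D, η, L⟩ := G.exists_loc hθ hθP
  exact L.local_c hξ hξθ

end Glob

end Cfsg.Agent.Lib.Helper8.RV
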