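import Mathlib
import Cfsg.Prelude.Def_RootSubgroups
import Cfsg.Agent.Lib.Helper8.RN6

/-!
# A symmetry principle for conjugation-invariant relations on a set of abstract root subgroups

If `R` is a conjugation invariant relation on `S` whose related pairs commute, `R P Q`, `P ≠ Q`,
and some `E` forms a rank one pair with both `P` and `Q`, then `R Q P`.
-/

set_option autoImplicit false

namespace Cfsg.Agent.Lib.Helper8

variable {G : Type*} [Group G]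

section Basic

variable {P E : Subgroup G}

/-- Left-conjugation form of the rank one condition. -/
theorem rankOnePair_exists_conjBy_eq (h : Cfsg.IsRankOnePair P E) {e : G} (he : e ∈ E)
    (he1 : e ≠ 1) : ∃ p ∈ P, p ≠ 1 ∧ Cfsg.conjBy E p = Cfsg.conjBy P e := by
  have he1' : e⁻¹ ≠ 1 := fun hh => he1 (inv_eq_one.mp hh)
  obtain ⟨p, hp, hp1, hEq⟩ := h.cond_right e⁻¹ (E.inv_mem he) he1'
  rw [inv_inv] at hEq
  exact ⟨p⁻¹, P.inv_mem hp, fun hh => hp1 (inv_eq_one.mp hh), hEq⟩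

/-- An element normalizing `P` and centralizing `E` centralizes `P`. -/
theorem rankOnePair_centralizes_of_normalizes (h : Cfsg.IsRankOnePair P E) {x : G}
    (hxP : Cfsg.conjBy P x = P) (hxE : ∀ e ∈ E, x * e = e * x) : ∀ p ∈ P, x * p = p * x := by
  intro p hp
  by_cases hp1 : p = 1
  · rw [hp1]; simp
  obtain ⟨e, he, -, hEq⟩ := rankOnePair_exists_conjBy_eq (Cfsg.RankOnePair_symm h) hp hp1
  -- hEq : conjBy P e = conjBy E p
  have hxE' : Cfsg.conjBy E x = E := conjBy_eq_self_of_comm hxE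
  have h1 : Cfsg.conjBy (Cfsg.conjBy P e) x = Cfsg.conjBy P e := by
    rw [conjBy_conjBy, hxE e he, ← conjBy_conjBy, hxP]
  have h2 : Cfsg.conjBy (Cfsg.conjBy E p) x = Cfsg.conjBy E (x * p * x⁻¹) := by
    have h3 : Cfsg.conjBy E (x * p * x⁻¹) = Cfsg.conjBy (Cfsg.conjBy E x) (x * p * x⁻¹) := by
      rw [hxE']
    rw [h3, conjBy_conjBy, conjBy_conjBy]
    congr 1; group
  rw [hEq, h2] at h1
  have hmem : x * p * x⁻¹ ∈ P := by
    have := conj_mem_conjBy (g := x) hp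
    rwa [hxP] at this
  have := rankOnePair_conjBy_right_injective h hmem hp h1
  calc x * p = (x * p * x⁻¹) * x := by group
    _ = p * x := by rw [this]

end Basic

section Sym

/-- Context for the symmetry argument. -/
structure SymCtx (S : Set (Subgroup G)) (R : Subgroup G → Subgroup G → Prop)
    (P Q E : Subgroup G) : Prop where
  root : Cfsg.IsRootSubgroupSet S
  conj : ∀ (P Q : Subgroup G) (g : G), R P Q → R (Cfsg.conjBy P g) (Cfsg.conjBy Q g)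
  comm : ∀ P ∈ S, ∀ Q ∈ S, R P Q → P ≠ Q → ∀ p ∈ P, ∀ q ∈ Q, p * q = q * p
  hP : P ∈ S
  hQ : Q ∈ S
  hE : E ∈ S
  rel : R P Q
  ne : P ≠ Q
  pe : Cfsg.IsRankOnePair P E
  qe : Cfsg.IsRankOnePair Q E

/-- Matched elements: `ᵖE = ᵉP` and `𝑞E = ᵉQ`. -/
structure Matched (P Q E : Subgroup G) (e p q : G) : Prop where
  he : e ∈ E
  hp : p ∈ P
  hq : q ∈ Q
  eqP : Cfsg.conjBy E p = Cfsg.conjBy P e
  eqQ : Cfsg.conjBy E q = Cfsg.conjBy Q e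

variable {S : Set (Subgroup G)} {R : Subgroup G → Subgroup G → Prop} {P Q E : Subgroup G}

theorem rel_step (hconj : ∀ (P Q : Subgroup G) (g : G), R P Q → R (Cfsg.conjBy P g) (Cfsg.conjBy Q g))
    {P Q E : Subgroup G} (h : R P Q) {e p q : G}
    (h1 : Cfsg.conjBy E p = Cfsg.conjBy P e) (h2 : Cfsg.conjBy E q = Cfsg.conjBy Q e) :
    R E (Cfsg.conjBy E (p⁻¹ * q)) := by
  have h3 := hconj _ _ e h
  rw [← h1, ← h2] at h3
  have h4 := hconj _ _ p⁻¹ h3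
  rw [conjBy_conjBy, conjBy_conjBy] at h4
  simpa using h4

theorem SymCtx.exists_matched (c : SymCtx S R P Q E) {e : G} (he : e ∈ E) (he1 : e ≠ 1) :
    ∃ p q : G, Matched P Q E e p q := by
  obtain ⟨p, hp, -, h1⟩ := rankOnePair_exists_conjBy_eq c.pe he he1
  obtain ⟨q, hq, -, h2⟩ := rankOnePair_exists_conjBy_eq c.qe he he1
  exact ⟨p, q, he, hp, hq, h1, h2⟩

theorem SymCtx.comm_pq (c : SymCtx S R P Q E) {p q : G} (hp : p ∈ P) (hq : q ∈ Q) :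
    p * q = q * p := c.comm P c.hP Q c.hQ c.rel c.ne p hp q hq

theorem SymCtx.conjBy_P_q (c : SymCtx S R P Q E) {q : G} (hq : q ∈ Q) : Cfsg.conjBy P q = P :=
  conjBy_eq_self_of_comm fun _ hk => (c.comm_pq hk hq).symm

theorem SymCtx.conjBy_P_tau (c : SymCtx S R P Q E) {p q : G} (hp : p ∈ P) (hq : q ∈ Q) :
    Cfsg.conjBy P (p⁻¹ * q) = P := by
  rw [← conjBy_conjBy, c.conjBy_P_q hq, conjBy_eq_self_of_mem (P.inv_mem hp)]

theorem SymCtx.conjBy_P_tau_inv (c : SymCtx S R P Q E) {p q : G} (hp : p ∈ P) (hq : q ∈ Q) :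
    Cfsg.conjBy P (p⁻¹ * q)⁻¹ = P := by
  have := c.conjBy_P_tau hp hq
  rw [conjBy_eq_iff] at this
  exact this.symm

theorem SymCtx.tau_mul (c : SymCtx S R P Q E) {p q : G} (hp : p ∈ P) (hq : q ∈ Q) :
    (p⁻¹ * q) * p = q := by
  rw [mul_assoc, ← c.comm_pq hp hq]; group

variable {e p q : G}

/-- `E ≠ ᵗE`. -/
theorem SymCtx.ne_next (c : SymCtx S R P Q E) (m : Matched P Q E e p q) :
    E ≠ Cfsg.conjBy E (p⁻¹ * q) := by
  intro hEq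
  apply c.ne
  have h1 : Cfsg.conjBy E p = Cfsg.conjBy E q := by
    conv_lhs => rw [hEq]
    rw [conjBy_conjBy]
    congr 1; group
  rw [m.eqP, m.eqQ] at h1
  exact conjBy_injective _ h1

/-- The next context `(E, ᵗE, P)`. -/
theorem SymCtx.next (c : SymCtx S R P Q E) (m : Matched P Q E e p q) :
    SymCtx S R E (Cfsg.conjBy E (p⁻¹ * q)) P where
  root := c.root
  conj := c.conj
  comm := c.comm
  hP := c.hE
  hQ := c.root.conj_mem E c.hE _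
  hE := c.hP
  rel := rel_step c.conj c.rel m.eqP m.eqQ
  ne := c.ne_next m
  pe := Cfsg.RankOnePair_symm c.pe
  qe := by
    have := isRankOnePair_conjBy (Cfsg.RankOnePair_symm c.pe) (p⁻¹ * q)
    rwa [c.conjBy_P_tau m.hp m.hq] at this

/-- The matched elements for the next context. -/
theorem SymCtx.matched_next (c : SymCtx S R P Q E) (m : Matched P Q E e p q) :
    Matched E (Cfsg.conjBy E (p⁻¹ * q)) P p e ((p⁻¹ * q) * e * (p⁻¹ * q)⁻¹) where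
  he := m.hp
  hp := m.he
  hq := conj_mem_conjBy m.he
  eqP := m.eqP.symm
  eqQ := by
    -- conjBy P (τ e τ⁻¹) = conjBy (conjBy E τ) p
    have h1 : Cfsg.conjBy P ((p⁻¹ * q) * e * (p⁻¹ * q)⁻¹) =
        Cfsg.conjBy (Cfsg.conjBy (Cfsg.conjBy P (p⁻¹ * q)⁻¹) e) (p⁻¹ * q) := by
      rw [conjBy_conjBy, conjBy_conjBy, mul_assoc]
    have h2 : Cfsg.conjBy (Cfsg.conjBy E p) (p⁻¹ * q) = Cfsg.conjBy E q := by
      rw [conjBy_conjBy, c.tau_mul m.hp m.hq]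
    rw [h1, c.conjBy_P_tau_inv m.hp m.hq, ← m.eqP, h2, conjBy_conjBy]
    congr 1
    rw [← mul_assoc, mul_inv_cancel, one_mul]

/-- `σ = e⁻¹ (τ e τ⁻¹)` maps `P` to `Q`. -/
theorem SymCtx.conjBy_sigma (c : SymCtx S R P Q E) (m : Matched P Q E e p q) :
    Cfsg.conjBy P (e⁻¹ * ((p⁻¹ * q) * e * (p⁻¹ * q)⁻¹)) = Q := by
  have h1 : Cfsg.conjBy P (e⁻¹ * ((p⁻¹ * q) * e * (p⁻¹ * q)⁻¹)) =
      Cfsg.conjBy (Cfsg.conjBy (Cfsg.conjBy (Cfsg.conjBy P (p⁻¹ * q)⁻¹) e) (p⁻¹ * q)) e⁻¹ := by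
    rw [conjBy_conjBy, conjBy_conjBy, conjBy_conjBy]
    congr 1; group
  have h2 : Cfsg.conjBy (Cfsg.conjBy E p) (p⁻¹ * q) = Cfsg.conjBy E q := by
    rw [conjBy_conjBy, c.tau_mul m.hp m.hq]
  rw [h1, c.conjBy_P_tau_inv m.hp m.hq, ← m.eqP, h2, m.eqQ, conjBy_conjBy]
  simp

/-- `σ` centralizes `E`. -/
theorem SymCtx.sigma_comm (c : SymCtx S R P Q E) (m : Matched P Q E e p q) :
    ∀ x ∈ E, (e⁻¹ * ((p⁻¹ * q) * e * (p⁻¹ * q)⁻¹)) * x = x * (e⁻¹ * ((p⁻¹ * q) * e * (p⁻¹ * q)⁻¹)) := by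
  intro x hx
  have c' := c.next m
  have h1 : x * ((p⁻¹ * q) * e * (p⁻¹ * q)⁻¹) = ((p⁻¹ * q) * e * (p⁻¹ * q)⁻¹) * x :=
    c'.comm_pq hx (conj_mem_conjBy m.he)
  have h2 : e⁻¹ * x = x * e⁻¹ :=
    mul_comm_of_mem_commutative (c.root.commutative E c.hE) (E.inv_mem m.he) hx
  rw [mul_assoc, ← h1, ← mul_assoc, h2, mul_assoc]

/-- `σ p σ⁻¹ = q`. -/
theorem SymCtx.sigma_conj (c : SymCtx S R P Q E) (m : Matched P Q E e p q) :
    (e⁻¹ * ((p⁻¹ * q) * e * (p⁻¹ * q)⁻¹)) * p * (e⁻¹ * ((p⁻¹ * q) * e * (p⁻¹ * q)⁻¹))⁻¹ = q := by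
  set σ := e⁻¹ * ((p⁻¹ * q) * e * (p⁻¹ * q)⁻¹) with hσ
  have c' := c.next m
  have m' := c.matched_next m
  have h1 := c'.conjBy_sigma m'
  -- h1 : conjBy E (p⁻¹ * (σ * p * σ⁻¹)) = conjBy E (p⁻¹ * q)
  rw [← hσ] at h1
  have hmem : σ * p * σ⁻¹ ∈ Q := by
    have := conj_mem_conjBy (g := σ) m.hp
    rwa [c.conjBy_sigma m] at this
  have h2 : Cfsg.conjBy E (σ * p * σ⁻¹) = Cfsg.conjBy E q := by
    have h3 : Cfsg.conjBy (Cfsg.conjBy E (p⁻¹ * (σ * p * σ⁻¹))) p =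
        Cfsg.conjBy (Cfsg.conjBy E (p⁻¹ * q)) p := by rw [h1]
    rw [conjBy_conjBy, conjBy_conjBy] at h3
    simpa [← mul_assoc] using h3
  exact rankOnePair_conjBy_right_injective c.qe hmem m.hq h2

/-- The symmetry principle. -/
theorem SymCtx.symm (c : SymCtx S R P Q E) : R Q P := by
  obtain ⟨e, he, he1⟩ := rankOnePair_exists_right c.pe
  obtain ⟨p, q, m⟩ := c.exists_matched he he1
  have hp1 : p ≠ 1 := by
    intro hp1
    have h1 := m.eqP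
    rw [hp1, conjBy_one] at h1
    have h2 : Cfsg.conjBy E e⁻¹ = P := by
      conv_lhs => rw [h1]
      rw [conjBy_conjBy]; simp
    rw [conjBy_eq_self_of_mem (E.inv_mem he)] at h2
    exact c.pe.ne h2.symm
  have hp1' : p⁻¹ ≠ 1 := fun hh => hp1 (inv_eq_one.mp hh)
  obtain ⟨e₃, he₃, he₃1, hEq₃⟩ :=
    rankOnePair_exists_conjBy_eq (Cfsg.RankOnePair_symm c.pe) (P.inv_mem m.hp) hp1'
  obtain ⟨q₃, hq₃, -, hEqQ₃⟩ := rankOnePair_exists_conjBy_eq c.qe he₃ he₃1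
  have m₃ : Matched P Q E e₃ p⁻¹ q₃ := ⟨he₃, P.inv_mem m.hp, hq₃, hEq₃.symm, hEqQ₃⟩
  obtain ⟨σ, hσ⟩ : ∃ σ, σ = e⁻¹ * ((p⁻¹ * q) * e * (p⁻¹ * q)⁻¹) := ⟨_, rfl⟩
  obtain ⟨σ₃, hσ₃⟩ : ∃ σ₃, σ₃ = e₃⁻¹ * (((p⁻¹)⁻¹ * q₃) * e₃ * ((p⁻¹)⁻¹ * q₃)⁻¹) := ⟨_, rfl⟩
  have hσP : Cfsg.conjBy P σ = Q := by rw [hσ]; exact c.conjBy_sigma m
  have hσ₃P : Cfsg.conjBy P σ₃ = Q := by rw [hσ₃]; exact c.conjBy_sigma m₃
  have hσE : ∀ x ∈ E, σ * x = x * σ := by rw [hσ]; exact c.sigma_comm m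
  have hσ₃E : ∀ x ∈ E, σ₃ * x = x * σ₃ := by rw [hσ₃]; exact c.sigma_comm m₃
  have hσp : σ * p * σ⁻¹ = q := by rw [hσ]; exact c.sigma_conj m
  have hσ₃p : σ₃ * p⁻¹ * σ₃⁻¹ = q₃ := by rw [hσ₃]; exact c.sigma_conj m₃
  -- `σ⁻¹ σ₃` centralizes `P`
  have hx : ∀ y ∈ P, (σ⁻¹ * σ₃) * y = y * (σ⁻¹ * σ₃) := by
    apply rankOnePair_centralizes_of_normalizes c.pe
    · rw [← conjBy_conjBy, hσ₃P, ← hσP, conjBy_conjBy]; simp
    · intro x hx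
      have h1 : σ⁻¹ * x = x * σ⁻¹ := by
        have := hσE x hx
        calc σ⁻¹ * x = σ⁻¹ * (x * σ) * σ⁻¹ := by group
          _ = σ⁻¹ * (σ * x) * σ⁻¹ := by rw [this]
          _ = x * σ⁻¹ := by group
      rw [mul_assoc, hσ₃E x hx, ← mul_assoc, h1, mul_assoc]
  have hq₃eq : q₃ = q⁻¹ := by
    have h3 := hx p⁻¹ (P.inv_mem m.hp)
    have h4 : σ₃ * p⁻¹ = σ * p⁻¹ * σ⁻¹ * σ₃ := by
      calc σ₃ * p⁻¹ = σ * ((σ⁻¹ * σ₃) * p⁻¹) := by group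
        _ = σ * (p⁻¹ * (σ⁻¹ * σ₃)) := by rw [h3]
        _ = σ * p⁻¹ * σ⁻¹ * σ₃ := by group
    rw [← hσ₃p, h4, ← hσp]; group
  have hτ₃ : (p⁻¹)⁻¹ * q₃ = (p⁻¹ * q)⁻¹ := by
    rw [hq₃eq, inv_inv, mul_inv_rev, inv_inv]
    exact c.comm_pq m.hp (Q.inv_mem m.hq)
  have hr := (c.next m₃).rel
  rw [hτ₃] at hr
  have hr2 : R (Cfsg.conjBy E (p⁻¹ * q)) E := by
    have := c.conj _ _ (p⁻¹ * q) hr
    rw [conjBy_conjBy] at this
    simpa using this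
  have c' := c.next m
  have m' := c.matched_next m
  have c'' : SymCtx S R (Cfsg.conjBy E (p⁻¹ * q)) E P :=
    { root := c.root, conj := c.conj, comm := c.comm, hP := c'.hQ, hQ := c'.hP, hE := c'.hE,
      rel := hr2, ne := c'.ne.symm, pe := c'.qe, qe := c'.pe }
  have m'' : Matched (Cfsg.conjBy E (p⁻¹ * q)) E P p ((p⁻¹ * q) * e * (p⁻¹ * q)⁻¹) e :=
    ⟨m'.he, m'.hq, m'.hp, m'.eqQ, m'.eqP⟩
  have hr3 := (c''.next m'').rel
  have hσinv : ((p⁻¹ * q) * e * (p⁻¹ * q)⁻¹)⁻¹ * e = σ⁻¹ := by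
    rw [hσ]; group
  rw [hσinv] at hr3
  have hr4 := c.conj _ _ σ hr3
  rw [hσP, conjBy_conjBy] at hr4
  simpa using hr4

end Sym

end Cfsg.Agent.Lib.Helper8
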