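import Mathlib
import Cfsg.Prelude.Def_RootSubgroups
import Cfsg.Agent.Lib.Helper8.RX1

/-!
# Comparable centralizing sets / rank one partner sets in a class of abstract root subgroups
-/

set_option autoImplicit false

namespace Cfsg.Agent.Lib.Helper8

variable {G : Type*} [Group G]

open scoped commutatorElement

section Conj

variable {S : Set (Subgroup G)}

theorem le_centralizer_iff_comm {X P : Subgroup G} :
    X ≤ Subgroup.centralizer (P : Set G) ↔ ∀ x ∈ X, ∀ p ∈ P, p * x = x * p := by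
  constructor
  · intro h x hx p hp
    have := h hx
    rw [Subgroup.mem_centralizer_iff] at this
    exact this p hp
  · intro h x hx
    rw [Subgroup.mem_centralizer_iff]
    intro p hp
    exact h x hx p hp

theorem conjBy_le_centralizer_conjBy {X P : Subgroup G} (g : G)
    (h : X ≤ Subgroup.centralizer (P : Set G)) :
    Cfsg.conjBy X g ≤ Subgroup.centralizer ((Cfsg.conjBy P g : Subgroup G) : Set G) := by
  rw [le_centralizer_iff_comm] at h ⊢
  intro x hx p hp
  rw [mem_conjBy] at hx hp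
  have := h _ hx _ hp
  calc p * x = g * ((g⁻¹ * p * g) * (g⁻¹ * x * g)) * g⁻¹ := by group
    _ = g * ((g⁻¹ * x * g) * (g⁻¹ * p * g)) * g⁻¹ := by rw [this]
    _ = x * p := by group

theorem centralizingMembers_conjBy (hS : Cfsg.IsRootSubgroupSet S) {P X : Subgroup G} (g : G)
    (h : X ∈ Cfsg.centralizingMembers S (Cfsg.conjBy P g)) :
    Cfsg.conjBy X g⁻¹ ∈ Cfsg.centralizingMembers S P := by
  refine ⟨hS.conj_mem X h.1 _, ?_⟩
  have := conjBy_le_centralizer_conjBy g⁻¹ h.2
  rw [conjBy_conjBy] at this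
  simpa using this

theorem centralizingMembers_subset_conjBy (hS : Cfsg.IsRootSubgroupSet S) {P Q : Subgroup G}
    (g : G) (h : Cfsg.centralizingMembers S P ⊆ Cfsg.centralizingMembers S Q) :
    Cfsg.centralizingMembers S (Cfsg.conjBy P g) ⊆ Cfsg.centralizingMembers S (Cfsg.conjBy Q g) := by
  intro X hX
  have h1 := h (centralizingMembers_conjBy hS g hX)
  refine ⟨hX.1, ?_⟩
  have := conjBy_le_centralizer_conjBy g h1.2
  rw [conjBy_conjBy] at this
  simpa using this

theorem rankOnePartners_subset_conjBy (hS : Cfsg.IsRootSubgroupSet S) {P Q : Subgroup G}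
    (g : G) (h : Cfsg.rankOnePartners S P ⊆ Cfsg.rankOnePartners S Q) :
    Cfsg.rankOnePartners S (Cfsg.conjBy P g) ⊆ Cfsg.rankOnePartners S (Cfsg.conjBy Q g) := by
  intro X hX
  have h1 : Cfsg.conjBy X g⁻¹ ∈ Cfsg.rankOnePartners S P := by
    refine ⟨hS.conj_mem X hX.1 _, ?_⟩
    have := isRankOnePair_conjBy hX.2 g⁻¹
    rw [conjBy_conjBy] at this
    simpa using this
  have h2 := h h1
  refine ⟨hX.1, ?_⟩
  have := isRankOnePair_conjBy h2.2 g
  rw [conjBy_conjBy] at this
  simpa using this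

end Conj

section Central

variable {S : Set (Subgroup G)}

/-- If `C_Σ(P) ⊆ C_Σ(Q)` then every rank one partner of `Q` is a rank one partner of `P`. -/
theorem rankOnePartner_of_centralizing_subset (hS : Cfsg.IsRootSubgroupSet S) {P Q E : Subgroup G}
    (hP : P ∈ S) (hQ : Q ∈ S) (hE : E ∈ S)
    (h : Cfsg.centralizingMembers S P ⊆ Cfsg.centralizingMembers S Q)
    (hQE : Cfsg.IsRankOnePair Q E) : Cfsg.IsRankOnePair P E := by
  obtain ⟨q₀, hq₀, hq₀1⟩ := rankOnePair_exists_left hQE
  obtain ⟨e₀, he₀, he₀1⟩ := rankOnePair_exists_right hQE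
  rcases hS.pair P hP E hE with h1 | h2 | h3
  · exfalso
    have hE' : E ∈ Cfsg.centralizingMembers S P := by
      refine ⟨hE, ?_⟩
      rw [le_centralizer_iff_comm]
      intro x hx p hp
      exact comm_of_commutator_eq_bot h1 hp hx
    have := (h hE').2
    rw [le_centralizer_iff_comm] at this
    exact rankOnePair_not_commute hQE hq₀ hq₀1 he₀ he₀1 (this e₀ he₀ q₀ hq₀)
  · exact h2
  · exfalso
    -- `L = [P, E]` commutes with `P`, hence with `Q`
    have hL : ⁅P, E⁆ ∈ Cfsg.centralizingMembers S P := by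
      refine ⟨h3.1, ?_⟩
      rw [le_centralizer_iff_comm]
      intro x hx p hp
      exact (commCase_central_left h3 hx hp).symm
    have hLQ := (h hL).2
    rw [le_centralizer_iff_comm] at hLQ
    have hPP : P ∈ Cfsg.centralizingMembers S P := by
      refine ⟨hP, ?_⟩
      rw [le_centralizer_iff_comm]
      intro x hx p hp
      exact mul_comm_of_mem_commutative (hS.commutative P hP) hp hx
    have hPQ := (h hPP).2
    rw [le_centralizer_iff_comm] at hPQ
    -- `Q` commutes with `P ⊔ L`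
    have hQN : ∀ q ∈ Q, ∀ y ∈ P ⊔ ⁅P, E⁆, q * y = y * q := by
      intro q hq
      apply comm_sup_of_comm
      · intro p hp; exact hPQ p hp q hq
      · intro l hl; exact hLQ l hl q hq
    -- `Q' = conjBy Q e₀⁻¹` commutes with `P`
    have hQ' : Cfsg.conjBy Q e₀⁻¹ ∈ Cfsg.centralizingMembers S P := by
      refine ⟨hS.conj_mem Q hQ _, ?_⟩
      rw [le_centralizer_iff_comm]
      intro x hx p hp
      rw [mem_conjBy, inv_inv] at hx
      have hp' : e₀ * p * e₀⁻¹ ∈ P ⊔ ⁅P, E⁆ :=
        conjBy_le_sup_commutator he₀ (conj_mem_conjBy hp)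
      have := hQN _ hx _ hp'
      calc p * x = e₀⁻¹ * ((e₀ * p * e₀⁻¹) * (e₀ * x * e₀⁻¹)) * e₀ := by group
        _ = e₀⁻¹ * ((e₀ * x * e₀⁻¹) * (e₀ * p * e₀⁻¹)) * e₀ := by rw [this]
        _ = x * p := by group
    have hQ'Q := (h hQ').2
    rw [le_centralizer_iff_comm] at hQ'Q
    -- but `Q` and `Q'` form a rank one pair
    have hmem : Cfsg.conjBy Q e₀⁻¹ ∈ Cfsg.unipotentSubgroups Q E :=
      conjBy_mem_unipotentSubgroups (mem_unipotentSubgroups_self Q E)
        (Subgroup.mem_sup_right (E.inv_mem he₀))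
    have hne : Q ≠ Cfsg.conjBy Q e₀⁻¹ := by
      intro hEq
      have h5 : e₀⁻¹ ∈ E ⊓ Subgroup.normalizer (Q : Set G) :=
        Subgroup.mem_inf.mpr ⟨E.inv_mem he₀, conjBy_eq_self_iff.mp hEq.symm⟩
      rw [rankOnePair_inf_normalizer' hQE, Subgroup.mem_bot] at h5
      exact he₀1 (inv_eq_one.mp h5)
    obtain ⟨hpair, -, -⟩ := rankOnePair_of_mem_unipotentSubgroups hQE
      (mem_unipotentSubgroups_self Q E) hmem hne
    obtain ⟨q₁, hq₁, hq₁1⟩ := rankOnePair_exists_right hpair
    exact rankOnePair_not_commute hpair hq₀ hq₀1 hq₁ hq₁1 (hQ'Q q₁ hq₁ q₀ hq₀)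

end Central

section Omega

variable {S : Set (Subgroup G)}

/-- If `Ω_A ⊆ Ω_C` and `(A, C)` is in the commutator case, no rank one partner of `A` is a
rank one partner of `[A, C]`. -/
theorem not_rankOne_commutator_of_omega_subset (hS : Cfsg.IsRootSubgroupSet S)
    {A C B : Subgroup G} (hC : C ∈ S)
    (hsub : Cfsg.rankOnePartners S A ⊆ Cfsg.rankOnePartners S C)
    (h : Cfsg.RootCommutatorCase S A C) (hB : B ∈ Cfsg.rankOnePartners S A) :
    ¬ Cfsg.IsRankOnePair B ⁅A, C⁆ := by
  intro hBL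
  have hCB : Cfsg.IsRankOnePair C B := (hsub hB).2
  have h' := commCase_symm h
  have hF : ⁅C, A⁆ ∈ Cfsg.linePartners S C := commutator_mem_linePartners hS hC hB.1 hCB h'
  have hmem := membersIn_sup_commutator hS hC hB.1 hCB h'
  apply not_all_rankOne_on_line hS hC (Cfsg.RankOnePair_symm hCB) hF
  intro P hP
  rw [hmem] at hP
  rcases hP with ⟨a, ha, rfl⟩ | hP
  · have h1 : Cfsg.conjBy B a⁻¹ ∈ Cfsg.rankOnePartners S A := by
      refine ⟨hS.conj_mem B hB.1 _, ?_⟩
      have := isRankOnePair_conjBy hB.2 a⁻¹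
      rwa [conjBy_eq_self_of_mem (A.inv_mem ha)] at this
    have h2 := (hsub h1).2
    have h3 := isRankOnePair_conjBy h2 a
    rw [conjBy_conjBy] at h3
    simp only [mul_inv_cancel, conjBy_one] at h3
    exact Cfsg.RankOnePair_symm h3
  · rw [Set.mem_singleton_iff] at hP
    rw [hP, Subgroup.commutator_comm]
    exact hBL

/-- `Ω_A ⊆ Ω_C` excludes the commutator case for `(A, C)`. -/
theorem not_commCase_of_omega_subset (hS : Cfsg.IsRootSubgroupSet S)
    (hall : ∀ X ∈ S, ∃ D ∈ S, Cfsg.IsRankOnePair X D) {A C : Subgroup G}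
    (hA : A ∈ S) (hC : C ∈ S) (hsub : Cfsg.rankOnePartners S A ⊆ Cfsg.rankOnePartners S C)
    (h : Cfsg.RootCommutatorCase S A C) : False := by
  obtain ⟨D₀, hD₀, hAD₀⟩ := hall A hA
  have hL : ⁅A, C⁆ ∈ S := h.1
  obtain ⟨B, hB, hLB⟩ := hall _ hL
  have hLA : ⁅A, C⁆ ∈ Cfsg.linePartners S A := commutator_mem_linePartners hS hA hD₀ hAD₀ h
  have hAL : A ∈ Cfsg.linePartners S ⁅A, C⁆ := linePartners_symm hA hLA
  obtain ⟨T, -, -, hBT, hLJ, hT', hsup⟩ := exists_commutator_point hS hall hL hB hLB hAL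
  have hmem := membersIn_sup_commutator hS hL hB hLB hLJ
  rw [hT', hsup] at hmem
  have key : ∀ c ∈ C, Cfsg.conjBy A c ≠ T → False := by
    intro c hc hne
    have hAc : Cfsg.conjBy A c ∈ Cfsg.membersIn S (⁅A, C⁆ ⊔ A) := by
      refine ⟨hS.conj_mem A hA c, ?_⟩
      rw [sup_comm]
      exact conjBy_le_sup_commutator hc
    rw [hmem] at hAc
    rcases hAc with ⟨j, hj, hEq⟩ | hAc
    · have hBj : Cfsg.conjBy B j = B :=
        conjBy_eq_self_of_comm (fun b hb => commCase_central_left hBT hj hb)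
      have h1 := isRankOnePair_conjBy hLB j
      rw [hBj] at h1
      simp only at hEq
      rw [hEq] at h1
      have hsub' : Cfsg.rankOnePartners S (Cfsg.conjBy A c) ⊆ Cfsg.rankOnePartners S C := by
        have := rankOnePartners_subset_conjBy hS c hsub
        rwa [conjBy_eq_self_of_mem hc] at this
      have h' : Cfsg.RootCommutatorCase S (Cfsg.conjBy A c) C := by
        have := commCase_conjBy hS h c
        rwa [conjBy_eq_self_of_mem hc] at this
      have hcomm : ⁅Cfsg.conjBy A c, C⁆ = ⁅A, C⁆ := by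
        have := conjBy_commutator A C c
        rw [conjBy_eq_self_of_mem hc, commCase_conjBy_commutator h hc] at this
        exact this.symm
      have := not_rankOne_commutator_of_omega_subset hS hC hsub' h' ⟨hB, h1⟩
      rw [hcomm] at this
      exact this (Cfsg.RankOnePair_symm hLB)
    · exact hne (Set.mem_singleton_iff.mp hAc)
  by_cases hAT : A = T
  · obtain ⟨c₀, hc₀, hc₀1⟩ := RootPreConfig.exists_ne_one hS hC
    apply key c₀ hc₀
    rw [← hAT]
    exact commCase_conjBy_ne hS hA hD₀ hAD₀ h hc₀ hc₀1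
  · apply key 1 C.one_mem
    rw [conjBy_one]; exact hAT

end Omega

section Main

variable {S : Set (Subgroup G)}

theorem centralizing_subset_symm (hS : Cfsg.IsRootSubgroupSet S)
    (hall : ∀ X ∈ S, ∃ D ∈ S, Cfsg.IsRankOnePair X D) {P Q : Subgroup G}
    (hP : P ∈ S) (hQ : Q ∈ S) (hne : P ≠ Q)
    (h : Cfsg.centralizingMembers S P ⊆ Cfsg.centralizingMembers S Q) :
    Cfsg.centralizingMembers S Q ⊆ Cfsg.centralizingMembers S P := by
  obtain ⟨E, hE, hQE⟩ := hall Q hQ
  have hPE := rankOnePartner_of_centralizing_subset hS hP hQ hE h hQE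
  have c : SymCtx S
      (fun X Y => Cfsg.centralizingMembers S X ⊆ Cfsg.centralizingMembers S Y) P Q E :=
    { root := hS
      conj := fun X Y g hXY => centralizingMembers_subset_conjBy hS g hXY
      comm := by
        intro X hX Y _ hXY _ x hx y hy
        have hXX : X ∈ Cfsg.centralizingMembers S X := by
          refine ⟨hX, ?_⟩
          rw [le_centralizer_iff_comm]
          intro x hx p hp
          exact mul_comm_of_mem_commutative (hS.commutative X hX) hp hx
        have := (hXY hXX).2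
        rw [le_centralizer_iff_comm] at this
        exact (this x hx y hy).symm
      hP := hP, hQ := hQ, hE := hE, rel := h, ne := hne, pe := hPE, qe := hQE }
  exact c.symm

theorem omega_subset_symm (hS : Cfsg.IsRootSubgroupSet S)
    (hall : ∀ X ∈ S, ∃ D ∈ S, Cfsg.IsRankOnePair X D) {P Q : Subgroup G}
    (hP : P ∈ S) (hQ : Q ∈ S) (hne : P ≠ Q)
    (h : Cfsg.rankOnePartners S P ⊆ Cfsg.rankOnePartners S Q) :
    (∀ p ∈ P, ∀ q ∈ Q, p * q = q * p) ∧
      Cfsg.rankOnePartners S Q ⊆ Cfsg.rankOnePartners S P := by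
  have hcomm : ∀ X ∈ S, ∀ Y ∈ S, Cfsg.rankOnePartners S X ⊆ Cfsg.rankOnePartners S Y → X ≠ Y →
      ∀ x ∈ X, ∀ y ∈ Y, x * y = y * x := by
    intro X hX Y hY hXY _ x hx y hy
    rcases hS.pair X hX Y hY with h1 | h2 | h3
    · exact comm_of_commutator_eq_bot h1 hx hy
    · exact absurd rfl (hXY ⟨hY, h2⟩).2.ne
    · exact (not_commCase_of_omega_subset hS hall hX hY hXY h3).elim
  obtain ⟨E, hE, hPE⟩ := hall P hP
  have hQE : Cfsg.IsRankOnePair Q E := (h ⟨hE, hPE⟩).2
  have c : SymCtx S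
      (fun X Y => Cfsg.rankOnePartners S X ⊆ Cfsg.rankOnePartners S Y) P Q E :=
    { root := hS
      conj := fun X Y g hXY => rankOnePartners_subset_conjBy hS g hXY
      comm := hcomm
      hP := hP, hQ := hQ, hE := hE, rel := h, ne := hne, pe := hPE, qe := hQE }
  exact ⟨hcomm P hP Q hQ h hne, c.symm⟩

end Main

end Cfsg.Agent.Lib.Helper8
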