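import Mathlib
import Cfsg.Prelude.Def_RootSubgroups
import Cfsg.Agent.Lib.Helper8.RY2
import Cfsg.Agent.Lib.Helper8.RX2

/-!
# Normal subgroups of groups generated by a class of abstract root subgroups
-/

set_option autoImplicit false

namespace Cfsg.Agent.Lib.Helper8.RY

open Cfsg.Agent.Lib.Helper8

variable {G : Type*} [Group G]

open scoped commutatorElement

section General

/-- If `C` commutes with `A` and `m ∈ N ⊴ G` then `[A, m C m⁻¹] ≤ N`. -/
theorem commutator_conjBy_le {N : Subgroup G} (hN : N.Normal) {A C : Subgroup G}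
    (hAC : ∀ a ∈ A, ∀ c ∈ C, a * c = c * a) {m : G} (hm : m ∈ N) :
    ⁅A, Cfsg.conjBy C m⁆ ≤ N := by
  rw [Subgroup.commutator_le]
  intro a ha y hy
  rw [mem_conjBy] at hy
  obtain ⟨c, hc⟩ : ∃ c, c = m⁻¹ * y * m := ⟨_, rfl⟩
  rw [← hc] at hy
  have hcomm := hAC a ha c hy
  have hn₁ : y * c⁻¹ ∈ N := by
    have h1 : y * c⁻¹ = m * (c * m⁻¹ * c⁻¹) := by rw [hc]; group
    rw [h1]
    exact N.mul_mem hm (hN.conj_mem m⁻¹ (N.inv_mem hm) c)
  have h3 : c⁻¹ * a⁻¹ * c = a⁻¹ := by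
    have : a⁻¹ * c = c * a⁻¹ := by
      calc a⁻¹ * c = a⁻¹ * (c * a) * a⁻¹ := by group
        _ = a⁻¹ * (a * c) * a⁻¹ := by rw [hcomm]
        _ = c * a⁻¹ := by group
    rw [mul_assoc, this]; group
  have h4 : ⁅a, y⁆ = (a * (y * c⁻¹) * a⁻¹) * (y * c⁻¹)⁻¹ := by
    rw [commutatorElement_def]
    calc a * y * a⁻¹ * y⁻¹ = a * y * (c⁻¹ * a⁻¹ * c) * y⁻¹ := by rw [h3]
      _ = (a * (y * c⁻¹) * a⁻¹) * (y * c⁻¹)⁻¹ := by group
  rw [h4]
  exact N.mul_mem (hN.conj_mem _ hn₁ a) (N.inv_mem hn₁)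

/-- If `A`, `D` are abelian and `[A, D] ≤ N ⊴ G` then `⟨A, D⟩' ≤ N`. -/
theorem commutator_sup_le {N : Subgroup G} [hN : N.Normal] {A D : Subgroup G}
    (hA : ∀ a ∈ A, ∀ a' ∈ A, a * a' = a' * a) (hD : ∀ d ∈ D, ∀ d' ∈ D, d * d' = d' * d)
    (h : ⁅A, D⁆ ≤ N) : ⁅A ⊔ D, A ⊔ D⁆ ≤ N := by
  have hker : (QuotientGroup.mk' N).ker = N := QuotientGroup.ker_mk' N
  rw [← hker, ← Subgroup.map_eq_bot_iff, Subgroup.map_commutator, Subgroup.map_sup]
  have hAD : ∀ p ∈ A.map (QuotientGroup.mk' N), ∀ q ∈ D.map (QuotientGroup.mk' N),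
      p * q = q * p := by
    rintro _ ⟨a, ha, rfl⟩ _ ⟨d, hd, rfl⟩
    have h1 : ⁅a, d⁆ ∈ N := h (Subgroup.commutator_mem_commutator ha hd)
    have h2 : (QuotientGroup.mk' N) ⁅a, d⁆ = 1 := by
      rw [← MonoidHom.mem_ker, hker]; exact h1
    rw [commutatorElement_def, map_mul, map_mul, map_mul, map_inv, map_inv] at h2
    have h3 := mul_inv_eq_one.mp h2
    have h4 := mul_inv_eq_iff_eq_mul.mp h3
    exact h4
  apply commutator_sup_sup_eq_bot
  · rintro _ ⟨a, ha, rfl⟩ _ ⟨a', ha', rfl⟩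
    rw [← map_mul, ← map_mul, hA a ha a' ha']
  · exact hAD
  · intro q hq p hp
    exact (hAD p hp q hq).symm
  · rintro _ ⟨d, hd, rfl⟩ _ ⟨d', hd', rfl⟩
    rw [← map_mul, ← map_mul, hD d hd d' hd']

/-- Three subgroups lemma modulo a normal subgroup. -/
theorem commutator_commutator_le {N : Subgroup G} [hN : N.Normal] {A T D : Subgroup G}
    (hTD : ∀ t ∈ T, ∀ d ∈ D, t * d = d * t) (h : ⁅A, D⁆ ≤ N) : ⁅⁅A, T⁆, D⁆ ≤ N := by
  have hker : (QuotientGroup.mk' N).ker = N := QuotientGroup.ker_mk' N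
  rw [← hker, ← Subgroup.map_eq_bot_iff, Subgroup.map_commutator, Subgroup.map_commutator]
  apply Subgroup.commutator_commutator_eq_bot_of_rotate
  · have : ⁅T.map (QuotientGroup.mk' N), D.map (QuotientGroup.mk' N)⁆ = ⊥ := by
      rw [← Subgroup.map_commutator, commutator_eq_bot_of_comm hTD, Subgroup.map_bot]
    rw [this, Subgroup.commutator_bot_left]
  · have : ⁅D.map (QuotientGroup.mk' N), A.map (QuotientGroup.mk' N)⁆ = ⊥ := by
      rw [← Subgroup.map_commutator, Subgroup.map_eq_bot_iff, hker, Subgroup.commutator_comm]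
      exact h
    rw [this, Subgroup.commutator_bot_left]

end General

section Root

variable {S : Set (Subgroup G)}

/-- A normal subgroup containing a member of a class of root subgroups is everything. -/
theorem normal_eq_top_of_member_le (hS : Cfsg.IsRootSubgroupClass S) {N : Subgroup G}
    (hN : N.Normal) {A : Subgroup G} (hA : A ∈ S) (hAN : A ≤ N) : N = ⊤ := by
  rw [eq_top_iff, ← hS.1.generates]
  apply iSup₂_le
  intro C hC
  obtain ⟨g, rfl⟩ := hS.2.2 A hA C hC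
  intro x hx
  rw [mem_conjBy] at hx
  have h2 := hN.conj_mem _ (hAN hx) g
  have h3 : g * (g⁻¹ * x * g) * g⁻¹ = x := by group
  rwa [h3] at h2

/-- If `A ∩ N ≠ 1` for a normal subgroup `N` then `[A, D] ≤ N` for every rank one partner `D`. -/
theorem commutator_le_of_inf_ne_bot (hS : Cfsg.IsRootSubgroupSet S) {N : Subgroup G}
    (hN : N.Normal) {A D : Subgroup G} (hA : A ∈ S) (hAD : Cfsg.IsRankOnePair A D)
    (hne : A ⊓ N ≠ ⊥) : ⁅A, D⁆ ≤ N := by
  obtain ⟨⟨g, hg⟩, hg1⟩ := (Subgroup.ne_bot_iff_exists_ne_one).mp hne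
  have hg1' : g ≠ 1 := fun h0 => hg1 (Subtype.ext h0)
  obtain ⟨hgA, hgN⟩ := Subgroup.mem_inf.mp hg
  obtain ⟨d, hd, hd1⟩ := rankOnePair_exists_right hAD
  have hcommA : ∀ a ∈ A, ∀ a' ∈ A, a * a' = a' * a := fun a ha a' ha' =>
    mul_comm_of_mem_commutative (hS.commutative A hA) ha ha'
  -- `E = d A d⁻¹`
  have hE : Cfsg.conjBy A d ∈ Cfsg.unipotentSubgroups A D :=
    conjBy_mem_unipotentSubgroups (mem_unipotentSubgroups_self A D) (Subgroup.mem_sup_right hd)
  have hEA : Cfsg.conjBy A d ≠ A := by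
    intro hEq
    have h5 : d ∈ D ⊓ Subgroup.normalizer (A : Set G) :=
      Subgroup.mem_inf.mpr ⟨hd, conjBy_eq_self_iff.mp hEq⟩
    rw [rankOnePair_inf_normalizer' hAD, Subgroup.mem_bot] at h5
    exact hd1 h5
  obtain ⟨hpair, -, -⟩ := rankOnePair_of_mem_unipotentSubgroups hAD hE
    (mem_unipotentSubgroups_self A D) hEA
  -- `m = d g d⁻¹`
  have hmE : d * g * d⁻¹ ∈ Cfsg.conjBy A d := conj_mem_conjBy hgA
  have hmN : d * g * d⁻¹ ∈ N := hN.conj_mem g hgN d
  have hm1 : d * g * d⁻¹ ≠ 1 := by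
    intro h0
    apply hg1'
    have : g = d⁻¹ * (d * g * d⁻¹) * d := by group
    rw [this, h0]; group
  have hmA : Cfsg.conjBy A (d * g * d⁻¹) ≠ A := by
    intro hEq
    have h5 : d * g * d⁻¹ ∈ Cfsg.conjBy A d ⊓ Subgroup.normalizer (A : Set G) :=
      Subgroup.mem_inf.mpr ⟨hmE, conjBy_eq_self_iff.mp hEq⟩
    rw [rankOnePair_inf_normalizer hpair, Subgroup.mem_bot] at h5
    exact hm1 h5
  have hmem : d * g * d⁻¹ ∈ A ⊔ D :=
    Subgroup.mul_mem _ (Subgroup.mul_mem _ (Subgroup.mem_sup_right hd) (Subgroup.mem_sup_left hgA))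
      (Subgroup.inv_mem _ (Subgroup.mem_sup_right hd))
  have hAm : Cfsg.conjBy A (d * g * d⁻¹) ∈ Cfsg.unipotentSubgroups A D :=
    conjBy_mem_unipotentSubgroups (mem_unipotentSubgroups_self A D) hmem
  rw [unipotentSubgroups_eq_rankOneOrbit hAD] at hAm
  rcases hAm with hAm | ⟨a, ha, hAm⟩
  · exact absurd hAm hmA
  · -- `D = conjBy A (a⁻¹ m a)`
    obtain ⟨m', hm'⟩ : ∃ m', m' = a⁻¹ * (d * g * d⁻¹) * a := ⟨_, rfl⟩
    have hm'N : m' ∈ N := by
      rw [hm']
      have := hN.conj_mem _ hmN a⁻¹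
      rwa [inv_inv] at this
    have hD : D = Cfsg.conjBy A m' := by
      have h1 : D = Cfsg.conjBy (Cfsg.conjBy A (d * g * d⁻¹)) a⁻¹ := by
        rw [hAm, conjBy_conjBy]; simp
      rw [h1, conjBy_conjBy]
      have h2 : Cfsg.conjBy A m' = Cfsg.conjBy (Cfsg.conjBy A a⁻¹) m' := by
        rw [conjBy_eq_self_of_mem (A.inv_mem ha)]
      rw [h2, conjBy_conjBy]
      congr 1
      rw [hm']; group
    rw [hD]
    exact commutator_conjBy_le hN hcommA hm'N

/-- The main dichotomy for normal subgroups. -/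
theorem normal_eq_top (hS : Cfsg.IsRootSubgroupClass S)
    (hdist : ∀ A ∈ S, ∀ C ∈ S, A ≠ C →
      Cfsg.centralizingMembers S A ≠ Cfsg.centralizingMembers S C)
    (hall : ∀ X ∈ S, ∃ D ∈ S, Cfsg.IsRankOnePair X D)
    (hR : ∀ A ∈ S, ∀ D ∈ S, Cfsg.IsRankOnePair A D → ∀ N : Subgroup G, N.Normal →
      ⁅A, D⁆ ≤ N → N = ⊤)
    {N : Subgroup G} (hN : N.Normal) (hNZ : ¬ N ≤ Subgroup.center G) : N = ⊤ := by
  have hS1 := hS.1
  obtain ⟨n, hn, hnZ⟩ := SetLike.not_le_iff_exists.mp hNZ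
  -- some member of `S` is not centralized by `n`
  obtain ⟨A, hA, a, ha, hna⟩ : ∃ A ∈ S, ∃ a ∈ A, n * a ≠ a * n := by
    by_contra hcon
    push Not at hcon
    apply hnZ
    rw [Subgroup.mem_center_iff]
    intro g
    have hgtop : g ∈ (⨆ X ∈ S, X : Subgroup G) := by rw [hS1.generates]; trivial
    have hle : (⨆ X ∈ S, X : Subgroup G) ≤ Subgroup.centralizer ({n} : Set G) := by
      apply iSup₂_le
      intro X hX x hx
      rw [Subgroup.mem_centralizer_iff]
      intro y hy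
      rw [Set.mem_singleton_iff] at hy
      rw [hy]
      exact hcon X hX x hx
    have := hle hgtop
    rw [Subgroup.mem_centralizer_iff] at this
    exact (this n rfl).symm
  have hcommA : ∀ a ∈ A, ∀ a' ∈ A, a * a' = a' * a := fun a ha a' ha' =>
    mul_comm_of_mem_commutative (hS1.commutative A hA) ha ha'
  -- trichotomy for members with `[A, C] ≤ N`
  have tri : ∀ C ∈ S, ⁅A, C⁆ ≤ N → ⁅A, C⁆ ≠ ⊥ → N = ⊤ := by
    intro C hC hle hnb
    rcases hS1.pair A hA C hC with h1 | h2 | h3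
    · exact absurd h1 hnb
    · exact hR A hA C hC h2 N hN hle
    · exact normal_eq_top_of_member_le hS hN h3.1 hle
  have hA₁ : Cfsg.conjBy A n ∈ S := hS1.conj_mem A hA n
  have hle₁ : ⁅A, Cfsg.conjBy A n⁆ ≤ N := commutator_conjBy_le hN hcommA hn
  by_cases hbot : ⁅A, Cfsg.conjBy A n⁆ = ⊥
  · by_cases hEq : Cfsg.conjBy A n = A
    · -- `A ∩ N ≠ 1`
      have hg : n * a * n⁻¹ * a⁻¹ ∈ A ⊓ N := by
        refine Subgroup.mem_inf.mpr ⟨?_, ?_⟩
        · have : n * a * n⁻¹ ∈ Cfsg.conjBy A n := conj_mem_conjBy ha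
          rw [hEq] at this
          exact A.mul_mem this (A.inv_mem ha)
        · have h1 : n * a * n⁻¹ * a⁻¹ = n * (a * n⁻¹ * a⁻¹) := by group
          rw [h1]
          exact N.mul_mem hn (hN.conj_mem _ (N.inv_mem hn) a)
      have hne : A ⊓ N ≠ ⊥ := by
        intro h0
        rw [h0, Subgroup.mem_bot] at hg
        apply hna
        calc n * a = (n * a * n⁻¹ * a⁻¹) * a * n := by group
          _ = a * n := by rw [hg, one_mul]
      obtain ⟨D, hD, hAD⟩ := hall A hA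
      exact hR A hA D hD hAD N hN (commutator_le_of_inf_ne_bot hS1 hN hA hAD hne)
    · -- different commuting members
      have hdiff := hdist A hA _ hA₁ (Ne.symm hEq)
      have hex : ∃ D, ¬ (D ∈ Cfsg.centralizingMembers S A ↔
          D ∈ Cfsg.centralizingMembers S (Cfsg.conjBy A n)) := by
        by_contra hcon
        push Not at hcon
        exact hdiff (Set.ext hcon)
      obtain ⟨D, hDne⟩ := hex
      by_cases hDA : D ∈ Cfsg.centralizingMembers S A
      · have hDA₁ : D ∉ Cfsg.centralizingMembers S (Cfsg.conjBy A n) := fun h0 =>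
          hDne ⟨fun _ => h0, fun _ => hDA⟩
        -- `D₁ = n⁻¹ D n`
        have hAD : ∀ a ∈ A, ∀ c ∈ D, a * c = c * a := by
          have := hDA.2
          rw [le_centralizer_iff_comm] at this
          intro a ha c hc
          exact this c hc a ha
        have hle : ⁅A, Cfsg.conjBy D n⁻¹⁆ ≤ N := commutator_conjBy_le hN hAD (N.inv_mem hn)
        apply tri _ (hS1.conj_mem D hDA.1 _) hle
        intro h0
        apply hDA₁
        refine ⟨hDA.1, ?_⟩
        -- D₁ commutes with A, so D commutes with A₁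
        have h1 : Cfsg.conjBy D n⁻¹ ≤ Subgroup.centralizer (A : Set G) := by
          rw [le_centralizer_iff_comm]
          intro x hx p hp
          exact comm_of_commutator_eq_bot h0 hp hx
        have h2 := conjBy_le_centralizer_conjBy n h1
        rw [conjBy_conjBy] at h2
        simpa using h2
      · have hDA₁ : D ∈ Cfsg.centralizingMembers S (Cfsg.conjBy A n) := by
          by_contra h0
          exact hDne ⟨fun h => absurd h hDA, fun h => absurd h h0⟩
        -- `D₁ = n⁻¹ D n` commutes with `A`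
        have h1 := conjBy_le_centralizer_conjBy n⁻¹ hDA₁.2
        rw [conjBy_conjBy] at h1
        simp only [inv_mul_cancel, conjBy_one] at h1
        have hAD₁ : ∀ a ∈ A, ∀ c ∈ Cfsg.conjBy D n⁻¹, a * c = c * a := by
          rw [le_centralizer_iff_comm] at h1
          intro a ha c hc
          exact h1 c hc a ha
        have hle : ⁅A, Cfsg.conjBy (Cfsg.conjBy D n⁻¹) n⁆ ≤ N := commutator_conjBy_le hN hAD₁ hn
        rw [conjBy_conjBy] at hle
        simp only [mul_inv_cancel, conjBy_one] at hle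
        apply tri D hDA₁.1 hle
        intro h0
        apply hDA
        refine ⟨hDA₁.1, ?_⟩
        rw [le_centralizer_iff_comm]
        intro x hx p hp
        exact comm_of_commutator_eq_bot h0 hp hx
  · exact tri _ hA₁ hle₁ hbot

end Root

end Cfsg.Agent.Lib.Helper8.RY
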