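import Mathlib

set_option autoImplicit false

/-!
# Homomorphisms from `SL₂(ZMod 3)` determined by braid data

Given `a y : X` with `a ^ 3 = 1`, `y ^ 3 = 1`, `a * y * a = y * a * y` and `a ≠ y` we build
a homomorphism `SL₂(ZMod 3) →* X` mapping the two standard unipotent generators to `a`, `y`
and whose kernel is contained in `{1, -1}`.
-/

namespace Cfsg.Agent.Lib.Helper8.RZ

open Matrix

abbrev S3 := Matrix.SpecialLinearGroup (Fin 2) (ZMod 3)

def u3 : S3 := ⟨!![1, 1; 0, 1], by decide⟩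
def v3 : S3 := ⟨!![1, 0; -1, 1], by decide⟩

abbrev NF3 := Fin 3 × Option (Fin 3) × Fin 2

/-- The value of a normal form in a group with chosen `a`, `y`. -/
def val3 {M : Type*} [Group M] (a y : M) : NF3 → M
  | (i, none, k) => a ^ (i : ℕ) * ((a * y * a) ^ 2) ^ (k : ℕ)
  | (i, some j, k) => a ^ (i : ℕ) * (a * y * a) * a ^ (j : ℕ) * ((a * y * a) ^ 2) ^ (k : ℕ)

def stepA3 : NF3 → NF3
  | (i, none, k) => (i + 1, none, k)
  | (i, some j, k) => (i, some (j + 1), k)

def stepY3 : NF3 → NF3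
  | (i, none, k) => (i + 2, some 2, k)
  | (i, some j, k) =>
    if j = 0 then (i + 1, some 0, k) else if j = 1 then (i + 2, none, k + 1)
    else (i + 2, some 1, k + 1)

theorem val3_prod {M N : Type*} [Group M] [Group N] (p q : M × N) (n : NF3) :
    val3 p q n = (val3 p.1 q.1 n, val3 p.2 q.2 n) := by
  rcases n with ⟨i, _ | j, k⟩ <;> simp [val3, Prod.ext_iff]

set_option maxRecDepth 100000 in
theorem valS_stepA : ∀ n : NF3, val3 u3 v3 n * u3 = val3 u3 v3 (stepA3 n) := by decide

set_option maxRecDepth 100000 in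
theorem valS_stepY : ∀ n : NF3, val3 u3 v3 n * v3 = val3 u3 v3 (stepY3 n) := by decide

set_option maxRecDepth 100000 in
theorem valS_eq_one : ∀ n : NF3, val3 u3 v3 n = 1 → n = (0, none, 0) := by decide

set_option maxRecDepth 100000 in
theorem valS_surj : ∀ g : S3, ∃ n : NF3, val3 u3 v3 n = g := by decide

set_option maxRecDepth 100000 in
theorem valS_center : ∀ k : Fin 2, val3 u3 v3 (0, none, k) = 1 ∨ val3 u3 v3 (0, none, k) = -1 := by
  decide

set_option maxRecDepth 100000 in
theorem center_S3_iff : ∀ g : S3, (∀ h : S3, h * g = g * h) ↔ (g = 1 ∨ g = -1) := by decide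

theorem u3_pow : u3 ^ 3 = 1 := by decide
theorem v3_pow : v3 ^ 3 = 1 := by decide

/-- Braid data: consequences of `a^3 = y^3 = 1` and `a y a = y a y`, with `n = a y a`, `z = n²`. -/
structure BD3 {X : Type*} [Group X] (a y n z : X) : Prop where
  ha : a * a * a = 1
  hn : n = a * y * a
  hz : z = n * n
  na : n * a = y * n
  ny : n * y = a * n
  za : z * a = a * z
  zy : z * y = y * z
  zz : z * z = 1
  y_eq : y = a⁻¹ * n * a⁻¹
  r3a : n * a * n = z * a⁻¹ * n * a⁻¹
  r3b : n * a⁻¹ * n = a * n * a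

variable {X : Type*} [Group X] {a y : X}

theorem bd3_of (ha : a ^ 3 = 1) (hy : y ^ 3 = 1) (hbr : a * y * a = y * a * y) :
    BD3 a y (a * y * a) ((a * y * a) * (a * y * a)) := by
  have ha' : a * a * a = 1 := by rw [← ha, pow_succ, pow_succ, pow_one]
  have hy' : y * y * y = 1 := by rw [← hy, pow_succ, pow_succ, pow_one]
  have hai : a⁻¹ = a * a := by
    rw [inv_eq_iff_mul_eq_one]; rw [← ha']; group
  have hyi : y⁻¹ = y * y := by
    rw [inv_eq_iff_mul_eq_one]; rw [← hy']; group
  have na : (a * y * a) * a = y * (a * y * a) := by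
    calc a * y * a * a = (y * a * y) * a := by rw [hbr]
      _ = y * (a * y * a) := by group
  have ny : (a * y * a) * y = a * (a * y * a) := by
    calc a * y * a * y = a * (y * a * y) := by group
      _ = a * (a * y * a) := by rw [hbr]
  have za : (a * y * a) * (a * y * a) * a = a * ((a * y * a) * (a * y * a)) := by
    calc (a * y * a) * (a * y * a) * a = (a * y * a) * ((a * y * a) * a) := by group
      _ = (a * y * a) * (y * (a * y * a)) := by rw [na]
      _ = ((a * y * a) * y) * (a * y * a) := by group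
      _ = (a * (a * y * a)) * (a * y * a) := by rw [ny]
      _ = a * ((a * y * a) * (a * y * a)) := by group
  have zy : (a * y * a) * (a * y * a) * y = y * ((a * y * a) * (a * y * a)) := by
    calc (a * y * a) * (a * y * a) * y = (a * y * a) * ((a * y * a) * y) := by group
      _ = (a * y * a) * (a * (a * y * a)) := by rw [ny]
      _ = ((a * y * a) * a) * (a * y * a) := by group
      _ = (y * (a * y * a)) * (a * y * a) := by rw [na]
      _ = y * ((a * y * a) * (a * y * a)) := by group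
  -- g = y a⁻¹ has g² = z and (g⁻¹)² = z
  have g1 : (y * a⁻¹) * (y * a⁻¹) = (a * y * a) * (a * y * a) := by
    rw [hai]
    calc y * (a * a) * (y * (a * a)) = y * a * (a * y * a) * a := by group
      _ = y * a * (y * a * y) * a := by rw [hbr]
      _ = (y * a * y) * (a * y * a) := by group
      _ = (a * y * a) * (a * y * a) := by rw [← hbr]
  have g2 : (a * y⁻¹) * (a * y⁻¹) = (a * y * a) * (a * y * a) := by
    rw [hyi]
    calc a * (y * y) * (a * (y * y)) = a * y * (y * a * y) * y := by group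
      _ = a * y * (a * y * a) * y := by rw [← hbr]
      _ = (a * y * a) * (y * a * y) := by group
      _ = (a * y * a) * (a * y * a) := by rw [← hbr]
  have zz : (a * y * a) * (a * y * a) * ((a * y * a) * (a * y * a)) = 1 := by
    calc (a * y * a) * (a * y * a) * ((a * y * a) * (a * y * a))
        = ((y * a⁻¹) * (y * a⁻¹)) * ((a * y⁻¹) * (a * y⁻¹)) := by rw [g1, g2]
      _ = 1 := by group
  have y_eq : y = a⁻¹ * (a * y * a) * a⁻¹ := by group
  have r3a : (a * y * a) * a * (a * y * a)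
      = (a * y * a) * (a * y * a) * a⁻¹ * (a * y * a) * a⁻¹ := by
    calc (a * y * a) * a * (a * y * a) = (y * (a * y * a)) * (a * y * a) := by rw [na]
      _ = y * ((a * y * a) * (a * y * a)) := by group
      _ = (a * y * a) * (a * y * a) * y := by rw [zy]
      _ = (a * y * a) * (a * y * a) * a⁻¹ * (a * y * a) * a⁻¹ := by group
  have r3b : (a * y * a) * a⁻¹ * (a * y * a) = a * (a * y * a) * a := by
    have h1 : (a * y * a) * a⁻¹ = y⁻¹ * (a * y * a) := by
      have : a * y * a = y * (a * y * a) * a⁻¹ := by rw [← na]; group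
      calc (a * y * a) * a⁻¹ = y⁻¹ * (y * (a * y * a) * a⁻¹) := by group
        _ = y⁻¹ * (a * y * a) := by rw [← this]
    have h2 : y⁻¹ = a * (a * y * a) * a * ((a * y * a) * (a * y * a)) := by
      -- y⁻¹ = a n⁻¹ a, n⁻¹ = n z
      have hninv : (a * y * a)⁻¹ = (a * y * a) * ((a * y * a) * (a * y * a)) := by
        rw [inv_eq_iff_mul_eq_one]
        calc (a * y * a) * ((a * y * a) * ((a * y * a) * (a * y * a)))
            = (a * y * a) * (a * y * a) * ((a * y * a) * (a * y * a)) := by group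
          _ = 1 := zz
      calc y⁻¹ = a * (a * y * a)⁻¹ * a := by group
        _ = a * ((a * y * a) * ((a * y * a) * (a * y * a))) * a := by rw [hninv]
        _ = a * (a * y * a) * (((a * y * a) * (a * y * a)) * a) := by group
        _ = a * (a * y * a) * (a * ((a * y * a) * (a * y * a))) := by rw [za]
        _ = a * (a * y * a) * a * ((a * y * a) * (a * y * a)) := by group
    calc (a * y * a) * a⁻¹ * (a * y * a) = y⁻¹ * (a * y * a) * (a * y * a) := by rw [h1]
      _ = y⁻¹ * ((a * y * a) * (a * y * a)) := by group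
      _ = a * (a * y * a) * a * ((a * y * a) * (a * y * a)) * ((a * y * a) * (a * y * a)) := by
        rw [← h2]
      _ = a * (a * y * a) * a * (((a * y * a) * (a * y * a)) * ((a * y * a) * (a * y * a))) := by
        group
      _ = a * (a * y * a) * a := by rw [zz, mul_one]
  exact ⟨ha', rfl, rfl, na, ny, za, zy, zz, y_eq, r3a, r3b⟩

section Steps

variable {X : Type*} [Group X] {a y n z : X} (D : BD3 a y n z)
include D

theorem BD3.val_none (i : Fin 3) (k : Fin 2) :
    val3 a y (i, none, k) = a ^ (i : ℕ) * z ^ (k : ℕ) := by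
  simp only [val3]
  rw [pow_two, ← D.hn, ← D.hz]

theorem BD3.val_some (i j : Fin 3) (k : Fin 2) :
    val3 a y (i, some j, k) = a ^ (i : ℕ) * n * a ^ (j : ℕ) * z ^ (k : ℕ) := by
  simp only [val3]
  rw [pow_two, ← D.hn, ← D.hz]

theorem BD3.ainv : a⁻¹ = a * a := by
  rw [inv_eq_iff_mul_eq_one, ← D.ha]; group

theorem BD3.pa1 (i : Fin 3) : a ^ ((i + 1 : Fin 3) : ℕ) = a ^ (i : ℕ) * a := by
  fin_cases i
  · simp
  · simp [pow_succ]
  · simp [pow_succ, D.ha]

theorem BD3.pa2 (i : Fin 3) : a ^ ((i + 2 : Fin 3) : ℕ) = a ^ (i : ℕ) * a⁻¹ := by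
  rw [D.ainv]
  fin_cases i
  · simp [pow_succ]
  · simp [pow_succ]
    rw [← mul_assoc, D.ha]
  · simp [pow_succ]
    have : a * a * (a * a) = a * a * a * a := by group
    rw [this, D.ha, one_mul]

theorem BD3.pz1 (k : Fin 2) : z ^ ((k + 1 : Fin 2) : ℕ) = z ^ (k : ℕ) * z := by
  fin_cases k
  · simp
  · simp [D.zz]

theorem BD3.zk_a (k : ℕ) : z ^ k * a = a * z ^ k :=
  (Commute.pow_left (show Commute z a from D.za) k).eq

theorem BD3.zk_y (k : ℕ) : z ^ k * y = y * z ^ k :=
  (Commute.pow_left (show Commute z y from D.zy) k).eq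

theorem BD3.zn : z * n = n * z := by rw [D.hz]; group

theorem BD3.zk_n (k : ℕ) : z ^ k * n = n * z ^ k :=
  (Commute.pow_left (show Commute z n from D.zn) k).eq

theorem BD3.zk_ainv (k : ℕ) : z ^ k * a⁻¹ = a⁻¹ * z ^ k :=
  ((Commute.pow_left (show Commute z a from D.za) k).inv_right).eq

theorem BD3.stepA (t : NF3) : val3 a y t * a = val3 a y (stepA3 t) := by
  obtain ⟨i, _ | j, k⟩ := t
  · simp only [stepA3]
    rw [D.val_none, D.val_none, D.pa1]
    calc a ^ (i : ℕ) * z ^ (k : ℕ) * a = a ^ (i : ℕ) * (z ^ (k : ℕ) * a) := by group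
      _ = a ^ (i : ℕ) * (a * z ^ (k : ℕ)) := by rw [D.zk_a]
      _ = a ^ (i : ℕ) * a * z ^ (k : ℕ) := by group
  · simp only [stepA3]
    rw [D.val_some, D.val_some, D.pa1]
    calc a ^ (i : ℕ) * n * a ^ (j : ℕ) * z ^ (k : ℕ) * a
        = a ^ (i : ℕ) * n * a ^ (j : ℕ) * (z ^ (k : ℕ) * a) := by group
      _ = a ^ (i : ℕ) * n * a ^ (j : ℕ) * (a * z ^ (k : ℕ)) := by rw [D.zk_a]
      _ = a ^ (i : ℕ) * n * (a ^ (j : ℕ) * a) * z ^ (k : ℕ) := by group

theorem BD3.aiai : a⁻¹ * a⁻¹ = a := by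
  rw [D.ainv]
  calc a * a * (a * a) = a * a * a * a := by group
    _ = a := by rw [D.ha, one_mul]

theorem BD3.stepY_none (i : Fin 3) (k : Fin 2) :
    val3 a y (i, none, k) * y = val3 a y (stepY3 (i, none, k)) := by
  simp only [stepY3]
  rw [D.val_none, D.val_some, D.pa2]
  have h2 : a ^ ((2 : Fin 3) : ℕ) = a⁻¹ := by
    rw [D.ainv]; simp [pow_succ]
  rw [h2]
  calc a ^ (i : ℕ) * z ^ (k : ℕ) * y = a ^ (i : ℕ) * (z ^ (k : ℕ) * y) := by group
    _ = a ^ (i : ℕ) * (y * z ^ (k : ℕ)) := by rw [D.zk_y]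
    _ = a ^ (i : ℕ) * ((a⁻¹ * n * a⁻¹) * z ^ (k : ℕ)) := by rw [← D.y_eq]
    _ = a ^ (i : ℕ) * a⁻¹ * n * a⁻¹ * z ^ (k : ℕ) := by group

theorem BD3.hmove (i j : Fin 3) (k : Fin 2) :
    a ^ (i : ℕ) * n * a ^ (j : ℕ) * z ^ (k : ℕ) * y
      = a ^ (i : ℕ) * (n * a ^ (j : ℕ) * y) * z ^ (k : ℕ) := by
  calc a ^ (i : ℕ) * n * a ^ (j : ℕ) * z ^ (k : ℕ) * y
      = a ^ (i : ℕ) * n * a ^ (j : ℕ) * (z ^ (k : ℕ) * y) := by group
    _ = a ^ (i : ℕ) * n * a ^ (j : ℕ) * (y * z ^ (k : ℕ)) := by rw [D.zk_y]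
    _ = a ^ (i : ℕ) * (n * a ^ (j : ℕ) * y) * z ^ (k : ℕ) := by group

theorem BD3.stepY_zero (i : Fin 3) (k : Fin 2) :
    val3 a y (i, some 0, k) * y = val3 a y (stepY3 (i, some 0, k)) := by
  have hs : stepY3 (i, some 0, k) = (i + 1, some 0, k) := by simp [stepY3]
  rw [hs, D.val_some, D.hmove, D.val_some, D.pa1]
  simp only [Fin.val_zero, pow_zero, mul_one]
  rw [D.ny]; group

theorem BD3.stepY_one (i : Fin 3) (k : Fin 2) :
    val3 a y (i, some 1, k) * y = val3 a y (stepY3 (i, some 1, k)) := by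
  have hs : stepY3 (i, some 1, k) = (i + 2, none, k + 1) := by simp [stepY3]
  rw [hs, D.val_some, D.hmove, D.val_none, D.pa2, D.pz1]
  simp only [Fin.val_one, pow_one]
  have h1 : n * a * y = a⁻¹ * z := by
    calc n * a * y = n * a * (a⁻¹ * n * a⁻¹) := by rw [← D.y_eq]
      _ = n * n * a⁻¹ := by group
      _ = z * a⁻¹ := by rw [← D.hz]
      _ = a⁻¹ * z := by
        have := D.zk_ainv 1
        simpa using this
  rw [h1]; group

theorem BD3.stepY_two (i : Fin 3) (k : Fin 2) :
    val3 a y (i, some 2, k) * y = val3 a y (stepY3 (i, some 2, k)) := by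
  have hs : stepY3 (i, some 2, k) = (i + 2, some 1, k + 1) := by
    have h20 : ((2 : Fin 3) = 0) = False := by decide
    have h21 : ((2 : Fin 3) = 1) = False := by decide
    simp [stepY3, h20, h21]
  rw [hs, D.val_some, D.hmove, D.val_some, D.pa2, D.pz1]
  have h2 : a ^ ((2 : Fin 3) : ℕ) = a⁻¹ := by
    rw [D.ainv]; simp [pow_succ]
  rw [h2]
  simp only [Fin.val_one, pow_one]
  have h1 : n * a⁻¹ * y = a⁻¹ * n * a * z := by
    calc n * a⁻¹ * y = n * a⁻¹ * (a⁻¹ * n * a⁻¹) := by rw [← D.y_eq]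
      _ = n * (a⁻¹ * a⁻¹) * n * a⁻¹ := by group
      _ = n * a * n * a⁻¹ := by rw [D.aiai]
      _ = z * a⁻¹ * n * a⁻¹ * a⁻¹ := by rw [D.r3a]
      _ = z * (a⁻¹ * n * (a⁻¹ * a⁻¹)) := by group
      _ = z * (a⁻¹ * n * a) := by rw [D.aiai]
      _ = a⁻¹ * n * a * z := by
        have e1 := D.zk_ainv 1
        have e2 := D.zk_n 1
        have e3 := D.zk_a 1
        simp only [pow_one] at e1 e2 e3
        calc z * (a⁻¹ * n * a) = (z * a⁻¹) * n * a := by group
          _ = a⁻¹ * (z * n) * a := by rw [e1]; group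
          _ = a⁻¹ * n * (z * a) := by rw [e2]; group
          _ = a⁻¹ * n * a * z := by rw [e3]; group
  rw [h1]; group

theorem BD3.stepY (t : NF3) : val3 a y t * y = val3 a y (stepY3 t) := by
  obtain ⟨i, _ | j, k⟩ := t
  · exact D.stepY_none i k
  · have hj : j = 0 ∨ j = 1 ∨ j = 2 := by
      revert j; decide
    rcases hj with rfl | rfl | rfl
    · exact D.stepY_zero i k
    · exact D.stepY_one i k
    · exact D.stepY_two i k

end Steps


section Main

theorem mul3_of_pow3 {M : Type*} [Group M] {x : M} (h : x ^ 3 = 1) : x * (x * x) = 1 := by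
  rw [← h, pow_succ, pow_succ, pow_one, mul_assoc]

variable {X : Type*} [Group X] {a y : X}

theorem exists_hom3 (ha : a ^ 3 = 1) (hy : y ^ 3 = 1) (hbr : a * y * a = y * a * y)
    (hne : a ≠ y) :
    ∃ f : S3 →* X, f u3 = a ∧ f v3 = y ∧ f (-1) = (a * y * a) * (a * y * a) ∧
      ∀ g, f g = 1 → g = 1 ∨ g = -1 := by
  have D := bd3_of ha hy hbr
  obtain ⟨n, hn⟩ : ∃ n, n = a * y * a := ⟨_, rfl⟩
  obtain ⟨z, hz⟩ : ∃ z, z = n * n := ⟨_, rfl⟩
  rw [← hn, ← hz] at D
  set P : Subgroup (S3 × X) := Subgroup.closure {(u3, a), (v3, y)} with hP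
  have hu : (u3, a) ∈ P := Subgroup.subset_closure (by simp)
  have hv : (v3, y) ∈ P := Subgroup.subset_closure (by simp)
  have hmemP : ∀ t : NF3, (val3 u3 v3 t, val3 a y t) ∈ P := by
    intro t
    have h1 := val3_prod (u3, a) (v3, y) t
    simp only at h1
    rw [← h1]
    rcases t with ⟨i, _ | j, k⟩
    · simp only [val3]
      exact P.mul_mem (P.pow_mem hu _)
        (P.pow_mem (P.pow_mem (P.mul_mem (P.mul_mem hu hv) hu) _) _)
    · simp only [val3]
      exact P.mul_mem (P.mul_mem (P.mul_mem (P.pow_mem hu _) (P.mul_mem (P.mul_mem hu hv) hu))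
        (P.pow_mem hu _)) (P.pow_mem (P.pow_mem (P.mul_mem (P.mul_mem hu hv) hu) _) _)
  have hstepA : ∀ t : NF3, (val3 u3 v3 t, val3 a y t) * (u3, a)
      = (val3 u3 v3 (stepA3 t), val3 a y (stepA3 t)) := by
    intro t
    rw [Prod.mk_mul_mk, valS_stepA, D.stepA]
  have hstepY : ∀ t : NF3, (val3 u3 v3 t, val3 a y t) * (v3, y)
      = (val3 u3 v3 (stepY3 t), val3 a y (stepY3 t)) := by
    intro t
    rw [Prod.mk_mul_mk, valS_stepY, D.stepY]
  have hinvu : ((u3, a) : S3 × X)⁻¹ = (u3, a) * (u3, a) := by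
    rw [inv_eq_iff_mul_eq_one]
    rw [Prod.mk_mul_mk, Prod.mk_mul_mk]
    have h1 : u3 * (u3 * u3) = 1 := mul3_of_pow3 u3_pow
    have h2 : a * (a * a) = 1 := mul3_of_pow3 ha
    rw [h1, h2]; rfl
  have hinvv : ((v3, y) : S3 × X)⁻¹ = (v3, y) * (v3, y) := by
    rw [inv_eq_iff_mul_eq_one]
    rw [Prod.mk_mul_mk, Prod.mk_mul_mk]
    have h1 : v3 * (v3 * v3) = 1 := mul3_of_pow3 v3_pow
    have h2 : y * (y * y) = 1 := mul3_of_pow3 hy
    rw [h1, h2]; rfl
  have hΓ : ∀ p ∈ P, ∃ t : NF3, (val3 u3 v3 t, val3 a y t) = p := by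
    intro p hp
    induction hp using Subgroup.closure_induction_right with
    | one =>
      refine ⟨(0, none, 0), ?_⟩
      simp [val3]
    | mul_right x hx g hg ih =>
      obtain ⟨t, rfl⟩ := ih
      rcases hg with rfl | rfl
      · exact ⟨stepA3 t, (hstepA t).symm⟩
      · exact ⟨stepY3 t, (hstepY t).symm⟩
    | mul_inv_cancel x hx g hg ih =>
      obtain ⟨t, rfl⟩ := ih
      rcases hg with rfl | rfl
      · refine ⟨stepA3 (stepA3 t), ?_⟩
        rw [hinvu, ← mul_assoc, hstepA, hstepA]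
      · refine ⟨stepY3 (stepY3 t), ?_⟩
        rw [hinvv, ← mul_assoc, hstepY, hstepY]
  have hbij : Function.Bijective (Prod.fst ∘ P.subtype) := by
    constructor
    · intro p q hpq
      simp only [Function.comp_apply, Subgroup.subtype_apply] at hpq
      have hmem : (p : S3 × X)⁻¹ * (q : S3 × X) ∈ P := P.mul_mem (P.inv_mem p.2) q.2
      obtain ⟨t, ht⟩ := hΓ _ hmem
      have h1 : val3 u3 v3 t = 1 := by
        have := congrArg Prod.fst ht
        simp only [Prod.fst_mul, Prod.fst_inv] at this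
        rw [this, hpq]; group
      have ht0 := valS_eq_one t h1
      have h2 : val3 a y t = 1 := by
        rw [ht0]; simp [val3]
      have h3 : (p : S3 × X).2⁻¹ * (q : S3 × X).2 = 1 := by
        have := congrArg Prod.snd ht
        simp only [Prod.snd_mul, Prod.snd_inv] at this
        rw [← this, h2]
      have h4 : (p : S3 × X).2 = (q : S3 × X).2 := by
        have := inv_mul_eq_one.mp h3
        exact this
      exact Subtype.ext (Prod.ext hpq h4)
    · intro g
      obtain ⟨t, ht⟩ := valS_surj g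
      refine ⟨⟨(val3 u3 v3 t, val3 a y t), hmemP t⟩, ?_⟩
      simp only [Function.comp_apply, Subgroup.subtype_apply]
      exact ht
  obtain ⟨f, hf⟩ := Subgroup.exists_eq_graph hbij
  have hfu : f u3 = a := by
    have : (u3, a) ∈ f.graph := by rw [← hf]; exact hu
    exact MonoidHom.mem_graph.mp this
  have hfv : f v3 = y := by
    have : (v3, y) ∈ f.graph := by rw [← hf]; exact hv
    exact MonoidHom.mem_graph.mp this
  have hfval : ∀ t : NF3, f (val3 u3 v3 t) = val3 a y t := by
    intro t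
    have : (val3 u3 v3 t, val3 a y t) ∈ f.graph := by rw [← hf]; exact hmemP t
    exact MonoidHom.mem_graph.mp this
  have hcomm_contra : a * y = y * a → False := by
    intro hc
    apply hne
    have h1 : y * a * a = y * y * a := by
      calc y * a * a = a * y * a := by rw [hc]
        _ = y * a * y := hbr
        _ = y * (a * y) := by group
        _ = y * (y * a) := by rw [hc]
        _ = y * y * a := by group
    have h2 : y * a = y * y := mul_right_cancel h1
    have h3 : a = y := mul_left_cancel (by rw [h2])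
    exact h3
  refine ⟨f, hfu, hfv, ?_, ?_⟩
  · have h1 : val3 u3 v3 (0, none, 1) = -1 := by decide
    have h2 := hfval (0, none, 1)
    rw [h1] at h2
    rw [h2, D.val_none]
    simp only [Fin.val_zero, pow_zero, one_mul, Fin.val_one, pow_one]
    rw [hz, hn]
  · intro g hg
    have hmem : (g, (1 : X)) ∈ P := by
      rw [hf]; exact MonoidHom.mem_graph.mpr hg
    obtain ⟨t, ht⟩ := hΓ _ hmem
    have ht1 : val3 u3 v3 t = g := congrArg Prod.fst ht
    have ht2 : val3 a y t = 1 := congrArg Prod.snd ht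
    obtain ⟨i, _ | j, k⟩ := t
    · rw [D.val_none] at ht2
      have hi : i = 0 := by
        by_contra hi0
        -- a ^ i is central-ish: commutes with y
        have h1 : a ^ (i : ℕ) = (z ^ (k : ℕ))⁻¹ := eq_inv_of_mul_eq_one_left ht2
        have h2 : a ^ (i : ℕ) * y = y * a ^ (i : ℕ) := by
          rw [h1]
          have := D.zk_y (k : ℕ)
          calc (z ^ (k : ℕ))⁻¹ * y = (z ^ (k : ℕ))⁻¹ * (y * z ^ (k : ℕ)) * (z ^ (k : ℕ))⁻¹ := by
                group
            _ = (z ^ (k : ℕ))⁻¹ * (z ^ (k : ℕ) * y) * (z ^ (k : ℕ))⁻¹ := by rw [this]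
            _ = y * (z ^ (k : ℕ))⁻¹ := by group
        have hi12 : i = 1 ∨ i = 2 := by
          have key : ∀ i : Fin 3, i ≠ 0 → i = 1 ∨ i = 2 := by decide
          exact key i hi0
        rcases hi12 with rfl | rfl
        · simp only [Fin.val_one, pow_one] at h2
          exact hcomm_contra h2
        · have h3 : a ^ ((2 : Fin 3) : ℕ) = a⁻¹ := by
            rw [D.ainv]; simp [pow_succ]
          rw [h3] at h2
          apply hcomm_contra
          calc a * y = a * (y * a⁻¹) * a := by group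
            _ = a * (a⁻¹ * y) * a := by rw [h2]
            _ = y * a := by group
      subst hi
      rw [← ht1]
      exact valS_center k
    · exfalso
      rw [D.val_some] at ht2
      -- n = a^{-i} z^{-k} a^{-j} commutes with a
      have h1 : n = (a ^ (i : ℕ))⁻¹ * (z ^ (k : ℕ))⁻¹ * (a ^ (j : ℕ))⁻¹ := by
        have h0 : a ^ (i : ℕ) * n * a ^ (j : ℕ) * z ^ (k : ℕ) = 1 := ht2
        have hzk : z ^ (k : ℕ) * a ^ (j : ℕ) = a ^ (j : ℕ) * z ^ (k : ℕ) :=
          ((Commute.pow_left (show Commute z a from D.za) (k : ℕ)).pow_right (j : ℕ)).eq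
        calc n = (a ^ (i : ℕ))⁻¹ * (a ^ (i : ℕ) * n * a ^ (j : ℕ) * z ^ (k : ℕ))
              * (z ^ (k : ℕ))⁻¹ * (a ^ (j : ℕ))⁻¹ := by group
          _ = (a ^ (i : ℕ))⁻¹ * (z ^ (k : ℕ))⁻¹ * (a ^ (j : ℕ))⁻¹ := by rw [h0]; group
      have hca : Commute n a := by
        rw [h1]
        have c1 : Commute (a ^ (i : ℕ))⁻¹ a := (Commute.pow_left (Commute.refl a) _).inv_left
        have c2 : Commute (z ^ (k : ℕ))⁻¹ a :=
          (Commute.pow_left (show Commute z a from D.za) _).inv_left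
        have c3 : Commute (a ^ (j : ℕ))⁻¹ a := (Commute.pow_left (Commute.refl a) _).inv_left
        exact (c1.mul_left c2).mul_left c3
      apply hne
      have h2 : y * n = a * n := by rw [← D.na]; exact hca.eq
      exact (mul_right_cancel h2).symm

end Main

end Cfsg.Agent.Lib.Helper8.RZ
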