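import Mathlib

set_option autoImplicit false

/-!
# Homomorphisms from `SL₂(ZMod 2)` determined by braid data

Given involutions `a y : X` with `a * y * a = y * a * y` and `a ≠ y` we build an injective
homomorphism `SL₂(ZMod 2) →* X` mapping the two standard unipotent generators to `a`, `y`.
-/

namespace Cfsg.Agent.Lib.Helper8.RZ

open Matrix

abbrev S2 := Matrix.SpecialLinearGroup (Fin 2) (ZMod 2)

def u2 : S2 := ⟨!![1, 1; 0, 1], by decide⟩
def v2 : S2 := ⟨!![1, 0; 1, 1], by decide⟩

abbrev NF2 := Fin 2 × Option (Fin 2)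

def val2 {M : Type*} [Group M] (a y : M) : NF2 → M
  | (i, none) => a ^ (i : ℕ)
  | (i, some j) => a ^ (i : ℕ) * (a * y * a) * a ^ (j : ℕ)

def stepA2 : NF2 → NF2
  | (i, none) => (i + 1, none)
  | (i, some j) => (i, some (j + 1))

def stepY2 : NF2 → NF2
  | (i, none) => (i + 1, some 1)
  | (i, some j) => if j = 0 then (i + 1, some 0) else (i + 1, none)

theorem val2_prod {M N : Type*} [Group M] [Group N] (p q : M × N) (n : NF2) :
    val2 p q n = (val2 p.1 q.1 n, val2 p.2 q.2 n) := by
  rcases n with ⟨i, _ | j⟩ <;> simp [val2, Prod.ext_iff]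

set_option maxRecDepth 100000 in
theorem valS2_stepA : ∀ n : NF2, val2 u2 v2 n * u2 = val2 u2 v2 (stepA2 n) := by decide

set_option maxRecDepth 100000 in
theorem valS2_stepY : ∀ n : NF2, val2 u2 v2 n * v2 = val2 u2 v2 (stepY2 n) := by decide

set_option maxRecDepth 100000 in
theorem valS2_eq_one : ∀ n : NF2, val2 u2 v2 n = 1 → n = (0, none) := by decide

set_option maxRecDepth 100000 in
theorem valS2_surj : ∀ g : S2, ∃ n : NF2, val2 u2 v2 n = g := by decide

theorem u2_sq : u2 * u2 = 1 := by decide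
theorem v2_sq : v2 * v2 = 1 := by decide

section Steps

variable {X : Type*} [Group X] {a y : X}

theorem pa1_two (ha : a * a = 1) (i : Fin 2) : a ^ ((i + 1 : Fin 2) : ℕ) = a ^ (i : ℕ) * a := by
  have key : ∀ i : Fin 2, i = 0 ∨ i = 1 := by decide
  rcases key i with rfl | rfl
  · simp
  · simp [ha]

theorem nn_two (ha : a * a = 1) (hy : y * y = 1) : (a * y * a) * (a * y * a) = 1 := by
  calc (a * y * a) * (a * y * a) = a * y * (a * a) * y * a := by group
    _ = a * (y * y) * a := by rw [ha]; group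
    _ = 1 := by rw [hy, mul_one, ha]

theorem ainv_two (ha : a * a = 1) : a⁻¹ = a := inv_eq_of_mul_eq_one_left ha

theorem y_eq_two (ha : a * a = 1) : y = a * (a * y * a) * a := by
  calc y = (a * a) * y * (a * a) := by rw [ha]; group
    _ = a * (a * y * a) * a := by group

theorem stepA2_val (ha : a * a = 1) (t : NF2) : val2 a y t * a = val2 a y (stepA2 t) := by
  obtain ⟨i, _ | j⟩ := t
  · simp only [stepA2, val2]
    rw [pa1_two ha]
  · simp only [stepA2, val2]
    rw [pa1_two ha]; group

theorem stepY2_val (ha : a * a = 1) (hy : y * y = 1) (hbr : a * y * a = y * a * y) (t : NF2) :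
    val2 a y t * y = val2 a y (stepY2 t) := by
  have ny : (a * y * a) * y = a * (a * y * a) := by
    calc a * y * a * y = a * (y * a * y) := by group
      _ = a * (a * y * a) := by rw [hbr]
  obtain ⟨i, _ | j⟩ := t
  · simp only [stepY2, val2]
    rw [pa1_two ha]
    simp only [Fin.val_one, pow_one]
    calc a ^ (i : ℕ) * y = a ^ (i : ℕ) * (a * (a * y * a) * a) := by rw [← y_eq_two ha]
      _ = a ^ (i : ℕ) * a * (a * y * a) * a := by group
  · have key : ∀ j : Fin 2, j = 0 ∨ j = 1 := by decide
    rcases key j with rfl | rfl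
    · have hs : stepY2 (i, some 0) = (i + 1, some 0) := by simp [stepY2]
      rw [hs]
      simp only [val2, Fin.val_zero, pow_zero, mul_one]
      rw [pa1_two ha]
      calc a ^ (i : ℕ) * (a * y * a) * y = a ^ (i : ℕ) * ((a * y * a) * y) := by group
        _ = a ^ (i : ℕ) * (a * (a * y * a)) := by rw [ny]
        _ = a ^ (i : ℕ) * a * (a * y * a) := by group
    · have hs : stepY2 (i, some 1) = (i + 1, none) := by simp [stepY2]
      rw [hs]
      simp only [val2, Fin.val_one, pow_one]
      rw [pa1_two ha]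
      calc a ^ (i : ℕ) * (a * y * a) * a * y
          = a ^ (i : ℕ) * (a * y * a) * a * (a * (a * y * a) * a) := by rw [← y_eq_two ha]
        _ = a ^ (i : ℕ) * (a * y * a) * (a * a) * (a * y * a) * a := by group
        _ = a ^ (i : ℕ) * ((a * y * a) * (a * y * a)) * a := by rw [ha]; group
        _ = a ^ (i : ℕ) * a := by rw [nn_two ha hy, mul_one]

end Steps

section Main

variable {X : Type*} [Group X] {a y : X}

theorem exists_hom2 (ha : a ^ 2 = 1) (hy : y ^ 2 = 1) (hbr : a * y * a = y * a * y)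
    (hne : a ≠ y) :
    ∃ f : S2 →* X, f u2 = a ∧ f v2 = y ∧ Function.Injective f := by
  have ha' : a * a = 1 := by rw [← ha, pow_two]
  have hy' : y * y = 1 := by rw [← hy, pow_two]
  set P : Subgroup (S2 × X) := Subgroup.closure {(u2, a), (v2, y)} with hP
  have hu : (u2, a) ∈ P := Subgroup.subset_closure (by simp)
  have hv : (v2, y) ∈ P := Subgroup.subset_closure (by simp)
  have hmemP : ∀ t : NF2, (val2 u2 v2 t, val2 a y t) ∈ P := by
    intro t
    have h1 := val2_prod (u2, a) (v2, y) t
    simp only at h1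
    rw [← h1]
    rcases t with ⟨i, _ | j⟩
    · simp only [val2]
      exact P.pow_mem hu _
    · simp only [val2]
      exact P.mul_mem (P.mul_mem (P.pow_mem hu _) (P.mul_mem (P.mul_mem hu hv) hu))
        (P.pow_mem hu _)
  have hstepA : ∀ t : NF2, (val2 u2 v2 t, val2 a y t) * (u2, a)
      = (val2 u2 v2 (stepA2 t), val2 a y (stepA2 t)) := by
    intro t
    rw [Prod.mk_mul_mk, valS2_stepA, stepA2_val ha']
  have hstepY : ∀ t : NF2, (val2 u2 v2 t, val2 a y t) * (v2, y)
      = (val2 u2 v2 (stepY2 t), val2 a y (stepY2 t)) := by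
    intro t
    rw [Prod.mk_mul_mk, valS2_stepY, stepY2_val ha' hy' hbr]
  have hinvu : ((u2, a) : S2 × X)⁻¹ = (u2, a) := by
    rw [inv_eq_iff_mul_eq_one, Prod.mk_mul_mk, u2_sq, ha']; rfl
  have hinvv : ((v2, y) : S2 × X)⁻¹ = (v2, y) := by
    rw [inv_eq_iff_mul_eq_one, Prod.mk_mul_mk, v2_sq, hy']; rfl
  have hΓ : ∀ p ∈ P, ∃ t : NF2, (val2 u2 v2 t, val2 a y t) = p := by
    intro p hp
    induction hp using Subgroup.closure_induction_right with
    | one =>
      refine ⟨(0, none), ?_⟩
      simp [val2]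
    | mul_right x hx g hg ih =>
      obtain ⟨t, rfl⟩ := ih
      rcases hg with rfl | rfl
      · exact ⟨stepA2 t, (hstepA t).symm⟩
      · exact ⟨stepY2 t, (hstepY t).symm⟩
    | mul_inv_cancel x hx g hg ih =>
      obtain ⟨t, rfl⟩ := ih
      rcases hg with rfl | rfl
      · refine ⟨stepA2 t, ?_⟩
        rw [hinvu, hstepA]
      · refine ⟨stepY2 t, ?_⟩
        rw [hinvv, hstepY]
  have hbij : Function.Bijective (Prod.fst ∘ P.subtype) := by
    constructor
    · intro p q hpq
      simp only [Function.comp_apply, Subgroup.subtype_apply] at hpq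
      have hmem : (p : S2 × X)⁻¹ * (q : S2 × X) ∈ P := P.mul_mem (P.inv_mem p.2) q.2
      obtain ⟨t, ht⟩ := hΓ _ hmem
      have h1 : val2 u2 v2 t = 1 := by
        have := congrArg Prod.fst ht
        simp only [Prod.fst_mul, Prod.fst_inv] at this
        rw [this, hpq]; group
      have ht0 := valS2_eq_one t h1
      have h2 : val2 a y t = 1 := by
        rw [ht0]; simp [val2]
      have h3 : (p : S2 × X).2⁻¹ * (q : S2 × X).2 = 1 := by
        have := congrArg Prod.snd ht
        simp only [Prod.snd_mul, Prod.snd_inv] at this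
        rw [← this, h2]
      have h4 : (p : S2 × X).2 = (q : S2 × X).2 := inv_mul_eq_one.mp h3
      exact Subtype.ext (Prod.ext hpq h4)
    · intro g
      obtain ⟨t, ht⟩ := valS2_surj g
      refine ⟨⟨(val2 u2 v2 t, val2 a y t), hmemP t⟩, ?_⟩
      simp only [Function.comp_apply, Subgroup.subtype_apply]
      exact ht
  obtain ⟨f, hf⟩ := Subgroup.exists_eq_graph hbij
  have hfu : f u2 = a := by
    have : (u2, a) ∈ f.graph := by rw [← hf]; exact hu
    exact MonoidHom.mem_graph.mp this
  have hfv : f v2 = y := by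
    have : (v2, y) ∈ f.graph := by rw [← hf]; exact hv
    exact MonoidHom.mem_graph.mp this
  have ha1 : a ≠ 1 := by
    intro h1
    apply hne
    rw [h1] at hbr
    simp only [one_mul, mul_one] at hbr
    rw [hy'] at hbr
    rw [h1, hbr]
  refine ⟨f, hfu, hfv, ?_⟩
  rw [injective_iff_map_eq_one]
  intro g hg
  have hmem : (g, (1 : X)) ∈ P := by
    rw [hf]; exact MonoidHom.mem_graph.mpr hg
  obtain ⟨t, ht⟩ := hΓ _ hmem
  have ht1 : val2 u2 v2 t = g := congrArg Prod.fst ht
  have ht2 : val2 a y t = 1 := congrArg Prod.snd ht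
  obtain ⟨i, _ | j⟩ := t
  · simp only [val2] at ht2
    have key : ∀ i : Fin 2, i = 0 ∨ i = 1 := by decide
    rcases key i with rfl | rfl
    · rw [← ht1]; simp [val2]
    · exfalso
      simp only [Fin.val_one, pow_one] at ht2
      exact ha1 ht2
  · exfalso
    simp only [val2] at ht2
    have h1 : a * y * a = (a ^ (i : ℕ))⁻¹ * (a ^ (j : ℕ))⁻¹ := by
      calc a * y * a = (a ^ (i : ℕ))⁻¹ * (a ^ (i : ℕ) * (a * y * a) * a ^ (j : ℕ))
            * (a ^ (j : ℕ))⁻¹ := by group
        _ = (a ^ (i : ℕ))⁻¹ * (a ^ (j : ℕ))⁻¹ := by rw [ht2]; group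
    have hca : Commute (a * y * a) a := by
      rw [h1]
      have c1 : Commute (a ^ (i : ℕ))⁻¹ a := (Commute.pow_left (Commute.refl a) _).inv_left
      have c3 : Commute (a ^ (j : ℕ))⁻¹ a := (Commute.pow_left (Commute.refl a) _).inv_left
      exact c1.mul_left c3
    apply hne
    have na : (a * y * a) * a = y * (a * y * a) := by
      calc a * y * a * a = (y * a * y) * a := by rw [hbr]
        _ = y * (a * y * a) := by group
    have h2 : y * (a * y * a) = a * (a * y * a) := by rw [← na]; exact hca.eq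
    exact (mul_right_cancel h2).symm

end Main

end Cfsg.Agent.Lib.Helper8.RZ
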