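import Mathlib
import Cfsg.Prelude.Def_RootSubgroups
import Cfsg.Agent.Lib.Helper8.RootSet
import Cfsg.Agent.Lib.Helper8.RY2

set_option autoImplicit false

/-!
# Special rank one groups with small unipotent subgroups: braid data; and `[A, H] = A`
-/

namespace Cfsg.Agent.Lib.Helper8.RZ

open Cfsg Cfsg.Agent.Lib.Helper8
open scoped commutatorElement

variable {X : Type*} [Group X] {A B : Subgroup X}

theorem card_conjBy (A : Subgroup X) (g : X) : Nat.card ↥(Cfsg.conjBy A g) = Nat.card ↥A := by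
  have hinj : Function.Injective ((MulAut.conj g).toMonoidHom : X →* X) := (MulAut.conj g).injective
  exact (Nat.card_congr (A.equivMapOfInjective _ hinj).toEquiv).symm

theorem le_of_prime_card {p : ℕ} [Fact p.Prime] (hcard : Nat.card ↥A = p) {a : X}
    (ha : a ∈ A) (ha1 : a ≠ 1) {K : Subgroup X} (haK : a ∈ K) : A ≤ K := by
  intro x hx
  have h1 : Subgroup.zpowers (⟨a, ha⟩ : ↥A) = ⊤ :=
    zpowers_eq_top_of_prime_card hcard (fun h0 => ha1 (congrArg Subtype.val h0))
  have h2 : (⟨x, hx⟩ : ↥A) ∈ Subgroup.zpowers (⟨a, ha⟩ : ↥A) := by rw [h1]; trivial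
  obtain ⟨k, hk⟩ := Subgroup.mem_zpowers_iff.mp h2
  have h3 : a ^ k = x := by
    have := congrArg Subtype.val hk
    simpa using this
  rw [← h3]
  exact K.zpow_mem haK k

theorem small_data (h : Cfsg.IsRankOneGroup X A B) (hs : Cfsg.IsSpecialRankOnePair A B)
    {p : ℕ} [Fact p.Prime] (hcard : Nat.card ↥A = p) :
    ∃ a y : X, a ^ p = 1 ∧ y ^ p = 1 ∧ a * y * a = y * a * y ∧ a ≠ y ∧
      Subgroup.closure {a, y} = ⊤ := by
  obtain ⟨a, ha, ha1⟩ := rankOnePair_exists_left h.2
  obtain ⟨b, hb, hb1, hconj⟩ := h.2.cond_left a ha ha1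
  have rel := hs.2 a ha ha1 b hb hb1 hconj
  obtain ⟨y, hy⟩ : ∃ y, y = b⁻¹ := ⟨_, rfl⟩
  have hyb : y⁻¹ = b := by rw [hy, inv_inv]
  have rel' : y * a * y⁻¹ = a⁻¹ * y * a := by rw [hyb, hy]; exact rel
  have hap : a ^ p = 1 := by
    have h1 : (⟨a, ha⟩ : ↥A) ^ Nat.card ↥A = 1 := pow_card_eq_one'
    rw [hcard] at h1
    have := congrArg Subtype.val h1
    simpa using this
  have hbr : a * y * a = y * a * y := by
    calc a * y * a = a * (y * a * y⁻¹) * y := by group
      _ = a * (a⁻¹ * y * a) * y := by rw [rel']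
      _ = y * a * y := by group
  have hyc : y = (a * y) * a * (a * y)⁻¹ := by
    calc y = a * (a⁻¹ * y * a) * a⁻¹ := by group
      _ = a * (y * a * y⁻¹) * a⁻¹ := by rw [rel']
      _ = (a * y) * a * (a * y)⁻¹ := by group
  have hyp : y ^ p = 1 := by
    rw [hyc, conj_pow, hap]; group
  have hne : a ≠ y := by
    intro hay
    apply rankOnePair_not_commute h.2 ha ha1 hb hb1
    have : b = a⁻¹ := by rw [← hyb, hay]
    rw [this]; group
  have hcB : Nat.card ↥B = p := by
    have h1 := card_conjBy A b⁻¹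
    have h2 := card_conjBy B a⁻¹
    rw [hconj] at h1
    rw [← h2, h1, hcard]
  refine ⟨a, y, hap, hyp, hbr, hne, ?_⟩
  rw [eq_top_iff, ← h.1]
  have haK : a ∈ Subgroup.closure ({a, y} : Set X) := Subgroup.subset_closure (by simp)
  have hyK : y ∈ Subgroup.closure ({a, y} : Set X) := Subgroup.subset_closure (by simp)
  have hbK : b ∈ Subgroup.closure ({a, y} : Set X) := by
    rw [← hyb]; exact Subgroup.inv_mem _ hyK
  exact sup_le (le_of_prime_card hcard ha ha1 haK) (le_of_prime_card hcB hb hb1 hbK)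

/-- For a special rank one pair with abelian unipotent subgroups and `|A| > 3`, `⁅A, H⁆ = A`. -/
theorem commutator_diagonal_eq (hs : Cfsg.IsSpecialRankOnePair A B)
    (hab : Cfsg.HasAbelianUnipotents A B) (hcard : 3 < ENat.card ↥A) :
    ⁅A, Cfsg.rankOneDiagonal A B⁆ = A := by
  have S : Cfsg.Agent.H9SR.SpecAb A B :=
    { pair := hs.1
      special := fun a ha ha1 b hb hb1 h => hs.2 a ha ha1 b hb hb1 h
      commA := fun a ha a' ha' => by
        have := hab.1.is_comm.comm ⟨a, ha⟩ ⟨a', ha'⟩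
        exact congrArg Subtype.val this
      commB := fun b hb b' hb' => by
        have := hab.2.is_comm.comm ⟨b, hb⟩ ⟨b', hb'⟩
        exact congrArg Subtype.val this }
  have hle : ⁅A, Cfsg.rankOneDiagonal A B⁆ ≤ A := by
    rw [Subgroup.commutator_le]
    intro c hc g hg
    have hgN : g ∈ Subgroup.normalizer (A : Set X) := by
      have := hg
      simp only [Cfsg.rankOneDiagonal, Subgroup.mem_inf] at this
      exact this.1.2
    rw [commutatorElement_def]
    have h1 : g * c⁻¹ * g⁻¹ ∈ A :=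
      (Subgroup.mem_normalizer_iff.mp hgN c⁻¹).mp (A.inv_mem hc)
    have h2 : c * g * c⁻¹ * g⁻¹ = c * (g * c⁻¹ * g⁻¹) := by group
    rw [h2]
    exact A.mul_mem hc h1
  have hI : RY.HInv A B ⁅A, Cfsg.rankOneDiagonal A B⁆ := by
    refine ⟨hle, fun c hc g hg hA hB => ?_⟩
    have hgN : g ∈ Subgroup.normalizer (A : Set X) := by
      rw [Subgroup.mem_normalizer_iff]
      intro x
      rw [← Cfsg.Agent.H9SR.mem_ra, hA]
    have hgNB : g ∈ Subgroup.normalizer (B : Set X) := by
      rw [Subgroup.mem_normalizer_iff]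
      intro x
      rw [← Cfsg.Agent.H9SR.mem_ra, hB]
    have hgH : g ∈ Cfsg.rankOneDiagonal A B := by
      simp only [Cfsg.rankOneDiagonal, Subgroup.mem_inf]
      exact ⟨⟨hg, hgN⟩, hgNB⟩
    have h1 : c⁻¹ * (g⁻¹ * c * g) = ⁅c⁻¹, g⁻¹⁆ := by
      rw [commutatorElement_def]; group
    rw [h1]
    exact Subgroup.commutator_mem_commutator (A.inv_mem hc) (Subgroup.inv_mem _ hgH)
  exact le_antisymm hle (RY.le_of_hinv S hI hcard)

end Cfsg.Agent.Lib.Helper8.RZ
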