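import Mathlib
import Cfsg.Prelude.Def_Blocks
import Cfsg.Agent.Lib.Helper8.Rey2
import Cfsg.Agent.Lib.Helper8.Rey3
import Cfsg.Agent.Lib.Helper8.Cover1
import Cfsg.Agent.S0887

/-!
# Reynolds: normal abelian defect group implies all heights are zero
-/

set_option autoImplicit false

namespace Cfsg.Agent.Lib.Helper8

open Cfsg
open scoped ComplexConjugate
open Cfsg.Agent.Lib.Helper1 Cfsg.Agent.Lib.Helper4

universe u

section

variable {G : Type u} [Group G] [Fintype G] {M : Ideal AlgInt} {p : ℕ} [Fact p.Prime]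
  {P : Subgroup G}

omit [Fintype G] in
/-- Every irreducible character of `G` has an irreducible constituent on a subgroup. -/
theorem exists_restrict_constituent (H : Subgroup G) [Fintype H] (χ : IrrCharacter G) :
    ∃ ξ : IrrCharacter H, classInner (fun n : H => (χ : G → ℂ) n) (ξ : H → ℂ) ≠ 0 := by
  apply exists_irr_constituent (Cfsg.Agent.S0148.isCharacter_restrict H (isCharacter_of_irr χ.2))
  rw [OneMemClass.coe_one]
  exact irr_apply_one_ne_zero χ.2

/-- **Reynolds, first half**: if the normal defect group is abelian, all heights are zero. -/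
theorem height_zero_of_comm_normal_defectGroup (hM : IsPModular p M) {B : Set (IrrCharacter G)}
    (hB : IsPBlock M B) [hn : P.Normal] (hD : IsDefectGroup p M B P)
    (hc : ∀ a ∈ P, ∀ c ∈ P, a * c = c * a) {χ : IrrCharacter G} (hχ : χ ∈ B) :
    blockHeight p B (χ : G → ℂ) = 0 := by
  classical
  have hp : p.Prime := Fact.out
  have hMp := isPModular_isPrime hM
  have hP := isPGroup_of_isDefectGroup hD
  have : Fintype ↥(P ⊔ Subgroup.centralizer (P : Set G)) := Fintype.ofFinite _
  have : Fintype ↥(P.subgroupOf (P ⊔ Subgroup.centralizer (P : Set G))) := Fintype.ofFinite _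
  obtain ⟨ξ, hcon⟩ := exists_restrict_constituent (P ⊔ Subgroup.centralizer (P : Set G)) χ
  have hb' : IsPBlock M (blockOf M (ξ : ↥(P ⊔ Subgroup.centralizer (P : Set G)) → ℂ)) := ⟨ξ, rfl⟩
  have hξ : ξ ∈ blockOf M (ξ : ↥(P ⊔ Subgroup.centralizer (P : Set G)) → ℂ) :=
    sameBlock_refl hMp.ne_top _
  obtain ⟨hind, hD'⟩ := isDefectGroup_of_covered hM hB hD hb' hχ hξ hcon
  have hG := subgroupOf_sup_centralizer_eq_top P
  have hPL : IsPGroup p (P.subgroupOf (P ⊔ Subgroup.centralizer (P : Set G))) := hP.comap_subtype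
  have h1 := factorization_charDegree_of_sup_centralizer hM hPL hG hb' hD' hξ
  have hc' : ∀ a b : ↥(P.subgroupOf (P ⊔ Subgroup.centralizer (P : Set G))), a * b = b * a := by
    intro a b
    apply Subtype.ext
    apply Subtype.ext
    exact hc _ (Subgroup.mem_subgroupOf.1 a.2) _ (Subgroup.mem_subgroupOf.1 b.2)
  rw [charDegree_eq_one_of_comm _ hc' (pcConst hG ξ), Nat.factorization_one, Finsupp.zero_apply,
    zero_add] at h1
  -- the degree ratio divides the index
  obtain ⟨h2, h3⟩ := Cfsg.Agent.S0887.result (P ⊔ Subgroup.centralizer (P : Set G)) (χ : G → ℂ) χ.2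
    (ξ : ↥(P ⊔ Subgroup.centralizer (P : Set G)) → ℂ) ξ.2 hcon _ _
    (irr_apply_one_eq_charDegree χ.2).1 (irr_apply_one_eq_charDegree ξ.2).1
  have hχpos := (irr_apply_one_eq_charDegree χ.2).2
  have hξpos := (irr_apply_one_eq_charDegree ξ.2).2
  obtain ⟨q, hq⟩ := h2
  have hq0 : q ≠ 0 := by
    rintro rfl
    rw [mul_zero] at hq
    omega
  rw [hq, Nat.mul_div_cancel_left _ hξpos] at h3
  have hLidx : (P ⊔ Subgroup.centralizer (P : Set G)).index ≠ 0 := Subgroup.index_ne_zero_of_finite
  have h4 : q.factorization p ≤ (P ⊔ Subgroup.centralizer (P : Set G)).index.factorization p :=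
    (Nat.factorization_le_iff_dvd hq0 hLidx).2 h3 p
  have h5 : (charDegree (χ : G → ℂ)).factorization p =
      (charDegree (ξ : ↥(P ⊔ Subgroup.centralizer (P : Set G)) → ℂ)).factorization p +
        q.factorization p := by
    rw [hq, Nat.factorization_mul hξpos.ne' hq0, Finsupp.add_apply]
  -- indices
  have h6 : (P.subgroupOf (P ⊔ Subgroup.centralizer (P : Set G))).index *
      (P ⊔ Subgroup.centralizer (P : Set G)).index = P.index :=
    Subgroup.relIndex_mul_index le_sup_left
  have hPLidx : (P.subgroupOf (P ⊔ Subgroup.centralizer (P : Set G))).index ≠ 0 :=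
    Subgroup.index_ne_zero_of_finite
  have h7 : P.index.factorization p =
      (P.subgroupOf (P ⊔ Subgroup.centralizer (P : Set G))).index.factorization p +
        (P ⊔ Subgroup.centralizer (P : Set G)).index.factorization p := by
    rw [← h6, Nat.factorization_mul hPLidx hLidx, Finsupp.add_apply]
  obtain ⟨h8, h9⟩ := block_valuations (p := p) hχ
  have h10 := card_of_isDefectGroup hM hB hD
  have hPidx : P.index ≠ 0 := Subgroup.index_ne_zero_of_finite
  have h11 : (Nat.card G).factorization p = blockDefect p B + P.index.factorization p := by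
    rw [← Subgroup.card_mul_index P, Nat.factorization_mul Nat.card_pos.ne' hPidx,
      Finsupp.add_apply, h10, Nat.factorization_pow, Finsupp.smul_apply, hp.factorization_self,
      smul_eq_mul, mul_one]
  omega

end

end Cfsg.Agent.Lib.Helper8
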