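import Mathlib
import Cfsg.Prelude.Def_Blocks
import Cfsg.Agent.Lib.Helper8.Rey2
import Cfsg.Agent.Lib.Helper8.Rey3
import Cfsg.Agent.Lib.Helper8.Rey4
import Cfsg.Agent.Lib.Helper8.Rey5
import Cfsg.Agent.Lib.Helper8.ConjChar2
import Cfsg.Agent.Lib.Helper8.BlockPairMax
import Cfsg.Agent.S0934

/-!
# Reynolds: all heights zero implies the normal defect group is abelian
-/

set_option autoImplicit false

namespace Cfsg.Agent.Lib.Helper8

open Cfsg
open scoped ComplexConjugate
open Cfsg.Agent.Lib.Helper1 Cfsg.Agent.Lib.Helper4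

universe u

section

variable {G : Type u} [Group G] [Fintype G] {M : Ideal AlgInt} {p : ℕ} [Fact p.Prime]
  (N : Subgroup G) [hN : N.Normal] [Fintype N] (Q : Subgroup G) [hQ : Q.Normal]

omit [Fintype G] [Fintype N] in
theorem conjIrr_inv_coe (g : G) (hx : g⁻¹ ∈ Subgroup.normalizer (N : Set G))
    (χ : IrrCharacter N) : (conjIrr N g⁻¹ hx χ : N → ℂ) = conjFn N (χ : N → ℂ) g := by
  funext k
  rw [conjIrr_apply, conjFn_apply]
  apply congrArg
  apply Subtype.ext
  simp

omit [Fintype G] in
/-- The inertia group of any member of a block of `N = Q C_N(Q)` with defect group `Q ⊲ G` is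
contained in the inertia group of the canonical character. -/
theorem inertiaFn_le_of_canonical (hM : IsPModular p M) (hQp : IsPGroup p Q)
    (hG : Q.subgroupOf N ⊔ Subgroup.centralizer ((Q.subgroupOf N : Subgroup N) : Set N) = ⊤)
    {b : Set (IrrCharacter N)} (hb : IsPBlock M b) (hD : IsDefectGroup p M b (Q.subgroupOf N))
    {θ ξ : IrrCharacter N} (hθ : θ ∈ b)
    (hker : ∀ u ∈ Q.subgroupOf N, (θ : N → ℂ) u = (θ : N → ℂ) 1) (hξ : ξ ∈ b) :
    inertiaFn N (ξ : N → ℂ) ≤ inertiaFn N (θ : N → ℂ) := by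
  have hMp := isPModular_isPrime hM
  intro g hg
  rw [mem_inertiaFn] at hg ⊢
  have hx : g⁻¹ ∈ Subgroup.normalizer (N : Set G) := by
    rw [Subgroup.normalizer_eq_top]
    exact Subgroup.mem_top _
  have hbeq := eq_blockOf_of_mem hMp hb hξ
  have h1 : SameBlock M (ξ : N → ℂ) (θ : N → ℂ) := by
    rw [hbeq] at hθ
    exact hθ
  have h2 := sameBlock_conjIrr (M := M) N g⁻¹ hx h1
  rw [conjIrr_inv_coe, hg] at h2
  have h3 : conjIrr N g⁻¹ hx θ ∈ b := by
    rw [hbeq]
    exact h2
  have h4 : ∀ u ∈ Q.subgroupOf N, (conjIrr N g⁻¹ hx θ : N → ℂ) u =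
      (conjIrr N g⁻¹ hx θ : N → ℂ) 1 := by
    intro u hu
    rw [conjIrr_inv_coe, conjFn_apply, conjFn_apply]
    have h5 : (⟨g * (1 : N) * g⁻¹, hN.conj_mem (1 : N) (1 : N).2 g⟩ : N) = 1 := by
      apply Subtype.ext
      simp
    rw [h5]
    apply hker
    rw [Subgroup.mem_subgroupOf]
    exact hQ.conj_mem _ (Subgroup.mem_subgroupOf.1 hu) g
  have h6 := (existsUnique_trivial_on hM hQp.comap_subtype hG hb hD).unique ⟨h3, h4⟩ ⟨hθ, hker⟩
  rw [← conjIrr_inv_coe N g hx, h6]

end

section

variable {G : Type u} [Group G] [Fintype G] {M : Ideal AlgInt} {p : ℕ} [Fact p.Prime]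
  {P : Subgroup G}

/-- **Reynolds, second half**: if all heights are zero, the normal defect group is abelian. -/
theorem comm_of_heights_zero (hM : IsPModular p M) {B : Set (IrrCharacter G)}
    (hB : IsPBlock M B) [hn : P.Normal] (hD : IsDefectGroup p M B P)
    (h0 : ∀ χ ∈ B, blockHeight p B (χ : G → ℂ) = 0) : ∀ a ∈ P, ∀ c ∈ P, a * c = c * a := by
  classical
  have hp : p.Prime := Fact.out
  have hMp := isPModular_isPrime hM
  have hP := isPGroup_of_isDefectGroup hD
  have : Fintype ↥(P ⊔ Subgroup.centralizer (P : Set G)) := Fintype.ofFinite _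
  have : Fintype ↥(P.subgroupOf (P ⊔ Subgroup.centralizer (P : Set G))) := Fintype.ofFinite _
  have hLn : (P ⊔ Subgroup.centralizer (P : Set G)).Normal := inferInstance
  have hLN : P ⊔ Subgroup.centralizer (P : Set G) ≤ Subgroup.normalizer (P : Set G) := by
    rw [Subgroup.normalizer_eq_top]
    exact le_top
  obtain ⟨b, hDb, hind⟩ := extFirstMain_exists hM hB hD (P ⊔ Subgroup.centralizer (P : Set G))
    le_sup_left le_sup_right hLN
  have hb := hind.1
  have hG := subgroupOf_sup_centralizer_eq_top P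
  have hPL : IsPGroup p (P.subgroupOf (P ⊔ Subgroup.centralizer (P : Set G))) := hP.comap_subtype
  obtain ⟨θ, hθ, hker⟩ := exists_mem_block_ker hM
    (P.subgroupOf (P ⊔ Subgroup.centralizer (P : Set G))) hPL hb
  -- defects agree
  have hc1 := card_of_isDefectGroup hM hB hD
  have hc2 := card_of_isDefectGroup hM hb hDb
  have hc3 : Nat.card (P.subgroupOf (P ⊔ Subgroup.centralizer (P : Set G))) = Nat.card P :=
    Nat.card_congr (Subgroup.subgroupOfEquivOfLe le_sup_left).toEquiv
  have hdd : blockDefect p b = blockDefect p B := by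
    apply Nat.pow_right_injective hp.two_le
    show p ^ blockDefect p b = p ^ blockDefect p B
    rw [← hc1, ← hc2, hc3]
  -- valuations
  have hPLidx : (P.subgroupOf (P ⊔ Subgroup.centralizer (P : Set G))).index ≠ 0 :=
    Subgroup.index_ne_zero_of_finite
  have hL : (Nat.card ↥(P ⊔ Subgroup.centralizer (P : Set G))).factorization p =
      blockDefect p B +
        (P.subgroupOf (P ⊔ Subgroup.centralizer (P : Set G))).index.factorization p := by
    rw [← Subgroup.card_mul_index (P.subgroupOf (P ⊔ Subgroup.centralizer (P : Set G))),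
      Nat.factorization_mul Nat.card_pos.ne' hPLidx, Finsupp.add_apply, hc2, hdd,
      Nat.factorization_pow, Finsupp.smul_apply, hp.factorization_self, smul_eq_mul, mul_one]
  have hχval : ∀ χ ∈ B, (charDegree (χ : G → ℂ)).factorization p + blockDefect p B =
      (Nat.card G).factorization p := by
    intro χ hχ
    obtain ⟨h1, _⟩ := block_valuations (p := p) hχ
    rw [h0 χ hχ, add_zero] at h1
    exact h1
  obtain ⟨_, hθval⟩ := height_zero_of_trivial_on_defectGroup hM hb hDb hθ hker
  -- Part 1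
  have hI : (Nat.card (inertiaFn (P ⊔ Subgroup.centralizer (P : Set G))
      (θ : ↥(P ⊔ Subgroup.centralizer (P : Set G)) → ℂ))).factorization p =
      (Nat.card ↥(P ⊔ Subgroup.centralizer (P : Set G))).factorization p := by
    apply factorization_card_inertiaFn_of_relative_height_zero _ θ.2
    intro χ hcon
    have hχB : χ ∈ B := by
      have h1 : IsInducedBlock M (P ⊔ Subgroup.centralizer (P : Set G)) b
          (blockOf M (χ : G → ℂ)) :=
        (Cfsg.Agent.S0971.result p M hM P hP b hb).2 _ ⟨χ, rfl⟩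
          ⟨χ, sameBlock_refl hMp.ne_top _, θ, hθ, hcon⟩
      rw [isInducedBlock_unique hMp _ hind h1]
      exact sameBlock_refl hMp.ne_top _
    have h2 := hχval χ hχB
    omega
  -- Part 2
  have hlin : ∀ ζ : IrrCharacter ↥(P.subgroupOf (P ⊔ Subgroup.centralizer (P : Set G))),
      charDegree (ζ : ↥(P.subgroupOf (P ⊔ Subgroup.centralizer (P : Set G))) → ℂ) = 1 := by
    intro ζ
    obtain ⟨⟨ξ, hξ⟩, hξζ⟩ := (pcConst_bijective hM hPL hG hb hDb).2 ζ
    simp only at hξζ
    have hle1 := inertiaFn_le_of_canonical (P ⊔ Subgroup.centralizer (P : Set G)) P hM hP hG hb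
      hDb hθ hker hξ
    have hle2 := le_inertiaFn (P ⊔ Subgroup.centralizer (P : Set G))
      (isClassFunction_irr ξ.2)
    have hd1 := Subgroup.card_dvd_of_le hle1
    have hd2 := Subgroup.card_dvd_of_le hle2
    have hIξ : (Nat.card (inertiaFn (P ⊔ Subgroup.centralizer (P : Set G))
        (ξ : ↥(P ⊔ Subgroup.centralizer (P : Set G)) → ℂ))).factorization p =
        (Nat.card ↥(P ⊔ Subgroup.centralizer (P : Set G))).factorization p := by
      have h1 := (Nat.factorization_le_iff_dvd Nat.card_pos.ne' Nat.card_pos.ne').2 hd1 p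
      have h2 := (Nat.factorization_le_iff_dvd Nat.card_pos.ne' Nat.card_pos.ne').2 hd2 p
      omega
    obtain ⟨χ, hχ, hcon⟩ := Cfsg.Agent.S0934.result p M hM _ b B hind ξ hξ
    have h3 := factorization_charDegree_of_inertiaFn (p := p)
      (P ⊔ Subgroup.centralizer (P : Set G)) ξ.2 hIξ χ.2 hcon
    have h4 := factorization_charDegree_of_sup_centralizer hM hPL hG hb hDb hξ
    rw [hξζ] at h4
    have h5 := hχval χ hχ
    have h6 : (charDegree (ζ : ↥(P.subgroupOf (P ⊔ Subgroup.centralizer (P : Set G))) → ℂ)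
        ).factorization p = 0 := by omega
    have h7 := charDegree_dvd_card ζ.2
    rw [hc2] at h7
    obtain ⟨j, _, hj⟩ := (Nat.dvd_prime_pow hp).1 h7
    rw [hj, Nat.factorization_pow, Finsupp.smul_apply, hp.factorization_self, smul_eq_mul,
      mul_one] at h6
    rw [hj, h6, pow_zero]
  have hcomm := comm_of_charDegree_eq_one _ hlin
  intro a ha c hc
  have h1 := hcomm ⟨⟨a, le_sup_left (b := Subgroup.centralizer (P : Set G)) ha⟩,
    Subgroup.mem_subgroupOf.2 ha⟩ ⟨⟨c, le_sup_left (b := Subgroup.centralizer (P : Set G)) hc⟩,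
    Subgroup.mem_subgroupOf.2 hc⟩
  have h2 := congrArg Subtype.val (congrArg Subtype.val h1)
  exact h2

end

end Cfsg.Agent.Lib.Helper8
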