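import Mathlib
import Cfsg.Agent.Lib.Helper8.WardE

/-!
# `S₃` acting without fixed points (S4305): definitions and first lemmas

Internal setting: `Γ` a finite group, `G ⊴ Γ` solvable of order prime to `6`, `s t : Γ` with
`s ^ 3 = 1`, `t ^ 2 = 1`, `t s t⁻¹ = s⁻¹`, generating a subgroup of order `6` which acts on `G` by
conjugation without fixed points, and `Γ = G ⟨s, t⟩`.
-/

set_option autoImplicit false
set_option linter.unusedSectionVars false
set_option linter.unusedVariables false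

namespace Cfsg.Agent.Lib.Helper8.S3F

open scoped commutatorElement

universe w

section defs

variable {Γ : Type w} [Group Γ]

/-- the subgroup generated by `s` and `t`. -/
abbrev AA (s t : Γ) : Subgroup Γ := Subgroup.closure ({s, t} : Set Γ)

/-- the internal setting: `⟨s, t⟩ ≅ S₃` acts by conjugation, without fixed points, on the solvable
normal subgroup `G` of order prime to `6`, and `Γ = G ⟨s, t⟩`. -/
structure Setting (G : Subgroup Γ) (s t : Γ) : Prop where
  hGn : G.Normal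
  hsolv : Group.IsSolvable G
  hcop : (Nat.card G).Coprime 6
  hs3 : s ^ 3 = 1
  ht2 : t ^ 2 = 1
  hts : t * s * t⁻¹ = s⁻¹
  hcard : Nat.card (AA s t) = 6
  hfpf : ∀ g ∈ G, s * g = g * s → t * g = g * t → g = 1
  htop : G ⊔ AA s t = ⊤

/-- the derived subgroup of `G` is nilpotent (lower central series form). -/
def DerNilp (G : Subgroup Γ) : Prop :=
  ∃ k : ℕ, (G.lowerCentralSeries 1).lowerCentralSeries k = ⊥

/-- the configuration of case (b) of the critical theorem: `H = Q R`, `Q` an abelian normal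
`q`-subgroup, `R` abelian of order prime to `|Q|`, both invariant under `s` and `t`, and `R` does
not centralise `Q`. -/
structure CaseB (H Q R : Subgroup Γ) (s t : Γ) (q : ℕ) : Prop where
  hq : q.Prime
  hQ : IsPGroup q Q
  hQH : Q ≤ H
  hRH : R ≤ H
  hQR : ∀ h ∈ H, ∃ x ∈ Q, ∃ y ∈ R, h = x * y
  hQc : ∀ x ∈ Q, ∀ y ∈ Q, x * y = y * x
  hRc : ∀ x ∈ R, ∀ y ∈ R, x * y = y * x
  hcop : (Nat.card Q).Coprime (Nat.card R)
  hRQ : ∀ x ∈ R, ∀ y ∈ Q, x * y * x⁻¹ ∈ Q
  hsQ : ∀ y ∈ Q, s * y * s⁻¹ ∈ Q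
  htQ : ∀ y ∈ Q, t * y * t⁻¹ ∈ Q
  hsR : ∀ y ∈ R, s * y * s⁻¹ ∈ R
  htR : ∀ y ∈ R, t * y * t⁻¹ ∈ R
  hne : ∃ x ∈ R, ∃ y ∈ Q, x * y ≠ y * x

end defs

section dernilp

variable {Γ : Type w} [Group Γ]

theorem derNilp_iff (G : Subgroup Γ) : DerNilp G ↔ Group.IsNilpotent ↥⁅G, G⁆ := by
  unfold DerNilp
  rw [Subgroup.isNilpotent_iff_lowerCentralSeries]
  rfl

theorem DerNilp.map {Γ' : Type*} [Group Γ'] {G : Subgroup Γ} (h : DerNilp G) (f : Γ →* Γ') :
    DerNilp (G.map f) := by
  obtain ⟨k, hk⟩ := h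
  refine ⟨k, ?_⟩
  rw [← Subgroup.map_lowerCentralSeries, ← Subgroup.map_lowerCentralSeries, hk, Subgroup.map_bot]

theorem DerNilp.of_map_injective {Γ' : Type*} [Group Γ'] {G : Subgroup Γ} (f : Γ →* Γ')
    (hf : Function.Injective f) (h : DerNilp (G.map f)) : DerNilp G := by
  obtain ⟨k, hk⟩ := h
  refine ⟨k, ?_⟩
  rw [← Subgroup.map_lowerCentralSeries, ← Subgroup.map_lowerCentralSeries] at hk
  exact (Subgroup.map_eq_bot_iff_of_injective _ hf).1 hk

theorem DerNilp.mono {G₀ G : Subgroup Γ} (h : DerNilp G) (hle : G₀ ≤ G) : DerNilp G₀ := by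
  obtain ⟨k, hk⟩ := h
  refine ⟨k, ?_⟩
  rw [eq_bot_iff, ← hk]
  exact Ward.lcs_mono (Ward.lcs_mono hle 1) k

/-- from a quotient: the derived subgroup is nilpotent modulo `V`. -/
theorem DerNilp.lcs_le_of_quot {V G : Subgroup Γ} [V.Normal]
    (hq : DerNilp (G.map (QuotientGroup.mk' V))) :
    ∃ k : ℕ, (G.lowerCentralSeries 1).lowerCentralSeries k ≤ V := by
  obtain ⟨k, hk⟩ := hq
  refine ⟨k, ?_⟩
  rw [← Subgroup.map_lowerCentralSeries, ← Subgroup.map_lowerCentralSeries,
    Subgroup.map_eq_bot_iff, QuotientGroup.ker_mk'] at hk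
  exact hk

/-- the criterion closing the induction: `G'` is nilpotent modulo `V` and centralises `V`. -/
theorem DerNilp.of_quot {V G : Subgroup Γ}
    (hq : ∃ k : ℕ, (G.lowerCentralSeries 1).lowerCentralSeries k ≤ V)
    (hc : G.lowerCentralSeries 1 ≤ Subgroup.centralizer (V : Set Γ)) : DerNilp G := by
  obtain ⟨k, hk⟩ := hq
  refine ⟨k + 1, ?_⟩
  rw [Subgroup.lowerCentralSeries_succ, eq_bot_iff]
  calc ⁅(G.lowerCentralSeries 1).lowerCentralSeries k, G.lowerCentralSeries 1⁆
      ≤ ⁅V, Subgroup.centralizer (V : Set Γ)⁆ := Subgroup.commutator_mono hk hc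
    _ = ⊥ := by
      rw [Subgroup.commutator_eq_bot_iff_le_centralizer, Subgroup.le_centralizer_iff]

theorem lcs_one (G : Subgroup Γ) : G.lowerCentralSeries 1 = ⁅G, G⁆ := by
  rw [Subgroup.lowerCentralSeries_succ, Subgroup.lowerCentralSeries_zero]

end dernilp

section setting

variable {Γ : Type w} [Group Γ] {G : Subgroup Γ} {s t : Γ}

theorem mem_AA_left (s t : Γ) : s ∈ AA s t := Subgroup.subset_closure (by simp)

theorem mem_AA_right (s t : Γ) : t ∈ AA s t := Subgroup.subset_closure (by simp)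

/-- an element commuting with `s` and `t` commutes with all of `⟨s, t⟩`. -/
theorem comm_of_mem_AA {g : Γ} (hs : s * g = g * s) (ht : t * g = g * t) :
    ∀ a ∈ AA s t, a * g = g * a := by
  have hle : AA s t ≤ Subgroup.centralizer ({g} : Set Γ) := by
    rw [AA, Subgroup.closure_le]
    rintro x (rfl | rfl)
    · rw [SetLike.mem_coe, Subgroup.mem_centralizer_iff]
      rintro _ rfl
      exact hs.symm
    · rw [SetLike.mem_coe, Subgroup.mem_centralizer_iff]
      rintro _ rfl
      exact ht.symm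
  intro a ha
  exact ((Subgroup.mem_centralizer_iff.1 (hle ha)) g rfl).symm

/-- a subgroup invariant under `s` and `t` is normalised by `⟨s, t⟩` (finite case). -/
theorem AA_le_normalizer [Finite Γ] {N : Subgroup Γ} (hs : ∀ x ∈ N, s * x * s⁻¹ ∈ N)
    (ht : ∀ x ∈ N, t * x * t⁻¹ ∈ N) : AA s t ≤ Subgroup.normalizer (N : Set Γ) := by
  have key : ∀ g : Γ, (∀ x ∈ N, g * x * g⁻¹ ∈ N) → g ∈ Subgroup.normalizer (N : Set Γ) := by
    intro g hg
    have hle : N.map (MulAut.conj g).toMonoidHom ≤ N := by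
      rintro _ ⟨x, hx, rfl⟩
      exact hg x hx
    have hcard : Nat.card (N.map (MulAut.conj g).toMonoidHom) = Nat.card N :=
      Subgroup.card_map_of_injective (MulAut.conj g).injective
    have heq : N.map (MulAut.conj g).toMonoidHom = N :=
      Subgroup.eq_of_le_of_card_ge hle hcard.ge
    rw [Subgroup.mem_normalizer_iff]
    intro h
    constructor
    · intro hh
      exact hg h hh
    · intro hh
      have : g * h * g⁻¹ ∈ N.map (MulAut.conj g).toMonoidHom := by rw [heq]; exact hh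
      obtain ⟨x, hx, hxe⟩ := this
      have : x = h := by
        have h1 : g * x * g⁻¹ = g * h * g⁻¹ := hxe
        have h2 := congrArg (fun y => g⁻¹ * y * g) h1
        simpa [mul_assoc] using h2
      rw [← this]
      exact hx
  rw [AA, Subgroup.closure_le]
  rintro x (rfl | rfl)
  · exact key _ hs
  · exact key _ ht

theorem conj_mem_of_mem_AA [Finite Γ] {N : Subgroup Γ} (hs : ∀ x ∈ N, s * x * s⁻¹ ∈ N)
    (ht : ∀ x ∈ N, t * x * t⁻¹ ∈ N) : ∀ a ∈ AA s t, ∀ x ∈ N, a * x * a⁻¹ ∈ N := by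
  intro a ha x hx
  exact ((Subgroup.mem_normalizer_iff.1 (AA_le_normalizer hs ht ha)) x).1 hx

theorem Setting.coprime (h : Setting G s t) : (Nat.card (AA s t)).Coprime (Nat.card G) := by
  rw [h.hcard]
  exact h.hcop.symm

theorem Setting.fpf' (h : Setting G s t) :
    ∀ g ∈ G, (∀ a ∈ AA s t, a * g = g * a) → g = 1 := by
  intro g hg hfix
  exact h.hfpf g hg (hfix s (mem_AA_left s t)) (hfix t (mem_AA_right s t))

theorem Setting.inf_eq_bot [Finite Γ] (h : Setting G s t) : AA s t ⊓ G = ⊥ := by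
  have h1 : Nat.card (AA s t ⊓ G : Subgroup Γ) ∣ Nat.card (AA s t) :=
    Subgroup.card_dvd_of_le inf_le_left
  have h2 : Nat.card (AA s t ⊓ G : Subgroup Γ) ∣ Nat.card G :=
    Subgroup.card_dvd_of_le inf_le_right
  have h3 := Nat.eq_one_of_dvd_coprimes h.coprime h1 h2
  exact Subgroup.card_eq_one.1 h3

theorem Setting.le_normalizer (h : Setting G s t) (H : Subgroup Γ) :
    H ≤ Subgroup.normalizer (G : Set Γ) := by
  have := h.hGn
  rw [Subgroup.normalizer_eq_top]
  exact le_top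

theorem Setting.s_ne_one [Finite Γ] (h : Setting G s t) : s ≠ 1 := by
  rintro rfl
  have hle : AA (1 : Γ) t ≤ Subgroup.zpowers t := by
    rw [AA, Subgroup.closure_le]
    rintro x (rfl | rfl)
    · exact Subgroup.one_mem _
    · exact Subgroup.mem_zpowers _
  have h1 := Subgroup.card_le_of_le hle
  rw [h.hcard, Nat.card_zpowers] at h1
  have h2 : orderOf t ∣ 2 := orderOf_dvd_of_pow_eq_one h.ht2
  have h3 := Nat.le_of_dvd (by norm_num) h2
  omega

theorem Setting.t_ne_one [Finite Γ] (h : Setting G s t) : t ≠ 1 := by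
  rintro rfl
  have hle : AA s (1 : Γ) ≤ Subgroup.zpowers s := by
    rw [AA, Subgroup.closure_le]
    rintro x (rfl | rfl)
    · exact Subgroup.mem_zpowers _
    · exact Subgroup.one_mem _
  have h1 := Subgroup.card_le_of_le hle
  rw [h.hcard, Nat.card_zpowers] at h1
  have h2 : orderOf s ∣ 3 := orderOf_dvd_of_pow_eq_one h.hs3
  have h3 := Nat.le_of_dvd (by norm_num) h2
  omega

theorem Setting.orderOf_s [Finite Γ] (h : Setting G s t) : orderOf s = 3 :=
  orderOf_eq_prime h.hs3 h.s_ne_one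

theorem Setting.orderOf_t [Finite Γ] (h : Setting G s t) : orderOf t = 2 :=
  orderOf_eq_prime h.ht2 h.t_ne_one

theorem Setting.hts' (h : Setting G s t) : t * s = s⁻¹ * t := by
  have := h.hts
  calc t * s = t * s * t⁻¹ * t := by group
    _ = s⁻¹ * t := by rw [this]

end setting

end Cfsg.Agent.Lib.Helper8.S3F
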