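import Mathlib
import Cfsg.Agent.Lib.Lead.S3Defs
import Cfsg.Agent.Lib.Lead.S3Basic
import Cfsg.Agent.Lib.Helper8.S3Defs
import Cfsg.Agent.Lib.Helper8.WardG
import Cfsg.Agent.Lib.Helper8.WardJ
import Cfsg.Agent.Lib.Helper5.NilSym2

/-!
# S4305: the reduction (Theorem R)

`derNilp_of_setting`: if the critical configuration is impossible (`hcrit`), and the internal
setting passes to quotients (`hquot`) and to subgroups (`hsub`), then in every internal setting
the derived subgroup of `G` is nilpotent.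
-/

set_option autoImplicit false
set_option linter.unusedSectionVars false
set_option linter.unusedVariables false

namespace Cfsg.Agent.Lib.Helper8.S3R

open Cfsg.Agent.Lib.Lead.S3
open Cfsg.Agent.Lib.Helper8
open Cfsg.Agent.Lib.Helper8.Ward
open scoped commutatorElement

universe u w

section lemmaA

variable {Γ : Type w} [Group Γ] [Finite Γ]

theorem commutator_le_self' (G₀ : Subgroup Γ) : ⁅G₀, G₀⁆ ≤ G₀ := by
  rw [Subgroup.commutator_le]
  intro x hx y hy
  rw [commutatorElement_def]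
  exact G₀.mul_mem (G₀.mul_mem (G₀.mul_mem hx hy) (G₀.inv_mem hx)) (G₀.inv_mem hy)

/-- (R5a) if `G₀'` is nilpotent and `V ≤ G₀` is a normal elementary abelian `p`-subgroup, then the
`p'`-part of every element of `G₀'` centralises `V`. -/
theorem exists_pow_mem_centralizer {p : ℕ} (hp : p.Prime)
    {V G₀ : Subgroup Γ} [hVn : V.Normal] (hVG₀ : V ≤ G₀) (hVp : ∀ v ∈ V, v ^ p = 1)
    (hnil : Group.IsNilpotent ↥⁅G₀, G₀⁆) :
    ∀ x ∈ ⁅G₀, G₀⁆, ∃ m : ℕ, x ^ (p ^ m) ∈ Subgroup.centralizer (V : Set Γ) := by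
  intro x hx
  have hn0 : orderOf x ≠ 0 := (orderOf_pos x).ne'
  obtain ⟨a, m', hm', hn⟩ := Nat.exists_eq_pow_mul_and_not_dvd hn0 p hp.ne_one
  refine ⟨a, ?_⟩
  set y := x ^ (p ^ a) with hy
  have hyN : y ∈ ⁅G₀, G₀⁆ := Subgroup.pow_mem _ hx _
  have hym : y ^ m' = 1 := by rw [hy, ← pow_mul, ← hn, pow_orderOf_eq_one]
  have hcop : p.Coprime m' := (Nat.Prime.coprime_iff_not_dvd hp).2 hm'
  have hle : ⁅G₀, G₀⁆ ≤ G₀ := commutator_le_self' G₀
  rw [Subgroup.mem_centralizer_iff]
  intro v hv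
  set w := ⁅v, y⁆ with hw
  have hwN : w ∈ ⁅G₀, G₀⁆ := Subgroup.commutator_mem_commutator (hVG₀ hv) (hle hyN)
  have hwV : w ∈ V := by
    rw [hw, commutatorElement_def]
    have h1 : y * v⁻¹ * y⁻¹ ∈ V := hVn.conj_mem _ (V.inv_mem hv) y
    have h2 := V.mul_mem hv h1
    have e : v * y * v⁻¹ * y⁻¹ = v * (y * v⁻¹ * y⁻¹) := by group
    rw [e]
    exact h2
  have hwp : w ^ p = 1 := hVp w hwV
  have hcomm : w * y = y * w := by
    have hco : (orderOf (⟨w, hwN⟩ : ↥⁅G₀, G₀⁆)).Coprime (orderOf (⟨y, hyN⟩ : ↥⁅G₀, G₀⁆)) := by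
      rw [Subgroup.orderOf_mk, Subgroup.orderOf_mk]
      have h1 : orderOf w ∣ p := orderOf_dvd_of_pow_eq_one hwp
      have h2 : orderOf y ∣ m' := orderOf_dvd_of_pow_eq_one hym
      exact Nat.Coprime.coprime_dvd_left h1 (Nat.Coprime.coprime_dvd_right h2 hcop)
    have := Cfsg.Agent.Lib.Helper5.NilSym.commute_of_coprime ↥⁅G₀, G₀⁆ ⟨w, hwN⟩ ⟨y, hyN⟩
      (isOfFinOrder_of_finite _) (isOfFinOrder_of_finite _) hco
    exact congrArg Subtype.val this.eq
  have e1 : v * y * v⁻¹ = w * y := by rw [hw, commutatorElement_def]; group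
  have e2 : (w * y) ^ m' = w ^ m' := by
    rw [(show Commute w y from hcomm).mul_pow, hym, mul_one]
  have e3 : (v * y * v⁻¹) ^ m' = 1 := by rw [conj_pow, hym]; group
  have hwm : w ^ m' = 1 := by rw [← e2, ← e1, e3]
  have hw1 : w = 1 := by
    have h1 : orderOf w ∣ p := orderOf_dvd_of_pow_eq_one hwp
    have h2 : orderOf w ∣ m' := orderOf_dvd_of_pow_eq_one hwm
    exact orderOf_eq_one_iff.1 (Nat.eq_one_of_dvd_coprimes hcop h1 h2)
  have h3 : v * y * v⁻¹ * y⁻¹ = 1 := by rw [← commutatorElement_def, ← hw, hw1]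
  calc v * y = (v * y * v⁻¹ * y⁻¹) * y * v := by group
    _ = y * v := by rw [h3, one_mul]

end lemmaA

section lemmaB

variable {V : Type u} [AddCommGroup V] [Finite V] {T : Type w} [Group T] [Finite T]
  [DistribMulAction T V] {p : ℕ} {H : Subgroup T} {s t : T}

/-- (R5b) in the critical configuration a nilpotent derived subgroup is a `p'`-group. -/
theorem not_dvd_card_commutator (h : Crit V p H s t) (hnil : S3F.DerNilp H) :
    ¬ p ∣ Nat.card ↥⁅H, H⁆ := by
  have hHn := h.hHn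
  have : Fact p.Prime := ⟨h.hp⟩
  obtain ⟨k, hk⟩ := hnil
  rw [S3F.lcs_one] at hk
  have hNn : (⁅H, H⁆).Normal := inferInstance
  obtain ⟨Q, hQN, hQn, hQp, hQc⟩ := Ward.exists_normal_sylow_of_nilpotent ⁅H, H⁆ hk p
  have hQH : Q ≤ H := hQN.trans (Subgroup.commutator_le_left H H)
  have hQ1 := h.normal_pgroup_eq_bot hQn hQH hQp
  rw [hQ1, Subgroup.card_bot] at hQc
  intro hdvd
  have hpos : 0 < (Nat.card ↥⁅H, H⁆).factorization p :=
    h.hp.factorization_pos_of_dvd Nat.card_pos.ne' hdvd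
  rcases Nat.pow_eq_one.1 hQc.symm with h1 | h1
  · exact h.hp.one_lt.ne' h1
  · exact hpos.ne' h1

end lemmaB

section setting

variable {Γ : Type w} [Group Γ] [Finite Γ] {G : Subgroup Γ} {s t : Γ}

theorem inf_closure_eq_bot (h : Setting G s t) :
    G ⊓ Subgroup.closure ({s, t} : Set Γ) = ⊥ := by
  have h1 : Nat.card ↥(G ⊓ Subgroup.closure ({s, t} : Set Γ)) ∣ Nat.card G :=
    Subgroup.card_dvd_of_le inf_le_left
  have h2 : Nat.card ↥(G ⊓ Subgroup.closure ({s, t} : Set Γ)) ∣ 6 :=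
    (Subgroup.card_dvd_of_le inf_le_right).trans (card_closure_dvd h.hs3 h.ht2 h.hts)
  exact Subgroup.card_eq_one.1 (Nat.eq_one_of_dvd_coprimes h.hcop h1 h2)

/-- Dedekind's law in the setting. -/
theorem inf_sup_closure (h : Setting G s t) {G₀ : Subgroup Γ} (hG₀ : G₀ ≤ G)
    (hs : ∀ x ∈ G₀, s * x * s⁻¹ ∈ G₀) (ht : ∀ x ∈ G₀, t * x * t⁻¹ ∈ G₀) :
    G ⊓ (G₀ ⊔ Subgroup.closure ({s, t} : Set Γ)) = G₀ := by
  apply le_antisymm
  · rintro x ⟨hxG, hx⟩
    have hnorm : Subgroup.closure ({s, t} : Set Γ) ≤ Subgroup.normalizer (G₀ : Set Γ) :=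
      closure_le_normalizer hs ht
    have hset := Subgroup.coe_mul_of_right_le_normalizer_left G₀
      (Subgroup.closure ({s, t} : Set Γ)) hnorm
    have hx' : x ∈ ((G₀ ⊔ Subgroup.closure ({s, t} : Set Γ) : Subgroup Γ) : Set Γ) := hx
    rw [hset] at hx'
    obtain ⟨g, hg, a, ha, hga⟩ := Set.mem_mul.1 hx'
    have hg' : g ∈ G₀ := hg
    have ha' : a ∈ Subgroup.closure ({s, t} : Set Γ) := ha
    have haG : a ∈ G := by
      have := G.mul_mem (G.inv_mem (hG₀ hg')) hxG
      rw [← hga] at this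
      simpa using this
    have h1 : a ∈ G ⊓ Subgroup.closure ({s, t} : Set Γ) := ⟨haG, ha'⟩
    rw [inf_closure_eq_bot h, Subgroup.mem_bot] at h1
    rw [← hga, h1, mul_one]
    exact hg'
  · exact le_inf hG₀ le_sup_left

end setting

section main

/-- **Theorem R**, relative to the critical theorem and the transport of the setting. -/
theorem derNilp_of_setting
    (hquot : ∀ {Γ : Type w} [Group Γ] [Finite Γ] {G : Subgroup Γ} {s t : Γ}, Setting G s t →
      ∀ (N : Subgroup Γ) [N.Normal], N ≤ G →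
        Setting (G.map (QuotientGroup.mk' N)) (QuotientGroup.mk' N s) (QuotientGroup.mk' N t))
    (hsub : ∀ {Γ : Type w} [Group Γ] [Finite Γ] {G : Subgroup Γ} {s t : Γ}, Setting G s t →
      ∀ (Γ₀ : Subgroup Γ) (hs : s ∈ Γ₀) (ht : t ∈ Γ₀),
        Setting (G.subgroupOf Γ₀) (⟨s, hs⟩ : Γ₀) (⟨t, ht⟩ : Γ₀))
    (hcrit : ∀ {V : Type w} [AddCommGroup V] [Finite V] {T : Type w} [Group T] [Finite T]
      [DistribMulAction T V] {p : ℕ} {H : Subgroup T} {s t : T},
      Crit V p H s t → MinNonab H s t → ∀ x ∈ H, ∀ y ∈ H, x * y = y * x) :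
    ∀ (n : ℕ) (Γ : Type w) [Group Γ] [Finite Γ] (G : Subgroup Γ) (s t : Γ),
      Nat.card Γ = n → Setting G s t → S3F.DerNilp G := by
  intro n
  induction n using Nat.strong_induction_on with
  | _ n ih =>
  intro Γ _ _ G s t hn hS
  have hGn := hS.hGn
  by_cases hG : G = ⊥
  · refine ⟨0, ?_⟩
    rw [Subgroup.lowerCentralSeries_zero, eq_bot_iff]
    exact (Subgroup.lowerCentralSeries_le_self G 1).trans (le_of_eq hG)
  obtain ⟨V, hmn⟩ := exists_minNormal G hG
  have hVn := hmn.hVn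
  have hVG := hmn.hVG
  have hV1 := hmn.hV1
  have hVab := hmn.abelian hS.hsolv
  obtain ⟨p, hp, hVs⟩ := hmn.exponent hVab
  have : Fact p.Prime := ⟨hp⟩
  -- the induction hypothesis on the quotient
  have hlt : Nat.card (Γ ⧸ V) < n := by
    rw [← hn, ← Subgroup.index_eq_card, ← V.card_mul_index]
    have h1 : 1 < Nat.card V := (Subgroup.one_lt_card_iff_ne_bot V).2 hV1
    have h2 : 0 < V.index := Nat.pos_of_ne_zero Subgroup.index_ne_zero_of_finite
    nlinarith
  have hq := ih _ hlt (Γ ⧸ V) (G.map (QuotientGroup.mk' V)) _ _ rfl (hquot hS V hVG)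
  obtain ⟨k1, hk1⟩ := S3F.DerNilp.lcs_le_of_quot hq
  have hVc : V ≤ Subgroup.centralizer (V : Set Γ) := by
    intro x hx
    rw [Subgroup.mem_centralizer_iff]
    intro y hy
    exact hVab y hy x hx
  apply S3F.DerNilp.of_quot ⟨k1, hk1⟩
  -- the module
  have hKn : (G ⊓ Subgroup.centralizer (V : Set Γ)).Normal := inferInstance
  have hKG : G ⊓ Subgroup.centralizer (V : Set Γ) ≤ G := inf_le_left
  have hVK : V ≤ G ⊓ Subgroup.centralizer (V : Set Γ) := le_inf hVG hVc
  have hmod : ModHyp V (G ⊓ Subgroup.centralizer (V : Set Γ)) :=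
    ⟨hVab, fun k hk v hv => ((Subgroup.mem_centralizer_iff.1 hk.2) v hv).symm⟩
  have hS' := hquot hS (G ⊓ Subgroup.centralizer (V : Set Γ)) hKG
  have hker : ∀ g : Γ, QuotientGroup.mk' (G ⊓ Subgroup.centralizer (V : Set Γ)) g = 1 ↔
      g ∈ G ⊓ Subgroup.centralizer (V : Set Γ) := by
    intro g
    rw [QuotientGroup.mk'_apply, QuotientGroup.eq_one_iff]
  -- a nontrivial element of `V`
  obtain ⟨v0, hv0V, hv01⟩ : ∃ v ∈ V, v ≠ 1 := by
    by_contra hcon
    push Not at hcon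
    apply hV1
    rw [eq_bot_iff]
    intro v hv
    rw [Subgroup.mem_bot]
    exact hcon v hv
  have hpG : p ∣ Nat.card G := by
    have h1 : orderOf v0 = p := orderOf_eq_prime (hVs v0 hv0V) hv01
    have h2 := orderOf_dvd_natCard (⟨v0, hVG hv0V⟩ : G)
    rwa [Subgroup.orderOf_mk, h1] at h2
  have hp6 : ∀ d : ℕ, d ∣ 6 → p ≠ d ∨ d = 1 := by
    intro d hd
    by_cases hpd : p = d
    · right
      have h1 : p ∣ Nat.gcd (Nat.card G) 6 := Nat.dvd_gcd hpG (hpd ▸ hd)
      rw [hS.hcop] at h1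
      rw [← hpd]
      exact Nat.dvd_one.1 h1
    · left; exact hpd
  have hp2 : p ≠ 2 := by
    rcases hp6 2 (by norm_num) with h | h
    · exact h
    · omega
  have hp3 : p ≠ 3 := by
    rcases hp6 3 (by norm_num) with h | h
    · exact h
    · omega
  -- the critical configuration
  have hC : Crit (VMod hmod) p (G.map (QuotientGroup.mk' (G ⊓ Subgroup.centralizer (V : Set Γ))))
      (QuotientGroup.mk' (G ⊓ Subgroup.centralizer (V : Set Γ)) s)
      (QuotientGroup.mk' (G ⊓ Subgroup.centralizer (V : Set Γ)) t) := by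
    refine ⟨hp, hp2, hp3, ?_, ?_, hS'.hs3, hS'.ht2, hS'.hts, hS'.hs1, hS'.ht1, hS'.hGn, hS'.hgen,
      hS'.hcop, hS'.hsolv, ?_, hS'.hfpf, ?_, ?_⟩
    · -- exponent
      intro v
      apply VMod.ext
      apply Subtype.ext
      show (((p • v : VMod hmod).val : ↥V) : Γ) = 1
      have h1 : ((p • v : VMod hmod).val : ↥V) = v.val ^ p := rfl
      rw [h1, Subgroup.coe_pow]
      exact hVs _ v.val.2
    · -- nonzero
      refine ⟨VMod.mk hmod ⟨v0, hv0V⟩, ?_⟩
      intro e
      have := congrArg (fun x : VMod hmod => ((x.val : ↥V) : Γ)) e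
      exact hv01 this
    · -- faithful
      rintro _ ⟨g, hg, rfl⟩ hfix
      rw [hker]
      refine ⟨hg, ?_⟩
      show g ∈ Subgroup.centralizer (V : Set Γ)
      rw [Subgroup.mem_centralizer_iff]
      intro v hv
      have h1 := hfix (VMod.mk hmod ⟨v, hv⟩)
      have h2 : g * v * g⁻¹ = v := by
        have := congrArg (fun x : VMod hmod => ((x.val : ↥V) : Γ)) h1
        exact (mk_smul_val hmod g (VMod.mk hmod ⟨v, hv⟩)).symm.trans this
      calc v * g = g * v * g⁻¹ * g := by rw [h2]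
        _ = g * v := by group
    · -- no fixed vectors
      intro v hsv htv
      have h1 : s * ((v.val : ↥V) : Γ) * s⁻¹ = ((v.val : ↥V) : Γ) := by
        have := congrArg (fun x : VMod hmod => ((x.val : ↥V) : Γ)) hsv
        exact (mk_smul_val hmod s v).symm.trans this
      have h2 : t * ((v.val : ↥V) : Γ) * t⁻¹ = ((v.val : ↥V) : Γ) := by
        have := congrArg (fun x : VMod hmod => ((x.val : ↥V) : Γ)) htv
        exact (mk_smul_val hmod t v).symm.trans this
      have h3 : ((v.val : ↥V) : Γ) = 1 := by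
        apply hS.hfpf _ (hVG v.val.2)
        · calc s * ((v.val : ↥V) : Γ) = s * ((v.val : ↥V) : Γ) * s⁻¹ * s := by group
            _ = ((v.val : ↥V) : Γ) * s := by rw [h1]
        · calc t * ((v.val : ↥V) : Γ) = t * ((v.val : ↥V) : Γ) * t⁻¹ * t := by group
            _ = ((v.val : ↥V) : Γ) * t := by rw [h2]
      apply VMod.ext
      apply Subtype.ext
      exact h3
    · -- irreducible
      intro U hU
      let W : Subgroup Γ :=
        { carrier := {x | ∃ hx : x ∈ V, VMod.mk hmod ⟨x, hx⟩ ∈ U}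
          one_mem' := ⟨V.one_mem, U.zero_mem⟩
          mul_mem' := by
            rintro a b ⟨ha, haU⟩ ⟨hb, hbU⟩
            refine ⟨V.mul_mem ha hb, ?_⟩
            have := U.add_mem haU hbU
            exact this
          inv_mem' := by
            rintro a ⟨ha, haU⟩
            refine ⟨V.inv_mem ha, ?_⟩
            have := U.neg_mem haU
            exact this }
      have hWn : W.Normal := by
        constructor
        rintro x ⟨hx, hxU⟩ g
        refine ⟨hVn.conj_mem x hx g, ?_⟩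
        have := hU (QuotientGroup.mk' _ g) _ hxU
        exact this
      have hWV : W ≤ V := fun x hx => hx.1
      by_cases hW1 : W = ⊥
      · left
        rw [eq_bot_iff]
        intro u hu
        rw [AddSubgroup.mem_bot]
        have : ((u.val : ↥V) : Γ) ∈ W := ⟨u.val.2, hu⟩
        rw [hW1, Subgroup.mem_bot] at this
        apply VMod.ext
        apply Subtype.ext
        exact this
      · right
        have hWeq := hmn.hmin W hWn hWV hW1
        rw [eq_top_iff]
        intro u _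
        have : ((u.val : ↥V) : Γ) ∈ W := by rw [hWeq]; exact u.val.2
        obtain ⟨_, h2⟩ := this
        exact h2
  -- the image of `G` has a nilpotent derived subgroup
  have hderH : S3F.DerNilp (G.map (QuotientGroup.mk' (G ⊓ Subgroup.centralizer (V : Set Γ)))) := by
    refine ⟨k1, ?_⟩
    rw [← Subgroup.map_lowerCentralSeries, ← Subgroup.map_lowerCentralSeries, eq_bot_iff]
    refine (Subgroup.map_mono hk1).trans ?_
    rintro _ ⟨v, hv, rfl⟩
    rw [Subgroup.mem_bot, hker]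
    exact hVK hv
  have hB := not_dvd_card_commutator hC hderH
  -- minimality
  have hminN : MinNonab (G.map (QuotientGroup.mk' (G ⊓ Subgroup.centralizer (V : Set Γ))))
      (QuotientGroup.mk' (G ⊓ Subgroup.centralizer (V : Set Γ)) s)
      (QuotientGroup.mk' (G ⊓ Subgroup.centralizer (V : Set Γ)) t) := by
    intro K₁ hK₁ hK₁ne hK₁s hK₁t
    have hG₀G : G ⊓ K₁.comap (QuotientGroup.mk' (G ⊓ Subgroup.centralizer (V : Set Γ))) ≤ G :=
      inf_le_left
    have hG₀s : ∀ x ∈ G ⊓ K₁.comap (QuotientGroup.mk' (G ⊓ Subgroup.centralizer (V : Set Γ))),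
        s * x * s⁻¹ ∈ G ⊓ K₁.comap (QuotientGroup.mk' (G ⊓ Subgroup.centralizer (V : Set Γ))) := by
      intro x hx
      refine ⟨hGn.conj_mem x hx.1 s, ?_⟩
      show QuotientGroup.mk' (G ⊓ Subgroup.centralizer (V : Set Γ)) (s * x * s⁻¹) ∈ K₁
      rw [map_mul, map_mul, map_inv]
      exact hK₁s _ hx.2
    have hG₀t : ∀ x ∈ G ⊓ K₁.comap (QuotientGroup.mk' (G ⊓ Subgroup.centralizer (V : Set Γ))),
        t * x * t⁻¹ ∈ G ⊓ K₁.comap (QuotientGroup.mk' (G ⊓ Subgroup.centralizer (V : Set Γ))) := by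
      intro x hx
      refine ⟨hGn.conj_mem x hx.1 t, ?_⟩
      show QuotientGroup.mk' (G ⊓ Subgroup.centralizer (V : Set Γ)) (t * x * t⁻¹) ∈ K₁
      rw [map_mul, map_mul, map_inv]
      exact hK₁t _ hx.2
    have hmapG₀ : (G ⊓ K₁.comap (QuotientGroup.mk' (G ⊓ Subgroup.centralizer (V : Set Γ)))).map
        (QuotientGroup.mk' (G ⊓ Subgroup.centralizer (V : Set Γ))) = K₁ := by
      apply le_antisymm
      · rintro _ ⟨x, hx, rfl⟩
        exact hx.2
      · intro y hy
        obtain ⟨x, hxG, rfl⟩ := hK₁ hy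
        exact ⟨x, ⟨hxG, hy⟩, rfl⟩
    have hG₀ne : G ⊓ K₁.comap (QuotientGroup.mk' (G ⊓ Subgroup.centralizer (V : Set Γ))) ≠ G := by
      intro e
      apply hK₁ne
      rw [← hmapG₀, e]
    have hKG₀ : G ⊓ Subgroup.centralizer (V : Set Γ) ≤
        G ⊓ K₁.comap (QuotientGroup.mk' (G ⊓ Subgroup.centralizer (V : Set Γ))) := by
      intro k hk
      refine ⟨hKG hk, ?_⟩
      show QuotientGroup.mk' (G ⊓ Subgroup.centralizer (V : Set Γ)) k ∈ K₁
      rw [(hker k).2 hk]
      exact K₁.one_mem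
    have hVG₀ : V ≤ G ⊓ K₁.comap (QuotientGroup.mk' (G ⊓ Subgroup.centralizer (V : Set Γ))) :=
      hVK.trans hKG₀
    have hsΓ₀ : s ∈ G ⊓ K₁.comap (QuotientGroup.mk' (G ⊓ Subgroup.centralizer (V : Set Γ))) ⊔
        Subgroup.closure ({s, t} : Set Γ) :=
      Subgroup.mem_sup_right (Subgroup.subset_closure (by simp))
    have htΓ₀ : t ∈ G ⊓ K₁.comap (QuotientGroup.mk' (G ⊓ Subgroup.centralizer (V : Set Γ))) ⊔
        Subgroup.closure ({s, t} : Set Γ) :=
      Subgroup.mem_sup_right (Subgroup.subset_closure (by simp))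
    have hded := inf_sup_closure hS hG₀G hG₀s hG₀t
    have hΓ₀ne : G ⊓ K₁.comap (QuotientGroup.mk' (G ⊓ Subgroup.centralizer (V : Set Γ))) ⊔
        Subgroup.closure ({s, t} : Set Γ) ≠ ⊤ := by
      intro e
      apply hG₀ne
      rw [← hded, e, inf_top_eq]
    have hlt₀ : Nat.card ↥(G ⊓ K₁.comap (QuotientGroup.mk' (G ⊓ Subgroup.centralizer (V : Set Γ))) ⊔
        Subgroup.closure ({s, t} : Set Γ)) < n := by
      rw [← hn]
      by_contra hcon
      rw [not_lt] at hcon
      exact hΓ₀ne ((Subgroup.card_eq_iff_eq_top _).1 (le_antisymm (Subgroup.card_le_card_group _) hcon))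
    have hder₀ := ih _ hlt₀ _ _ _ _ rfl (hsub hS _ hsΓ₀ htΓ₀)
    have hder₀' : S3F.DerNilp
        (G ⊓ K₁.comap (QuotientGroup.mk' (G ⊓ Subgroup.centralizer (V : Set Γ)))) := by
      have := hder₀.map (Subgroup.subtype _)
      rwa [Subgroup.subgroupOf_map_subtype, hded] at this
    have hnil₀ := (S3F.derNilp_iff _).1 hder₀'
    have hA := exists_pow_mem_centralizer hp hVG₀ hVs hnil₀
    intro a ha b hb
    rw [← hmapG₀] at ha hb
    obtain ⟨x, hx, rfl⟩ := ha
    obtain ⟨y, hy, rfl⟩ := hb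
    have hc := Subgroup.commutator_mem_commutator hx hy
    obtain ⟨m, hm⟩ := hA _ hc
    have hcG : ⁅x, y⁆ ∈ G := by
      rw [commutatorElement_def]
      exact G.mul_mem (G.mul_mem (G.mul_mem (hG₀G hx) (hG₀G hy)) (G.inv_mem (hG₀G hx)))
        (G.inv_mem (hG₀G hy))
    have hz : ⁅QuotientGroup.mk' (G ⊓ Subgroup.centralizer (V : Set Γ)) x,
        QuotientGroup.mk' (G ⊓ Subgroup.centralizer (V : Set Γ)) y⁆ ^ (p ^ m) = 1 := by
      rw [← map_commutatorElement, ← map_pow, hker]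
      exact ⟨G.pow_mem hcG _, hm⟩
    have hzH := Subgroup.commutator_mem_commutator
      (Subgroup.mem_map_of_mem (QuotientGroup.mk' (G ⊓ Subgroup.centralizer (V : Set Γ))) (hG₀G hx))
      (Subgroup.mem_map_of_mem (QuotientGroup.mk' (G ⊓ Subgroup.centralizer (V : Set Γ))) (hG₀G hy))
    have hz1 : ⁅QuotientGroup.mk' (G ⊓ Subgroup.centralizer (V : Set Γ)) x,
        QuotientGroup.mk' (G ⊓ Subgroup.centralizer (V : Set Γ)) y⁆ = 1 := by
      have h1 := orderOf_dvd_of_pow_eq_one hz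
      have h2 := orderOf_dvd_natCard (⟨_, hzH⟩ : ↥⁅G.map (QuotientGroup.mk'
        (G ⊓ Subgroup.centralizer (V : Set Γ))), G.map (QuotientGroup.mk'
        (G ⊓ Subgroup.centralizer (V : Set Γ)))⁆)
      rw [Subgroup.orderOf_mk] at h2
      have hcop : (p ^ m).Coprime (Nat.card ↥⁅G.map (QuotientGroup.mk'
        (G ⊓ Subgroup.centralizer (V : Set Γ))), G.map (QuotientGroup.mk'
        (G ⊓ Subgroup.centralizer (V : Set Γ)))⁆) :=
        Nat.Coprime.pow_left m ((Nat.Prime.coprime_iff_not_dvd hp).2 hB)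
      exact orderOf_eq_one_iff.1 (Nat.eq_one_of_dvd_coprimes hcop h1 h2)
    exact commutatorElement_eq_one_iff_mul_comm.1 hz1
  have hab := hcrit hC hminN
  rw [S3F.lcs_one, Subgroup.commutator_le]
  intro x hx y hy
  have h1 : QuotientGroup.mk' (G ⊓ Subgroup.centralizer (V : Set Γ)) ⁅x, y⁆ = 1 := by
    rw [map_commutatorElement]
    exact commutatorElement_eq_one_iff_mul_comm.2
      (hab _ (Subgroup.mem_map_of_mem _ hx) _ (Subgroup.mem_map_of_mem _ hy))
  rw [hker] at h1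
  exact h1.2

end main

end Cfsg.Agent.Lib.Helper8.S3R
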