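import Mathlib
import Cfsg.Agent.Lib.Helper8.S3R
import Cfsg.Agent.Lib.Lead.S3R
import Cfsg.Agent.Lib.Helper7.S3S
import Cfsg.Agent.Lib.Helper9.S3Pa
import Cfsg.Agent.Lib.Helper3.S3B6

/-!
# S4305: the critical theorem (assembly) and Theorem R (the symmetric group of degree 3 acting
without fixed points on a solvable group of order prime to 6: the derived subgroup is nilpotent),
internal form.
-/

set_option autoImplicit false

namespace Cfsg.Agent.Lib.Helper8.S3Main

open Cfsg.Agent.Lib.Lead.S3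
open Cfsg.Agent.Lib.Helper8
open scoped commutatorElement

universe u w

section critical

variable {V : Type u} [AddCommGroup V] [Finite V] {T : Type w} [Group T] [Finite T]
  [DistribMulAction T V] {p : ℕ} {H : Subgroup T} {s t : T}

/-- **Theorem C**: in the critical configuration, if all proper invariant subgroups of `H` are
abelian then `H` is abelian. -/
theorem crit_abelian (h : Crit V p H s t) (hmin : MinNonab H s t) :
    ∀ x ∈ H, ∀ y ∈ H, x * y = y * x := by
  by_contra hnab
  rcases Cfsg.Agent.Lib.Helper7.S3S.crit_split h hmin hnab with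
    ⟨q, hq, hqp, hH⟩ | ⟨q, r, Q, R, hq, hr, hqr, hqp, hQn, hQH, hRH, hQq, hRr, hQc, hRs, hRt, hQR, hQ1⟩
  · exact hnab (Cfsg.Agent.Lib.Helper9.S3Pa.crit_pgroup_abelian h hq hqp hH)
  · exact Cfsg.Agent.Lib.Helper3.S3B.crit_split_false h hmin hnab hq hr hqr hqp hQn hQH hRH hQq hRr
      hQc hRs hRt hQR hQ1

end critical

/-- **Theorem R.** -/
theorem thmR : ∀ (n : ℕ) (Γ : Type w) [Group Γ] [Finite Γ] (G : Subgroup Γ) (s t : Γ),
    Nat.card Γ = n → Setting G s t → Group.IsNilpotent ↥⁅G, G⁆ := by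
  intro n Γ _ _ G s t hn hS
  exact (S3F.derNilp_iff G).1
    (S3R.derNilp_of_setting (fun h N _ hNG => h.quot N hNG) (fun h Γ₀ hs ht => h.sub Γ₀ hs ht)
      (fun hC hM => crit_abelian hC hM) n Γ G s t hn hS)

end Cfsg.Agent.Lib.Helper8.S3Main
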