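import Mathlib
import Cfsg.Prelude
import Cfsg.Agent.Lib.Helper8.S5693_Base
import Cfsg.Agent.Lib.Helper8.S5693_Tab

set_option autoImplicit false

/-! # S5693, sub-case `k = 2`, plus type, `q = 3`: `O₂⁺(3) ≀ S_t` is not maximal in `Ω` -/

namespace Cfsg.Agent.S5693Pk

open Matrix Cfsg.Agent.H9Orth

variable {F : Type*} [Field F] {ι : Type} [Fintype ι] [DecidableEq ι]
variable {Q : QuadraticForm F (ι → F)}

theorem notmax_a [Fintype F] (hq : Fintype.card F = 3) {t : ℕ} (ht : 7 ≤ t)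
    (D : Fin t → Submodule F (ι → F))
    (hD : Cfsg.Geo.IsOrthogonalMDecomposition ⇑Q 2 D)
    (hplus : ∀ i, Cfsg.Geo.IsPlusTypeOn ⇑Q (D i)) :
    ∃ K : Subgroup (Matrix.GeneralLinearGroup ι F),
      Cfsg.Geo.decompositionStabilizer D ⊓ Cfsg.Geo.omegaGL ⇑Q < K ∧
        K < Cfsg.Geo.omegaGL ⇑Q := by
  classical
  obtain ⟨e, f, he, hf, hQe, hQf, hef, hsp⟩ := exists_hyp_bases D hD hplus
  obtain ⟨hee, hff, hef', hfe'⟩ := hyp_table hD e f he hf hQe hQf hef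
  have h2 : (2 : F) ≠ 0 := two_ne_zero_of_card hq
  have h3 : (3 : F) = 0 := char_three hq
  obtain ⟨i0, i1, i2, i3, i4, i5, h01, h02, h03, h04, h05, h12, h13, h14, h15, h23, h24, h25,
      h34, h35, h45⟩ : ∃ i0 i1 i2 i3 i4 i5 : Fin t, i0 ≠ i1 ∧ i0 ≠ i2 ∧ i0 ≠ i3 ∧ i0 ≠ i4 ∧
      i0 ≠ i5 ∧ i1 ≠ i2 ∧ i1 ≠ i3 ∧ i1 ≠ i4 ∧ i1 ≠ i5 ∧ i2 ≠ i3 ∧ i2 ≠ i4 ∧ i2 ≠ i5 ∧
      i3 ≠ i4 ∧ i3 ≠ i5 ∧ i4 ≠ i5 := by
    refine ⟨⟨0, by omega⟩, ⟨1, by omega⟩, ⟨2, by omega⟩, ⟨3, by omega⟩, ⟨4, by omega⟩,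
      ⟨5, by omega⟩, ?_, ?_, ?_, ?_, ?_, ?_, ?_, ?_, ?_, ?_, ?_, ?_, ?_, ?_, ?_⟩ <;>
    · intro h; simpa using congrArg Fin.val h
  obtain ⟨a, ha_def⟩ : ∃ a : Fin t → (ι → F), a = fun i => e i + f i := ⟨_, rfl⟩
  have ha : ∀ i, a i ∈ D i := fun i => by rw [ha_def]; exact (D i).add_mem (he i) (hf i)
  have hQa : ∀ i, Q (a i) = 1 := by
    intro i
    simp only [ha_def]
    rw [QuadraticMap.map_add Q, hQe, hQf, hef]; ring
  have hae : ∀ i j, QuadraticMap.polar (⇑Q) (a i) (e j) = if i = j then 1 else 0 := by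
    intro i j
    simp only [ha_def]
    rw [QuadraticMap.polar_add_left, hee, hfe', zero_add]
  have haf : ∀ i j, QuadraticMap.polar (⇑Q) (a i) (f j) = if i = j then 1 else 0 := by
    intro i j
    simp only [ha_def]
    rw [QuadraticMap.polar_add_left, hff, hef', add_zero]
  have haa : ∀ i j, i ≠ j → QuadraticMap.polar (⇑Q) (a i) (a j) = 0 := fun i j hij =>
    orth_of_ne hD hij (ha i) (ha j)
  -- the norm-one vectors of a member
  have huniq : ∀ i s, s ∈ D i → Q s = 1 → ∃ c : F, s = c • a i := by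
    intro i s hs hQs
    obtain ⟨x, y, rfl⟩ := hsp i s hs
    have hxy : Q (x • e i + y • f i) = x * y := by
      rw [QuadraticMap.map_add Q, QuadraticMap.map_smul, QuadraticMap.map_smul, hQe, hQf,
        QuadraticMap.polar_smul_left, QuadraticMap.polar_smul_right, hef]
      simp
    rw [hxy] at hQs
    have hx0 : x ≠ 0 := by rintro rfl; simp at hQs
    refine ⟨x, ?_⟩
    have hyx : y = x := by
      rcases eq_one_or_neg_one hq hx0 with rfl | rfl
      · simpa using hQs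
      · have : y = -1 := by linear_combination -hQs
        exact this
    rw [hyx]; simp [ha_def]
  -- first witness
  obtain ⟨g₁, hg₁Ω, g1, g2, g3, gw⟩ := three_cycle h2 (a i0) (a i1) (a i2) 1 one_ne_zero
    (hQa i0) (hQa i1) (hQa i2) (haa _ _ h01) (haa _ _ h02) (haa _ _ h12)
  have hg₁a : ∀ i, ∃ j, (g₁ : Matrix ι ι F) *ᵥ a i ∈ D j := by
    intro i
    by_cases k0 : i = i0
    · subst k0; exact ⟨i2, by rw [g1]; exact ha i2⟩
    by_cases k1 : i = i1
    · subst k1; exact ⟨i0, by rw [g2]; exact ha i0⟩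
    by_cases k2 : i = i2
    · subst k2; exact ⟨i1, by rw [g3]; exact ha i1⟩
    refine ⟨i, ?_⟩
    rw [gw (a i) (haa _ _ (Ne.symm k0)) (haa _ _ (Ne.symm k1)) (haa _ _ (Ne.symm k2))]
    exact ha i
  -- second witness
  set u := a i0 + a i1 + a i2 + a i3 with hu
  have hQu : Q u = 1 := by
    rw [hu, QuadraticMap.map_add Q, QuadraticMap.map_add Q, QuadraticMap.map_add Q, hQa, hQa,
      hQa, hQa, QuadraticMap.polar_add_left, QuadraticMap.polar_add_left,
      QuadraticMap.polar_add_left, haa _ _ h01, haa _ _ h02, haa _ _ h12, haa _ _ h03,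
      haa _ _ h13, haa _ _ h23]
    linear_combination h3
  have hau : ∀ j, j ≠ i0 → j ≠ i1 → j ≠ i2 → j ≠ i3 → QuadraticMap.polar (⇑Q) (a j) u = 0 := by
    intro j k0 k1 k2 k3
    rw [hu, QuadraticMap.polar_add_right, QuadraticMap.polar_add_right,
      QuadraticMap.polar_add_right, haa _ _ k0, haa _ _ k1, haa _ _ k2, haa _ _ k3]
    simp
  obtain ⟨g₂, hg₂Ω, k1, -, -, -⟩ := three_cycle h2 (a i4) (a i5) u 1 one_ne_zero
    (hQa i4) (hQa i5) hQu (haa _ _ h45) (hau i4 h04.symm h14.symm h24.symm h34.symm)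
    (hau i5 h05.symm h15.symm h25.symm h35.symm)
  refine notmax_of_witnesses D 1 g₁ g₂ hg₁Ω ?_ ?_ hg₂Ω ?_
  · rintro v hv ⟨i, hi⟩
    obtain ⟨c, rfl⟩ := huniq i v hi hv
    obtain ⟨j, hj⟩ := hg₁a i
    exact ⟨j, by rw [Matrix.mulVec_smul]; exact (D j).smul_mem c hj⟩
  · intro hmem
    obtain ⟨σ, hσ⟩ := stab_maps hmem
    have m1 : (g₁ : Matrix ι ι F) *ᵥ a i0 ∈ D (σ i0) := hσ i0 _ (ha i0)
    rw [g1] at m1
    have hσ0 : σ i0 = i2 := by
      apply idx_eq_of_polar_ne hD m1 (he i2)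
      rw [hae, if_pos rfl]; exact one_ne_zero
    have hb : e i0 - f i0 ∈ D i0 := (D i0).sub_mem (he i0) (hf i0)
    have pb : ∀ j, QuadraticMap.polar (⇑Q) (a j) (e i0 - f i0) = 0 := by
      intro j
      rw [QuadraticMap.polar_sub_right, hae, haf]
      simp
    have m2 : (g₁ : Matrix ι ι F) *ᵥ (e i0 - f i0) ∈ D (σ i0) := hσ i0 _ hb
    rw [gw _ (pb i0) (pb i1) (pb i2), hσ0] at m2
    have : i2 = i0 := by
      apply idx_eq_of_polar_ne hD m2 (he i0)
      rw [QuadraticMap.polar_sub_left, hee, hfe', if_pos rfl]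
      simp
    exact h02 this.symm
  · refine ⟨a i4, hQa i4, ⟨i4, ha i4⟩, ?_⟩
    rintro ⟨i, hi⟩
    rw [k1] at hi
    have pu : ∀ j, QuadraticMap.polar (⇑Q) u (e j) =
        (if i0 = j then 1 else 0) + (if i1 = j then 1 else 0) + (if i2 = j then 1 else 0)
          + (if i3 = j then 1 else 0) := by
      intro j
      rw [hu, QuadraticMap.polar_add_left, QuadraticMap.polar_add_left,
        QuadraticMap.polar_add_left, hae, hae, hae, hae]
    have e0 : i = i0 := by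
      apply idx_eq_of_polar_ne hD hi (he i0)
      rw [pu, if_pos rfl, if_neg h01.symm, if_neg h02.symm, if_neg h03.symm]
      simp
    have e1 : i = i1 := by
      apply idx_eq_of_polar_ne hD hi (he i1)
      rw [pu, if_neg h01, if_pos rfl, if_neg h12.symm, if_neg h13.symm]
      simp
    exact h01 (e0.symm.trans e1)

end Cfsg.Agent.S5693Pk
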