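import Mathlib
import Cfsg.Prelude.Def_Characters
import Cfsg.Prelude.Def_Blocks
import Cfsg.Agent.Lib.Helper8.SB1
import Cfsg.Agent.Lib.Helper8.CharPPart
import Cfsg.Agent.Lib.Helper8.TildeBlock
import Cfsg.Agent.Lib.Helper8.BlockLocal
import Cfsg.Agent.Lib.Helper2.PiSection
import Cfsg.Agent.Lib.Helper1.CharFound6
import Cfsg.Agent.Lib.Helper1.LinearChar
import Cfsg.Agent.S0177

/-!
# Schur's bound for `p`-rational characters
-/

set_option autoImplicit false
set_option linter.unusedSectionVars false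

namespace Cfsg.Agent.Lib.Helper8.SB

open Cfsg
open scoped ComplexConjugate
open Cfsg.Agent.Lib.Helper1 Cfsg.Agent.Lib.Helper4 Cfsg.Agent.Lib.Helper8

universe u

variable {P : Type u} [Group P] [Finite P]

/-- The possible values of a faithful Galois stable character of a `p`-group. -/
theorem value_form {p : ℕ} [hp : Fact p.Prime] (hP : IsPGroup p P) {χ : P → ℂ}
    (hχ : IsCharacter P χ) {n : ℕ} (hn : χ 1 = n) (hfaith : ∀ g, χ g = χ 1 → g = 1)
    (hstab : ∀ (x : P) (u : ℕ), Nat.Coprime u p → χ (x ^ u) = χ x) {x : P} (hx : x ≠ 1) :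
    ∃ t : ℕ, 1 ≤ t ∧ (p - 1) * t ≤ n ∧ χ x = (n : ℂ) - (p : ℂ) * t := by
  obtain ⟨k, hk⟩ := hP x
  have hk0 : k ≠ 0 := by
    rintro rfl
    apply hx
    simpa using hk
  obtain ⟨e, rfl⟩ := Nat.exists_eq_succ_of_ne_zero hk0
  obtain ⟨f₀, f₁, h01, h1n, hrel⟩ := key_relation hp.out hχ hn hk (hstab x)
  have hp2 : 2 ≤ p := hp.out.two_le
  have hp1 : ((p : ℂ) - 1) ≠ 0 := by
    have : ((p : ℂ) - 1) = ((p - 1 : ℕ) : ℂ) := by
      rw [Nat.cast_sub (by omega)]; simp
    rw [this]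
    exact_mod_cast (by omega : p - 1 ≠ 0)
  -- rationality
  set q : ℚ := ((p : ℚ) * f₀ - f₁) / ((p : ℚ) - 1) with hq
  have hp1q : ((p : ℚ) - 1) ≠ 0 := by
    have h2 : (2 : ℚ) ≤ p := by exact_mod_cast hp2
    linarith
  have hχq : χ x = (q : ℂ) := by
    rw [hq]
    push_cast
    rw [eq_div_iff hp1]
    linear_combination -hrel
  have hint : IsIntegral ℤ (χ x) := Cfsg.Agent.Lib.Helper2.PiSection.algInt_char hχ x
  rw [hχq] at hint
  have hint' : IsIntegral ℤ q := by
    have h3 : IsIntegral ℤ (algebraMap ℚ ℂ q) := hint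
    exact (isIntegral_algebraMap_iff (algebraMap ℚ ℂ).injective).1 h3
  obtain ⟨z, hz⟩ := IsIntegrallyClosed.isIntegral_iff.1 hint'
  have hzq : (z : ℚ) = q := hz
  have hχz : χ x = (z : ℂ) := by
    rw [hχq, ← hzq]
    simp
  -- the relation over ℤ
  have hrelz : ((p : ℤ) - 1) * z = (p : ℤ) * f₀ - f₁ := by
    have h4 : ((p : ℚ) - 1) * z = (p : ℚ) * f₀ - f₁ := by
      rw [hzq, hq]
      field_simp
    exact_mod_cast h4
  -- divisibility by p
  obtain ⟨M, hM⟩ := exists_isPModular p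
  have hloc := memLocalIdeal_char_mul_sub hM hχ x 1 (e + 1) hk (by simp)
  rw [mul_one, hχz, hn] at hloc
  have hloc' : MemLocalIdeal M (((z - n : ℤ)) : ℂ) := by
    push_cast
    exact hloc
  obtain ⟨t', ht'⟩ := (memLocalIdeal_intCast_iff hM (z - n)).1 hloc'
  -- inequalities
  have hP1 : (1 : ℤ) ≤ (p : ℤ) - 1 := by
    have : (2 : ℤ) ≤ p := by exact_mod_cast hp2
    linarith
  have hPpos : (0 : ℤ) < p := by
    have : (2 : ℤ) ≤ p := by exact_mod_cast hp2
    linarith
  have hf0 : (0 : ℤ) ≤ f₀ := Int.natCast_nonneg _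
  have hf01 : (f₀ : ℤ) ≤ f₁ := by exact_mod_cast h01
  have hf1n : (f₁ : ℤ) ≤ n := by exact_mod_cast h1n
  have hzn : z ≤ n := by
    have h5 : ((p : ℤ) - 1) * z ≤ ((p : ℤ) - 1) * n := by
      rw [hrelz]
      have h6 : (p : ℤ) * f₀ ≤ (p : ℤ) * f₁ := mul_le_mul_of_nonneg_left hf01 hPpos.le
      have h7 : ((p : ℤ) - 1) * f₁ ≤ ((p : ℤ) - 1) * n := mul_le_mul_of_nonneg_left hf1n (by linarith)
      linarith
    exact le_of_mul_le_mul_left h5 (by linarith)
  have hzne : z ≠ n := by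
    intro h
    apply hx
    apply hfaith
    rw [hχz, hn, h]
    simp
  -- n - z = p * (-t')
  set s : ℤ := -t' with hs
  have hns : (n : ℤ) - z = p * s := by
    rw [hs]
    linarith
  have hs1 : 1 ≤ s := by
    have h8 : 0 < (p : ℤ) * s := by
      rw [← hns]
      have : z < n := lt_of_le_of_ne hzn hzne
      linarith
    have h9 : 0 < s := by
      by_contra hneg
      push Not at hneg
      have : (p : ℤ) * s ≤ 0 := mul_nonpos_of_nonneg_of_nonpos hPpos.le hneg
      linarith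
    linarith
  have hsn : ((p : ℤ) - 1) * s ≤ n := by
    have h10 : (p : ℤ) * (((p : ℤ) - 1) * s) ≤ (p : ℤ) * n := by
      have h11 : (p : ℤ) * (((p : ℤ) - 1) * s) = ((p : ℤ) - 1) * ((n : ℤ) - z) := by
        rw [hns]; ring
      rw [h11]
      have h12 : ((p : ℤ) - 1) * ((n : ℤ) - z) = ((p : ℤ) - 1) * n - ((p : ℤ) * f₀ - f₁) := by
        rw [← hrelz]; ring
      rw [h12]
      have h6 : 0 ≤ (p : ℤ) * f₀ := mul_nonneg hPpos.le hf0
      nlinarith
    exact le_of_mul_le_mul_left h10 hPpos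
  refine ⟨s.toNat, ?_, ?_, ?_⟩
  · have : ((s.toNat : ℕ) : ℤ) = s := Int.toNat_of_nonneg (by linarith)
    omega
  · have h13 : ((s.toNat : ℕ) : ℤ) = s := Int.toNat_of_nonneg (by linarith)
    have h14 : (((p - 1) * s.toNat : ℕ) : ℤ) ≤ (n : ℤ) := by
      push_cast
      rw [Nat.cast_sub (by omega), h13]
      simpa using hsn
    exact_mod_cast h14
  · have h13 : ((s.toNat : ℕ) : ℤ) = s := Int.toNat_of_nonneg (by linarith)
    rw [hχz]
    have h15 : (z : ℤ) = (n : ℤ) - (p : ℤ) * (s.toNat : ℤ) := by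
      rw [h13]; linarith
    rw [h15]
    push_cast
    ring

theorem isCharacter_pow {χ : P → ℂ} (hχ : IsCharacter P χ) (k : ℕ) : IsCharacter P (χ ^ k) := by
  induction k with
  | zero =>
    rw [pow_zero]
    have := isIrrCharacter_of_hom (1 : P →* ℂˣ)
    have h2 : (1 : P → ℂ) = fun g => (((1 : P →* ℂˣ) g : ℂˣ) : ℂ) := by
      funext g; simp
    rw [h2]
    exact isCharacter_of_irr this
  | succ k ih =>
    rw [pow_succ]
    exact Cfsg.Agent.S0177.isCharacter_mul ih hχ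

/-- Sums of integer polynomial expressions in a character are divisible by the group order. -/
theorem sum_aeval_dvd [Fintype P] {χ : P → ℂ} (hχ : IsCharacter P χ) (Q : Polynomial ℤ) :
    ∃ z : ℤ, ∑ x : P, Polynomial.aeval (χ x) Q = (Nat.card P : ℂ) * z := by
  induction Q using Polynomial.induction_on' with
  | add a b ha hb =>
    obtain ⟨z₁, h1⟩ := ha
    obtain ⟨z₂, h2⟩ := hb
    refine ⟨z₁ + z₂, ?_⟩
    simp only [map_add]
    rw [Finset.sum_add_distrib, h1, h2]
    push_cast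
    ring
  | monomial k a =>
    have h1 : IsCharacter P (fun _ => (1 : ℂ)) := by
      have := isIrrCharacter_of_hom (1 : P →* ℂˣ)
      have h2 : (fun _ : P => (1 : ℂ)) = fun g => (((1 : P →* ℂˣ) g : ℂˣ) : ℂ) := by
        funext g; simp
      rw [h2]
      exact isCharacter_of_irr this
    obtain ⟨m, hm⟩ := classInner_char_nat (isCharacter_pow hχ k) h1
    rw [classInner_def] at hm
    refine ⟨a * m, ?_⟩
    have hP0 : (Nat.card P : ℂ) ≠ 0 := Nat.cast_ne_zero.2 Nat.card_pos.ne'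
    have h3 : ∑ x : P, (χ ^ k) x * conj ((fun _ : P => (1 : ℂ)) x) = (Nat.card P : ℂ) * m := by
      rw [← hm, ← mul_assoc, mul_inv_cancel₀ hP0, one_mul]
    have h4 : ∀ x : P, Polynomial.aeval (χ x) (Polynomial.monomial k a)
        = (a : ℂ) * ((χ ^ k) x * conj ((fun _ : P => (1 : ℂ)) x)) := by
      intro x
      rw [Polynomial.aeval_monomial]
      simp
    rw [Finset.sum_congr rfl fun x _ => h4 x, ← Finset.mul_sum, h3]
    push_cast
    ring

end Cfsg.Agent.Lib.Helper8.SB
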