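import Mathlib
import Cfsg.Agent.Lib.Helper8.SBS6
import Cfsg.Agent.Lib.Helper8.CarveG1
import Cfsg.Agent.Lib.Helper8.CarveG2
import Cfsg.Agent.Lib.Lead.PExpMin1

/-!
# The module claim: the symplectic-type case and the induction
-/

set_option autoImplicit false
set_option linter.unusedSectionVars false

namespace Cfsg.Agent.Lib.Helper8.SBS

open scoped commutatorElement

universe u w

section omega

variable {T : Type w} [Group T]

/-- the elements of order dividing `p` of an abelian subgroup `A` of `Q`, as a subgroup of `T`. -/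
def omegaSub (p : ℕ) (Q : Subgroup T) (A : Subgroup Q)
    (hAc : ∀ x ∈ A, ∀ y ∈ A, x * y = y * x) : Subgroup T where
  carrier := {t | ∃ h : t ∈ Q, (⟨t, h⟩ : Q) ∈ A ∧ t ^ p = 1}
  one_mem' := ⟨Q.one_mem, A.one_mem, one_pow p⟩
  mul_mem' := by
    rintro x y ⟨hx, hxA, hxp⟩ ⟨hy, hyA, hyp⟩
    refine ⟨Q.mul_mem hx hy, A.mul_mem hxA hyA, ?_⟩
    have hc : x * y = y * x := congrArg Subtype.val (hAc _ hxA _ hyA)
    have hc' : Commute x y := hc
    rw [hc'.mul_pow, hxp, hyp, one_mul]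
  inv_mem' := by
    rintro x ⟨hx, hxA, hxp⟩
    exact ⟨Q.inv_mem hx, A.inv_mem hxA, by rw [inv_pow, hxp, inv_one]⟩

theorem mem_omegaSub {p : ℕ} {Q : Subgroup T} {A : Subgroup Q}
    {hAc : ∀ x ∈ A, ∀ y ∈ A, x * y = y * x} {t : T} :
    t ∈ omegaSub p Q A hAc ↔ ∃ h : t ∈ Q, (⟨t, h⟩ : Q) ∈ A ∧ t ^ p = 1 := Iff.rfl

theorem omegaSub_normal {p : ℕ} (Q : Subgroup T) [hQn : Q.Normal] (A : Subgroup Q)
    (hA : A.Characteristic) (hAc : ∀ x ∈ A, ∀ y ∈ A, x * y = y * x) :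
    (omegaSub p Q A hAc).Normal := by
  constructor
  rintro x ⟨hx, hxA, hxp⟩ t
  refine ⟨hQn.conj_mem x hx t, ?_, ?_⟩
  · have h1 := Subgroup.characteristic_iff_map_le.1 hA (MulAut.conjNormal t)
    have h2 : (MulAut.conjNormal t : MulAut Q) ⟨x, hx⟩ ∈ A := h1 ⟨_, hxA, rfl⟩
    have h3 : (MulAut.conjNormal t : MulAut Q) ⟨x, hx⟩ = ⟨t * x * t⁻¹, hQn.conj_mem x hx t⟩ := by
      apply Subtype.ext
      rw [MulAut.conjNormal_apply]
    rwa [h3] at h2
  · rw [conj_pow, hxp, mul_one, mul_inv_cancel]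

theorem isCyclic_of_small {p : ℕ} [hp : Fact p.Prime] [Finite T] (Q : Subgroup T) [hQn : Q.Normal]
    (hQ : IsPGroup p Q)
    (hsmall : ∀ E : Subgroup T, E.Normal → E ≤ Q → (∀ x ∈ E, ∀ y ∈ E, x * y = y * x) →
      (∀ x ∈ E, x ^ p = 1) → Nat.card E ≤ p)
    (A : Subgroup Q) (hA : A.Characteristic) (hAc : IsMulCommutative A) : IsCyclic A := by
  have hAc' : ∀ x ∈ A, ∀ y ∈ A, x * y = y * x := by
    intro x hx y hy
    exact congrArg Subtype.val (hAc.is_comm.comm (⟨x, hx⟩ : A) ⟨y, hy⟩)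
  have hEn := omegaSub_normal (p := p) Q A hA hAc'
  have hEQ : omegaSub p Q A hAc' ≤ Q := fun t ht => ht.1
  have hEc : ∀ x ∈ omegaSub p Q A hAc', ∀ y ∈ omegaSub p Q A hAc', x * y = y * x := by
    rintro x ⟨hx, hxA, -⟩ y ⟨hy, hyA, -⟩
    exact congrArg Subtype.val (hAc' _ hxA _ hyA)
  have hEexp : ∀ x ∈ omegaSub p Q A hAc', x ^ p = 1 := fun x hx => hx.2.2
  have hcard := hsmall _ hEn hEQ hEc hEexp
  -- the subgroup of `A`
  have hkey : ∀ a : A, orderOf a = p → ∀ b : A, b ^ p = 1 → b ∈ Subgroup.zpowers a := by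
    intro a hoa b hb
    -- the map zpowers a → E is injective, and so is {b, ...}
    by_contra hba
    -- consider the subgroup generated: count
    have hinj : Function.Injective (fun x : A => ((x : Q) : T)) := by
      intro x y hxy
      exact Subtype.ext (Subtype.ext hxy)
    have hmem : ∀ x : A, x ^ p = 1 → ((x : Q) : T) ∈ omegaSub p Q A hAc' := by
      intro x hx
      refine ⟨(x : Q).2, x.2, ?_⟩
      have := congrArg (fun y : A => ((y : Q) : T)) hx
      simpa using this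
    classical
    have hfin : Fintype (omegaSub p Q A hAc') := Fintype.ofFinite _
    -- the set `zpowers a ∪ {b}` injects into `E`
    let S : Set A := (Subgroup.zpowers a : Set A) ∪ {b}
    have hS : ∀ x ∈ S, x ^ p = 1 := by
      rintro x (hx | hx)
      · obtain ⟨k, rfl⟩ := hx
        rw [← zpow_natCast, ← zpow_mul, mul_comm, zpow_mul, zpow_natCast, ← hoa, pow_orderOf_eq_one,
          one_zpow]
      · rw [Set.mem_singleton_iff] at hx
        rw [hx]; exact hb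
    have h1 : Nat.card S ≤ Nat.card (omegaSub p Q A hAc') := by
      apply Nat.card_le_card_of_injective
        (fun x : S => (⟨((x.1 : Q) : T), hmem x.1 (hS x.1 x.2)⟩ : omegaSub p Q A hAc'))
      intro x y hxy
      apply Subtype.ext
      apply hinj
      exact congrArg (Subtype.val : omegaSub p Q A hAc' → T) hxy
    have h2 : Nat.card S = p + 1 := by
      rw [Nat.card_coe_set_eq, Set.ncard_union_eq, Set.ncard_singleton, ← Nat.card_coe_set_eq]
      · congr 1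
        rw [← hoa]
        exact Nat.card_zpowers a
      · rw [Set.disjoint_singleton_right]
        exact hba
    omega
  apply Cfsg.Agent.Lib.Lead.PExpMin.isCyclic_of_unique (p := p) (fun a b => hAc.is_comm.comm a b)
    (hQ.to_subgroup A)
  intro a b hoa hob
  apply le_antisymm
  · rw [Subgroup.zpowers_le]
    apply hkey b hob a
    rw [← hoa, pow_orderOf_eq_one]
  · rw [Subgroup.zpowers_le]
    apply hkey a hoa b
    rw [← hob, pow_orderOf_eq_one]

end omega

section caseB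

variable {V : Type u} [AddCommGroup V] [Finite V] {T : Type w} [Group T] [Finite T]
  [DistribMulAction T V]

theorem caseB {p : ℕ} [hp : Fact p.Prime] (hp2 : p ≠ 2) (hcop : (Nat.card V).Coprime p)
    (hfaith : ∀ t : T, (∀ v : V, t • v = v) → t = 1)
    (hF0 : ∀ E : Subgroup T, E.Normal → IsPGroup p E → E ≠ ⊥ → fixedPts (V := V) E = ⊥)
    (Q : Subgroup T) [hQn : Q.Normal] (hQ : IsPGroup p Q)
    (hsmall : ∀ E : Subgroup T, E.Normal → E ≤ Q → (∀ x ∈ E, ∀ y ∈ E, x * y = y * x) →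
      (∀ x ∈ E, x ^ p = 1) → Nat.card E ≤ p)
    (a : T) (ha : a ∈ Q) (ha1 : a ≠ 1) :
    ∃ v : V, ∀ t : T, (t * a * t⁻¹) • v ≠ v := by
  have hnt : Nontrivial Q := ⟨⟨⟨a, ha⟩, 1, fun h => ha1 (congrArg Subtype.val h)⟩⟩
  obtain ⟨z, c, hz, hz1, hzp, hcomm, hcen, hc, hΩ⟩ :=
    Cfsg.Agent.Lib.Carve.G2.symplectic_data hp2 hQ
      (fun A hA hAc => isCyclic_of_small Q hQ hsmall A hA hAc)
  -- `⟨z⟩` is normal in `T`
  have hconj : ∀ t : T, ∃ k : ℤ, (z : T) ^ k = t * (z : T) * t⁻¹ := by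
    intro t
    set φ : MulAut Q := MulAut.conjNormal t with hφ
    have h1 : φ z ∈ Subgroup.center Q :=
      Subgroup.characteristic_iff_map_le.1 Subgroup.centerCharacteristic φ ⟨z, hz, rfl⟩
    have h2 : (φ z) ^ p = 1 := by rw [← map_pow, hzp, map_one]
    obtain ⟨k, hk⟩ := hΩ _ h1 h2
    refine ⟨k, ?_⟩
    have h3 := congrArg (Subtype.val : Q → T) hk
    rw [hφ, MulAut.conjNormal_apply] at h3
    rw [← h3]
    simp
  set E : Subgroup T := Subgroup.zpowers (z : T) with hE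
  have hEn : E.Normal := by
    constructor
    rintro x ⟨k, rfl⟩ t
    obtain ⟨j, hj⟩ := hconj t
    rw [← conj_zpow, ← hj, ← zpow_mul]
    exact ⟨j * k, rfl⟩
  have hEQ : E ≤ Q := by
    rw [hE, Subgroup.zpowers_le]
    exact z.2
  have hEp : IsPGroup p E := hQ.to_le hEQ
  have hE1 : E ≠ ⊥ := by
    intro h
    rw [hE, Subgroup.zpowers_eq_bot] at h
    exact hz1 (Subtype.ext h)
  have hE0 := hF0 E hEn hEp hE1
  have hfpf : ∀ u ∈ (⊤ : AddSubgroup V), z • u = u → u = 0 := by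
    intro u _ hu
    have h1 : u ∈ fixedPts (V := V) E := by
      rw [hE, mem_fixedPts_zpowers]
      exact hu
    rw [hE0, AddSubgroup.mem_bot] at h1
    exact h1
  have hU0 : (⊤ : AddSubgroup V) ≠ ⊥ := by
    intro h
    apply ha1
    apply hfaith
    intro v
    have h1 : v ∈ (⊥ : AddSubgroup V) := by rw [← h]; exact AddSubgroup.mem_top v
    rw [AddSubgroup.mem_bot] at h1
    rw [h1, smul_zero]
  obtain ⟨v, -, hv⟩ := Cfsg.Agent.Lib.Carve.G1.exists_regular_vector p hp2 hcop Q hQ ⊤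
    (fun _ _ _ => AddSubgroup.mem_top _) hU0 z c hz hzp hfpf hcomm hcen hc hΩ
  refine ⟨v, ?_⟩
  intro t hfix
  have h1 := hv ⟨t * a * t⁻¹, hQn.conj_mem a ha t⟩ hfix
  have h2 : t * a * t⁻¹ = 1 := congrArg Subtype.val h1
  apply ha1
  have h3 : a = t⁻¹ * (t * a * t⁻¹) * t := by group
  rw [h3, h2, mul_one, inv_mul_cancel]

end caseB

section main

theorem claim_step {p : ℕ} [hp : Fact p.Prime] (hp2 : p ≠ 2) (n : ℕ)
    (hlt : ∀ m < n, ClaimAt.{u} p m) : ClaimAt.{u} p n := by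
  intro V _ _ T _ _ _ hn hcop hfaith Q hQn hQ a ha ha1
  by_cases hF0 : ∃ E : Subgroup T, E.Normal ∧ IsPGroup p E ∧ E ≠ ⊥ ∧ fixedPts (V := V) E ≠ ⊥
  · obtain ⟨E, hEn, hEp, hE1, hE0⟩ := hF0
    exact decomp_step hlt hn hcop hfaith E hEp hE1 hE0 Q hQ a ha ha1
  push Not at hF0
  by_cases hA : ∃ E : Subgroup T, E.Normal ∧ E ≤ Q ∧ (∀ x ∈ E, ∀ y ∈ E, x * y = y * x) ∧
      (∀ x ∈ E, x ^ p = 1) ∧ p < Nat.card E
  · obtain ⟨E, hEn, hEQ, hEc, hEexp, hEcard⟩ := hA
    have hEp : IsPGroup p E := hQ.to_le hEQ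
    have hE1 : E ≠ ⊥ := by
      rintro rfl
      rw [Subgroup.card_bot] at hEcard
      have := hp.out.one_lt
      omega
    have hE0 := hF0 E hEn hEp hE1
    by_cases hfixall : ∀ K : Subgroup T, IsHyp (V := V) p E K → conjSub a K = K
    · exact caseA_i hlt hn hcop hfaith E hEp hEc hEexp hE0 hEcard Q hQ a ha ha1 hfixall
    · push Not at hfixall
      exact caseA_ii hp2 hcop E hEp hEc hE0 Q hQ a ha hfixall
  · push Not at hA
    exact caseB hp2 hcop hfaith hF0 Q hQ hA a ha ha1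

theorem claim_all {p : ℕ} [hp : Fact p.Prime] (hp2 : p ≠ 2) (n : ℕ) : ClaimAt.{u} p n := by
  induction n using Nat.strong_induction_on with
  | _ n ih => exact claim_step hp2 n ih

end main

end Cfsg.Agent.Lib.Helper8.SBS
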