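import Mathlib
import Cfsg.Agent.Lib.Helper8.SBS7

/-!
# The module claim in the form used by the group-theoretic reduction
-/

set_option autoImplicit false

namespace Cfsg.Agent.Lib.Helper8.SBS

universe u

/-- conjugation action of `H` on an abelian normal subgroup `N`, written additively. -/
@[reducible] def conjAct {G : Type u} [Group G] (N H : Subgroup G) (hNn : N.Normal)
    (hNc : ∀ x ∈ N, ∀ y ∈ N, x * y = y * x) :
    letI : CommGroup N :=
      { (inferInstance : Group N) with mul_comm := fun x y => Subtype.ext (hNc x x.2 y y.2) }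
    DistribMulAction H (Additive N) :=
  letI : CommGroup N :=
    { (inferInstance : Group N) with mul_comm := fun x y => Subtype.ext (hNc x x.2 y y.2) }
  { smul := fun h v => Additive.ofMul
      ⟨(h : G) * ((Additive.toMul v : N) : G) * (h : G)⁻¹, hNn.conj_mem _ (Additive.toMul v).2 h⟩
    one_smul := by
      intro v
      apply Additive.toMul.injective
      apply Subtype.ext
      show ((1 : H) : G) * ((Additive.toMul v : N) : G) * ((1 : H) : G)⁻¹ = _
      simp
    mul_smul := by
      intro x y v
      apply Additive.toMul.injective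
      apply Subtype.ext
      show ((x * y : H) : G) * ((Additive.toMul v : N) : G) * ((x * y : H) : G)⁻¹
        = (x : G) * ((y : G) * ((Additive.toMul v : N) : G) * (y : G)⁻¹) * (x : G)⁻¹
      rw [Subgroup.coe_mul, mul_inv_rev]
      group
    smul_zero := by
      intro x
      apply Additive.toMul.injective
      apply Subtype.ext
      show (x : G) * ((1 : N) : G) * (x : G)⁻¹ = ((1 : N) : G)
      simp
    smul_add := by
      intro x v w
      apply Additive.toMul.injective
      apply Subtype.ext
      show (x : G) * ((Additive.toMul v * Additive.toMul w : N) : G) * (x : G)⁻¹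
        = ((x : G) * ((Additive.toMul v : N) : G) * (x : G)⁻¹)
          * ((x : G) * ((Additive.toMul w : N) : G) * (x : G)⁻¹)
      rw [Subgroup.coe_mul]
      group }

theorem hclaim_of_odd (p : ℕ) [hp : Fact p.Prime] (hp2 : p ≠ 2) :
    ∀ (G : Type u) [Group G] [Finite G] (N H Q : Subgroup G), N.Normal →
      (∀ x ∈ N, ∀ y ∈ N, x * y = y * x) → ¬ p ∣ Nat.card N → Q ≤ H →
      (∀ h ∈ H, ∀ q ∈ Q, h * q * h⁻¹ ∈ Q) → IsPGroup p Q → ∀ a ∈ Q,
      (∃ n ∈ N, a * n * a⁻¹ ≠ n) →
      ∃ v ∈ N, ∀ h ∈ H, (h * a * h⁻¹) * v * (h * a * h⁻¹)⁻¹ ≠ v := by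
  intro G _ _ N H Q hNn hNc hpN hQH hHQ hQ a haQ hact
  let _ : CommGroup N :=
    { (inferInstance : Group N) with mul_comm := fun x y => Subtype.ext (hNc x x.2 y y.2) }
  let _ : DistribMulAction H (Additive N) := conjAct N H hNn hNc
  have hsm : ∀ (h : H) (v : Additive N), ((Additive.toMul (h • v) : N) : G)
      = (h : G) * ((Additive.toMul v : N) : G) * (h : G)⁻¹ := fun h v => rfl
  have hcard : Nat.card (Additive N) = Nat.card N := rfl
  have hcop : (Nat.card (Additive N)).Coprime p := by
    rw [hcard]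
    exact ((Nat.Prime.coprime_iff_not_dvd hp.out).2 hpN).symm
  have hQn : (Q.subgroupOf H).Normal := by
    constructor
    intro q hq h
    rw [Subgroup.mem_subgroupOf] at hq ⊢
    have := hHQ h h.2 q hq
    simpa using this
  have hQp : IsPGroup p (Q.subgroupOf H) :=
    hQ.of_equiv (Subgroup.subgroupOfEquivOfLe hQH).symm
  have ha' : (⟨a, hQH haQ⟩ : H) ∈ Q.subgroupOf H := by
    rw [Subgroup.mem_subgroupOf]
    exact haQ
  have hact' : ∃ v : Additive N, (⟨a, hQH haQ⟩ : H) • v ≠ v := by
    obtain ⟨n, hn, hne⟩ := hact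
    refine ⟨Additive.ofMul ⟨n, hn⟩, ?_⟩
    intro h
    apply hne
    have h1 := congrArg (fun v : Additive N => ((Additive.toMul v : N) : G)) h
    simp only [hsm] at h1
    exact h1
  obtain ⟨v, hv⟩ := claim_general (claim_all.{u} hp2 (Nat.card (Additive N))) rfl hcop
    (Q.subgroupOf H) hQn hQp ⟨a, hQH haQ⟩ ha' hact'
  refine ⟨((Additive.toMul v : N) : G), (Additive.toMul v).2, ?_⟩
  intro h hh hfix
  apply hv ⟨h, hh⟩
  apply Additive.toMul.injective
  apply Subtype.ext
  rw [hsm]
  simpa using hfix

end Cfsg.Agent.Lib.Helper8.SBS
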