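import Mathlib
import Cfsg.Agent.Lib.Helper8.SD2

/-!
# Self-dual irreducible representations of abelian groups over finite fields: the arithmetic
-/

set_option autoImplicit false

namespace Cfsg.Agent.Lib.Helper8

open MonoidAlgebra

section

variable {F : Type*} [Field F] [Fintype F] {H : Type*} [CommGroup H] [Finite H] {V : Type*}
  [AddCommGroup V] [Module F V] [FiniteDimensional F V] [Nontrivial V] {ρ : Representation F H V}
  (hirr : ∀ U : Submodule F V, (∀ h : H, ∀ u ∈ U, ρ h u ∈ U) → U = ⊥ ∨ U = ⊤)

include hirr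

theorem card_dvd_of_forall_pow (hfaith : Function.Injective ρ) {m : ℕ}
    (h : ∀ x : H, x ^ m = 1) : Nat.card H ∣ m := by
  haveI := repQuot_noZeroDivisors hirr
  haveI : Nontrivial (RepQuot ρ) := repQuot_nontrivial
  haveI : IsDomain (RepQuot ρ) := NoZeroDivisors.to_isDomain _
  haveI : IsCyclic H := isCyclic_of_subgroup_isDomain (repChar ρ) (repChar_injective hfaith)
  rw [← IsCyclic.exponent_eq_card]
  exact Monoid.exponent_dvd_of_forall_pow_eq_one h

theorem frob_exponent_dichotomy (hfaith : Function.Injective ρ) {j : ℕ}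
    (hj : j < Module.finrank F V) (hexp : ∀ h : H, h ^ (Fintype.card F ^ j + 1) = 1) :
    (j = 0 ∧ Module.finrank F V = 1) ∨ 2 * j = Module.finrank F V := by
  haveI hmax := repQuot_isMaximal hirr
  letI := Ideal.Quotient.field (RingHom.ker ρ.asAlgebraHom)
  haveI := repQuot_finite hirr
  have hord := FiniteField.orderOf_frobeniusAlgHom F (RepQuot ρ)
  rw [finrank_repQuot hirr] at hord
  have hc : ∀ x : H, (repChar ρ x) ^ (Fintype.card F ^ j) * repChar ρ x = 1 := by
    intro x
    rw [← pow_succ, ← map_pow, hexp x, map_one]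
  by_cases hj0 : j = 0
  · left
    refine ⟨hj0, ?_⟩
    rw [← hord, orderOf_eq_one_iff]
    apply repQuot_algHom_ext
    intro x
    have h1 := hc x
    rw [hj0, pow_zero, pow_one, mul_self_eq_one_iff] at h1
    rcases h1 with h1 | h1
    · rw [h1, map_one, map_one]
    · rw [h1, map_neg, map_one, map_neg, map_one]
  · right
    have h2 : FiniteField.frobeniusAlgHom F (RepQuot ρ) ^ (2 * j) = 1 := by
      apply repQuot_algHom_ext
      intro x
      simp only [AlgHom.coe_pow, FiniteField.coe_frobeniusAlgHom, pow_iterate, AlgHom.one_apply]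
      have h1 := hc x
      have h3 : ((repChar ρ x) ^ (Fintype.card F ^ j)) ^ (Fintype.card F ^ j) *
          (repChar ρ x) ^ (Fintype.card F ^ j) = 1 := by
        rw [← mul_pow, h1, one_pow]
      rw [two_mul, pow_add, pow_mul]
      calc ((repChar ρ x) ^ (Fintype.card F ^ j)) ^ (Fintype.card F ^ j)
          = ((repChar ρ x) ^ (Fintype.card F ^ j)) ^ (Fintype.card F ^ j) *
            ((repChar ρ x) ^ (Fintype.card F ^ j) * repChar ρ x) := by rw [h1, mul_one]
        _ = repChar ρ x := by rw [← mul_assoc, h3, one_mul]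
    have h4 := orderOf_dvd_of_pow_eq_one h2
    rw [hord] at h4
    obtain ⟨t, ht⟩ := h4
    have ht1 : t = 1 := by
      have h5 : 0 < t := by
        rcases Nat.eq_zero_or_pos t with h0 | h0
        · rw [h0, mul_zero] at ht; omega
        · exact h0
      by_contra hne
      have h6 : 2 ≤ t := by omega
      nlinarith
    rw [ht, ht1, mul_one]

end

end Cfsg.Agent.Lib.Helper8
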