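import Mathlib
import Cfsg.Agent.Lib.Helper8.SD3

/-!
# Self-dual irreducible representations of abelian groups over finite fields: constructing the form
-/

set_option autoImplicit false

namespace Cfsg.Agent.Lib.Helper8

open MonoidAlgebra

section

variable {F : Type*} [Field F] [Fintype F] {H : Type*} [CommGroup H] [Finite H] {V : Type*}
  [AddCommGroup V] [Module F V] [FiniteDimensional F V] [Nontrivial V] {ρ : Representation F H V}
  (hirr : ∀ U : Submodule F V, (∀ h : H, ∀ u ∈ U, ρ h u ∈ U) → U = ⊥ ∨ U = ⊤)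

include hirr

theorem exists_invariant_form {m : ℕ} (hm : ∀ x : H, x ^ (Fintype.card F ^ m + 1) = 1) :
    ∃ B : LinearMap.BilinForm F V, B.Nondegenerate ∧
      ∀ (h : H) (x y : V), B (ρ h x) (ρ h y) = B x y := by
  haveI hmax := repQuot_isMaximal hirr
  letI := Ideal.Quotient.field (RingHom.ker ρ.asAlgebraHom)
  haveI := repQuot_finite hirr
  haveI := repQuot_module_finite hirr
  obtain ⟨v, hv⟩ := exists_ne (0 : V)
  obtain ⟨e, he⟩ : ∃ e : RepQuot ρ ≃ₗ[F] V, e = repEquiv hirr hv := ⟨_, rfl⟩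
  have hesymm : ∀ (h : H) (x : V), e.symm (ρ h x) = repChar ρ h * e.symm x := by
    intro h x
    rw [he]
    exact repEquiv_symm_apply hirr hv h x
  obtain ⟨Fr, hFr⟩ : ∃ Fr : RepQuot ρ →ₐ[F] RepQuot ρ,
      Fr = FiniteField.frobeniusAlgHom F (RepQuot ρ) ^ m := ⟨_, rfl⟩
  have hFrapp : ∀ a : RepQuot ρ, Fr a = a ^ (Fintype.card F ^ m) := by
    intro a
    rw [hFr]
    simp only [AlgHom.coe_pow, FiniteField.coe_frobeniusAlgHom, pow_iterate]
  have hFrsurj : Function.Surjective Fr :=
    Finite.injective_iff_surjective.mp (RingHom.injective (Fr : RepQuot ρ →+* RepQuot ρ))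
  refine ⟨(Algebra.traceForm F (RepQuot ρ)).compl₁₂ (e.symm : V →ₗ[F] RepQuot ρ)
    (Fr.toLinearMap.comp (e.symm : V →ₗ[F] RepQuot ρ)), ?_, ?_⟩
  · apply LinearMap.BilinForm.Nondegenerate.ofSeparatingLeft
    intro x hx
    have h1 : e.symm x = 0 := by
      apply (traceForm_nondegenerate F (RepQuot ρ)).1
      intro b
      obtain ⟨b', hb'⟩ := hFrsurj b
      have h2 := hx (e b')
      rw [LinearMap.compl₁₂_apply] at h2
      simp only [LinearMap.comp_apply, LinearEquiv.coe_coe, LinearEquiv.symm_apply_apply,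
        AlgHom.toLinearMap_apply, hb'] at h2
      exact h2
    exact e.symm.map_eq_zero_iff.mp h1
  · intro h x y
    rw [LinearMap.compl₁₂_apply, LinearMap.compl₁₂_apply]
    simp only [LinearMap.comp_apply, LinearEquiv.coe_coe, AlgHom.toLinearMap_apply, hesymm,
      Algebra.traceForm_apply, map_mul]
    congr 1
    have h3 : repChar ρ h * Fr (repChar ρ h) = 1 := by
      rw [hFrapp, ← pow_succ', ← map_pow, hm h, map_one]
    calc repChar ρ h * e.symm x * (Fr (repChar ρ h) * Fr (e.symm y))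
        = (repChar ρ h * Fr (repChar ρ h)) * (e.symm x * Fr (e.symm y)) := by ring
      _ = e.symm x * Fr (e.symm y) := by rw [h3, one_mul]

end

end Cfsg.Agent.Lib.Helper8
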