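import Mathlib
import Cfsg.Prelude.Def_CaseTheorems
import Cfsg.Agent.Lib.Helper9.SecMeta1
import Cfsg.Agent.Lib.Lead.Nilpotent

set_option autoImplicit false
set_option linter.unusedSectionVars false
set_option linter.style.haveILetI false

/-! Sectional rank: tools. -/

namespace Cfsg.Agent.Lib.Helper8.SK

open Cfsg

/-- A surjection from a group mapping to `T`, trivial on the kernel, onto an elementary abelian
group: the order is bounded by the sectional rank. -/
theorem card_le_of_section {p k : ℕ} {T X V : Type*} [Group T] [Group X] [Group V]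
    (hr : Cfsg.SectionalPRankLE p k T) (φ : X →* T) (ψ : X →* V) (hψ : Function.Surjective ψ)
    (hker : ∀ a, φ a = 1 → ψ a = 1) (hc : ∀ u v : V, u * v = v * u) (he : ∀ v : V, v ^ p = 1) :
    Nat.card V ≤ p ^ k := by
  have hker' : φ.rangeRestrict.ker ≤ ψ.ker := by
    intro a ha
    rw [MonoidHom.mem_ker] at ha ⊢
    apply hker
    have := congrArg (fun w : ↥φ.range => (w : T)) ha
    simpa using this
  obtain ⟨f, hf⟩ : ∃ f : ↥φ.range →* V, ∀ a, f (φ.rangeRestrict a) = ψ a := by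
    refine ⟨(φ.rangeRestrict.liftOfSurjective φ.rangeRestrict_surjective) ⟨ψ, hker'⟩, ?_⟩
    intro a
    exact MonoidHom.liftOfRightInverse_comp_apply _ _ _ _ a
  have hfs : Function.Surjective f := by
    intro v
    obtain ⟨a, rfl⟩ := hψ v
    exact ⟨φ.rangeRestrict a, hf a⟩
  have h1 := hr φ.range f.ker
  have h2 : Cfsg.PRankLE p k V :=
    Cfsg.Agent.H9SM.pRankLE_of_mulEquiv (QuotientGroup.quotientKerEquivOfSurjective f hfs) h1
  have h3 := h2 ⊤ ⟨⟨fun a b => Subtype.ext (hc a b)⟩⟩ (fun a _ => he a)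
  rw [Subgroup.card_top] at h3
  exact h3

/-- Sectional rank passes to subgroups. -/
theorem sectional_subgroup {p k : ℕ} {S : Type*} [Group S] (hr : Cfsg.SectionalPRankLE p k S)
    (T : Subgroup S) : Cfsg.SectionalPRankLE p k ↥T := by
  intro H N hN A hAc hAe
  have hAc' : ∀ u v : ↥A, u * v = v * u := fun u v => hAc.is_comm.comm u v
  have hAe' : ∀ v : ↥A, v ^ p = 1 := by
    intro v
    apply Subtype.ext
    rw [Subgroup.coe_pow, Subgroup.coe_one]
    exact hAe v v.2
  -- the preimage of `A`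
  let E : Subgroup ↥H := A.comap (QuotientGroup.mk' N)
  let ψ : ↥E →* ↥A := (QuotientGroup.mk' N).subgroupComap A
  have hψ : Function.Surjective ψ :=
    MonoidHom.subgroupComap_surjective_of_surjective _ _ (QuotientGroup.mk'_surjective N)
  let φ : ↥E →* S := T.subtype.comp (H.subtype.comp E.subtype)
  have hφ : Function.Injective φ := by
    intro a b hab
    apply Subtype.ext
    apply Subtype.ext
    apply Subtype.ext
    exact hab
  apply card_le_of_section hr φ ψ hψ _ hAc' hAe'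
  intro a ha
  have : a = 1 := hφ (by rw [ha, map_one])
  rw [this, map_one]

section conj

variable {S : Type*} [Group S]

/-- The conjugate `g P g⁻¹`. -/
def conjSub (g : S) (P : Subgroup S) : Subgroup S where
  carrier := {b | g⁻¹ * b * g ∈ P}
  one_mem' := by
    show g⁻¹ * 1 * g ∈ P
    rw [mul_one, inv_mul_cancel]
    exact P.one_mem
  mul_mem' := by
    intro a b ha hb
    show g⁻¹ * (a * b) * g ∈ P
    have e : g⁻¹ * (a * b) * g = (g⁻¹ * a * g) * (g⁻¹ * b * g) := by group
    rw [e]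
    exact P.mul_mem ha hb
  inv_mem' := by
    intro a ha
    show g⁻¹ * a⁻¹ * g ∈ P
    have e : g⁻¹ * a⁻¹ * g = (g⁻¹ * a * g)⁻¹ := by group
    rw [e]
    exact P.inv_mem ha

theorem mem_conjSub {g b : S} {P : Subgroup S} : b ∈ conjSub g P ↔ g⁻¹ * b * g ∈ P := Iff.rfl

theorem conj_mem_conjSub {g a : S} {P : Subgroup S} (ha : a ∈ P) : g * a * g⁻¹ ∈ conjSub g P := by
  rw [mem_conjSub]
  have e : g⁻¹ * (g * a * g⁻¹) * g = a := by group
  rw [e]
  exact ha

theorem exists_of_mem_conjSub {g b : S} {P : Subgroup S} (hb : b ∈ conjSub g P) :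
    ∃ a ∈ P, b = g * a * g⁻¹ := by
  refine ⟨g⁻¹ * b * g, hb, ?_⟩
  group

/-- The product of two elementwise commuting subgroups. -/
def prodSub (A B : Subgroup S) (h : ∀ a ∈ A, ∀ b ∈ B, a * b = b * a) : Subgroup S where
  carrier := {w | ∃ a ∈ A, ∃ b ∈ B, w = a * b}
  one_mem' := ⟨1, A.one_mem, 1, B.one_mem, (one_mul 1).symm⟩
  mul_mem' := by
    rintro _ _ ⟨a, ha, b, hb, rfl⟩ ⟨a', ha', b', hb', rfl⟩
    refine ⟨a * a', A.mul_mem ha ha', b * b', B.mul_mem hb hb', ?_⟩
    have e := h a' ha' b hb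
    calc a * b * (a' * b') = a * (b * a') * b' := by group
      _ = a * (a' * b) * b' := by rw [e]
      _ = a * a' * (b * b') := by group
  inv_mem' := by
    rintro _ ⟨a, ha, b, hb, rfl⟩
    refine ⟨a⁻¹, A.inv_mem ha, b⁻¹, B.inv_mem hb, ?_⟩
    have e := h a⁻¹ (A.inv_mem ha) b⁻¹ (B.inv_mem hb)
    rw [mul_inv_rev, e]

theorem mem_prodSub {A B : Subgroup S} {h : ∀ a ∈ A, ∀ b ∈ B, a * b = b * a} {w : S} :
    w ∈ prodSub A B h ↔ ∃ a ∈ A, ∃ b ∈ B, w = a * b := Iff.rfl

end conj

end Cfsg.Agent.Lib.Helper8.SK
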