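import Mathlib
import Cfsg.Agent.Lib.Helper8.SK1
import Cfsg.Agent.S4400

set_option autoImplicit false
set_option linter.unusedSectionVars false
set_option linter.style.haveILetI false

/-! Sectional rank: the context of a subgroup with centre of order two. -/

namespace Cfsg.Agent.Lib.Helper8.SK

open Cfsg

variable {S : Type*} [Group S]

/-- The situation: `z` generates the centre of `P`, and `S₀ = C_S(z)` normalizes `P`. -/
structure Ctx (P S₀ : Subgroup S) (z : S) : Prop where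
  hzP : z ∈ P
  hz1 : z ≠ 1
  hz2 : z * z = 1
  hzc : ∀ a ∈ P, a * z = z * a
  hcen : ∀ w ∈ P, (∀ a ∈ P, a * w = w * a) → w = 1 ∨ w = z
  hS₀ : ∀ s, s ∈ S₀ ↔ s * z = z * s
  hPn : ∀ s ∈ S₀, ∀ a ∈ P, s * a * s⁻¹ ∈ P
  hnc : ∃ u ∈ P, ∃ v ∈ P, u * v ≠ v * u

namespace Ctx

variable {P S₀ : Subgroup S} {z : S}

theorem le (c : Ctx P S₀ z) : P ≤ S₀ := fun a ha => (c.hS₀ a).2 (c.hzc a ha)

theorem z_mem (c : Ctx P S₀ z) : z ∈ S₀ := c.le c.hzP

theorem z_comm (c : Ctx P S₀ z) {s : S} (hs : s ∈ S₀) : s * z = z * s := (c.hS₀ s).1 hs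

theorem z_inv (c : Ctx P S₀ z) : z⁻¹ = z := inv_eq_of_mul_eq_one_right c.hz2

/-- `x` normalizes `S₀`. -/
def Nrm (S₀ : Subgroup S) (x : S) : Prop := ∀ s, s ∈ S₀ ↔ x * s * x⁻¹ ∈ S₀

theorem Nrm.inv {x : S} (h : Nrm S₀ x) : Nrm S₀ x⁻¹ := by
  intro s
  rw [h (x⁻¹ * s * x⁻¹⁻¹)]
  have e : x * (x⁻¹ * s * x⁻¹⁻¹) * x⁻¹ = s := by group
  rw [e]

theorem Nrm.mul {x y : S} (hx : Nrm S₀ x) (hy : Nrm S₀ y) : Nrm S₀ (x * y) := by
  intro s
  rw [hy s, hx (y * s * y⁻¹)]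
  have e : x * (y * s * y⁻¹) * x⁻¹ = x * y * s * (x * y)⁻¹ := by group
  rw [e]

theorem Nrm.of_mem {x : S} (hx : x ∈ S₀) : Nrm S₀ x := by
  intro s
  constructor
  · intro hs
    exact S₀.mul_mem (S₀.mul_mem hx hs) (S₀.inv_mem hx)
  · intro hs
    have h1 := S₀.mul_mem (S₀.mul_mem (S₀.inv_mem hx) hs) hx
    have e : x⁻¹ * (x * s * x⁻¹) * x = s := by group
    rw [e] at h1
    exact h1

theorem Nrm.conj_mem {x s : S} (h : Nrm S₀ x) (hs : s ∈ S₀) : x * s * x⁻¹ ∈ S₀ := (h s).1 hs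

theorem Nrm.conj_mem' {x s : S} (h : Nrm S₀ x) (hs : s ∈ S₀) : x⁻¹ * s * x ∈ S₀ := by
  have := (h.inv s).1 hs
  rwa [inv_inv] at this

theorem Nrm.iff_mem_normalizer {x : S} :
    Nrm S₀ x ↔ x ∈ Subgroup.normalizer (S₀ : Set S) := by
  rw [Subgroup.mem_normalizer_iff]
  rfl

/-- The conjugate of `S₀` is the centralizer of the conjugate of `z`. -/
theorem mem_conjSub_S₀ (c : Ctx P S₀ z) (g s : S) :
    s ∈ conjSub g S₀ ↔ s * (g * z * g⁻¹) = (g * z * g⁻¹) * s := by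
  rw [mem_conjSub, c.hS₀]
  constructor
  · intro h
    calc s * (g * z * g⁻¹) = g * (g⁻¹ * s * g * z) * g⁻¹ := by group
      _ = g * (z * (g⁻¹ * s * g)) * g⁻¹ := by rw [h]
      _ = g * z * g⁻¹ * s := by group
  · intro h
    calc g⁻¹ * s * g * z = g⁻¹ * (s * (g * z * g⁻¹)) * g := by group
      _ = g⁻¹ * (g * z * g⁻¹ * s) * g := by rw [h]
      _ = z * (g⁻¹ * s * g) := by group

/-- `S₀` normalizes the conjugates of `P` by elements normalizing `S₀`. -/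
theorem conjSub_normal (c : Ctx P S₀ z) {x : S} (hx : Nrm S₀ x) {s b : S} (hs : s ∈ S₀)
    (hb : b ∈ conjSub x P) : s * b * s⁻¹ ∈ conjSub x P := by
  rw [mem_conjSub] at hb ⊢
  have h1 := c.hPn _ (hx.conj_mem' hs) _ hb
  have e : x⁻¹ * (s * b * s⁻¹) * x = x⁻¹ * s * x * (x⁻¹ * b * x) * (x⁻¹ * s * x)⁻¹ := by group
  rw [e]
  exact h1

theorem conjSub_le (c : Ctx P S₀ z) {x : S} (hx : Nrm S₀ x) : conjSub x P ≤ S₀ := by
  intro b hb
  rw [mem_conjSub] at hb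
  have h1 := hx.conj_mem (c.le hb)
  have e : x * (x⁻¹ * b * x) * x⁻¹ = b := by group
  rw [e] at h1
  exact h1

/-- The conjugate of `z` is central in `S₀`. -/
theorem conj_z_comm (c : Ctx P S₀ z) {x : S} (hx : Nrm S₀ x) {s : S} (hs : s ∈ S₀) :
    s * (x * z * x⁻¹) = (x * z * x⁻¹) * s := by
  have h1 := c.z_comm (hx.conj_mem' hs)
  calc s * (x * z * x⁻¹) = x * (x⁻¹ * s * x * z) * x⁻¹ := by group
    _ = x * (z * (x⁻¹ * s * x)) * x⁻¹ := by rw [h1]
    _ = x * z * x⁻¹ * s := by group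

section fin

variable [Finite S]

/-- A nontrivial subgroup of `P` normalized by `P` contains `z`. -/
theorem z_mem_of_normal (c : Ctx P S₀ z) (h2 : IsPGroup 2 S) (J : Subgroup S) (hJP : J ≤ P)
    (hJ : J ≠ ⊥) (hn : ∀ a ∈ P, ∀ j ∈ J, a * j * a⁻¹ ∈ J) : z ∈ J := by
  haveI : Fact (Nat.Prime 2) := ⟨Nat.prime_two⟩
  have hP2 : IsPGroup 2 ↥P := h2.to_subgroup P
  haveI : Group.IsNilpotent ↥P := hP2.isNilpotent
  haveI hJn : (J.subgroupOf P).Normal := ⟨fun j hj a => by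
    rw [Subgroup.mem_subgroupOf] at hj ⊢
    simp only [Subgroup.coe_mul, Subgroup.coe_inv]
    exact hn a a.2 j hj⟩
  have hJ' : J.subgroupOf P ≠ ⊥ := by
    intro h
    apply hJ
    rw [eq_bot_iff]
    intro j hj
    have h3 : (⟨j, hJP hj⟩ : ↥P) ∈ J.subgroupOf P := Subgroup.mem_subgroupOf.mpr hj
    rw [h, Subgroup.mem_bot] at h3
    rw [Subgroup.mem_bot]
    exact congrArg Subtype.val h3
  have h1 := Cfsg.Agent.Lib.Lead.inf_center_ne_bot (J.subgroupOf P) hJ'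
  obtain ⟨⟨w, hwJ, hwz⟩, hw1⟩ := (Subgroup.ne_bot_iff_exists_ne_one).mp h1
  have hw1' : (w : S) ≠ 1 := by
    intro h
    apply hw1
    apply Subtype.ext
    apply Subtype.ext
    exact h
  have hwc : ∀ a ∈ P, a * (w : S) = (w : S) * a := by
    intro a ha
    have h3 := Subgroup.mem_center_iff.mp hwz ⟨a, ha⟩
    exact congrArg Subtype.val h3
  rcases c.hcen w w.2 hwc with h | h
  · exact (hw1' h).elim
  · rw [← h]
    exact Subgroup.mem_subgroupOf.mp hwJ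

/-- A conjugate of `P` meets trivially any subgroup it normalizes which avoids the conjugate of
`z`. -/
theorem conj_inf_eq_one (c : Ctx P S₀ z) (h2 : IsPGroup 2 S) (g : S) (T : Subgroup S)
    (hT : ∀ b ∈ conjSub g P, ∀ t ∈ T, b * t * b⁻¹ ∈ T) (hz : g * z * g⁻¹ ∉ T) :
    ∀ b ∈ conjSub g P, b ∈ T → b = 1 := by
  obtain ⟨J, hJdef⟩ : ∃ J : Subgroup S, J = P ⊓ T.comap (MulAut.conj g).toMonoidHom := ⟨_, rfl⟩
  have hmem : ∀ a, a ∈ J ↔ a ∈ P ∧ g * a * g⁻¹ ∈ T := by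
    intro a
    rw [hJdef, Subgroup.mem_inf, Subgroup.mem_comap]
    rfl
  have hJ : J = ⊥ := by
    by_contra hJ
    apply hz
    have h1 : z ∈ J := by
      apply c.z_mem_of_normal h2 J (fun a ha => ((hmem a).1 ha).1) hJ
      intro a ha j hj
      rw [hmem] at hj ⊢
      refine ⟨P.mul_mem (P.mul_mem ha hj.1) (P.inv_mem ha), ?_⟩
      have h3 := hT _ (conj_mem_conjSub (g := g) ha) _ hj.2
      have e : g * (a * j * a⁻¹) * g⁻¹ = g * a * g⁻¹ * (g * j * g⁻¹) * (g * a * g⁻¹)⁻¹ := by group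
      rw [e]
      exact h3
    exact ((hmem z).1 h1).2
  intro b hb hbT
  have h1 : g⁻¹ * b * g ∈ J := by
    rw [hmem]
    refine ⟨hb, ?_⟩
    have e : g * (g⁻¹ * b * g) * g⁻¹ = b := by group
    rw [e]
    exact hbT
  rw [hJ, Subgroup.mem_bot] at h1
  have e : b = g * (g⁻¹ * b * g) * g⁻¹ := by group
  rw [e, h1]
  group

end fin

end Ctx

theorem card_center_eq_two {X : Type*} [Group X] (z₀ : X) (hz : z₀ ∈ Subgroup.center X)
    (hz1 : z₀ ≠ 1) (h : ∀ w ∈ Subgroup.center X, w = 1 ∨ w = z₀) :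
    Nat.card (Subgroup.center X) = 2 := by
  rw [Nat.card_eq_two_iff]
  refine ⟨1, ⟨z₀, hz⟩, ?_, ?_⟩
  · intro e
    exact hz1 (congrArg Subtype.val e).symm
  · ext w
    simp only [Set.mem_insert_iff, Set.mem_singleton_iff, Set.mem_univ, iff_true]
    rcases h w w.2 with h1 | h1
    · left
      exact Subtype.ext h1
    · right
      exact Subtype.ext h1

/-- The conclusions of the pair lemma. -/
structure Pair (P S₀ : Subgroup S) (x : S) : Prop where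
  comm : ∀ a ∈ P, ∀ b ∈ conjSub x P, a * b = b * a
  disj : ∀ a ∈ P, a ∈ conjSub x P → a = 1
  cent : ∀ s ∈ S₀, (∀ a ∈ P, s * a = a * s) → (∀ b ∈ conjSub x P, s * b = b * s) →
    ∃ a ∈ P, ∃ b ∈ conjSub x P, s = a * b

namespace Ctx

variable {P S₀ : Subgroup S} {z : S} [Finite S]

theorem pair (c : Ctx P S₀ z) (h2 : IsPGroup 2 S) (hr : Cfsg.SectionalPRankLE 2 4 S) {x : S}
    (hx : Nrm S₀ x) (hxS : x ∉ S₀) : Pair P S₀ x := by
  have hPS : P ≤ S₀ := c.le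
  have hQS : conjSub x P ≤ S₀ := c.conjSub_le hx
  obtain ⟨P₀, hP₀⟩ : ∃ P₀ : Subgroup ↥S₀, P₀ = P.subgroupOf S₀ := ⟨_, rfl⟩
  obtain ⟨Q₀, hQ₀⟩ : ∃ Q₀ : Subgroup ↥S₀, Q₀ = (conjSub x P).subgroupOf S₀ := ⟨_, rfl⟩
  have hmP : ∀ s : ↥S₀, s ∈ P₀ ↔ (s : S) ∈ P := by
    intro s; rw [hP₀, Subgroup.mem_subgroupOf]
  have hmQ : ∀ s : ↥S₀, s ∈ Q₀ ↔ (s : S) ∈ conjSub x P := by
    intro s; rw [hQ₀, Subgroup.mem_subgroupOf]
  haveI hPn : P₀.Normal := by
    constructor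
    intro a ha s
    rw [hmP] at ha ⊢
    simp only [Subgroup.coe_mul, Subgroup.coe_inv]
    exact c.hPn s s.2 a ha
  haveI hQn : Q₀.Normal := by
    constructor
    intro b hb s
    rw [hmQ] at hb ⊢
    simp only [Subgroup.coe_mul, Subgroup.coe_inv]
    exact c.conjSub_normal hx s.2 hb
  obtain ⟨u, hu, v, hv, huv⟩ := c.hnc
  have hP₀nc : ¬ IsMulCommutative ↥P₀ := by
    intro h
    apply huv
    have h1 := h.is_comm.comm (⟨⟨u, hPS hu⟩, (hmP _).2 hu⟩ : ↥P₀) ⟨⟨v, hPS hv⟩, (hmP _).2 hv⟩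
    have h3 := congrArg (fun w : ↥P₀ => ((w : ↥S₀) : S)) h1
    exact h3
  have hQ₀nc : ¬ IsMulCommutative ↥Q₀ := by
    intro h
    apply huv
    have hu' : x * u * x⁻¹ ∈ conjSub x P := conj_mem_conjSub hu
    have hv' : x * v * x⁻¹ ∈ conjSub x P := conj_mem_conjSub hv
    have h1 := h.is_comm.comm (⟨⟨x * u * x⁻¹, hQS hu'⟩, (hmQ _).2 hu'⟩ : ↥Q₀)
      ⟨⟨x * v * x⁻¹, hQS hv'⟩, (hmQ _).2 hv'⟩
    have h3 : x * u * x⁻¹ * (x * v * x⁻¹) = x * v * x⁻¹ * (x * u * x⁻¹) :=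
      congrArg (fun w : ↥Q₀ => ((w : ↥S₀) : S)) h1
    calc u * v = x⁻¹ * (x * u * x⁻¹ * (x * v * x⁻¹)) * x := by group
      _ = x⁻¹ * (x * v * x⁻¹ * (x * u * x⁻¹)) * x := by rw [h3]
      _ = v * u := by group
  -- the centres
  have hzP₀ : (⟨⟨z, c.z_mem⟩, (hmP _).2 c.hzP⟩ : ↥P₀) ∈ Subgroup.center ↥P₀ := by
    rw [Subgroup.mem_center_iff]
    intro a
    apply Subtype.ext
    apply Subtype.ext
    exact c.hzc _ ((hmP _).1 a.2)
  have hZP₀ : Nat.card ↥(Subgroup.center ↥P₀) = 2 := by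
    apply card_center_eq_two _ hzP₀
    · intro h
      apply c.hz1
      exact congrArg (fun w : ↥P₀ => ((w : ↥S₀) : S)) h
    · intro w hw
      have hwP : ((w : ↥S₀) : S) ∈ P := (hmP _).1 w.2
      have hwc : ∀ a ∈ P, a * ((w : ↥S₀) : S) = ((w : ↥S₀) : S) * a := by
        intro a ha
        have h3 := Subgroup.mem_center_iff.mp hw ⟨⟨a, hPS ha⟩, (hmP _).2 ha⟩
        exact congrArg (fun w : ↥P₀ => ((w : ↥S₀) : S)) h3
      rcases c.hcen _ hwP hwc with h | h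
      · left
        apply Subtype.ext
        apply Subtype.ext
        exact h
      · right
        apply Subtype.ext
        apply Subtype.ext
        exact h
  have hz'Q : x * z * x⁻¹ ∈ conjSub x P := conj_mem_conjSub c.hzP
  have hzQ₀ : (⟨⟨x * z * x⁻¹, hQS hz'Q⟩, (hmQ _).2 hz'Q⟩ : ↥Q₀) ∈ Subgroup.center ↥Q₀ := by
    rw [Subgroup.mem_center_iff]
    intro b
    apply Subtype.ext
    apply Subtype.ext
    exact c.conj_z_comm hx (b : ↥S₀).2
  -- central elements of the conjugate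
  have hcenQ : ∀ w ∈ conjSub x P, (∀ b ∈ conjSub x P, b * w = w * b) →
      w = 1 ∨ w = x * z * x⁻¹ := by
    intro w hw hwc
    have h1 : ∀ a ∈ P, a * (x⁻¹ * w * x) = (x⁻¹ * w * x) * a := by
      intro a ha
      have h3 := hwc _ (conj_mem_conjSub (g := x) ha)
      calc a * (x⁻¹ * w * x) = x⁻¹ * (x * a * x⁻¹ * w) * x := by group
        _ = x⁻¹ * (w * (x * a * x⁻¹)) * x := by rw [h3]
        _ = x⁻¹ * w * x * a := by group
    rcases c.hcen _ hw h1 with h | h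
    · left
      have e : w = x * (x⁻¹ * w * x) * x⁻¹ := by group
      rw [e, h]
      group
    · right
      have e : w = x * (x⁻¹ * w * x) * x⁻¹ := by group
      rw [e, h]
  have hZQ₀ : Nat.card ↥(Subgroup.center ↥Q₀) = 2 := by
    apply card_center_eq_two _ hzQ₀
    · intro h
      apply c.hz1
      have h3 : x * z * x⁻¹ = 1 := congrArg (fun w : ↥Q₀ => ((w : ↥S₀) : S)) h
      have e : z = x⁻¹ * (x * z * x⁻¹) * x := by group
      rw [e, h3]
      group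
    · intro w hw
      have hwQ : ((w : ↥S₀) : S) ∈ conjSub x P := (hmQ _).1 w.2
      have hwc : ∀ b ∈ conjSub x P, b * ((w : ↥S₀) : S) = ((w : ↥S₀) : S) * b := by
        intro b hb
        have h3 := Subgroup.mem_center_iff.mp hw ⟨⟨b, hQS hb⟩, (hmQ _).2 hb⟩
        exact congrArg (fun w : ↥Q₀ => ((w : ↥S₀) : S)) h3
      rcases hcenQ _ hwQ hwc with h | h
      · left
        apply Subtype.ext
        apply Subtype.ext
        exact h
      · right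
        apply Subtype.ext
        apply Subtype.ext
        exact h
  have hne : (Subgroup.center ↥P₀).map P₀.subtype ≠ (Subgroup.center ↥Q₀).map Q₀.subtype := by
    intro heq
    have h1 : (⟨z, c.z_mem⟩ : ↥S₀) ∈ (Subgroup.center ↥P₀).map P₀.subtype :=
      ⟨_, hzP₀, rfl⟩
    rw [heq] at h1
    obtain ⟨q, hq, hqz⟩ := h1
    have hqz' : ((q : ↥S₀) : S) = z := congrArg Subtype.val hqz
    have hzQ : z ∈ conjSub x P := by
      rw [← hqz']
      exact (hmQ _).1 q.2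
    have hzc : ∀ b ∈ conjSub x P, b * z = z * b := by
      intro b hb
      have h3 := Subgroup.mem_center_iff.mp hq ⟨⟨b, hQS hb⟩, (hmQ _).2 hb⟩
      have h4 : b * ((q : ↥S₀) : S) = ((q : ↥S₀) : S) * b :=
        congrArg (fun w : ↥Q₀ => ((w : ↥S₀) : S)) h3
      rw [hqz'] at h4
      exact h4
    rcases hcenQ z hzQ hzc with h | h
    · exact c.hz1 h
    · apply hxS
      rw [c.hS₀]
      calc x * z = x * z * x⁻¹ * x := by group
        _ = z * x := by rw [← h]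
  have hS₀2 : IsPGroup 2 ↥S₀ := h2.to_subgroup S₀
  have hr₀ : Cfsg.SectionalPRankLE 2 4 ↥S₀ := sectional_subgroup hr S₀
  obtain ⟨hc1, hc2, hc3⟩ := Cfsg.Agent.S4400.result hS₀2 hr₀ P₀ Q₀ hP₀nc hQ₀nc hZP₀ hZQ₀ hne
  have hcomm : ∀ a ∈ P, ∀ b ∈ conjSub x P, a * b = b * a := by
    intro a ha b hb
    have h1 := (Subgroup.commutator_eq_bot_iff_le_centralizer).mp hc1
      ((hmP ⟨a, hPS ha⟩).2 ha)
    have h3 := Subgroup.mem_centralizer_iff.mp h1 ⟨b, hQS hb⟩ ((hmQ ⟨b, hQS hb⟩).2 hb)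
    exact (congrArg Subtype.val h3).symm
  refine ⟨hcomm, ?_, ?_⟩
  · intro a ha haQ
    have h1 : (⟨a, hPS ha⟩ : ↥S₀) ∈ P₀ ⊓ Q₀ := ⟨(hmP _).2 ha, (hmQ _).2 haQ⟩
    rw [hc2, Subgroup.mem_bot] at h1
    exact congrArg Subtype.val h1
  · intro s hs hsP hsQ
    have h1 : (⟨s, hs⟩ : ↥S₀) ∈ Subgroup.centralizer ((P₀ ⊔ Q₀ : Subgroup ↥S₀) : Set ↥S₀) := by
      have hle : P₀ ⊔ Q₀ ≤ Subgroup.centralizer ({(⟨s, hs⟩ : ↥S₀)} : Set ↥S₀) := by
        apply sup_le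
        · intro a ha
          rw [Subgroup.mem_centralizer_singleton_iff]
          apply Subtype.ext
          exact (hsP _ ((hmP a).1 ha)).symm
        · intro b hb
          rw [Subgroup.mem_centralizer_singleton_iff]
          apply Subtype.ext
          exact (hsQ _ ((hmQ b).1 hb)).symm
      rw [Subgroup.mem_centralizer_iff]
      intro h hh
      have h3 := hle hh
      rw [Subgroup.mem_centralizer_singleton_iff] at h3
      exact h3
    have h3 := hc3 h1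
    rw [← SetLike.mem_coe, Subgroup.mul_normal] at h3
    obtain ⟨a, ha, b, hb, hab⟩ := h3
    refine ⟨a, (hmP a).1 ha, b, (hmQ b).1 hb, ?_⟩
    have := congrArg Subtype.val hab
    exact this.symm

end Ctx

end Cfsg.Agent.Lib.Helper8.SK
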