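import Mathlib
import Cfsg.Agent.Lib.Helper8.SK2

set_option autoImplicit false
set_option linter.unusedSectionVars false
set_option linter.style.haveILetI false

/-! Sectional rank: the rank of `P` and the index of `S₀` in its normalizer. -/

namespace Cfsg.Agent.Lib.Helper8.SK

open Cfsg

variable {S : Type*} [Group S] [Finite S] {P S₀ : Subgroup S} {z : S}

namespace Ctx

/-- Doubling: `P` has sectional rank at most two. -/
theorem sectional_two (hr : Cfsg.SectionalPRankLE 2 4 S) {x : S}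
    (hp : Pair P S₀ x) : Cfsg.SectionalPRankLE 2 2 ↥P := by
  intro H N hN A hAc hAe
  have hAc' : ∀ u v : ↥A, u * v = v * u := fun u v => hAc.is_comm.comm u v
  have hAe' : ∀ v : ↥A, v ^ 2 = 1 := by
    intro v
    apply Subtype.ext
    rw [Subgroup.coe_pow, Subgroup.coe_one]
    exact hAe v v.2
  let E : Subgroup ↥H := A.comap (QuotientGroup.mk' N)
  let ψ₀ : ↥E →* ↥A := (QuotientGroup.mk' N).subgroupComap A
  have hψ₀ : Function.Surjective ψ₀ :=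
    MonoidHom.subgroupComap_surjective_of_surjective _ _ (QuotientGroup.mk'_surjective N)
  let ι : ↥E →* S := P.subtype.comp (H.subtype.comp E.subtype)
  have hι : Function.Injective ι := by
    intro a b hab
    apply Subtype.ext
    apply Subtype.ext
    apply Subtype.ext
    exact hab
  have hιP : ∀ e : ↥E, ι e ∈ P := fun e => ((e : ↥H) : ↥P).2
  let ι₂ : ↥E →* S := (MulAut.conj x).toMonoidHom.comp ι
  have hι₂ : ∀ e : ↥E, ι₂ e = x * ι e * x⁻¹ := fun e => rfl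
  have hι₂Q : ∀ e : ↥E, ι₂ e ∈ conjSub x P := by
    intro e
    rw [hι₂]
    exact conj_mem_conjSub (hιP e)
  have hcomm : ∀ e₁ e₂ : ↥E, Commute (ι e₁) (ι₂ e₂) :=
    fun e₁ e₂ => hp.comm _ (hιP e₁) _ (hι₂Q e₂)
  let φ : ↥E × ↥E →* S := ι.noncommCoprod ι₂ hcomm
  let ψ : ↥E × ↥E →* ↥A × ↥A := ψ₀.prodMap ψ₀
  have hψ : Function.Surjective ψ := Function.Surjective.prodMap hψ₀ hψ₀
  have hker : ∀ a : ↥E × ↥E, φ a = 1 → ψ a = 1 := by
    rintro ⟨e₁, e₂⟩ h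
    have h1 : ι e₁ * ι₂ e₂ = 1 := h
    have h3 : ι e₁ = (ι₂ e₂)⁻¹ := eq_inv_of_mul_eq_one_left h1
    have h4 : ι e₁ ∈ conjSub x P := by
      rw [h3]
      exact (conjSub x P).inv_mem (hι₂Q e₂)
    have h5 : ι e₁ = 1 := hp.disj _ (hιP e₁) h4
    have h6 : e₁ = 1 := hι (by rw [h5, map_one])
    have h7 : ι₂ e₂ = 1 := by rw [h5, one_mul] at h1; exact h1
    have h8 : ι e₂ = 1 := by
      rw [hι₂] at h7
      have e : ι e₂ = x⁻¹ * (x * ι e₂ * x⁻¹) * x := by group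
      rw [e, h7]
      group
    have h9 : e₂ = 1 := hι (by rw [h8, map_one])
    rw [h6, h9]
    exact map_one ψ
  have hVc : ∀ u v : ↥A × ↥A, u * v = v * u := by
    rintro ⟨u₁, u₂⟩ ⟨v₁, v₂⟩
    rw [Prod.mk_mul_mk, Prod.mk_mul_mk, hAc' u₁ v₁, hAc' u₂ v₂]
  have hVe : ∀ v : ↥A × ↥A, v ^ 2 = 1 := by
    rintro ⟨v₁, v₂⟩
    rw [Prod.pow_mk, hAe' v₁, hAe' v₂]
    rfl
  have h1 := card_le_of_section hr φ ψ hψ hker hVc hVe
  rw [Nat.card_prod] at h1
  have h3 : Nat.card ↥A ≤ 4 := by nlinarith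
  norm_num
  exact h3

/-- Two elements normalizing `S₀` outside `S₀` lie in the same coset. -/
theorem mem_of_two (c : Ctx P S₀ z) (h2 : IsPGroup 2 S) (hr : Cfsg.SectionalPRankLE 2 4 S)
    {x₂ x₃ : S} (h₂ : Nrm S₀ x₂) (h₂' : x₂ ∉ S₀) (h₃ : Nrm S₀ x₃) (h₃' : x₃ ∉ S₀) :
    x₂⁻¹ * x₃ ∈ S₀ := by
  by_contra ht
  have hpt := c.pair h2 hr (h₂.inv.mul h₃) ht
  have hp₂ := c.pair h2 hr h₂ h₂'
  have hp₃ := c.pair h2 hr h₃ h₃'
  have hcomm23 : ∀ b₂ ∈ conjSub x₂ P, ∀ b₃ ∈ conjSub x₃ P, b₂ * b₃ = b₃ * b₂ := by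
    intro b₂ hb₂ b₃ hb₃
    have h1 : x₂⁻¹ * b₂ * x₂ ∈ P := hb₂
    have h3 : x₂⁻¹ * b₃ * x₂ ∈ conjSub (x₂⁻¹ * x₃) P := by
      rw [mem_conjSub]
      have e : (x₂⁻¹ * x₃)⁻¹ * (x₂⁻¹ * b₃ * x₂) * (x₂⁻¹ * x₃) = x₃⁻¹ * b₃ * x₃ := by group
      rw [e]
      exact hb₃
    have h4 := hpt.comm _ h1 _ h3
    calc b₂ * b₃ = x₂ * ((x₂⁻¹ * b₂ * x₂) * (x₂⁻¹ * b₃ * x₂)) * x₂⁻¹ := by group
      _ = x₂ * ((x₂⁻¹ * b₃ * x₂) * (x₂⁻¹ * b₂ * x₂)) * x₂⁻¹ := by rw [h4]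
      _ = b₃ * b₂ := by group
  obtain ⟨u, hu, v, hv, huv⟩ := c.hnc
  have key : ∀ w ∈ conjSub x₃ P, ∃ a ∈ P, ∃ b ∈ conjSub x₂ P, w = a * b ∧ (a = 1 ∨ a = z) ∧
      (∀ b' ∈ conjSub x₂ P, b' * b = b * b') := by
    intro w hw
    have hwS : w ∈ S₀ := c.conjSub_le h₃ hw
    obtain ⟨a, ha, b, hb, hab⟩ := hp₂.cent w hwS (fun a ha => (hp₃.comm a ha w hw).symm)
      (fun b hb => (hcomm23 b hb w hw).symm)
    have hac : ∀ a' ∈ P, a' * a = a * a' := by
      intro a' ha'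
      have h1 : a' * w = w * a' := hp₃.comm a' ha' w hw
      rw [hab] at h1
      have h3 : a' * b = b * a' := hp₂.comm a' ha' b hb
      have h4 : a' * a * b = a * a' * b := by
        calc a' * a * b = a' * (a * b) := by group
          _ = a * b * a' := h1
          _ = a * (b * a') := by group
          _ = a * (a' * b) := by rw [h3]
          _ = a * a' * b := by group
      exact mul_right_cancel h4
    have hbc : ∀ b' ∈ conjSub x₂ P, b' * b = b * b' := by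
      intro b' hb'
      have h1 : b' * w = w * b' := hcomm23 b' hb' w hw
      rw [hab] at h1
      have h3 : a * b' = b' * a := hp₂.comm a ha b' hb'
      have h4 : a * (b' * b) = a * (b * b') := by
        calc a * (b' * b) = (a * b') * b := by group
          _ = (b' * a) * b := by rw [h3]
          _ = b' * (a * b) := by group
          _ = a * b * b' := h1
          _ = a * (b * b') := by group
      exact mul_left_cancel h4
    exact ⟨a, ha, b, hb, hab, c.hcen a ha hac, hbc⟩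
  have hu' : x₃ * u * x₃⁻¹ ∈ conjSub x₃ P := conj_mem_conjSub hu
  have hv' : x₃ * v * x₃⁻¹ ∈ conjSub x₃ P := conj_mem_conjSub hv
  obtain ⟨a, ha, b, hb, hab, haz, hbc⟩ := key _ hu'
  obtain ⟨a', ha', b', hb', hab', haz', _⟩ := key _ hv'
  have hzS : ∀ a₀, (a₀ = 1 ∨ a₀ = z) → ∀ s ∈ S₀, a₀ * s = s * a₀ := by
    rintro a₀ (rfl | rfl) s hs
    · rw [one_mul, mul_one]
    · exact (c.z_comm hs).symm
  have hbS : b ∈ S₀ := c.conjSub_le h₂ hb
  have hb'S : b' ∈ S₀ := c.conjSub_le h₂ hb'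
  have e1 : (x₃ * u * x₃⁻¹) * (x₃ * v * x₃⁻¹) = (x₃ * v * x₃⁻¹) * (x₃ * u * x₃⁻¹) := by
    rw [hab, hab']
    have c1 := hzS a' haz' b hbS
    have c2 := hzS a haz b' hb'S
    have c3 := hbc b' hb'
    have c4 : a * a' = a' * a := hzS a haz a' (c.le ha')
    calc a * b * (a' * b') = a * (b * a') * b' := by group
      _ = a * (a' * b) * b' := by rw [c1]
      _ = (a * a') * (b * b') := by group
      _ = (a' * a) * (b' * b) := by rw [c4, c3]
      _ = a' * (a * b') * b := by group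
      _ = a' * (b' * a) * b := by rw [c2]
      _ = a' * b' * (a * b) := by group
  apply huv
  calc u * v = x₃⁻¹ * ((x₃ * u * x₃⁻¹) * (x₃ * v * x₃⁻¹)) * x₃ := by group
    _ = x₃⁻¹ * ((x₃ * v * x₃⁻¹) * (x₃ * u * x₃⁻¹)) * x₃ := by rw [e1]
    _ = v * u := by group

end Ctx

end Cfsg.Agent.Lib.Helper8.SK
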