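import Mathlib
import Cfsg.Agent.Lib.Helper8.SK3

set_option autoImplicit false
set_option linter.unusedSectionVars false
set_option linter.style.haveILetI false

/-! Sectional rank: the normalizer of `S₀` is everything. -/

namespace Cfsg.Agent.Lib.Helper8.SK

open Cfsg

variable {S : Type*} [Group S] [Finite S] {P S₀ : Subgroup S} {z : S}

namespace Ctx

/-- Central elements of a conjugate of `P`. -/
theorem cen_conj (c : Ctx P S₀ z) (x : S) : ∀ w ∈ conjSub x P,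
    (∀ b ∈ conjSub x P, b * w = w * b) → w = 1 ∨ w = x * z * x⁻¹ := by
  intro w hw hwc
  have h1 : ∀ a ∈ P, a * (x⁻¹ * w * x) = (x⁻¹ * w * x) * a := by
    intro a ha
    have h3 := hwc _ (conj_mem_conjSub (g := x) ha)
    calc a * (x⁻¹ * w * x) = x⁻¹ * (x * a * x⁻¹ * w) * x := by group
      _ = x⁻¹ * (w * (x * a * x⁻¹)) * x := by rw [h3]
      _ = x⁻¹ * w * x * a := by group
  rcases c.hcen _ hw h1 with h | h
  · left
    have e : w = x * (x⁻¹ * w * x) * x⁻¹ := by group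
    rw [e, h]
    group
  · right
    have e : w = x * (x⁻¹ * w * x) * x⁻¹ := by group
    rw [e, h]

/-- The data for the normalizer argument. -/
structure Twr (P S₀ : Subgroup S) (z x : S) : Prop where
  c : Ctx P S₀ z
  h2 : IsPGroup 2 S
  hr : Cfsg.SectionalPRankLE 2 4 S
  hx : Nrm S₀ x
  hxS : x ∉ S₀

namespace Twr

variable {x : S}

theorem hp (T : Twr P S₀ z x) : Pair P S₀ x := T.c.pair T.h2 T.hr T.hx T.hxS

/-- The product `P · P^x`. -/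
def W (T : Twr P S₀ z x) : Subgroup S := prodSub P (conjSub x P) T.hp.comm

theorem mem_W (T : Twr P S₀ z x) {w : S} : w ∈ T.W ↔ ∃ a ∈ P, ∃ b ∈ conjSub x P, w = a * b :=
  Iff.rfl

theorem W_le (T : Twr P S₀ z x) : T.W ≤ S₀ := by
  rintro _ ⟨a, ha, b, hb, rfl⟩
  exact S₀.mul_mem (T.c.le ha) (T.c.conjSub_le T.hx hb)

theorem le_W (T : Twr P S₀ z x) : P ≤ T.W :=
  fun a ha => ⟨a, ha, 1, (conjSub x P).one_mem, (mul_one a).symm⟩

theorem conj_le_W (T : Twr P S₀ z x) : conjSub x P ≤ T.W :=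
  fun b hb => ⟨1, P.one_mem, b, hb, (one_mul b).symm⟩

theorem mem_two (T : Twr P S₀ z x) {t₁ t₂ : S} (h₁ : Nrm S₀ t₁) (h₁' : t₁ ∉ S₀)
    (h₂ : Nrm S₀ t₂) (h₂' : t₂ ∉ S₀) : t₁⁻¹ * t₂ ∈ S₀ :=
  T.c.mem_of_two T.h2 T.hr h₁ h₁' h₂ h₂'

/-- Conjugation by an element outside `S₀` swaps `P` and `P^x`. -/
theorem swap (T : Twr P S₀ z x) {t : S} (ht : Nrm S₀ t) (htS : t ∉ S₀) :
    (∀ a ∈ P, t * a * t⁻¹ ∈ conjSub x P) ∧ (∀ b ∈ conjSub x P, t * b * t⁻¹ ∈ P) := by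
  constructor
  · intro a ha
    rw [mem_conjSub]
    have h1 : x⁻¹ * t ∈ S₀ := T.mem_two T.hx T.hxS ht htS
    have h3 := T.c.hPn _ h1 a ha
    have e : x⁻¹ * (t * a * t⁻¹) * x = x⁻¹ * t * a * (x⁻¹ * t)⁻¹ := by group
    rw [e]
    exact h3
  · intro b hb
    have htinv : t⁻¹ ∉ S₀ := fun h => htS (by simpa using S₀.inv_mem h)
    have h1 : t⁻¹⁻¹ * x ∈ S₀ := T.mem_two ht.inv htinv T.hx T.hxS
    rw [inv_inv] at h1
    have h3 := T.c.hPn _ h1 _ hb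
    have e : t * x * (x⁻¹ * b * x) * (t * x)⁻¹ = t * b * t⁻¹ := by group
    rw [e] at h3
    exact h3

/-- `W` is normalized by the normalizer of `S₀`. -/
theorem W_normal (T : Twr P S₀ z x) {t : S} (ht : Nrm S₀ t) {w : S} (hw : w ∈ T.W) :
    t * w * t⁻¹ ∈ T.W := by
  obtain ⟨a, ha, b, hb, rfl⟩ := hw
  have e : t * (a * b) * t⁻¹ = (t * a * t⁻¹) * (t * b * t⁻¹) := by group
  rw [e]
  by_cases htS : t ∈ S₀
  · exact ⟨_, T.c.hPn t htS a ha, _, T.c.conjSub_normal T.hx htS hb, rfl⟩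
  · obtain ⟨h1, h3⟩ := T.swap ht htS
    refine ⟨_, h3 b hb, _, h1 a ha, ?_⟩
    exact (T.hp.comm _ (h3 b hb) _ (h1 a ha)).symm

/-- Uniqueness of the decomposition in `W`. -/
theorem W_unique (T : Twr P S₀ z x) {a a' b b' : S} (ha : a ∈ P) (ha' : a' ∈ P)
    (hb : b ∈ conjSub x P) (hb' : b' ∈ conjSub x P) (h : a * b = a' * b') : a = a' ∧ b = b' := by
  have h1 : a'⁻¹ * a = b' * b⁻¹ := by
    calc a'⁻¹ * a = a'⁻¹ * (a * b) * b⁻¹ := by group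
      _ = a'⁻¹ * (a' * b') * b⁻¹ := by rw [h]
      _ = b' * b⁻¹ := by group
  have h3 : a'⁻¹ * a ∈ conjSub x P := by
    rw [h1]
    exact (conjSub x P).mul_mem hb' ((conjSub x P).inv_mem hb)
  have h4 := T.hp.disj _ (P.mul_mem (P.inv_mem ha') ha) h3
  have h5 : a = a' := by
    have := inv_mul_eq_one.1 h4
    exact this.symm
  refine ⟨h5, ?_⟩
  rw [h5] at h
  exact mul_left_cancel h

/-- The centralizer of `W` lies in `W`. -/
theorem cent_W (T : Twr P S₀ z x) {k : S} (hk : ∀ w ∈ T.W, k * w = w * k) : k ∈ T.W := by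
  have hkS : k ∈ S₀ := (T.c.hS₀ k).2 (hk z (T.le_W T.c.hzP))
  obtain ⟨a, ha, b, hb, hab⟩ := T.hp.cent k hkS (fun a ha => hk a (T.le_W ha))
    (fun b hb => hk b (T.conj_le_W hb))
  exact ⟨a, ha, b, hb, hab⟩

end Twr

/-- The data for the second normalizer. -/
structure Twr2 (P S₀ : Subgroup S) (z x y : S) : Prop extends Twr P S₀ z x where
  hyN : ∀ t, Nrm S₀ t ↔ Nrm S₀ (y * t * y⁻¹)
  hy : ¬ Nrm S₀ y

namespace Twr2

variable {x y : S}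

theorem nrm_conj' (U : Twr2 P S₀ z x y) {t : S} (ht : Nrm S₀ t) : Nrm S₀ (y⁻¹ * t * y) := by
  rw [U.hyN]
  have e : y * (y⁻¹ * t * y) * y⁻¹ = t := by group
  rw [e]
  exact ht

theorem C₃_normal (U : Twr2 P S₀ z x y) {t s : S} (ht : Nrm S₀ t) (hs : s ∈ conjSub y S₀) :
    t * s * t⁻¹ ∈ conjSub y S₀ := by
  rw [mem_conjSub] at hs ⊢
  have h1 := (U.nrm_conj' ht).conj_mem hs
  have e : y⁻¹ * (t * s * t⁻¹) * y = y⁻¹ * t * y * (y⁻¹ * s * y) * (y⁻¹ * t * y)⁻¹ := by group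
  rw [e]
  exact h1

theorem C₃_nrm (U : Twr2 P S₀ z x y) {s : S} (hs : s ∈ conjSub y S₀) : Nrm S₀ s := by
  have h1 : Nrm S₀ (y⁻¹ * s * y) := Nrm.of_mem hs
  rw [U.hyN] at h1
  have e : y * (y⁻¹ * s * y) * y⁻¹ = s := by group
  rw [e] at h1
  exact h1

theorem Py_le (U : Twr2 P S₀ z x y) : conjSub y P ≤ conjSub y S₀ := by
  intro b hb
  rw [mem_conjSub] at hb ⊢
  exact U.c.le hb

theorem Py_normal (U : Twr2 P S₀ z x y) {s b : S} (hs : s ∈ conjSub y S₀)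
    (hb : b ∈ conjSub y P) : s * b * s⁻¹ ∈ conjSub y P := by
  rw [mem_conjSub] at hs hb ⊢
  have h1 := U.c.hPn _ hs _ hb
  have e : y⁻¹ * (s * b * s⁻¹) * y = y⁻¹ * s * y * (y⁻¹ * b * y) * (y⁻¹ * s * y)⁻¹ := by group
  rw [e]
  exact h1

theorem W_nrm (U : Twr2 P S₀ z x y) {w : S} (hw : w ∈ U.toTwr.W) : Nrm S₀ w :=
  Nrm.of_mem (U.toTwr.W_le hw)

/-- First case: the conjugate of `z` is outside `W`. -/
theorem e1 (U : Twr2 P S₀ z x y) (hz₃ : y * z * y⁻¹ ∉ U.toTwr.W) : False := by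
  obtain ⟨W, hWdef⟩ : ∃ W : Subgroup S, W = U.toTwr.W := ⟨_, rfl⟩
  rw [← hWdef] at hz₃
  have hWn : ∀ {t w : S}, Nrm S₀ t → w ∈ W → t * w * t⁻¹ ∈ W := by
    intro t w ht hw
    rw [hWdef] at hw ⊢
    exact U.toTwr.W_normal ht hw
  have hWnrm : ∀ {w : S}, w ∈ W → Nrm S₀ w := by
    intro w hw
    rw [hWdef] at hw
    exact U.W_nrm hw
  have hPyN : ∀ {b : S}, b ∈ conjSub y P → Nrm S₀ b := fun hb => U.C₃_nrm (U.Py_le hb)
  have hdis : ∀ b ∈ conjSub y P, b ∈ W → b = 1 :=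
    U.c.conj_inf_eq_one U.h2 y W (fun b hb t ht => hWn (hPyN hb) ht) hz₃
  obtain ⟨u₀, hu₀, v₀, hv₀, huv⟩ := U.c.hnc
  obtain ⟨W₁, hW₁def⟩ : ∃ W₁ : Subgroup S, W₁ = W ⊓ conjSub y S₀ := ⟨_, rfl⟩
  have hW₁ : ∀ i, i ∈ W₁ ↔ i ∈ W ∧ i ∈ conjSub y S₀ := by
    intro i; rw [hW₁def, Subgroup.mem_inf]
  -- μ
  have hμ : ∀ w' ∈ conjSub y P, ∀ w ∈ W, w' * w * w'⁻¹ * w⁻¹ ∈ W₁ := by
    intro w' hw' w hw
    rw [hW₁]
    constructor
    · exact W.mul_mem (hWn (hPyN hw') hw) (W.inv_mem hw)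
    · have h1 : w * w'⁻¹ * w⁻¹ ∈ conjSub y S₀ :=
        U.C₃_normal (hWnrm hw) ((conjSub y S₀).inv_mem (U.Py_le hw'))
      have e : w' * w * w'⁻¹ * w⁻¹ = w' * (w * w'⁻¹ * w⁻¹) := by group
      rw [e]
      exact (conjSub y S₀).mul_mem (U.Py_le hw') h1
  -- W₁ centralizes the conjugate of P
  have hW₁c : ∀ i ∈ W₁, ∀ w' ∈ conjSub y P, i * w' = w' * i := by
    intro i hi w' hw'
    rw [hW₁] at hi
    have h1 : i * w' * i⁻¹ * w'⁻¹ ∈ conjSub y P :=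
      (conjSub y P).mul_mem (U.Py_normal hi.2 hw') ((conjSub y P).inv_mem hw')
    have h3 : i * w' * i⁻¹ * w'⁻¹ ∈ W := by
      have e : i * w' * i⁻¹ * w'⁻¹ = i * (w' * i⁻¹ * w'⁻¹) := by group
      rw [e]
      exact W.mul_mem hi.1 (hWn (hPyN hw') (W.inv_mem hi.1))
    have h4 := hdis _ h1 h3
    calc i * w' = i * w' * i⁻¹ * w'⁻¹ * (w' * i) := by group
      _ = w' * i := by rw [h4, one_mul]
  -- μ commutes with W₁
  have hμc : ∀ w' ∈ conjSub y P, ∀ w ∈ W, ∀ i ∈ W₁,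
      i * (w' * w * w'⁻¹ * w⁻¹) = (w' * w * w'⁻¹ * w⁻¹) * i := by
    intro w' hw' w hw i hi
    have hi' := (hW₁ i).1 hi
    have hu'' : w⁻¹ * i * w ∈ W₁ := by
      rw [hW₁]
      constructor
      · exact W.mul_mem (W.mul_mem (W.inv_mem hw) hi'.1) hw
      · have := U.C₃_normal (hWnrm (W.inv_mem hw)) hi'.2
        rwa [inv_inv] at this
    have c1 := hW₁c i hi w' hw'
    have c2 := hW₁c _ hu'' w' hw'
    have c2' : w'⁻¹ * (w⁻¹ * i * w) = (w⁻¹ * i * w) * w'⁻¹ := by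
      calc w'⁻¹ * (w⁻¹ * i * w) = w'⁻¹ * ((w⁻¹ * i * w) * w') * w'⁻¹ := by group
        _ = w'⁻¹ * (w' * (w⁻¹ * i * w)) * w'⁻¹ := by rw [c2]
        _ = (w⁻¹ * i * w) * w'⁻¹ := by group
    calc i * (w' * w * w'⁻¹ * w⁻¹) = (i * w') * w * w'⁻¹ * w⁻¹ := by group
      _ = (w' * i) * w * w'⁻¹ * w⁻¹ := by rw [c1]
      _ = w' * w * ((w⁻¹ * i * w) * w'⁻¹) * w⁻¹ := by group
      _ = w' * w * (w'⁻¹ * (w⁻¹ * i * w)) * w⁻¹ := by rw [c2']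
      _ = (w' * w * w'⁻¹ * w⁻¹) * i := by group
  have hu' : y * u₀ * y⁻¹ ∈ conjSub y P := conj_mem_conjSub hu₀
  have hv' : y * v₀ * y⁻¹ ∈ conjSub y P := conj_mem_conjSub hv₀
  obtain ⟨u', hu'def⟩ : ∃ u' : S, u' = y * u₀ * y⁻¹ := ⟨_, rfl⟩
  obtain ⟨v', hv'def⟩ : ∃ v' : S, v' = y * v₀ * y⁻¹ := ⟨_, rfl⟩
  rw [← hu'def] at hu'
  rw [← hv'def] at hv'
  -- the two products act in the same way on W
  have hact : ∀ w ∈ W, (u' * v') * w * (u' * v')⁻¹ = (v' * u') * w * (v' * u')⁻¹ := by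
    intro w hw
    have m1 := hμ u' hu' w hw
    have m2 := hμ v' hv' w hw
    have c1 := hW₁c _ m2 u' hu'
    have c2 := hW₁c _ m1 v' hv'
    have c3 := hμc v' hv' w hw _ m1
    calc (u' * v') * w * (u' * v')⁻¹
        = u' * ((v' * w * v'⁻¹ * w⁻¹) * w) * u'⁻¹ := by group
      _ = (u' * (v' * w * v'⁻¹ * w⁻¹)) * w * u'⁻¹ := by group
      _ = ((v' * w * v'⁻¹ * w⁻¹) * u') * w * u'⁻¹ := by rw [c1]
      _ = (v' * w * v'⁻¹ * w⁻¹) * (u' * w * u'⁻¹ * w⁻¹) * w := by group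
      _ = (u' * w * u'⁻¹ * w⁻¹) * (v' * w * v'⁻¹ * w⁻¹) * w := by rw [c3]
      _ = ((u' * w * u'⁻¹ * w⁻¹) * v') * w * v'⁻¹ := by group
      _ = (v' * (u' * w * u'⁻¹ * w⁻¹)) * w * v'⁻¹ := by rw [c2]
      _ = (v' * u') * w * (v' * u')⁻¹ := by group
  have hk : ∀ w ∈ U.toTwr.W, ((v' * u')⁻¹ * (u' * v')) * w = w * ((v' * u')⁻¹ * (u' * v')) := by
    intro w hw
    rw [← hWdef] at hw
    have h1 := hact w hw
    calc ((v' * u')⁻¹ * (u' * v')) * w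
        = (v' * u')⁻¹ * ((u' * v') * w * (u' * v')⁻¹) * (u' * v') := by group
      _ = (v' * u')⁻¹ * ((v' * u') * w * (v' * u')⁻¹) * (u' * v') := by rw [h1]
      _ = w * ((v' * u')⁻¹ * (u' * v')) := by group
  have hkW := U.toTwr.cent_W hk
  rw [← hWdef] at hkW
  have hkP : (v' * u')⁻¹ * (u' * v') ∈ conjSub y P :=
    (conjSub y P).mul_mem ((conjSub y P).inv_mem ((conjSub y P).mul_mem hv' hu'))
      ((conjSub y P).mul_mem hu' hv')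
  have h1 := hdis _ hkP hkW
  have h3 : u' * v' = v' * u' := by
    have := inv_mul_eq_one.1 h1
    exact this.symm
  apply huv
  rw [hu'def, hv'def] at h3
  calc u₀ * v₀ = y⁻¹ * ((y * u₀ * y⁻¹) * (y * v₀ * y⁻¹)) * y := by group
    _ = y⁻¹ * ((y * v₀ * y⁻¹) * (y * u₀ * y⁻¹)) * y := by rw [h3]
    _ = v₀ * u₀ := by group

end Twr2

end Ctx

end Cfsg.Agent.Lib.Helper8.SK
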