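import Mathlib
import Cfsg.Agent.Lib.Helper8.SK4

set_option autoImplicit false
set_option linter.unusedSectionVars false
set_option linter.style.haveILetI false

/-! Sectional rank: the second case and the conclusion. -/

namespace Cfsg.Agent.Lib.Helper8.SK

open Cfsg

variable {S : Type*} [Group S] [Finite S] {P S₀ : Subgroup S} {z : S}

namespace Ctx

namespace Twr

variable {x : S}

/-- The product `z · z^x` is central in the normalizer of `S₀`. -/
theorem c_central (T : Twr P S₀ z x) {t : S} (ht : Nrm S₀ t) :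
    t * (z * (x * z * x⁻¹)) = (z * (x * z * x⁻¹)) * t := by
  by_cases htS : t ∈ S₀
  · have c1 := T.c.z_comm htS
    have c2 := T.c.conj_z_comm T.hx htS
    calc t * (z * (x * z * x⁻¹)) = (t * z) * (x * z * x⁻¹) := by group
      _ = (z * t) * (x * z * x⁻¹) := by rw [c1]
      _ = z * (t * (x * z * x⁻¹)) := by group
      _ = z * ((x * z * x⁻¹) * t) := by rw [c2]
      _ = (z * (x * z * x⁻¹)) * t := by group
  · -- `t = x s` with `s ∈ S₀`, and `t x ∈ S₀`
    have h1 : x⁻¹ * t ∈ S₀ := T.mem_two T.hx T.hxS ht htS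
    have htinv : t⁻¹ ∉ S₀ := fun h => htS (by simpa using S₀.inv_mem h)
    have h3 : t⁻¹⁻¹ * x ∈ S₀ := T.mem_two ht.inv htinv T.hx T.hxS
    rw [inv_inv] at h3
    have c1 := T.c.z_comm h1
    have c2 := T.c.z_comm h3
    have e1 : t * z * t⁻¹ = x * z * x⁻¹ := by
      calc t * z * t⁻¹ = x * ((x⁻¹ * t) * z) * (x⁻¹ * t)⁻¹ * x⁻¹ := by group
        _ = x * (z * (x⁻¹ * t)) * (x⁻¹ * t)⁻¹ * x⁻¹ := by rw [c1]
        _ = x * z * x⁻¹ := by group
    have e2 : t * (x * z * x⁻¹) * t⁻¹ = z := by
      calc t * (x * z * x⁻¹) * t⁻¹ = ((t * x) * z) * (t * x)⁻¹ := by group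
        _ = (z * (t * x)) * (t * x)⁻¹ := by rw [c2]
        _ = z := by group
    have c3 : z * (x * z * x⁻¹) = (x * z * x⁻¹) * z :=
      T.c.z_comm (T.c.conjSub_le T.hx (conj_mem_conjSub T.c.hzP)) |>.symm
    calc t * (z * (x * z * x⁻¹)) = (t * z * t⁻¹) * (t * (x * z * x⁻¹) * t⁻¹) * t := by group
      _ = (x * z * x⁻¹) * z * t := by rw [e1, e2]
      _ = (z * (x * z * x⁻¹)) * t := by rw [c3]

end Twr

namespace Twr2

variable {x y : S}

/-- Two elements of the normalizer outside the conjugate of `S₀` lie in the same coset. -/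
theorem mem_two' (U : Twr2 P S₀ z x y) {t₁ t₂ : S} (h₁ : Nrm S₀ t₁) (h₁' : t₁ ∉ conjSub y S₀)
    (h₂ : Nrm S₀ t₂) (h₂' : t₂ ∉ conjSub y S₀) : t₁⁻¹ * t₂ ∈ conjSub y S₀ := by
  have h3 := U.toTwr.mem_two (U.nrm_conj' h₁) h₁' (U.nrm_conj' h₂) h₂'
  rw [mem_conjSub]
  have e : y⁻¹ * (t₁⁻¹ * t₂) * y = (y⁻¹ * t₁ * y)⁻¹ * (y⁻¹ * t₂ * y) := by group
  rw [e]
  exact h3

theorem mem_C₃ (U : Twr2 P S₀ z x y) (s : S) :
    s ∈ conjSub y S₀ ↔ s * (y * z * y⁻¹) = (y * z * y⁻¹) * s := U.c.mem_conjSub_S₀ y s

/-- Second case: the conjugate of `z` lies in `W`. -/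
theorem e2 (U : Twr2 P S₀ z x y) (hz₃ : y * z * y⁻¹ ∈ U.toTwr.W) : False := by
  obtain ⟨a, ha, b, hb, hab⟩ := hz₃
  have hp := U.toTwr.hp
  -- sub-claim 1
  have sub1 : (∀ u ∈ P, u * a = a * u) → (∀ v ∈ conjSub x P, v * b = b * v) → False := by
    intro hac hbc
    have hyz : ∀ {g : S}, y * z * y⁻¹ = g * z * g⁻¹ → (g⁻¹ * y) ∈ S₀ := by
      intro g h
      rw [U.c.hS₀]
      calc g⁻¹ * y * z = g⁻¹ * (y * z * y⁻¹) * y := by group
        _ = g⁻¹ * (g * z * g⁻¹) * y := by rw [h]
        _ = z * (g⁻¹ * y) := by group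
    rcases U.c.hcen a ha hac with rfl | rfl
    · rcases U.c.cen_conj x b hb hbc with rfl | rfl
      · -- z₃ = 1
        apply U.c.hz1
        have e : z = y⁻¹ * (y * z * y⁻¹) * y := by group
        rw [e, hab]
        group
      · -- z₃ = z^x
        rw [one_mul] at hab
        have h1 := hyz hab
        apply U.hy
        have e : y = x * (x⁻¹ * y) := by group
        rw [e]
        exact U.hx.mul (Nrm.of_mem h1)
    · rcases U.c.cen_conj x b hb hbc with rfl | rfl
      · -- z₃ = z
        rw [mul_one] at hab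
        have h1 : (1 : S)⁻¹ * y ∈ S₀ := hyz (g := 1) (by rw [hab]; group)
        rw [inv_one, one_mul] at h1
        exact U.hy (Nrm.of_mem h1)
      · -- z₃ = z z^x, central in the normalizer
        have ht : Nrm S₀ (y * x * y⁻¹) := (U.hyN x).1 U.hx
        have h1 := U.toTwr.c_central ht
        rw [← hab] at h1
        have h3 : y * x * y⁻¹ ∈ conjSub y S₀ := (U.mem_C₃ _).2 h1
        rw [mem_conjSub] at h3
        have e : y⁻¹ * (y * x * y⁻¹) * y = x := by group
        rw [e] at h3
        exact U.hxS h3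
  -- sub-claim 3a
  have sub3a : (∀ u ∈ P, u * a = a * u) → (∀ v ∈ conjSub x P, v * b = b * v) := by
    intro hac v hv
    have hu : x⁻¹ * v * x ∈ P := hv
    have huC : x⁻¹ * v * x ∈ conjSub y S₀ := by
      rw [U.mem_C₃, hab]
      have c1 := hac _ hu
      have c2 := hp.comm _ hu b hb
      calc x⁻¹ * v * x * (a * b) = (x⁻¹ * v * x * a) * b := by group
        _ = (a * (x⁻¹ * v * x)) * b := by rw [c1]
        _ = a * ((x⁻¹ * v * x) * b) := by group
        _ = a * (b * (x⁻¹ * v * x)) := by rw [c2]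
        _ = a * b * (x⁻¹ * v * x) := by group
    have hvC : v ∈ conjSub y S₀ := by
      have := U.C₃_normal U.hx huC
      have e : x * (x⁻¹ * v * x) * x⁻¹ = v := by group
      rw [e] at this
      exact this
    rw [U.mem_C₃, hab] at hvC
    have c3 := hp.comm a ha v hv
    have h4 : a * (v * b) = a * (b * v) := by
      calc a * (v * b) = (a * v) * b := by group
        _ = (v * a) * b := by rw [c3]
        _ = v * (a * b) := by group
        _ = a * b * v := hvC
        _ = a * (b * v) := by group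
    exact mul_left_cancel h4
  -- sub-claim 3b
  have sub3b : (∀ v ∈ conjSub x P, v * b = b * v) → (∀ u ∈ P, u * a = a * u) := by
    intro hbc u hu
    have hv : x * u * x⁻¹ ∈ conjSub x P := conj_mem_conjSub hu
    have hvC : x * u * x⁻¹ ∈ conjSub y S₀ := by
      rw [U.mem_C₃, hab]
      have c1 := hbc _ hv
      have c2 := hp.comm a ha _ hv
      calc x * u * x⁻¹ * (a * b) = (x * u * x⁻¹ * a) * b := by group
        _ = (a * (x * u * x⁻¹)) * b := by rw [c2]
        _ = a * ((x * u * x⁻¹) * b) := by group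
        _ = a * (b * (x * u * x⁻¹)) := by rw [c1]
        _ = a * b * (x * u * x⁻¹) := by group
    have huC : u ∈ conjSub y S₀ := by
      have := U.C₃_normal U.hx.inv hvC
      have e : x⁻¹ * (x * u * x⁻¹) * x⁻¹⁻¹ = u := by group
      rw [e] at this
      exact this
    rw [U.mem_C₃, hab] at huC
    have c3 := hp.comm u hu b hb
    have h4 : u * a * b = a * u * b := by
      calc u * a * b = u * (a * b) := by group
        _ = a * b * u := huC
        _ = a * (b * u) := by group
        _ = a * (u * b) := by rw [c3]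
        _ = a * u * b := by group
    exact mul_right_cancel h4
  -- sub-claim 2
  by_cases hac : ∀ u ∈ P, u * a = a * u
  · exact sub1 hac (sub3a hac)
  · by_cases hbc : ∀ v ∈ conjSub x P, v * b = b * v
    · exact hac (sub3b hbc)
    · push Not at hac hbc
      obtain ⟨u, hu, hua⟩ := hac
      obtain ⟨v, hv, hvb⟩ := hbc
      have huC : u ∉ conjSub y S₀ := by
        intro h
        rw [U.mem_C₃, hab] at h
        apply hua
        have c3 := hp.comm u hu b hb
        have h4 : u * a * b = a * u * b := by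
          calc u * a * b = u * (a * b) := by group
            _ = a * b * u := h
            _ = a * (b * u) := by group
            _ = a * (u * b) := by rw [c3]
            _ = a * u * b := by group
        exact mul_right_cancel h4
      have hvC : v ∉ conjSub y S₀ := by
        intro h
        rw [U.mem_C₃, hab] at h
        apply hvb
        have c3 := hp.comm a ha v hv
        have h4 : a * (v * b) = a * (b * v) := by
          calc a * (v * b) = (a * v) * b := by group
            _ = (v * a) * b := by rw [c3]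
            _ = v * (a * b) := by group
            _ = a * b * v := h
            _ = a * (b * v) := by group
        exact mul_left_cancel h4
      have huN : Nrm S₀ u := Nrm.of_mem (U.c.le hu)
      have hvN : Nrm S₀ v := Nrm.of_mem (U.c.conjSub_le U.hx hv)
      have h1 := U.mem_two' huN huC hvN hvC
      rw [U.mem_C₃, hab] at h1
      -- (u⁻¹ a)(v b) = (a u⁻¹)(b v)
      have c1 := hp.comm a ha v hv
      have c2 := hp.comm u⁻¹ (P.inv_mem hu) b hb
      have h4 : (u⁻¹ * a) * (v * b) = (a * u⁻¹) * (b * v) := by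
        calc (u⁻¹ * a) * (v * b) = u⁻¹ * (a * v) * b := by group
          _ = u⁻¹ * (v * a) * b := by rw [c1]
          _ = u⁻¹ * v * (a * b) := by group
          _ = a * b * (u⁻¹ * v) := h1
          _ = a * (b * u⁻¹) * v := by group
          _ = a * (u⁻¹ * b) * v := by rw [c2]
          _ = (a * u⁻¹) * (b * v) := by group
      have h5 := (U.toTwr.W_unique (P.mul_mem (P.inv_mem hu) ha) (P.mul_mem ha (P.inv_mem hu))
        ((conjSub x P).mul_mem hv hb) ((conjSub x P).mul_mem hb hv) h4).1
      apply hua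
      calc u * a = u * (a * u⁻¹) * u := by group
        _ = u * (u⁻¹ * a) * u := by rw [h5]
        _ = a * u := by group

end Twr2

/-- If `S₀` is proper, some element outside normalizes it. -/
theorem exists_nrm (h2 : IsPGroup 2 S) (H : Subgroup S) (hH : H ≠ ⊤) :
    ∃ x, x ∈ Subgroup.normalizer (H : Set S) ∧ x ∉ H := by
  haveI : Fact (Nat.Prime 2) := ⟨Nat.prime_two⟩
  haveI : Group.IsNilpotent S := h2.isNilpotent
  have h1 := Group.normalizerCondition_of_isNilpotent (G := S) H (lt_top_iff_ne_top.2 hH)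
  exact SetLike.exists_of_lt h1

/-- The main conclusion. -/
theorem main (c : Ctx P S₀ z) (h2 : IsPGroup 2 S) (hr : Cfsg.SectionalPRankLE 2 4 S)
    (hS₀ : S₀ ≠ ⊤) : Cfsg.SectionalPRankLE 2 2 ↥P ∧ S₀.index = 2 := by
  obtain ⟨x, hxN, hxS⟩ := exists_nrm h2 S₀ hS₀
  have hx : Nrm S₀ x := Nrm.iff_mem_normalizer.2 hxN
  have T : Twr P S₀ z x := ⟨c, h2, hr, hx, hxS⟩
  refine ⟨sectional_two hr T.hp, ?_⟩
  -- the normalizer is everything
  have hall : ∀ t : S, Nrm S₀ t := by
    by_contra hcon
    have hN : Subgroup.normalizer (S₀ : Set S) ≠ ⊤ := by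
      intro h
      apply hcon
      intro t
      rw [Nrm.iff_mem_normalizer, h]
      trivial
    obtain ⟨y, hyN, hy⟩ := exists_nrm h2 _ hN
    rw [Subgroup.mem_normalizer_iff] at hyN
    have U : Twr2 P S₀ z x y :=
      { toTwr := T
        hyN := by
          intro t
          rw [Nrm.iff_mem_normalizer, Nrm.iff_mem_normalizer]
          exact hyN t
        hy := by
          rw [Nrm.iff_mem_normalizer]
          exact hy }
    by_cases hz₃ : y * z * y⁻¹ ∈ U.toTwr.W
    · exact U.e2 hz₃
    · exact U.e1 hz₃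
  rw [Subgroup.index_eq_two_iff]
  refine ⟨x, fun b => ?_⟩
  by_cases hb : b ∈ S₀
  · right
    refine ⟨hb, fun h => hxS ?_⟩
    have := S₀.mul_mem (S₀.inv_mem hb) h
    rwa [inv_mul_cancel_left] at this
  · left
    refine ⟨?_, hb⟩
    have hbinv : b⁻¹ ∉ S₀ := fun h => hb (by simpa using S₀.inv_mem h)
    have := T.mem_two (hall b⁻¹) hbinv hx hxS
    rwa [inv_inv] at this

end Ctx

end Cfsg.Agent.Lib.Helper8.SK
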