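import Mathlib
import Cfsg.Prelude.Def_Blocks
import Cfsg.Agent.Lib.Helper8.SM8
import Cfsg.Agent.Lib.Helper8.CharPPart
import Cfsg.Agent.Lib.Helper8.BlockDefectBounds
import Cfsg.Agent.Lib.Helper8.PairConj3
import Cfsg.Agent.Lib.Helper8.Deflation

/-!
# Height zero characters do not vanish on the sections of the defect group
-/

set_option autoImplicit false

namespace Cfsg.Agent.Lib.Helper8

open Cfsg
open scoped ComplexConjugate
open Cfsg.Agent.Lib.Helper1 Cfsg.Agent.Lib.Helper4

universe u

section

variable {G : Type u} [Group G] [Fintype G] {M : Ideal AlgInt} {p : ℕ}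

/-- The value of a height zero character at a defect class is a unit of the local ring. -/
theorem not_memLocalIdeal_irr_of_height_zero [Fact p.Prime] (hM : IsPModular p M)
    {B : Set (IrrCharacter G)} (hB : IsPBlock M B) {χ : IrrCharacter G} (hχ : χ ∈ B)
    (h0 : blockHeight p B (χ : G → ℂ) = 0) {g₀ : G} (hg₀ : IsDefectClass M B g₀) :
    ¬ MemLocalIdeal M ((χ : G → ℂ) g₀) := by
  classical
  have hMp := isPModular_isPrime hM
  have hp := hM.1
  intro hmem
  apply hg₀.2.2 χ hχ
  obtain ⟨hdeg, hdegpos⟩ := irr_apply_one_eq_charDegree χ.2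
  have hdvd := charDegree_dvd_card χ.2
  have hfac := factorization_card_centralizer_of_isDefectClass hM hB hg₀
  -- valuations
  set S := (fun ψ : IrrCharacter G => (charDegree (ψ : G → ℂ)).factorization p) '' B with hS
  have hSle : sInf S ≤ (charDegree (χ : G → ℂ)).factorization p := Nat.sInf_le ⟨χ, hχ, rfl⟩
  have hχeq : (charDegree (χ : G → ℂ)).factorization p = sInf S := by
    unfold blockHeight at h0
    rw [← hS] at h0
    omega
  have hdle : (charDegree (χ : G → ℂ)).factorization p ≤ (Nat.card G).factorization p :=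
    (Nat.factorization_le_iff_dvd hdegpos.ne' Nat.card_pos.ne').2 hdvd p
  have hidx : (Subgroup.centralizer ({g₀} : Set G)).index *
      Nat.card (Subgroup.centralizer ({g₀} : Set G)) = Nat.card G := by
    rw [mul_comm]; exact Subgroup.card_mul_index _
  have hidx0 : (Subgroup.centralizer ({g₀} : Set G)).index ≠ 0 :=
    Subgroup.index_ne_zero_of_finite
  have hfacG : (Nat.card G).factorization p =
      ((Subgroup.centralizer ({g₀} : Set G)).index).factorization p + blockDefect p B := by
    rw [← hidx, Nat.factorization_mul hidx0 Nat.card_pos.ne', Finsupp.add_apply, hfac]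
  have hdef : blockDefect p B = (Nat.card G).factorization p - sInf S := rfl
  have hle : (charDegree (χ : G → ℂ)).factorization p ≤
      ((Subgroup.centralizer ({g₀} : Set G)).index).factorization p := by
    omega
  have h1 := memLocalRing_natCast_div hM hidx0 hdegpos.ne' hle
  unfold centralChar
  rw [hdeg, mul_div_right_comm]
  exact memLocalIdeal_mul_right hMp hmem h1 |> fun h => by rwa [mul_comm] at h

/-- A height zero character does not vanish at `x * g₀`, `x` a `p`-element centralizing the defect
class `g₀`. -/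
theorem irr_ne_zero_of_height_zero [Fact p.Prime] (hM : IsPModular p M)
    {B : Set (IrrCharacter G)} (hB : IsPBlock M B) {χ : IrrCharacter G} (hχ : χ ∈ B)
    (h0 : blockHeight p B (χ : G → ℂ) = 0) {g₀ : G} (hg₀ : IsDefectClass M B g₀)
    {x : G} (hx : ∃ k : ℕ, orderOf x = p ^ k) (hxg : x * g₀ = g₀ * x) :
    (χ : G → ℂ) (x * g₀) ≠ 0 := by
  have hMp := isPModular_isPrime hM
  intro h
  apply not_memLocalIdeal_irr_of_height_zero hM hB hχ h0 hg₀
  obtain ⟨k, hk⟩ := hx
  have h1 := memLocalIdeal_char_mul_sub hM (isCharacter_of_irr χ.2) x g₀ k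
    (by rw [← hk]; exact pow_orderOf_eq_one x) hxg
  rw [h, zero_sub] at h1
  have := memLocalIdeal_neg h1
  rwa [neg_neg] at this

end

end Cfsg.Agent.Lib.Helper8
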