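import Mathlib

/-!
# Bilinear forms restricted to subspaces: nondegeneracy, Riesz representation, splitting
-/

set_option autoImplicit false

namespace Cfsg.Agent.Lib.Helper8

section

variable {F : Type*} [Field F] {V : Type*} [AddCommGroup V] [Module F V]

/-- `B` is left-nondegenerate on the subspace `D`. -/
def SOLnd (B : LinearMap.BilinForm F V) (D : Submodule F V) : Prop :=
  ∀ x ∈ D, (∀ y ∈ D, B x y = 0) → x = 0

theorem soRiesz [FiniteDimensional F V] {B : LinearMap.BilinForm F V} {D : Submodule F V}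
    (h : SOLnd B D) (f : V →ₗ[F] F) : ∃ h₀ ∈ D, ∀ x ∈ D, B h₀ x = f x := by
  let φ : D →ₗ[F] (D →ₗ[F] F) := B.domRestrict₁₂ D D
  have hinj : Function.Injective φ := by
    rw [← LinearMap.ker_eq_bot, LinearMap.ker_eq_bot']
    intro x hx
    have h1 := h x x.2 (fun y hy => by
      have h2 := LinearMap.congr_fun hx ⟨y, hy⟩
      exact h2)
    exact Subtype.ext h1
  have hsurj : Function.Surjective φ :=
    (LinearMap.injective_iff_surjective_of_finrank_eq_finrank
      (Subspace.dual_finrank_eq (K := F) (V := D)).symm).1 hinj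
  obtain ⟨h₀, hh₀⟩ := hsurj (f.domRestrict D)
  refine ⟨h₀, h₀.2, fun x hx => ?_⟩
  have h2 := LinearMap.congr_fun hh₀ ⟨x, hx⟩
  exact h2

theorem soLnd_flip [FiniteDimensional F V] {B : LinearMap.BilinForm F V} {D : Submodule F V}
    (h : SOLnd B D) : SOLnd B.flip D := by
  intro x hx hx0
  rw [← Module.forall_dual_apply_eq_zero_iff F]
  intro f
  obtain ⟨h₀, hh₀, hf⟩ := soRiesz h f
  rw [← hf x hx]
  have := hx0 h₀ hh₀
  rwa [LinearMap.BilinForm.flip_apply] at this

theorem soLnd_of_flip [FiniteDimensional F V] {B : LinearMap.BilinForm F V} {D : Submodule F V}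
    (h : SOLnd B.flip D) : SOLnd B D := by
  intro x hx hx0
  apply soLnd_flip h x hx
  intro y hy
  rw [LinearMap.BilinForm.flip_apply, LinearMap.BilinForm.flip_apply]
  exact hx0 y hy

theorem soProj {X Y : Submodule F V} (h : Disjoint X Y) :
    ∃ π : V →ₗ[F] V, (∀ v, π v ∈ X) ∧ (∀ x ∈ X, π x = x) ∧ (∀ y ∈ Y, π y = 0) := by
  obtain ⟨Q, hQ⟩ := Submodule.exists_isCompl (X ⊔ Y)
  have hc : IsCompl X (Y ⊔ Q) := by
    refine ⟨h.disjoint_sup_right_of_disjoint_sup_left hQ.disjoint, ?_⟩
    rw [codisjoint_iff, ← sup_assoc]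
    exact hQ.sup_eq_top
  refine ⟨X.projection (Y ⊔ Q) hc, fun v => Submodule.projection_apply_mem hc v, ?_, ?_⟩
  · intro x hx
    exact Submodule.projection_apply_of_mem_left hc hx
  · intro y hy
    exact Submodule.projection_apply_of_mem_right hc (Submodule.mem_sup_left hy)

/-- The right perp of `H` inside `D`. -/
def soPerp (B : LinearMap.BilinForm F V) (H D : Submodule F V) : Submodule F V where
  carrier := {z | z ∈ D ∧ ∀ h ∈ H, B h z = 0}
  add_mem' := by
    rintro a b ⟨ha, ha'⟩ ⟨hb, hb'⟩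
    refine ⟨add_mem ha hb, fun h hh => ?_⟩
    rw [map_add, ha' h hh, hb' h hh, add_zero]
  zero_mem' := ⟨zero_mem _, fun h _ => map_zero _⟩
  smul_mem' := by
    rintro c a ⟨ha, ha'⟩
    refine ⟨D.smul_mem c ha, fun h hh => ?_⟩
    rw [map_smul, ha' h hh, smul_zero]

theorem mem_soPerp {B : LinearMap.BilinForm F V} {H D : Submodule F V} {z : V} :
    z ∈ soPerp B H D ↔ z ∈ D ∧ ∀ h ∈ H, B h z = 0 := Iff.rfl

theorem soPerp_le {B : LinearMap.BilinForm F V} {H D : Submodule F V} : soPerp B H D ≤ D :=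
  fun _ hz => hz.1

theorem soPerp_disjoint [FiniteDimensional F V] {B : LinearMap.BilinForm F V}
    {H D : Submodule F V} (hH : SOLnd B H) : Disjoint H (soPerp B H D) := by
  rw [Submodule.disjoint_def]
  intro z hz hz'
  apply soLnd_flip hH z hz
  intro y hy
  rw [LinearMap.BilinForm.flip_apply]
  exact hz'.2 y hy

theorem soPerp_sup [FiniteDimensional F V] {B : LinearMap.BilinForm F V}
    {H D : Submodule F V} (hHD : H ≤ D) (hH : SOLnd B H) : H ⊔ soPerp B H D = D := by
  apply le_antisymm (sup_le hHD soPerp_le)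
  intro z hz
  obtain ⟨h₀, hh₀, hf⟩ := soRiesz (soLnd_flip hH) (B.flip z)
  have h1 : z - h₀ ∈ soPerp B H D := by
    refine ⟨sub_mem hz (hHD hh₀), fun h hh => ?_⟩
    have := hf h hh
    rw [LinearMap.BilinForm.flip_apply, LinearMap.BilinForm.flip_apply] at this
    rw [map_sub, this, sub_self]
  have : z = h₀ + (z - h₀) := by abel
  rw [this]
  exact Submodule.add_mem_sup hh₀ h1

theorem soPerp_lnd [FiniteDimensional F V] {B : LinearMap.BilinForm F V}
    {H D : Submodule F V} (hHD : H ≤ D) (hH : SOLnd B H) (hD : SOLnd B D) :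
    SOLnd B (soPerp B H D) := by
  apply soLnd_of_flip
  intro z hz hz0
  apply soLnd_flip hD z hz.1
  intro d hd
  rw [← soPerp_sup hHD hH] at hd
  obtain ⟨h, hh, x, hx, rfl⟩ := Submodule.mem_sup.1 hd
  have h1 := hz0 x hx
  rw [LinearMap.BilinForm.flip_apply] at h1 ⊢
  rw [map_add, LinearMap.add_apply, hz.2 h hh, h1, add_zero]

theorem soPerp_finrank_lt [FiniteDimensional F V] {B : LinearMap.BilinForm F V}
    {H D : Submodule F V} (hHD : H ≤ D) (hH : SOLnd B H) (hH0 : H ≠ ⊥) :
    Module.finrank F (soPerp B H D) < Module.finrank F D := by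
  have h1 := Submodule.finrank_sup_add_finrank_inf_eq H (soPerp B H D)
  rw [soPerp_sup hHD hH, (soPerp_disjoint hH).eq_bot, finrank_bot, add_zero] at h1
  have h2 : 0 < Module.finrank F H := by
    rw [Nat.pos_iff_ne_zero, Ne, Submodule.finrank_eq_zero]
    exact hH0
  omega

end

end Cfsg.Agent.Lib.Helper8
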