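import Mathlib
import Cfsg.Agent.Lib.Helper8.SO1

/-!
# Invariant subspaces with invariant forms: sums, perps, complements
-/

set_option autoImplicit false

namespace Cfsg.Agent.Lib.Helper8

section

variable {F : Type*} [Field F] {V : Type*} [AddCommGroup V] [Module F V]
  {G : Type*} [Group G] (ρ : Representation F G V)

/-- The subspace `D` is invariant. -/
def SOInv (D : Submodule F V) : Prop := ∀ g : G, ∀ x ∈ D, ρ g x ∈ D

/-- The form `B` is invariant on `D`. -/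
def SOInvOn (B : LinearMap.BilinForm F V) (D : Submodule F V) : Prop :=
  ∀ g : G, ∀ x ∈ D, ∀ y ∈ D, B (ρ g x) (ρ g y) = B x y

/-- `D` carries a form with property `P`, invariant and nondegenerate on `D`. -/
def SOGood (P : LinearMap.BilinForm F V → Prop) (D : Submodule F V) : Prop :=
  ∃ A : LinearMap.BilinForm F V, P A ∧ SOInvOn ρ A D ∧ SOLnd A D

variable {ρ}

theorem soInv_bot : SOInv ρ ⊥ := by
  intro g x hx
  rw [Submodule.mem_bot] at hx
  rw [hx, map_zero]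
  exact zero_mem _

theorem soInv_sup {U₁ U₂ : Submodule F V} (h1 : SOInv ρ U₁) (h2 : SOInv ρ U₂) :
    SOInv ρ (U₁ ⊔ U₂) := by
  intro g x hx
  obtain ⟨a, ha, b, hb, rfl⟩ := Submodule.mem_sup.1 hx
  rw [map_add]
  exact Submodule.add_mem_sup (h1 g a ha) (h2 g b hb)

theorem soInv_inf {U₁ U₂ : Submodule F V} (h1 : SOInv ρ U₁) (h2 : SOInv ρ U₂) :
    SOInv ρ (U₁ ⊓ U₂) := by
  intro g x hx
  exact ⟨h1 g x hx.1, h2 g x hx.2⟩

theorem soGood_bot {P : LinearMap.BilinForm F V → Prop} (h0 : P 0) : SOGood ρ P ⊥ := by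
  refine ⟨0, h0, fun g x _ y _ => rfl, fun x hx _ => ?_⟩
  rwa [Submodule.mem_bot] at hx

theorem soGood_sup {P : LinearMap.BilinForm F V → Prop}
    (hP1 : ∀ (A : LinearMap.BilinForm F V) (π : V →ₗ[F] V), P A → P (A.compl₁₂ π π))
    (hP2 : ∀ A A' : LinearMap.BilinForm F V, P A → P A' → P (A + A'))
    {U₁ U₂ : Submodule F V} (hd : Disjoint U₁ U₂) (h1 : SOInv ρ U₁) (h2 : SOInv ρ U₂)
    (g1 : SOGood ρ P U₁) (g2 : SOGood ρ P U₂) : SOGood ρ P (U₁ ⊔ U₂) := by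
  obtain ⟨A₁, hA₁, hi₁, hn₁⟩ := g1
  obtain ⟨A₂, hA₂, hi₂, hn₂⟩ := g2
  obtain ⟨π₁, hπ₁m, hπ₁l, hπ₁r⟩ := soProj hd
  obtain ⟨π₂, hπ₂m, hπ₂l, hπ₂r⟩ := soProj hd.symm
  have key : ∀ a ∈ U₁, ∀ b ∈ U₂, ∀ a' ∈ U₁, ∀ b' ∈ U₂,
      (A₁.compl₁₂ π₁ π₁ + A₂.compl₁₂ π₂ π₂) (a + b) (a' + b') = A₁ a a' + A₂ b b' := by
    intro a ha b hb a' ha' b' hb'
    have e1 : π₁ (a + b) = a := by rw [map_add, hπ₁l a ha, hπ₁r b hb, add_zero]
    have e2 : π₁ (a' + b') = a' := by rw [map_add, hπ₁l a' ha', hπ₁r b' hb', add_zero]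
    have e3 : π₂ (a + b) = b := by rw [map_add, hπ₂r a ha, hπ₂l b hb, zero_add]
    have e4 : π₂ (a' + b') = b' := by rw [map_add, hπ₂r a' ha', hπ₂l b' hb', zero_add]
    rw [LinearMap.add_apply, LinearMap.add_apply, LinearMap.compl₁₂_apply,
      LinearMap.compl₁₂_apply, e1, e2, e3, e4]
  refine ⟨A₁.compl₁₂ π₁ π₁ + A₂.compl₁₂ π₂ π₂, hP2 _ _ (hP1 _ _ hA₁) (hP1 _ _ hA₂), ?_, ?_⟩
  · intro g x hx y hy
    obtain ⟨a, ha, b, hb, rfl⟩ := Submodule.mem_sup.1 hx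
    obtain ⟨a', ha', b', hb', rfl⟩ := Submodule.mem_sup.1 hy
    rw [map_add (ρ g) a b, map_add (ρ g) a' b',
      key _ (h1 g a ha) _ (h2 g b hb) _ (h1 g a' ha') _ (h2 g b' hb'),
      key a ha b hb a' ha' b' hb', hi₁ g a ha a' ha', hi₂ g b hb b' hb']
  · intro x hx hx0
    obtain ⟨a, ha, b, hb, rfl⟩ := Submodule.mem_sup.1 hx
    have ha0 : a = 0 := by
      apply hn₁ a ha
      intro a' ha'
      have := hx0 (a' + 0) (Submodule.add_mem_sup ha' (zero_mem _))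
      rw [key a ha b hb a' ha' 0 (zero_mem _), map_zero, add_zero] at this
      exact this
    have hb0 : b = 0 := by
      apply hn₂ b hb
      intro b' hb'
      have := hx0 (0 + b') (Submodule.add_mem_sup (zero_mem _) hb')
      rw [key a ha b hb 0 (zero_mem _) b' hb', map_zero, zero_add] at this
      exact this
    rw [ha0, hb0, add_zero]

theorem soPerp_inv {B : LinearMap.BilinForm F V} {H D : Submodule F V} (hD : SOInv ρ D)
    (hH : SOInv ρ H) (hHD : H ≤ D) (hB : SOInvOn ρ B D) : SOInv ρ (soPerp B H D) := by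
  intro g z hz
  refine ⟨hD g z hz.1, fun h hh => ?_⟩
  have h1 := hB g (ρ g⁻¹ h) (hHD (hH g⁻¹ h hh)) z hz.1
  have h2 : ρ g (ρ g⁻¹ h) = h := by
    rw [← Module.End.mul_apply, ← map_mul, mul_inv_cancel, map_one, Module.End.one_apply]
  rw [h2] at h1
  rw [h1]
  exact hz.2 _ (hH g⁻¹ h hh)

theorem soInvOn_mono {B : LinearMap.BilinForm F V} {H D : Submodule F V} (hHD : H ≤ D)
    (hB : SOInvOn ρ B D) : SOInvOn ρ B H :=
  fun g x hx y hy => hB g x (hHD hx) y (hHD hy)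

/-- Maschke: an invariant complement inside an invariant subspace. -/
theorem soMaschke [Finite G] [NeZero (Nat.card G : F)] {M D : Submodule F V} (hM : SOInv ρ M)
    (hD : SOInv ρ D) (hMD : M ≤ D) :
    ∃ Y : Submodule F V, SOInv ρ Y ∧ Y ≤ D ∧ Disjoint M Y ∧ M ⊔ Y = D := by
  let M' : Subrepresentation ρ := ⟨M, fun g x hx => hM g x hx⟩
  obtain ⟨W', hW'⟩ := exists_isCompl M'
  have h1 : M ⊓ W'.toSubmodule = ⊥ := congrArg Subrepresentation.toSubmodule hW'.inf_eq_bot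
  have h2 : M ⊔ W'.toSubmodule = ⊤ := congrArg Subrepresentation.toSubmodule hW'.sup_eq_top
  refine ⟨D ⊓ W'.toSubmodule, soInv_inf hD (fun g x hx => W'.apply_mem_toSubmodule g hx),
    inf_le_left, ?_, ?_⟩
  · rw [disjoint_iff, eq_bot_iff, ← h1]
    exact inf_le_inf_left _ inf_le_right
  · rw [inf_comm, ← sup_inf_assoc_of_le _ hMD, h2, top_inf_eq]

/-- A minimal nonzero invariant subspace below a nonzero invariant subspace. -/
theorem soMinimal [FiniteDimensional F V] {K : Submodule F V} (hK : SOInv ρ K) (hK0 : K ≠ ⊥) :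
    ∃ Y : Submodule F V, SOInv ρ Y ∧ Y ≠ ⊥ ∧ Y ≤ K ∧
      ∀ Z : Submodule F V, SOInv ρ Z → Z ≤ Y → Z = ⊥ ∨ Z = Y := by
  obtain ⟨Y, ⟨hY1, hY0, hYK⟩, hYmin⟩ := WellFounded.has_min
    (InvImage.wf (fun W : Submodule F V => Module.finrank F W) Nat.lt_wfRel.wf)
    {W : Submodule F V | SOInv ρ W ∧ W ≠ ⊥ ∧ W ≤ K} ⟨K, hK, hK0, le_rfl⟩
  refine ⟨Y, hY1, hY0, hYK, fun Z hZ hZY => ?_⟩
  by_cases hZ0 : Z = ⊥
  · exact Or.inl hZ0
  right
  have h1 := hYmin Z ⟨hZ, hZ0, hZY.trans hYK⟩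
  have h2 := Submodule.finrank_mono hZY
  exact Submodule.eq_of_le_of_finrank_eq hZY (le_antisymm h2 (not_lt.1 h1))

end

end Cfsg.Agent.Lib.Helper8
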