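import Mathlib
import Cfsg.Agent.Lib.Helper8.SO2

/-!
# Finding a nondegenerate invariant piece carrying an alternating or symmetric form
-/

set_option autoImplicit false

namespace Cfsg.Agent.Lib.Helper8

section

variable {F : Type*} [Field F] {V : Type*} [AddCommGroup V] [Module F V]
  {G : Type*} [Group G] {ρ : Representation F G V}

/-- Alternating forms. -/
def SOAlt (A : LinearMap.BilinForm F V) : Prop := ∀ x, A x x = 0

/-- Symmetric forms. -/
def SOSym (S : LinearMap.BilinForm F V) : Prop := ∀ x y, S x y = S y x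

/-- The vectors of `D` on which `B` is symmetric against all of `D`. -/
def soSymPart (B : LinearMap.BilinForm F V) (D : Submodule F V) : Submodule F V where
  carrier := {x | x ∈ D ∧ ∀ y ∈ D, B x y = B y x}
  add_mem' := by
    rintro a b ⟨ha, ha'⟩ ⟨hb, hb'⟩
    refine ⟨add_mem ha hb, fun y hy => ?_⟩
    rw [map_add, LinearMap.add_apply, map_add, ha' y hy, hb' y hy]
  zero_mem' := ⟨zero_mem _, fun y _ => by rw [map_zero, LinearMap.zero_apply, map_zero]⟩
  smul_mem' := by
    rintro c a ⟨ha, ha'⟩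
    refine ⟨D.smul_mem c ha, fun y hy => ?_⟩
    rw [map_smul, LinearMap.smul_apply, map_smul, ha' y hy]

theorem soSymPart_le {B : LinearMap.BilinForm F V} {D : Submodule F V} : soSymPart B D ≤ D :=
  fun _ hx => hx.1

theorem soRho_cancel (g : G) (x : V) : ρ g (ρ g⁻¹ x) = x := by
  rw [← Module.End.mul_apply, ← map_mul, mul_inv_cancel, map_one, Module.End.one_apply]

theorem soSymPart_inv {B : LinearMap.BilinForm F V} {D : Submodule F V} (hD : SOInv ρ D)
    (hB : SOInvOn ρ B D) : SOInv ρ (soSymPart B D) := by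
  intro g x hx
  refine ⟨hD g x hx.1, fun y hy => ?_⟩
  have hy' : ρ g⁻¹ y ∈ D := hD g⁻¹ y hy
  have h1 := hB g x hx.1 (ρ g⁻¹ y) hy'
  have h2 := hB g (ρ g⁻¹ y) hy' x hx.1
  rw [soRho_cancel] at h1 h2
  rw [h1, h2]
  exact hx.2 _ hy'

theorem soAlt_compl (A : LinearMap.BilinForm F V) (π : V →ₗ[F] V) (h : SOAlt A) :
    SOAlt (A.compl₁₂ π π) := fun x => by
  rw [LinearMap.compl₁₂_apply]
  exact h _

theorem soAlt_add (A A' : LinearMap.BilinForm F V) (h : SOAlt A) (h' : SOAlt A') :
    SOAlt (A + A') := fun x => by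
  rw [LinearMap.add_apply, LinearMap.add_apply, h x, h' x, add_zero]

theorem soSym_compl (A : LinearMap.BilinForm F V) (π : V →ₗ[F] V) (h : SOSym A) :
    SOSym (A.compl₁₂ π π) := fun x y => by
  rw [LinearMap.compl₁₂_apply, LinearMap.compl₁₂_apply]
  exact h _ _

theorem soSym_add (A A' : LinearMap.BilinForm F V) (h : SOSym A) (h' : SOSym A') :
    SOSym (A + A') := fun x y => by
  simp only [LinearMap.add_apply]
  rw [h x y, h' x y]

theorem soAlt_zero : SOAlt (0 : LinearMap.BilinForm F V) := fun _ => rfl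

theorem soSym_zero : SOSym (0 : LinearMap.BilinForm F V) := fun _ _ => rfl

/-- If `B` is nowhere symmetric on `D`, then `B - Bᵗ` is a good alternating form. -/
theorem soGood_alt_of_symPart_bot {B : LinearMap.BilinForm F V} {D : Submodule F V}
    (hB : SOInvOn ρ B D) (hK : soSymPart B D = ⊥) : SOGood ρ SOAlt D := by
  refine ⟨B - B.flip, fun x => ?_, fun g x hx y hy => ?_, fun x hx hx0 => ?_⟩
  · rw [LinearMap.sub_apply, LinearMap.sub_apply, LinearMap.BilinForm.flip_apply, sub_self]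
  · simp only [LinearMap.sub_apply, LinearMap.BilinForm.flip_apply]
    rw [hB g x hx y hy, hB g y hy x hx]
  · have : x ∈ soSymPart B D := by
      refine ⟨hx, fun y hy => ?_⟩
      have := hx0 y hy
      rw [LinearMap.sub_apply, LinearMap.sub_apply, LinearMap.BilinForm.flip_apply,
        sub_eq_zero] at this
      exact this
    rw [hK, Submodule.mem_bot] at this
    exact this

/-- The isotropic vectors of a subspace on which `B` is symmetric, in characteristic two. -/
def soIsoPart (B : LinearMap.BilinForm F V) (Y : Submodule F V) (h2 : (2 : F) = 0)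
    (hsym : ∀ x ∈ Y, ∀ y ∈ Y, B x y = B y x) : Submodule F V where
  carrier := {x | x ∈ Y ∧ B x x = 0}
  add_mem' := by
    rintro a b ⟨ha, ha'⟩ ⟨hb, hb'⟩
    refine ⟨add_mem ha hb, ?_⟩
    simp only [map_add, LinearMap.add_apply]
    rw [ha', hb', hsym b hb a ha, zero_add, add_zero, ← two_mul, h2, zero_mul]
  zero_mem' := ⟨zero_mem _, map_zero _⟩
  smul_mem' := by
    rintro c a ⟨ha, ha'⟩
    refine ⟨Y.smul_mem c ha, ?_⟩
    simp only [map_smul, LinearMap.smul_apply]
    rw [ha', smul_zero, smul_zero]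

theorem soPiece_sym {B : LinearMap.BilinForm F V} {Y D : Submodule F V} (hY : SOInv ρ Y)
    (hYK : Y ≤ soSymPart B D) (hBi : SOInvOn ρ B D) (hYn : SOLnd B Y)
    (hmin : ∀ Z : Submodule F V, SOInv ρ Z → Z ≤ Y → Z = ⊥ ∨ Z = Y) :
    SOGood ρ SOAlt Y ∨
      (SOGood ρ SOSym Y ∧ ((2 : F) = 0 → ∀ g : G, ∀ w ∈ Y, ρ g w = w)) := by
  have hYD : Y ≤ D := hYK.trans soSymPart_le
  have hsym : ∀ x ∈ Y, ∀ y ∈ Y, B x y = B y x := fun x hx y hy => (hYK hx).2 y (hYD hy)
  obtain ⟨π, hπm, hπl, -⟩ := soProj (disjoint_bot_right : Disjoint Y ⊥)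
  have hSi : SOInvOn ρ (B.compl₁₂ π π) Y := by
    intro g x hx y hy
    rw [LinearMap.compl₁₂_apply, LinearMap.compl₁₂_apply, hπl _ (hY g x hx),
      hπl _ (hY g y hy), hπl x hx, hπl y hy]
    exact hBi g x (hYD hx) y (hYD hy)
  have hSn : SOLnd (B.compl₁₂ π π) Y := by
    intro x hx hx0
    apply hYn x hx
    intro y hy
    have := hx0 y hy
    rwa [LinearMap.compl₁₂_apply, hπl x hx, hπl y hy] at this
  have hSs : SOSym (B.compl₁₂ π π) := by
    intro x y
    rw [LinearMap.compl₁₂_apply, LinearMap.compl₁₂_apply]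
    exact hsym _ (hπm x) _ (hπm y)
  by_cases h2 : (2 : F) = 0
  · have hZinv : SOInv ρ (soIsoPart B Y h2 hsym) := by
      intro g x hx
      refine ⟨hY g x hx.1, ?_⟩
      rw [hBi g x (hYD hx.1) x (hYD hx.1)]
      exact hx.2
    have hZle : soIsoPart B Y h2 hsym ≤ Y := fun x hx => hx.1
    rcases hmin _ hZinv hZle with hZ | hZ
    · right
      refine ⟨⟨_, hSs, hSi, hSn⟩, fun _ g w hw => ?_⟩
      have hmem : ρ g w - w ∈ soIsoPart B Y h2 hsym := by
        refine ⟨sub_mem (hY g w hw) hw, ?_⟩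
        simp only [map_sub, LinearMap.sub_apply]
        rw [hBi g w (hYD hw) w (hYD hw), hsym w hw _ (hY g w hw)]
        have : (B w) w - (B ((ρ g) w)) w - ((B ((ρ g) w)) w - (B w) w)
            = 2 * ((B w) w - (B ((ρ g) w)) w) := by ring
        rw [this, h2, zero_mul]
      rw [hZ, Submodule.mem_bot, sub_eq_zero] at hmem
      exact hmem
    · left
      refine ⟨_, fun x => ?_, hSi, hSn⟩
      rw [LinearMap.compl₁₂_apply]
      have : π x ∈ soIsoPart B Y h2 hsym := by
        rw [hZ]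
        exact hπm x
      exact this.2
  · right
    exact ⟨⟨_, hSs, hSi, hSn⟩, fun h => absurd h h2⟩

theorem soPiece_hyp {B : LinearMap.BilinForm F V} {Y Y' D : Submodule F V}
    (hY'D : Y' ≤ D) (hYK : Y ≤ soSymPart B D) (hBi : SOInvOn ρ B D) (hBn : SOLnd B D)
    (hiso : Y ≤ soPerp B Y D) (hdisj : Disjoint (soPerp B Y D) Y')
    (hsup : soPerp B Y D ⊔ Y' = D) (hY : SOInv ρ Y) (hY' : SOInv ρ Y') :
    SOLnd B (Y ⊔ Y') ∧ SOGood ρ SOAlt (Y ⊔ Y') := by
  have hYD : Y ≤ D := hYK.trans soSymPart_le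
  have hdYY' : Disjoint Y Y' := hdisj.mono_left hiso
  -- a vector of `Y'` right-orthogonal to `Y` is zero
  have hy'0 : ∀ y' ∈ Y', (∀ w ∈ Y, B w y' = 0) → y' = 0 := by
    intro y' hy' h
    have h1 : y' ∈ soPerp B Y D := ⟨hY'D hy', h⟩
    exact (Submodule.disjoint_def.1 hdisj) y' h1 hy'
  -- a vector of `Y` left-orthogonal to `Y'` is zero
  have hy0 : ∀ y ∈ Y, (∀ w' ∈ Y', B y w' = 0) → y = 0 := by
    intro y hy h
    apply hBn y (hYD hy)
    intro d hd
    rw [← hsup] at hd
    obtain ⟨m, hm, z, hz, rfl⟩ := Submodule.mem_sup.1 hd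
    rw [map_add, hm.2 y hy, h z hz, add_zero]
  constructor
  · intro x hx hx0
    obtain ⟨y, hy, y', hy', rfl⟩ := Submodule.mem_sup.1 hx
    have h1 : y' = 0 := by
      apply hy'0 y' hy'
      intro w hw
      have := hx0 w (Submodule.mem_sup_left hw)
      rw [map_add, LinearMap.add_apply, (hiso hw).2 y hy, zero_add] at this
      rw [(hYK hw).2 y' (hY'D hy')]
      exact this
    have h2 : y = 0 := by
      apply hy0 y hy
      intro w' hw'
      have := hx0 w' (Submodule.mem_sup_right hw')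
      rwa [h1, add_zero] at this
    rw [h1, h2, add_zero]
  · obtain ⟨π₁, hπ₁m, hπ₁l, hπ₁r⟩ := soProj hdYY'
    obtain ⟨π₂, hπ₂m, hπ₂l, hπ₂r⟩ := soProj hdYY'.symm
    have key : ∀ y ∈ Y, ∀ y' ∈ Y', ∀ w ∈ Y, ∀ w' ∈ Y',
        (B.compl₁₂ π₁ π₂ - (B.compl₁₂ π₁ π₂).flip) (y + y') (w + w') = B y w' - B w y' := by
      intro y hy y' hy' w hw w' hw'
      have e1 : π₁ (y + y') = y := by rw [map_add, hπ₁l y hy, hπ₁r y' hy', add_zero]
      have e2 : π₁ (w + w') = w := by rw [map_add, hπ₁l w hw, hπ₁r w' hw', add_zero]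
      have e3 : π₂ (y + y') = y' := by rw [map_add, hπ₂r y hy, hπ₂l y' hy', zero_add]
      have e4 : π₂ (w + w') = w' := by rw [map_add, hπ₂r w hw, hπ₂l w' hw', zero_add]
      simp only [LinearMap.sub_apply, LinearMap.flip_apply,
        LinearMap.compl₁₂_apply]
      rw [e1, e2, e3, e4]
    refine ⟨B.compl₁₂ π₁ π₂ - (B.compl₁₂ π₁ π₂).flip, fun x => ?_, ?_, ?_⟩
    · rw [LinearMap.sub_apply, LinearMap.sub_apply, LinearMap.flip_apply, sub_self]
    · intro g x hx z hz
      obtain ⟨y, hy, y', hy', rfl⟩ := Submodule.mem_sup.1 hx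
      obtain ⟨w, hw, w', hw', rfl⟩ := Submodule.mem_sup.1 hz
      rw [map_add (ρ g) y y', map_add (ρ g) w w',
        key _ (hY g y hy) _ (hY' g y' hy') _ (hY g w hw) _ (hY' g w' hw'),
        key y hy y' hy' w hw w' hw', hBi g y (hYD hy) w' (hY'D hw'),
        hBi g w (hYD hw) y' (hY'D hy')]
    · intro x hx hx0
      obtain ⟨y, hy, y', hy', rfl⟩ := Submodule.mem_sup.1 hx
      have h1 : y' = 0 := by
        apply hy'0 y' hy'
        intro w hw
        have := hx0 (w + 0) (Submodule.add_mem_sup hw (zero_mem _))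
        rw [key y hy y' hy' w hw 0 (zero_mem _), map_zero, zero_sub, neg_eq_zero] at this
        exact this
      have h2 : y = 0 := by
        apply hy0 y hy
        intro w' hw'
        have := hx0 (0 + w') (Submodule.add_mem_sup (zero_mem _) hw')
        rw [key y hy y' hy' 0 (zero_mem _) w' hw', map_zero, LinearMap.zero_apply,
          sub_zero] at this
        exact this
      rw [h1, h2, add_zero]

end

end Cfsg.Agent.Lib.Helper8
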