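import Mathlib
import Cfsg.Agent.Lib.Helper8.SO3

/-!
# Self-dual coprime modules: symplectic plus orthogonal decomposition
-/

set_option autoImplicit false

namespace Cfsg.Agent.Lib.Helper8

section

variable {F : Type*} [Field F] {V : Type*} [AddCommGroup V] [Module F V]
  {G : Type*} [Group G] {ρ : Representation F G V}

theorem soFindPiece [FiniteDimensional F V] [Finite G] [NeZero (Nat.card G : F)]
    {B : LinearMap.BilinForm F V} {D : Submodule F V} (hD : SOInv ρ D) (hD0 : D ≠ ⊥)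
    (hBi : SOInvOn ρ B D) (hBn : SOLnd B D) :
    ∃ H : Submodule F V, H ≤ D ∧ H ≠ ⊥ ∧ SOInv ρ H ∧ SOLnd B H ∧
      (SOGood ρ SOAlt H ∨
        (SOGood ρ SOSym H ∧ ((2 : F) = 0 → ∀ g : G, ∀ w ∈ H, ρ g w = w))) := by
  by_cases hK : soSymPart B D = ⊥
  · exact ⟨D, le_rfl, hD0, hD, hBn, Or.inl (soGood_alt_of_symPart_bot hBi hK)⟩
  obtain ⟨Y, hY, hY0, hYK, hmin⟩ := soMinimal (soSymPart_inv hD hBi) hK
  have hYD : Y ≤ D := hYK.trans soSymPart_le
  have hPinv : SOInv ρ (soPerp B Y D) := soPerp_inv hD hY hYD hBi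
  rcases hmin (Y ⊓ soPerp B Y D) (soInv_inf hY hPinv) inf_le_left with hN | hN
  · have hYn : SOLnd B Y := by
      intro x hx hx0
      have : x ∈ Y ⊓ soPerp B Y D := by
        refine ⟨hx, hYD hx, fun y hy => ?_⟩
        rw [← (hYK hx).2 y (hYD hy)]
        exact hx0 y hy
      rw [hN, Submodule.mem_bot] at this
      exact this
    exact ⟨Y, hYD, hY0, hY, hYn, soPiece_sym hY hYK hBi hYn hmin⟩
  · have hiso : Y ≤ soPerp B Y D := by
      intro y hy
      rw [← hN] at hy
      exact hy.2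
    obtain ⟨Y', hY', hY'D, hdisj, hsup⟩ := soMaschke hPinv hD soPerp_le
    obtain ⟨h1, h2⟩ := soPiece_hyp hY'D hYK hBi hBn hiso hdisj hsup hY hY'
    refine ⟨Y ⊔ Y', sup_le hYD hY'D, ?_, soInv_sup hY hY', h1, Or.inl h2⟩
    intro h
    apply hY0
    rw [eq_bot_iff, ← h]
    exact le_sup_left

theorem soMain [FiniteDimensional F V] [Finite G] [NeZero (Nat.card G : F)]
    {B : LinearMap.BilinForm F V} :
    ∀ (n : ℕ) (D : Submodule F V), Module.finrank F D = n → SOInv ρ D → SOInvOn ρ B D →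
      SOLnd B D →
      ∃ U W : Submodule F V, Disjoint U W ∧ U ⊔ W = D ∧ SOInv ρ U ∧ SOInv ρ W ∧
        SOGood ρ SOAlt U ∧ SOGood ρ SOSym W ∧
        ((2 : F) = 0 → ∀ g : G, ∀ w ∈ W, ρ g w = w) := by
  intro n
  induction n using Nat.strong_induction_on with
  | _ n ih =>
    intro D hn hD hBi hBn
    by_cases hD0 : D = ⊥
    · subst hD0
      refine ⟨⊥, ⊥, disjoint_bot_left, bot_sup_eq _, soInv_bot, soInv_bot,
        soGood_bot soAlt_zero, soGood_bot soSym_zero, fun _ g w hw => ?_⟩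
      rw [Submodule.mem_bot] at hw
      rw [hw, map_zero]
    obtain ⟨H, hHD, hH0, hH, hHn, hcase⟩ := soFindPiece hD hD0 hBi hBn
    obtain ⟨U, W, hUW, hsup, hU, hW, gU, gW, htriv⟩ :=
      ih _ (by rw [← hn]; exact soPerp_finrank_lt hHD hHn hH0) (soPerp B H D) rfl
        (soPerp_inv hD hH hHD hBi) (soInvOn_mono soPerp_le hBi) (soPerp_lnd hHD hHn hBn)
    have hdH : Disjoint H (U ⊔ W) := by
      rw [hsup]
      exact soPerp_disjoint hHn
    have hsupH : H ⊔ (U ⊔ W) = D := by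
      rw [hsup]
      exact soPerp_sup hHD hHn
    rcases hcase with hA | ⟨hS, hSt⟩
    · refine ⟨H ⊔ U, W, ?_, ?_, soInv_sup hH hU, hW,
        soGood_sup soAlt_compl soAlt_add ?_ hH hU hA gU, gW, htriv⟩
      · have := hUW.symm.disjoint_sup_right_of_disjoint_sup_left
          (by rw [sup_comm]; exact hdH.symm)
        rw [sup_comm] at this
        exact this.symm
      · rw [sup_assoc]
        exact hsupH
      · exact hdH.mono_right le_sup_left
    · refine ⟨U, H ⊔ W, ?_, ?_, hU, soInv_sup hH hW, gU,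
        soGood_sup soSym_compl soSym_add ?_ hH hW hS gW, ?_⟩
      · have := hUW.disjoint_sup_right_of_disjoint_sup_left hdH.symm
        rwa [sup_comm] at this
      · rw [← sup_assoc, sup_comm U H, sup_assoc]
        exact hsupH
      · exact hdH.mono_right le_sup_right
      · intro h2 g w hw
        obtain ⟨a, ha, b, hb, rfl⟩ := Submodule.mem_sup.1 hw
        rw [map_add, hSt h2 g a ha, htriv h2 g b hb]

end

end Cfsg.Agent.Lib.Helper8
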