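import Mathlib
import Cfsg.Agent.Lib.Helper4.SC1

set_option autoImplicit false

/-! The TI inequality for a subgroup of prime order. -/

namespace Cfsg.Agent.Lib.Helper8.SP

open Cfsg.Agent.Lib.Helper4.SC

universe u

variable {G : Type u} [Group G] [Fintype G] {p : ℕ} [hp : Fact p.Prime] {x : G}

open Classical in
/-- For a nonnegative class function `F`, the sum of `F` over the nonidentity elements of the
distinct conjugates of `⟨x⟩` is at most the sum over all nonidentity elements. -/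
theorem ti_sum_le (hx : orderOf x = p) (F : G → ℝ) (hF0 : ∀ g, 0 ≤ F g)
    (hFc : ∀ g h, F (h * g * h⁻¹) = F g) :
    ((Subgroup.normalizer ((Subgroup.zpowers x : Subgroup G) : Set G)).index : ℝ) *
      Finset.sum ((Finset.univ : Finset (Subgroup.zpowers x)).filter (fun y : Subgroup.zpowers x => (y : G) ≠ 1))
        (fun y : Subgroup.zpowers x => F (y : G))
      ≤ ∑ z ∈ (Finset.univ : Finset G).filter (fun z => z ≠ 1), F z := by
  classical
  obtain ⟨P, hP⟩ : ∃ P : Subgroup G, P = Subgroup.zpowers x := ⟨_, rfl⟩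
  obtain ⟨N, hN⟩ : ∃ N : Subgroup G, N = Subgroup.normalizer ((Subgroup.zpowers x : Subgroup G) : Set G) :=
    ⟨_, rfl⟩
  rw [← hN]
  have hmemN : ∀ g y y' : G, y ∈ Subgroup.zpowers x → y ≠ 1 → y' ∈ Subgroup.zpowers x →
      g * y * g⁻¹ = y' → g ∈ N := by
    intro g y y' hy hy1 hy' h
    rw [hN]
    exact mem_normalizer_of_conj hx hy hy1 hy' h
  haveI : Fintype (G ⧸ N) := Fintype.ofFinite _
  let S : Finset (Subgroup.zpowers x) :=
    (Finset.univ : Finset (Subgroup.zpowers x)).filter (fun y : Subgroup.zpowers x => (y : G) ≠ 1)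
  let φ : (G ⧸ N) × (Subgroup.zpowers x) → G := fun a => a.1.out * (a.2 : G) * a.1.out⁻¹
  have hinj : Set.InjOn φ ((Finset.univ : Finset (G ⧸ N)) ×ˢ S : Finset _) := by
    rintro ⟨q, y⟩ hqy ⟨q', y'⟩ hqy' h
    rw [Finset.mem_coe, Finset.mem_product] at hqy hqy'
    have hy1 : (y : G) ≠ 1 := (Finset.mem_filter.1 hqy.2).2
    have hy'1 : (y' : G) ≠ 1 := (Finset.mem_filter.1 hqy'.2).2
    have h1 : q.out * (y : G) * q.out⁻¹ = q'.out * (y' : G) * q'.out⁻¹ := h
    have h2 : (q'.out⁻¹ * q.out) * (y : G) * (q'.out⁻¹ * q.out)⁻¹ = (y' : G) := by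
      have : (q'.out⁻¹ * q.out) * (y : G) * (q'.out⁻¹ * q.out)⁻¹
          = q'.out⁻¹ * (q.out * (y : G) * q.out⁻¹) * q'.out := by group
      rw [this, h1]; group
    have h3 : q'.out⁻¹ * q.out ∈ N := hmemN _ _ _ y.2 hy1 y'.2 h2
    have h4 : q' = q := by
      rw [← QuotientGroup.out_eq' q', ← QuotientGroup.out_eq' q]
      exact QuotientGroup.eq.2 h3
    subst h4
    have h5 : (y : G) = (y' : G) := by
      have : (y : G) = q'.out⁻¹ * (q'.out * (y : G) * q'.out⁻¹) * q'.out := by group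
      rw [this, h1]; group
    rw [Subtype.ext h5]
  have h1 : ∑ a ∈ (Finset.univ : Finset (G ⧸ N)) ×ˢ S, F (φ a)
      = (N.index : ℝ) * ∑ y ∈ S, F y := by
    rw [Finset.sum_product]
    have : ∀ q : G ⧸ N, ∑ y ∈ S, F (φ (q, y)) = ∑ y ∈ S, F y := by
      intro q
      refine Finset.sum_congr rfl fun y _ => ?_
      exact hFc _ _
    rw [Finset.sum_congr rfl (fun q _ => this q), Finset.sum_const, Finset.card_univ,
      Subgroup.index_eq_card, Nat.card_eq_fintype_card, nsmul_eq_mul]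
  have h2 : ∑ a ∈ (Finset.univ : Finset (G ⧸ N)) ×ˢ S, F (φ a)
      = ∑ z ∈ ((Finset.univ : Finset (G ⧸ N)) ×ˢ S).image φ, F z :=
    (Finset.sum_image hinj).symm
  have h3 : ((Finset.univ : Finset (G ⧸ N)) ×ˢ S).image φ
      ⊆ (Finset.univ : Finset G).filter (fun z => z ≠ 1) := by
    intro z hz
    obtain ⟨⟨q, y⟩, hqy, rfl⟩ := Finset.mem_image.1 hz
    rw [Finset.mem_product] at hqy
    have hy1 : (y : G) ≠ 1 := (Finset.mem_filter.1 hqy.2).2
    refine Finset.mem_filter.2 ⟨Finset.mem_univ _, ?_⟩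
    intro h
    apply hy1
    have h' : q.out * (y : G) * q.out⁻¹ = 1 := h
    have : (y : G) = q.out⁻¹ * (q.out * (y : G) * q.out⁻¹) * q.out := by group
    rw [this, h']; group
  rw [← h1, h2]
  exact Finset.sum_le_sum_of_subset_of_nonneg h3 (fun z _ _ => hF0 z)

end Cfsg.Agent.Lib.Helper8.SP
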