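import Mathlib
import Cfsg.Prelude.Def_Characters
import Cfsg.Agent.Lib.Helper4.Characters
import Cfsg.Agent.Lib.Helper1.CharFound3
import Cfsg.Agent.Lib.Helper8.SP1

set_option autoImplicit false

/-! The norm of the restriction of an irreducible character to a self-centralizing subgroup of
prime order. -/

namespace Cfsg.Agent.Lib.Helper8.SP

open Cfsg Cfsg.Agent.Lib.Helper4 Cfsg.Agent.Lib.Helper1 Cfsg.Agent.Lib.Helper4.SC
open scoped ComplexConjugate

universe u

variable {G : Type u} [Group G] [Fintype G] {p : ℕ} [hp : Fact p.Prime] {x : G}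

theorem card_normalizer_eq (hx : orderOf x = p) :
    Nat.card (Subgroup.normalizer ((Subgroup.zpowers x : Subgroup G) : Set G)) =
      p * (Subgroup.zpowers x).relIndex
        (Subgroup.normalizer ((Subgroup.zpowers x : Subgroup G) : Set G)) := by
  have h1 := Subgroup.card_mul_index ((Subgroup.zpowers x).subgroupOf
    (Subgroup.normalizer ((Subgroup.zpowers x : Subgroup G) : Set G)))
  rw [Nat.card_congr (Subgroup.subgroupOfEquivOfLe
    (Subgroup.le_normalizer (H := Subgroup.zpowers x))).toEquiv, card_zpowers_eq hx] at h1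
  rw [← h1]
  rfl

/-- The sum of `|χ|²` over `⟨x⟩` is at most `χ(1)² + |N_G(⟨x⟩)|`. -/
theorem sum_normSq_le (hx : orderOf x = p) {χ : G → ℂ} (hχ : IsIrrCharacter G χ) :
    ∑ y : Subgroup.zpowers x, Complex.normSq (χ (y : G)) ≤ Complex.normSq (χ 1) +
      (p : ℝ) * ((Subgroup.zpowers x).relIndex
        (Subgroup.normalizer ((Subgroup.zpowers x : Subgroup G) : Set G)) : ℝ) := by
  classical
  obtain ⟨N, hN⟩ : ∃ N : Subgroup G,
    N = Subgroup.normalizer ((Subgroup.zpowers x : Subgroup G) : Set G) := ⟨_, rfl⟩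
  have hcf := isClassFunction_irr hχ
  have hti := ti_sum_le hx (fun g => Complex.normSq (χ g)) (fun g => Complex.normSq_nonneg _)
    (fun g h => by show Complex.normSq (χ (h * g * h⁻¹)) = _; rw [hcf g h])
  have hcard := card_normalizer_eq (G := G) hx
  rw [← hN] at hti hcard ⊢
  -- the total sum
  have htot : ∑ g : G, Complex.normSq (χ g) = (Nat.card G : ℝ) := by
    have h1 := classInner_irr_self hχ
    rw [classInner_def] at h1
    have hG0 : (Nat.card G : ℂ) ≠ 0 := Nat.cast_ne_zero.2 Nat.card_pos.ne'
    have h2 : ∑ g : G, χ g * conj (χ g) = (Nat.card G : ℂ) := by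
      field_simp at h1
      exact h1
    have h3 : ∑ g : G, χ g * conj (χ g) = ((∑ g : G, Complex.normSq (χ g) : ℝ) : ℂ) := by
      rw [Complex.ofReal_sum]
      refine Finset.sum_congr rfl fun g _ => ?_
      rw [Complex.mul_conj]
    rw [h3] at h2
    exact_mod_cast h2
  have hsplitG : ∑ g : G, Complex.normSq (χ g) = Complex.normSq (χ 1) +
      ∑ z ∈ (Finset.univ : Finset G).filter (fun z => z ≠ 1), Complex.normSq (χ z) := by
    rw [← Finset.sum_filter_add_sum_filter_not Finset.univ (fun z : G => z = 1)]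
    congr 1
    rw [Finset.filter_eq' Finset.univ (1 : G), if_pos (Finset.mem_univ _), Finset.sum_singleton]
  have hsplitP : ∑ y : Subgroup.zpowers x, Complex.normSq (χ (y : G)) = Complex.normSq (χ 1) +
      Finset.sum ((Finset.univ : Finset (Subgroup.zpowers x)).filter
        (fun y : Subgroup.zpowers x => (y : G) ≠ 1))
        (fun y : Subgroup.zpowers x => Complex.normSq (χ (y : G))) := by
    rw [← Finset.sum_filter_add_sum_filter_not Finset.univ
      (fun y : Subgroup.zpowers x => (y : G) = 1)]
    congr 1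
    have : (Finset.univ : Finset (Subgroup.zpowers x)).filter
        (fun y : Subgroup.zpowers x => (y : G) = 1) = {1} := by
      ext y
      simp
    rw [this, Finset.sum_singleton, Subgroup.coe_one]
  rw [hsplitP]
  have hidx : (N.index : ℝ) * (Nat.card N : ℝ) = (Nat.card G : ℝ) := by
    rw [mul_comm]
    exact_mod_cast N.card_mul_index
  have hidx0 : (0 : ℝ) < (N.index : ℝ) := by
    have : 0 < N.index := Nat.pos_of_ne_zero N.index_ne_zero_of_finite
    exact_mod_cast this
  have h0 : 0 ≤ Complex.normSq (χ 1) := Complex.normSq_nonneg _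
  set W := Finset.sum ((Finset.univ : Finset (Subgroup.zpowers x)).filter
        (fun y : Subgroup.zpowers x => (y : G) ≠ 1))
        (fun y : Subgroup.zpowers x => Complex.normSq (χ (y : G))) with hW
  have h4 : (N.index : ℝ) * W ≤ (N.index : ℝ) * (Nat.card N : ℝ) := by
    rw [hidx, ← htot, hsplitG]
    linarith
  have h5 : W ≤ (Nat.card N : ℝ) := le_of_mul_le_mul_left h4 hidx0
  rw [hcard] at h5
  push_cast at h5
  linarith

end Cfsg.Agent.Lib.Helper8.SP
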