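import Mathlib
import Cfsg.Prelude.Def_Characters
import Cfsg.Agent.Lib.Helper4.Characters
import Cfsg.Agent.Lib.Helper1.CharFound3
import Cfsg.Agent.Lib.Helper1.CharFound6
import Cfsg.Agent.S0134
import Cfsg.Agent.S0187

set_option autoImplicit false

/-! Multiplicities of the irreducible constituents of a character of an abelian group. -/

namespace Cfsg.Agent.Lib.Helper8.SP

open Cfsg Cfsg.Agent.Lib.Helper4 Cfsg.Agent.Lib.Helper1
open scoped ComplexConjugate

universe u

variable {A : Type u} [Group A] [Fintype A] [Fintype (IrrCharacter A)]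

/-- Parseval for a character, in terms of natural multiplicities. -/
theorem card_mul_sum_mult_sq {ψ : A → ℂ} (hψ : IsCharacter A ψ) (m : IrrCharacter A → ℕ)
    (hm : ∀ lam : IrrCharacter A, classInner ψ (lam : A → ℂ) = m lam) :
    ((Nat.card A : ℝ)) * ((∑ lam : IrrCharacter A, m lam ^ 2 : ℕ) : ℝ) =
      ∑ a : A, Complex.normSq (ψ a) := by
  have hcf := isClassFunction_of_isCharacter hψ
  have hpars := classInner_eq_sum_mult ψ ψ hcf
  have h2 : ∀ lam : IrrCharacter A, classInner (lam : A → ℂ) ψ = m lam := by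
    intro lam
    rw [← classInner_conj_symm, hm lam, Complex.conj_natCast]
  simp only [hm, h2] at hpars
  rw [classInner_def] at hpars
  have hA0 : (Nat.card A : ℂ) ≠ 0 := Nat.cast_ne_zero.2 Nat.card_pos.ne'
  have h3 : ∑ a : A, ψ a * conj (ψ a) = ((∑ a : A, Complex.normSq (ψ a) : ℝ) : ℂ) := by
    rw [Complex.ofReal_sum]
    refine Finset.sum_congr rfl fun g _ => ?_
    rw [Complex.mul_conj]
  rw [h3] at hpars
  have h4 : ((∑ a : A, Complex.normSq (ψ a) : ℝ) : ℂ) =
      (Nat.card A : ℂ) * ∑ lam : IrrCharacter A, (m lam : ℂ) * (m lam : ℂ) := by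
    rw [← hpars]
    field_simp
  have h5 : ((∑ a : A, Complex.normSq (ψ a) : ℝ) : ℂ) =
      (((Nat.card A : ℝ)) * ((∑ lam : IrrCharacter A, m lam ^ 2 : ℕ) : ℝ) : ℝ) := by
    rw [h4]
    push_cast
    congr 1
    refine Finset.sum_congr rfl fun lam _ => ?_
    ring
  exact_mod_cast h5.symm

/-- In an abelian group the multiplicities add up to the degree. -/
theorem sum_mult_eq (hA : ∀ a b : A, a * b = b * a) {ψ : A → ℂ} (hψ : IsCharacter A ψ)
    (m : IrrCharacter A → ℕ)
    (hm : ∀ lam : IrrCharacter A, classInner ψ (lam : A → ℂ) = m lam) :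
    ψ 1 = ((∑ lam : IrrCharacter A, m lam : ℕ) : ℂ) := by
  have hcf := isClassFunction_of_isCharacter hψ
  have h1 := congrFun (class_function_expansion ψ hcf) 1
  rw [Finset.sum_apply] at h1
  rw [h1]
  push_cast
  refine Finset.sum_congr rfl fun lam _ => ?_
  rw [Pi.smul_apply, hm lam, (Cfsg.Agent.S0187.result.1 hA) lam, smul_eq_mul, mul_one]

/-- An abelian group has as many irreducible characters as elements. -/
theorem card_irr_eq (hA : ∀ a b : A, a * b = b * a) :
    Fintype.card (IrrCharacter A) = Nat.card A := by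
  have h1 := Cfsg.Agent.S0134.sum_sq_degrees (G := A)
  have h2 : ∑ χ : IrrCharacter A, (χ : A → ℂ) 1 ^ 2 = (Fintype.card (IrrCharacter A) : ℂ) := by
    rw [Finset.sum_congr rfl (fun χ _ => by rw [(Cfsg.Agent.S0187.result.1 hA) χ, one_pow]),
      Finset.sum_const, Finset.card_univ, nsmul_eq_mul, mul_one]
  rw [h2] at h1
  exact_mod_cast h1

end Cfsg.Agent.Lib.Helper8.SP
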