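import Mathlib
import Cfsg.Prelude.Def_Characters
import Cfsg.Agent.Lib.Helper4.Characters
import Cfsg.Agent.Lib.Helper1.LinearChar
import Cfsg.Agent.Lib.Helper8.GL15
import Cfsg.Agent.Lib.Helper8.SP2
import Cfsg.Agent.Lib.Helper8.SP3
import Cfsg.Agent.S0161

set_option autoImplicit false

/-! The action of the normalizer on the irreducible characters of a self-centralizing subgroup of
prime order. -/

namespace Cfsg.Agent.Lib.Helper8.SP

open Cfsg Cfsg.Agent.Lib.Helper4 Cfsg.Agent.Lib.Helper1 Cfsg.Agent.Lib.Helper4.SC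
  Cfsg.Agent.Lib.Helper8
open scoped ComplexConjugate

universe u

variable {G : Type u} [Group G] [Fintype G] {p : ℕ} [hp : Fact p.Prime] {x : G}

theorem comm_zpowers (a b : Subgroup.zpowers x) : a * b = b * a :=
  Subtype.ext (commute_of_mem a.2 b.2)

/-- An element of the normalizer fixing a nontrivial irreducible character of `⟨x⟩` lies in
`⟨x⟩`. -/
theorem mem_of_fixes (hx : orderOf x = p)
    (hC : Subgroup.centralizer ({x} : Set G) = Subgroup.zpowers x)
    {lam : Subgroup.zpowers x → ℂ} (hlam : IsIrrCharacter (Subgroup.zpowers x) lam)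
    (hne : ∃ y, lam y ≠ 1) {k : G} (hk : Normalizes k (Subgroup.zpowers x))
    (hfix : ∀ z, lam (conjE hk z) = lam z) : k ∈ Subgroup.zpowers x := by
  have h1 : lam 1 = 1 := (Cfsg.Agent.S0187.result.1 comm_zpowers) ⟨lam, hlam⟩
  obtain ⟨φ, rfl⟩ := exists_hom_of_isIrrCharacter hlam h1
  by_contra hkP
  let xP : Subgroup.zpowers x := ⟨x, Subgroup.mem_zpowers x⟩
  have hc : conjE hk xP * xP⁻¹ ∈ φ.ker := by
    rw [MonoidHom.mem_ker, map_mul, map_inv]
    have h2 : φ (conjE hk xP) = φ xP := Units.ext (hfix xP)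
    rw [h2, mul_inv_cancel]
  haveI : Fact (Nat.card (Subgroup.zpowers x)).Prime := ⟨by rw [card_zpowers_eq hx]; exact hp.out⟩
  rcases φ.ker.eq_bot_or_eq_top_of_prime_card with h | h
  · rw [h, Subgroup.mem_bot] at hc
    have h3 : conjE hk xP = xP := mul_inv_eq_one.1 hc
    have h4 : k * x * k⁻¹ = x := congrArg Subtype.val h3
    apply hkP
    rw [← hC, Subgroup.mem_centralizer_iff]
    intro z hz
    rw [Set.mem_singleton_iff] at hz
    subst hz
    calc z * k = (k * z * k⁻¹) * k := by rw [h4]
      _ = k * z := by group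
  · obtain ⟨y, hy⟩ := hne
    apply hy
    have : y ∈ φ.ker := by rw [h]; trivial
    rw [MonoidHom.mem_ker] at this
    show ((φ y : ℂˣ) : ℂ) = 1
    rw [this]; rfl

theorem nonneg_aux (k : ℕ) : 0 ≤ ((k : ℤ) - 1) * ((k : ℤ) - 2) := by
  rcases k with _ | _ | k
  · norm_num
  · norm_num
  · push_cast
    have : (0 : ℤ) ≤ k := Int.natCast_nonneg k
    nlinarith

/-- The orbit inequality. -/
theorem orbit_ineq [Fintype (IrrCharacter (Subgroup.zpowers x))] (hx : orderOf x = p)
    (hC : Subgroup.centralizer ({x} : Set G) = Subgroup.zpowers x)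
    {ψ : Subgroup.zpowers x → ℂ}
    (hinv : ∀ (k : G) (hk : Normalizes k (Subgroup.zpowers x)) z, ψ (conjE hk z) = ψ z)
    (m : IrrCharacter (Subgroup.zpowers x) → ℕ)
    (hm : ∀ lam : IrrCharacter (Subgroup.zpowers x), classInner ψ (lam : Subgroup.zpowers x → ℂ) = m lam)
    (lam₀ : IrrCharacter (Subgroup.zpowers x)) (hne : ∃ y, (lam₀ : Subgroup.zpowers x → ℂ) y ≠ 1)
    (h0 : m lam₀ = 0) :
    2 * (Nat.card (Subgroup.normalizer ((Subgroup.zpowers x : Subgroup G) : Set G)) : ℤ) ≤
      (p : ℤ) * ∑ lam : IrrCharacter (Subgroup.zpowers x),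
        ((m lam : ℤ) - 1) * ((m lam : ℤ) - 2) := by
  classical
  obtain ⟨N, hN⟩ : ∃ N : Subgroup G,
    N = Subgroup.normalizer ((Subgroup.zpowers x : Subgroup G) : Set G) := ⟨_, rfl⟩
  rw [← hN]
  have hn : ∀ n : N, Normalizes (n : G) (Subgroup.zpowers x) := by
    intro n
    rw [normalizes_iff_mem_normalizer, ← hN]
    exact n.2
  let f : N → IrrCharacter (Subgroup.zpowers x) := fun n =>
    ⟨conjChar (hn n) (lam₀ : Subgroup.zpowers x → ℂ), isIrrCharacter_conjChar (hn n) lam₀.2⟩
  have hmf : ∀ n : N, m (f n) = 0 := by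
    intro n
    have h1 : classInner ψ ((f n : IrrCharacter (Subgroup.zpowers x)) : Subgroup.zpowers x → ℂ)
        = classInner ψ (lam₀ : Subgroup.zpowers x → ℂ) := by
      have h2 := classInner_mulEquiv (conjE (hn n)) ψ (lam₀ : Subgroup.zpowers x → ℂ)
      rw [← h2]
      congr 1
      funext a
      exact (hinv _ (hn n) a).symm
    rw [hm, hm, h0] at h1
    exact_mod_cast h1
  let g : IrrCharacter (Subgroup.zpowers x) → ℤ := fun lam =>
    ((m lam : ℤ) - 1) * ((m lam : ℤ) - 2)
  have hg0 : ∀ lam, 0 ≤ g lam := fun lam => nonneg_aux (m lam)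
  have hsum1 : ∑ n : N, g (f n) = 2 * (Nat.card N : ℤ) := by
    have : ∀ n : N, g (f n) = 2 := by
      intro n
      show ((m (f n) : ℤ) - 1) * ((m (f n) : ℤ) - 2) = 2
      rw [hmf n]
      norm_num
    rw [Finset.sum_congr rfl (fun n _ => this n), Finset.sum_const, Finset.card_univ,
      Nat.card_eq_fintype_card]
    simp [mul_comm]
  have hfib : ∀ lam : IrrCharacter (Subgroup.zpowers x),
      ((Finset.univ : Finset N).filter (fun n => f n = lam)).card ≤ p := by
    intro lam
    by_cases hemp : ((Finset.univ : Finset N).filter (fun n => f n = lam)) = ∅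
    · rw [hemp, Finset.card_empty]
      exact Nat.zero_le _
    · obtain ⟨n₀, hn₀⟩ := Finset.nonempty_iff_ne_empty.2 hemp
      have hn₀' : f n₀ = lam := (Finset.mem_filter.1 hn₀).2
      let T : Finset G := (Finset.univ : Finset (Subgroup.zpowers x)).image Subtype.val
      have hT : T.card ≤ p := by
        refine le_trans Finset.card_image_le ?_
        rw [Finset.card_univ, ← Nat.card_eq_fintype_card, card_zpowers_eq hx]
      refine le_trans ?_ hT
      apply Finset.card_le_card_of_injOn (fun n : N => (n : G) * (n₀ : G)⁻¹)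
      · intro n hnm
        have hn' : f n = lam := (Finset.mem_filter.1 hnm).2
        have hk : Normalizes ((n : G) * (n₀ : G)⁻¹) (Subgroup.zpowers x) :=
          (hn n).mul (hn n₀).inv
        have hmem : (n : G) * (n₀ : G)⁻¹ ∈ Subgroup.zpowers x := by
          apply mem_of_fixes hx hC lam₀.2 hne hk
          intro z
          have h1 : (f n : IrrCharacter (Subgroup.zpowers x)).1 = (f n₀).1 := by rw [hn', hn₀']
          have h2 := congrFun h1 (conjE (hn n₀).inv z)
          have h3 : conjE (hn n) (conjE (hn n₀).inv z) = conjE hk z := by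
            apply Subtype.ext
            simp only [conjE_coe]
            group
          have h4 : conjE (hn n₀) (conjE (hn n₀).inv z) = z := by
            apply Subtype.ext
            simp only [conjE_coe]
            group
          show (lam₀ : Subgroup.zpowers x → ℂ) (conjE hk z) = (lam₀ : Subgroup.zpowers x → ℂ) z
          have h5 : (lam₀ : Subgroup.zpowers x → ℂ) (conjE (hn n) (conjE (hn n₀).inv z))
              = (lam₀ : Subgroup.zpowers x → ℂ) (conjE (hn n₀) (conjE (hn n₀).inv z)) := h2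
          rw [h3, h4] at h5
          exact h5
        exact Finset.mem_coe.2 (Finset.mem_image.2 ⟨⟨_, hmem⟩, Finset.mem_univ _, rfl⟩)
      · intro a _ b _ hab
        have h1 : (a : G) * (n₀ : G)⁻¹ = (b : G) * (n₀ : G)⁻¹ := hab
        exact Subtype.ext (mul_right_cancel h1)
  have hsum2 : ∑ n : N, g (f n) ≤ (p : ℤ) * ∑ lam : IrrCharacter (Subgroup.zpowers x), g lam := by
    rw [← Finset.sum_fiberwise (Finset.univ : Finset N) f (fun n => g (f n)), Finset.mul_sum]
    refine Finset.sum_le_sum fun lam _ => ?_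
    have h1 : ∑ n ∈ (Finset.univ : Finset N).filter (fun n => f n = lam), g (f n)
        = ((Finset.univ : Finset N).filter (fun n => f n = lam)).card * g lam := by
      rw [Finset.sum_congr rfl (fun n hn' => by rw [(Finset.mem_filter.1 hn').2]),
        Finset.sum_const, nsmul_eq_mul]
    rw [h1]
    have h2 : (((Finset.univ : Finset N).filter (fun n => f n = lam)).card : ℤ) ≤ (p : ℤ) := by
      exact_mod_cast hfib lam
    exact mul_le_mul_of_nonneg_right h2 (hg0 lam)
  rw [← hsum1]
  exact hsum2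

end Cfsg.Agent.Lib.Helper8.SP
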