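import Mathlib
import Cfsg.Prelude.Def_Characters
import Cfsg.Agent.Lib.Helper8.SP4
import Cfsg.Agent.S0148

set_option autoImplicit false

/-! The restriction of an irreducible character of degree `p - 1` to a self-centralizing subgroup
of prime order `p` does not contain the trivial character. -/

namespace Cfsg.Agent.Lib.Helper8.SP

open Cfsg Cfsg.Agent.Lib.Helper4 Cfsg.Agent.Lib.Helper1 Cfsg.Agent.Lib.Helper4.SC
  Cfsg.Agent.Lib.Helper8
open scoped ComplexConjugate

universe u

variable {G : Type u} [Group G] [Fintype G] {p : ℕ} [hp : Fact p.Prime] {x : G}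

theorem sum_restrict_eq_zero (hx : orderOf x = p)
    (hC : Subgroup.centralizer ({x} : Set G) = Subgroup.zpowers x)
    (he : 2 ≤ (Subgroup.zpowers x).relIndex
        (Subgroup.normalizer ((Subgroup.zpowers x : Subgroup G) : Set G)))
    {χ : G → ℂ} (hχ : IsIrrCharacter G χ) (hdeg : χ 1 = (p : ℂ) - 1) :
    ∑ y : Subgroup.zpowers x, χ (y : G) = 0 := by
  classical
  haveI : Fintype (IrrCharacter (Subgroup.zpowers x)) := Fintype.ofFinite _
  obtain ⟨e, hedef⟩ : ∃ e : ℕ, e = (Subgroup.zpowers x).relIndex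
        (Subgroup.normalizer ((Subgroup.zpowers x : Subgroup G) : Set G)) := ⟨_, rfl⟩
  rw [← hedef] at he
  have hp2 : 2 ≤ p := hp.out.two_le
  let ψ : Subgroup.zpowers x → ℂ := fun y => χ (y : G)
  have hψ : IsCharacter (Subgroup.zpowers x) ψ :=
    Cfsg.Agent.S0148.isCharacter_restrict _ (isCharacter_of_irr hχ)
  have hcf := isClassFunction_irr hχ
  have hinv : ∀ (k : G) (hk : Normalizes k (Subgroup.zpowers x)) z, ψ (conjE hk z) = ψ z := by
    intro k hk z
    show χ ((conjE hk z : Subgroup.zpowers x) : G) = χ (z : G)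
    rw [conjE_coe]
    exact hcf _ _
  have hm : ∀ lam : IrrCharacter (Subgroup.zpowers x), ∃ m : ℕ,
      classInner ψ (lam : Subgroup.zpowers x → ℂ) = m := fun lam => classInner_char_irr_nat hψ lam.2
  choose m hm using hm
  -- the three basic facts
  have hA : ∀ a b : Subgroup.zpowers x, a * b = b * a := comm_zpowers
  have hcardP : Nat.card (Subgroup.zpowers x) = p := card_zpowers_eq hx
  have hpars := card_mul_sum_mult_sq hψ m hm
  have hsum := sum_mult_eq hA hψ m hm
  have hcardI := card_irr_eq (A := Subgroup.zpowers x) hA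
  rw [hcardP] at hpars hcardI
  have hnorm := sum_normSq_le hx hχ
  rw [← hedef] at hnorm
  have hψ1 : ψ 1 = (p : ℂ) - 1 := hdeg
  -- `Σ m = p - 1`
  have hsumN : ∑ lam : IrrCharacter (Subgroup.zpowers x), m lam = p - 1 := by
    rw [hψ1] at hsum
    have : ((∑ lam : IrrCharacter (Subgroup.zpowers x), m lam : ℕ) : ℂ) = ((p - 1 : ℕ) : ℂ) := by
      rw [← hsum, Nat.cast_sub (by omega)]
      simp
    exact_mod_cast this
  -- `p Σ m² ≤ (p-1)² + p e`
  have hsqN : p * ∑ lam : IrrCharacter (Subgroup.zpowers x), m lam ^ 2 ≤ (p - 1) ^ 2 + p * e := by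
    have h1 : Complex.normSq (χ 1) = ((p : ℝ) - 1) ^ 2 := by
      rw [hdeg]
      have : ((p : ℂ) - 1) = (((p : ℝ) - 1 : ℝ) : ℂ) := by push_cast; rfl
      rw [this, Complex.normSq_ofReal]
      ring
    have h2 : (p : ℝ) * ((∑ lam : IrrCharacter (Subgroup.zpowers x), m lam ^ 2 : ℕ) : ℝ)
        ≤ ((p : ℝ) - 1) ^ 2 + (p : ℝ) * (e : ℝ) := by
      rw [hpars, ← h1]
      exact hnorm
    have h3 : ((p * ∑ lam : IrrCharacter (Subgroup.zpowers x), m lam ^ 2 : ℕ) : ℝ)
        ≤ (((p - 1) ^ 2 + p * e : ℕ) : ℝ) := by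
      push_cast [Nat.cast_sub (by omega : 1 ≤ p)]
      push_cast at h2
      exact h2
    exact_mod_cast h3
  -- nontrivial characters occur
  have hpos : ∀ lam : IrrCharacter (Subgroup.zpowers x),
      (∃ y, (lam : Subgroup.zpowers x → ℂ) y ≠ 1) → 1 ≤ m lam := by
    intro lam hne
    by_contra hlt
    have h0 : m lam = 0 := by omega
    have horb := orbit_ineq hx hC hinv m hm lam hne h0
    rw [card_normalizer_eq hx, ← hedef] at horb
    have h1 : ∑ lam : IrrCharacter (Subgroup.zpowers x), ((m lam : ℤ) - 1) * ((m lam : ℤ) - 2)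
        = ((∑ lam : IrrCharacter (Subgroup.zpowers x), m lam ^ 2 : ℕ) : ℤ)
          - 3 * ((∑ lam : IrrCharacter (Subgroup.zpowers x), m lam : ℕ) : ℤ) + 2 * (p : ℤ) := by
      push_cast
      rw [Finset.mul_sum, ← Finset.sum_sub_distrib]
      have : (2 : ℤ) * (p : ℤ) = ∑ _lam : IrrCharacter (Subgroup.zpowers x), (2 : ℤ) := by
        rw [Finset.sum_const, Finset.card_univ, hcardI]
        simp [mul_comm]
      rw [this, ← Finset.sum_add_distrib]
      refine Finset.sum_congr rfl fun lam _ => ?_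
      ring
    rw [h1, hsumN] at horb
    have h2 : ((p * ∑ lam : IrrCharacter (Subgroup.zpowers x), m lam ^ 2 : ℕ) : ℤ)
        ≤ (((p - 1) ^ 2 + p * e : ℕ) : ℤ) := by exact_mod_cast hsqN
    push_cast [Nat.cast_sub (by omega : 1 ≤ p)] at h2 horb
    have hp2' : (2 : ℤ) ≤ p := by exact_mod_cast hp2
    have he' : (2 : ℤ) ≤ e := by exact_mod_cast he
    nlinarith
  -- the trivial character does not occur
  let triv : IrrCharacter (Subgroup.zpowers x) :=
    ⟨fun _ => 1, Cfsg.Agent.S0161.isIrrCharacter_one⟩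
  have htriv : m triv = 0 := by
    have h1 : ∑ lam : IrrCharacter (Subgroup.zpowers x), m lam
        = m triv + ∑ lam ∈ (Finset.univ : Finset (IrrCharacter (Subgroup.zpowers x))).erase triv,
            m lam := by
      rw [Finset.add_sum_erase _ _ (Finset.mem_univ triv)]
    have h2 : ((Finset.univ : Finset (IrrCharacter (Subgroup.zpowers x))).erase triv).card
        ≤ ∑ lam ∈ (Finset.univ : Finset (IrrCharacter (Subgroup.zpowers x))).erase triv,
            m lam := by
      rw [Finset.card_eq_sum_ones]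
      refine Finset.sum_le_sum fun lam hlam => ?_
      apply hpos
      by_contra hall
      push Not at hall
      apply (Finset.mem_erase.1 hlam).1
      apply Subtype.ext
      funext y
      exact hall y
    rw [Finset.card_erase_of_mem (Finset.mem_univ triv), Finset.card_univ, hcardI] at h2
    omega
  have h1 := hm triv
  rw [htriv, classInner_def] at h1
  have hP0 : (Nat.card (Subgroup.zpowers x) : ℂ) ≠ 0 := Nat.cast_ne_zero.2 Nat.card_pos.ne'
  have h2 : ∑ y : Subgroup.zpowers x, ψ y * conj ((triv : Subgroup.zpowers x → ℂ) y) = 0 := by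
    rcases mul_eq_zero.1 (by exact_mod_cast h1 :
      (Nat.card (Subgroup.zpowers x) : ℂ)⁻¹ *
        ∑ y : Subgroup.zpowers x, ψ y * conj ((triv : Subgroup.zpowers x → ℂ) y) = 0) with h | h
    · exact absurd (inv_eq_zero.1 h) hP0
    · exact h
  rw [← h2]
  refine Finset.sum_congr rfl fun y _ => ?_
  show χ (y : G) = χ (y : G) * conj (1 : ℂ)
  rw [map_one, mul_one]

end Cfsg.Agent.Lib.Helper8.SP
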