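import Mathlib
import Cfsg.Prelude.Def_Characters
import Cfsg.Agent.Lib.Helper4.SC1

set_option autoImplicit false

/-! Vanishing of a character on `N_G(⟨x⟩) ∖ ⟨x⟩` when its restriction to `⟨x⟩` does not contain the
trivial character. -/

namespace Cfsg.Agent.Lib.Helper8.SP

open Cfsg Cfsg.Agent.Lib.Helper4.SC

universe u

variable {G : Type u} [Group G] [Fintype G] {p : ℕ} [hp : Fact p.Prime] {x : G}

omit [Fintype G] in
/-- If the character of `σ` sums to zero over a subgroup, then so does `σ` itself. -/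
theorem sum_rep_eq_zero {n : ℕ} (σ : Representation ℂ G (Fin n → ℂ)) (H : Subgroup G)
    [Fintype H] (hsum : ∑ y : H, σ.character (y : G) = 0) :
    ∑ y : H, σ (y : G) = 0 := by
  classical
  set A : Module.End ℂ (Fin n → ℂ) := ∑ y : H, σ (y : G) with hA
  have hH0 : (Fintype.card H : ℂ) ≠ 0 := Nat.cast_ne_zero.2 Fintype.card_ne_zero
  have hA2 : A * A = (Fintype.card H : ℂ) • A := by
    rw [hA, Finset.sum_mul]
    have : ∀ y : H, σ (y : G) * ∑ z : H, σ (z : G) = ∑ z : H, σ (z : G) := by
      intro y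
      rw [Finset.mul_sum]
      rw [← Equiv.sum_comp (Equiv.mulLeft y) (fun z : H => σ (z : G))]
      refine Finset.sum_congr rfl fun z _ => ?_
      rw [Equiv.coe_mulLeft, Subgroup.coe_mul, map_mul]
    rw [Finset.sum_congr rfl (fun y _ => this y), Finset.sum_const, Finset.card_univ,
      ← Nat.cast_smul_eq_nsmul ℂ]
  have htr : LinearMap.trace ℂ (Fin n → ℂ) A = 0 := by
    rw [hA, map_sum]
    exact hsum
  set B : Module.End ℂ (Fin n → ℂ) := (Fintype.card H : ℂ)⁻¹ • A with hB
  have hBid : IsIdempotentElem B := by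
    show B * B = B
    rw [hB, smul_mul_smul_comm, hA2, smul_smul]
    congr 1
    field_simp
  have hBtr : LinearMap.trace ℂ (Fin n → ℂ) B = 0 := by
    rw [hB, map_smul, htr, smul_zero]
  have hB0 : B = 0 := LinearMap.IsIdempotentElem.eq_zero_of_trace_eq_zero hBid hBtr
  have : A = (Fintype.card H : ℂ) • B := by
    rw [hB, smul_smul, mul_inv_cancel₀ hH0, one_smul]
  rw [this, hB0, smul_zero]

/-- The character vanishes on `N_G(⟨x⟩) ∖ ⟨x⟩`. -/
theorem vanish_off (hx : orderOf x = p)
    (hC : Subgroup.centralizer ({x} : Set G) = Subgroup.zpowers x) {χ : G → ℂ}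
    (hχ : IsCharacter G χ) (hsum : ∑ y : Subgroup.zpowers x, χ (y : G) = 0) {u : G}
    (hu : u ∈ Subgroup.normalizer ((Subgroup.zpowers x : Subgroup G) : Set G))
    (huP : u ∉ Subgroup.zpowers x) : χ u = 0 := by
  classical
  obtain ⟨n, σ, rfl⟩ := hχ
  have hA := sum_rep_eq_zero σ (Subgroup.zpowers x) hsum
  -- the sum of the character over the coset `u ⟨x⟩` vanishes
  have h1 : ∑ y : Subgroup.zpowers x, σ.character (u * (y : G)) = 0 := by
    have : ∀ y : Subgroup.zpowers x, σ.character (u * (y : G))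
        = LinearMap.trace ℂ (Fin n → ℂ) (σ u * σ (y : G)) := by
      intro y
      rw [← map_mul]
      rfl
    rw [Finset.sum_congr rfl (fun y _ => this y), ← map_sum, ← Finset.mul_sum, hA, mul_zero,
      map_zero]
  -- the coset consists of conjugates of `u`
  have hmem : ∀ z : Subgroup.zpowers x, u⁻¹ * (z : G) * u * (z : G)⁻¹ ∈ Subgroup.zpowers x := by
    intro z
    have h2 := (Subgroup.mem_normalizer_iff.1 (Subgroup.inv_mem _ hu) (z : G)).1 z.2
    rw [inv_inv] at h2
    exact Subgroup.mul_mem _ h2 (Subgroup.inv_mem _ z.2)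
  let ι : Subgroup.zpowers x → Subgroup.zpowers x := fun z =>
    ⟨u⁻¹ * (z : G) * u * (z : G)⁻¹, hmem z⟩
  have hinj : Function.Injective ι := by
    intro z w hzw
    have h2 : u⁻¹ * (z : G) * u * (z : G)⁻¹ = u⁻¹ * (w : G) * u * (w : G)⁻¹ :=
      congrArg Subtype.val hzw
    by_contra hne
    have h3 : (w : G)⁻¹ * (z : G) ∈ Subgroup.zpowers x :=
      Subgroup.mul_mem _ (Subgroup.inv_mem _ w.2) z.2
    have h4 : (w : G)⁻¹ * (z : G) ≠ 1 := by
      intro h
      apply hne
      apply Subtype.ext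
      have : (z : G) = (w : G) * ((w : G)⁻¹ * (z : G)) := by group
      rw [this, h, mul_one]
    apply huP
    apply mem_of_commute hx hC h3 h4
    have h5 : (z : G) * u * (z : G)⁻¹ = (w : G) * u * (w : G)⁻¹ := by
      have e1 : (z : G) * u * (z : G)⁻¹ = u * (u⁻¹ * (z : G) * u * (z : G)⁻¹) := by group
      have e2 : (w : G) * u * (w : G)⁻¹ = u * (u⁻¹ * (w : G) * u * (w : G)⁻¹) := by group
      rw [e1, e2, h2]
    calc u * ((w : G)⁻¹ * (z : G))
        = (w : G)⁻¹ * ((w : G) * u * (w : G)⁻¹) * (z : G) := by group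
      _ = (w : G)⁻¹ * ((z : G) * u * (z : G)⁻¹) * (z : G) := by rw [h5]
      _ = (w : G)⁻¹ * (z : G) * u := by group
  have hbij : Function.Bijective ι := hinj.bijective_of_finite
  have h2 : ∑ y : Subgroup.zpowers x, σ.character (u * (y : G))
      = ∑ z : Subgroup.zpowers x, σ.character (u * ((ι z : Subgroup.zpowers x) : G)) :=
    (Function.Bijective.sum_comp hbij (fun y : Subgroup.zpowers x => σ.character (u * (y : G)))).symm
  have h3 : ∀ z : Subgroup.zpowers x, σ.character (u * ((ι z : Subgroup.zpowers x) : G))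
      = σ.character u := by
    intro z
    have : u * ((ι z : Subgroup.zpowers x) : G) = (z : G) * u * (z : G)⁻¹ := by
      show u * (u⁻¹ * (z : G) * u * (z : G)⁻¹) = _
      group
    rw [this]
    exact Representation.char_conj σ u (z : G)
  rw [h2, Finset.sum_congr rfl (fun z _ => h3 z), Finset.sum_const, Finset.card_univ,
    nsmul_eq_mul] at h1
  rcases mul_eq_zero.1 h1 with h | h
  · exfalso
    have : (Fintype.card (Subgroup.zpowers x) : ℂ) ≠ 0 := Nat.cast_ne_zero.2 Fintype.card_ne_zero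
    exact this h
  · exact h

end Cfsg.Agent.Lib.Helper8.SP
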