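import Mathlib
import Cfsg.Agent.Lib.Helper4.SC1

set_option autoImplicit false

/-! A generator of a complement of `⟨x⟩` in its normalizer. -/

namespace Cfsg.Agent.Lib.Helper8.SP

open Cfsg.Agent.Lib.Helper4.SC

universe u

variable {G : Type u} [Group G] [Finite G] {p : ℕ} [hp : Fact p.Prime] {x : G}

theorem centralizer_zpowers_eq
    (hC : Subgroup.centralizer ({x} : Set G) = Subgroup.zpowers x) :
    Subgroup.centralizer ((Subgroup.zpowers x : Subgroup G) : Set G) = Subgroup.zpowers x := by
  apply le_antisymm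
  · refine le_trans (Subgroup.centralizer_le ?_) (le_of_eq hC)
    intro y hy
    rw [Set.mem_singleton_iff] at hy
    rw [hy]
    exact Subgroup.mem_zpowers x
  · intro k hk
    rw [Subgroup.mem_centralizer_iff]
    intro z hz
    exact commute_of_mem hz hk

omit [Finite G] hp in
theorem pow_eq_one_of_mem (hx : orderOf x = p) {y : G} (hy : y ∈ Subgroup.zpowers x) :
    y ^ p = 1 := by
  obtain ⟨k, rfl⟩ := Subgroup.mem_zpowers_iff.1 hy
  rw [← zpow_natCast, ← zpow_mul, mul_comm, zpow_mul, zpow_natCast, ← hx, pow_orderOf_eq_one,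
    one_zpow]

/-- There is an element of the normalizer of order dividing `e = |N : ⟨x⟩|` none of whose proper
powers lies in `⟨x⟩`. -/
theorem exists_gen (hx : orderOf x = p)
    (hC : Subgroup.centralizer ({x} : Set G) = Subgroup.zpowers x)
    (hcop : Nat.Coprime ((Subgroup.zpowers x).relIndex
        (Subgroup.normalizer ((Subgroup.zpowers x : Subgroup G) : Set G))) p) :
    ∃ n : G, n ∈ Subgroup.normalizer ((Subgroup.zpowers x : Subgroup G) : Set G) ∧
      n ^ ((Subgroup.zpowers x).relIndex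
        (Subgroup.normalizer ((Subgroup.zpowers x : Subgroup G) : Set G))) = 1 ∧
      ∀ j : ℕ, 0 < j → j < (Subgroup.zpowers x).relIndex
        (Subgroup.normalizer ((Subgroup.zpowers x : Subgroup G) : Set G)) →
        n ^ j ∉ Subgroup.zpowers x := by
  classical
  haveI : Fact (Nat.card (Subgroup.zpowers x)).Prime := ⟨by rw [card_zpowers_eq hx]; exact hp.out⟩
  haveI : IsCyclic (ZMod (Nat.card (Subgroup.zpowers x)))ˣ := inferInstance
  haveI : IsCyclic (MulAut (Subgroup.zpowers x)) :=
    (MulEquiv.isCyclic (IsCyclic.mulAutMulEquiv (Subgroup.zpowers x))).2 inferInstance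
  let φ := (Subgroup.zpowers x).normalizerMonoidHom
  have hker : φ.ker = (Subgroup.zpowers x).subgroupOf
      (Subgroup.normalizer ((Subgroup.zpowers x : Subgroup G) : Set G)) := by
    rw [Subgroup.normalizerMonoidHom_ker, centralizer_zpowers_eq hC]
  obtain ⟨g, hg⟩ := IsCyclic.exists_generator (α := φ.range)
  obtain ⟨n₀, hn₀⟩ := g.2
  have hord : orderOf (φ n₀) = (Subgroup.zpowers x).relIndex
      (Subgroup.normalizer ((Subgroup.zpowers x : Subgroup G) : Set G)) := by
    have h1 : orderOf g = Nat.card φ.range := orderOf_eq_card_of_forall_mem_zpowers hg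
    rw [← Subgroup.index_ker, hker] at h1
    rw [hn₀, Subgroup.orderOf_coe g]
    exact h1
  have hmemker : ∀ k : ℕ, ((n₀ : G) ^ k ∈ Subgroup.zpowers x) ↔ φ n₀ ^ k = 1 := by
    intro k
    rw [← map_pow, ← MonoidHom.mem_ker, hker, Subgroup.mem_subgroupOf, Subgroup.coe_pow]
  refine ⟨(n₀ : G) ^ p, Subgroup.pow_mem _ n₀.2 p, ?_, ?_⟩
  · rw [← pow_mul, mul_comm, pow_mul]
    apply pow_eq_one_of_mem hx
    rw [hmemker, ← hord, pow_orderOf_eq_one]
  · intro j hj0 hje hmem
    rw [← pow_mul, hmemker] at hmem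
    have h1 := orderOf_dvd_of_pow_eq_one hmem
    rw [hord] at h1
    have h2 := hcop.dvd_of_dvd_mul_left h1
    have := Nat.le_of_dvd hj0 h2
    omega

end Cfsg.Agent.Lib.Helper8.SP
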