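import Mathlib
import Cfsg.Prelude.Def_Characters
import Cfsg.Prelude.Def_CharExt
import Cfsg.Agent.Lib.Helper2.DetChar

set_option autoImplicit false

/-! The determinantal character of a multiple of the regular character of a cyclic group of even
order. -/

namespace Cfsg.Agent.Lib.Helper8.SP

open Cfsg Cfsg.Agent.Lib.Helper2.DetChar Cfsg.Agent.Lib.Helper2.LinExt

universe u

variable {H : Type u} [Group H]

/-- The diagonal representation `h ↦ diag (μ h ^ i)`. -/
noncomputable def diagRep (μ : H →* ℂˣ) (m : ℕ) : Representation ℂ H (Fin m → ℂ) where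
  toFun h := Matrix.toLin' (Matrix.diagonal (fun i : Fin m => ((μ h : ℂˣ) : ℂ) ^ (i : ℕ)))
  map_one' := by
    rw [map_one]
    simp
    rfl
  map_mul' a b := by
    rw [map_mul, Units.val_mul, Module.End.mul_eq_comp, ← Matrix.toLin'_mul,
      Matrix.diagonal_mul_diagonal]
    congr 2
    funext i
    rw [mul_pow]

theorem diagRep_character (μ : H →* ℂˣ) (m : ℕ) (h : H) :
    (diagRep μ m).character h = ∑ i ∈ Finset.range m, ((μ h : ℂˣ) : ℂ) ^ i := by
  show LinearMap.trace ℂ (Fin m → ℂ) (Matrix.toLin' (Matrix.diagonal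
    (fun i : Fin m => ((μ h : ℂˣ) : ℂ) ^ (i : ℕ)))) = _
  rw [Matrix.trace_toLin'_eq, Matrix.trace_diagonal,
    Fin.sum_univ_eq_sum_range (fun i => ((μ h : ℂˣ) : ℂ) ^ i) m]

theorem diagRep_det (μ : H →* ℂˣ) (m : ℕ) (h : H) :
    LinearMap.det (diagRep μ m h) = ∏ i ∈ Finset.range m, ((μ h : ℂˣ) : ℂ) ^ i := by
  show LinearMap.det (Matrix.toLin' (Matrix.diagonal
    (fun i : Fin m => ((μ h : ℂˣ) : ℂ) ^ (i : ℕ)))) = _
  rw [LinearMap.det_toLin', Matrix.det_diagonal,
    Fin.prod_univ_eq_prod_range (fun i => ((μ h : ℂˣ) : ℂ) ^ i) m]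

theorem detChar_eq_neg_one [Finite H] {n : H} (hgen : ∀ h : H, h ∈ Subgroup.zpowers n) {e t : ℕ}
    (hord : orderOf n = e) (heven : Even e) (hodd : Odd t) {ψ : H → ℂ}
    (h1 : ψ 1 = ((t * e : ℕ) : ℂ)) (h0 : ∀ h, h ≠ 1 → ψ h = 0) : detChar ψ n = -1 := by
  classical
  have he0 : 0 < e := by rw [← hord]; exact orderOf_pos n
  obtain ⟨f, hf⟩ := heven
  have hf0 : 0 < f := by omega
  -- a primitive root of unity
  have hprim := Complex.isPrimitiveRoot_exp e he0.ne'
  obtain ⟨ω, hω⟩ : ∃ ω : ℂˣ, (ω : ℂ) = Complex.exp (2 * Real.pi * Complex.I / e) :=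
    ⟨(hprim.isUnit he0.ne').unit, rfl⟩
  have hprim' : IsPrimitiveRoot ω e := by
    rw [← IsPrimitiveRoot.coe_units_iff, hω]
    exact hprim
  have hωord : orderOf ω = e := hprim'.eq_orderOf.symm
  let μ : H →* ℂˣ := monoidHomOfForallMemZpowers hgen (g' := ω) (by rw [hωord, hord])
  have hμn : μ n = ω := monoidHomOfForallMemZpowers_apply_gen hgen _
  have hμinj : ∀ h : H, μ h = 1 → h = 1 := by
    intro h hh
    obtain ⟨k, rfl⟩ := Subgroup.mem_zpowers_iff.1 (hgen h)
    rw [map_zpow, hμn] at hh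
    have h2 := orderOf_dvd_iff_zpow_eq_one.2 hh
    rw [hωord, ← hord] at h2
    exact orderOf_dvd_iff_zpow_eq_one.1 h2
  have hpowe : ∀ h : H, ((μ h : ℂˣ) : ℂ) ^ e = 1 := by
    intro h
    have : h ^ e = 1 := by
      obtain ⟨k, rfl⟩ := Subgroup.mem_zpowers_iff.1 (hgen h)
      rw [← zpow_natCast, ← zpow_mul, mul_comm, zpow_mul, zpow_natCast, ← hord,
        pow_orderOf_eq_one, one_zpow]
    rw [← Units.val_pow_eq_pow_val, ← map_pow, this, map_one, Units.val_one]
  set m := t * e with hm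
  -- the character
  have hchar : ψ = (diagRep μ m).character := by
    funext h
    rw [diagRep_character]
    by_cases hh : h = 1
    · rw [hh, h1, map_one, Units.val_one]
      simp
    · rw [h0 h hh]
      have hz1 : ((μ h : ℂˣ) : ℂ) ≠ 1 := by
        intro hz
        apply hh
        apply hμinj
        exact Units.ext hz
      have hgs := geom_sum_mul ((μ h : ℂˣ) : ℂ) m
      have hzm : ((μ h : ℂˣ) : ℂ) ^ m = 1 := by
        rw [hm, mul_comm, pow_mul, hpowe, one_pow]
      rw [hzm, sub_self] at hgs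
      rcases mul_eq_zero.1 hgs with h | h
      · exact h.symm
      · exact absurd (sub_eq_zero.1 h) hz1
  rw [hchar, detChar_eq, coeHom_apply, detHom_apply, diagRep_det, hμn,
    Finset.prod_pow_eq_pow_sum]
  -- the exponent
  have hsum : ∑ i ∈ Finset.range m, i = f * (t * (m - 1)) := by
    have h2 := Finset.sum_range_id_mul_two m
    have h3 : m * (m - 1) = (f * (t * (m - 1))) * 2 := by
      rw [hm, hf]
      ring
    rw [h3] at h2
    exact Nat.eq_of_mul_eq_mul_right (by norm_num) h2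
  rw [hsum, pow_mul]
  have hwf : (ω : ℂ) ^ f = -1 := by
    have hsq : ((ω : ℂ) ^ f) * ((ω : ℂ) ^ f) = 1 := by
      rw [← pow_add, ← hf, ← Units.val_pow_eq_pow_val, ← hωord, pow_orderOf_eq_one,
        Units.val_one]
    rcases mul_self_eq_one_iff.1 hsq with h | h
    · exfalso
      have h4 : ω ^ f ≠ 1 := by
        apply pow_ne_one_of_lt_orderOf hf0.ne'
        rw [hωord]
        omega
      apply h4
      apply Units.ext
      rw [Units.val_pow_eq_pow_val, h, Units.val_one]
    · exact h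
  rw [hwf]
  apply Odd.neg_one_pow
  apply hodd.mul
  have hm_even : Even m := by
    rw [hm, hf]
    exact ⟨t * f, by ring⟩
  have hm0 : 0 < m := by
    rw [hm]
    obtain ⟨k, hk⟩ := hodd
    have : 0 < t := by omega
    positivity
  exact Nat.Even.sub_odd hm0 hm_even odd_one

end Cfsg.Agent.Lib.Helper8.SP
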