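import Mathlib
import Cfsg.Prelude.Def_Characters
import Cfsg.Prelude.Def_CharExt
import Cfsg.Prelude.Def_Blocks
import Cfsg.Agent.Lib.Helper2.DetChar
import Cfsg.Agent.Lib.Helper4.SC4
import Cfsg.Agent.Lib.Helper8.Deflation
import Cfsg.Agent.Lib.Helper8.SP5
import Cfsg.Agent.Lib.Helper8.SP6
import Cfsg.Agent.Lib.Helper8.SP7
import Cfsg.Agent.Lib.Helper8.SP8

set_option autoImplicit false

/-! A self-centralizing element of prime order `p` and an irreducible character of degree
`p - 1`. -/

namespace Cfsg.Agent.Lib.Helper8.SP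

open Cfsg Cfsg.Agent.Lib.Helper4 Cfsg.Agent.Lib.Helper1 Cfsg.Agent.Lib.Helper4.SC
  Cfsg.Agent.Lib.Helper8 Cfsg.Agent.Lib.Helper2.DetChar Cfsg.Agent.Lib.Helper2.LinExt

universe u

theorem even_index_of_hom {G : Type u} [Group G] [Finite G] (δ : G →* ℂˣ) (n : G)
    (h : ((δ n : ℂˣ) : ℂ) = -1) : Even (commutator G).index := by
  let δ' : Abelianization G →* ℂˣ := Abelianization.lift δ
  have h1 : δ' (Abelianization.of n) = δ n := Abelianization.lift_apply_of δ n
  have hk : Even (orderOf (Abelianization.of n)) := by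
    have h2 : (Abelianization.of n) ^ orderOf (Abelianization.of n) = 1 := pow_orderOf_eq_one _
    have h3 := congrArg δ' h2
    rw [map_pow, map_one, h1] at h3
    have h4 : ((δ n : ℂˣ) : ℂ) ^ orderOf (Abelianization.of n) = 1 := by
      rw [← Units.val_pow_eq_pow_val, h3, Units.val_one]
    rw [h] at h4
    exact (neg_one_pow_eq_one_iff_even (by norm_num)).1 h4
  have hdvd : orderOf (Abelianization.of n) ∣ (commutator G).index := by
    rw [Subgroup.index_eq_card]
    exact orderOf_dvd_natCard (Abelianization.of n)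
  exact (even_iff_two_dvd.2 ((even_iff_two_dvd.1 hk).trans hdvd))

theorem parity {G : Type u} [Group G] [Finite G] (p : ℕ) (hp : p.Prime) (x : G)
    (hx : orderOf x = p) (hC : Subgroup.centralizer ({x} : Set G) = Subgroup.zpowers x) (t : ℕ)
    (ht : Nat.card {C : ConjClasses G // ∃ g ∈ C.carrier, orderOf g = p} = t)
    (χ : IrrCharacter G) (hχ : charDegree (χ : G → ℂ) + 1 = p) :
    Even t ∨ Even (commutator G).index := by
  classical
  haveI : Fact p.Prime := ⟨hp⟩
  haveI : Fintype G := Fintype.ofFinite G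
  have hte := card_classes_mul hx hC
  rw [ht] at hte
  obtain ⟨e, hedef⟩ : ∃ e : ℕ, e = (Subgroup.zpowers x).relIndex
        (Subgroup.normalizer ((Subgroup.zpowers x : Subgroup G) : Set G)) := ⟨_, rfl⟩
  rw [← hedef] at hte
  have hp2 : 2 ≤ p := hp.two_le
  by_cases he1 : e = 1
  · have hidx := (commutator_of_relIndex_eq_one hx hC (hedef ▸ he1)).1
    rcases hp.eq_two_or_odd' with h2 | hodd
    · right
      rw [hidx, h2]
      exact even_two
    · left
      rw [he1, mul_one] at hte
      rw [hte]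
      exact Nat.Odd.sub_odd hodd odd_one
  by_cases hteven : Even t
  · left; exact hteven
  right
  have htodd : Odd t := Nat.not_even_iff_odd.1 hteven
  have he0 : e ≠ 0 := by
    intro h
    rw [h, mul_zero] at hte
    omega
  have he2 : 2 ≤ e := by omega
  have heven : Even e := by
    rcases hp.eq_two_or_odd' with h2 | hodd
    · exfalso
      rw [h2] at hte
      have : e = 1 := Nat.eq_one_of_mul_eq_one_left hte
      exact he1 this
    · have h3 : Even (t * e) := by
        rw [hte]
        exact Nat.Odd.sub_odd hodd odd_one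
      rcases Nat.even_mul.1 h3 with h | h
      · exact absurd h hteven
      · exact h
  have hcop : Nat.Coprime e p := by
    rw [Nat.coprime_comm, Nat.Prime.coprime_iff_not_dvd hp]
    intro hdvd
    have h1 := Nat.le_of_dvd (Nat.pos_of_ne_zero he0) hdvd
    have h2 : e ≤ t * e := Nat.le_mul_of_pos_left e (by
      obtain ⟨k, hk⟩ := htodd
      omega)
    omega
  -- character facts
  have hχirr : IsIrrCharacter G (χ : G → ℂ) := χ.2
  have hχc := isCharacter_of_irr hχirr
  have hdeg : (χ : G → ℂ) 1 = (p : ℂ) - 1 := by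
    rw [(irr_apply_one_eq_charDegree hχirr).1, ← hχ]
    push_cast
    ring
  have hsum := sum_restrict_eq_zero hx hC (hedef ▸ he2) hχirr hdeg
  obtain ⟨n, hnN, hne, hnj⟩ := exists_gen hx hC (hedef ▸ hcop)
  rw [← hedef] at hne hnj
  -- the order of `n`
  have hordn : orderOf n = e := by
    have h1 : orderOf n ∣ e := orderOf_dvd_of_pow_eq_one hne
    have h2 : 0 < orderOf n := orderOf_pos n
    have h3 : orderOf n ≤ e := Nat.le_of_dvd (Nat.pos_of_ne_zero he0) h1
    by_contra hne'
    have h4 : orderOf n < e := lt_of_le_of_ne h3 hne'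
    apply hnj (orderOf n) h2 h4
    rw [pow_orderOf_eq_one]
    exact Subgroup.one_mem _
  let n' : Subgroup.zpowers n := ⟨n, Subgroup.mem_zpowers n⟩
  have hgen : ∀ h : Subgroup.zpowers n, h ∈ Subgroup.zpowers n' := by
    intro h
    obtain ⟨k, hk⟩ := Subgroup.mem_zpowers_iff.1 h.2
    rw [Subgroup.mem_zpowers_iff]
    refine ⟨k, ?_⟩
    apply Subtype.ext
    rw [Subgroup.coe_zpow]
    exact hk
  have hord' : orderOf n' = e := by
    rw [← hordn]
    exact Subgroup.orderOf_mk n (Subgroup.mem_zpowers n)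
  let ψ : Subgroup.zpowers n → ℂ := fun h => (χ : G → ℂ) (h : G)
  have hψ1 : ψ 1 = ((t * e : ℕ) : ℂ) := by
    show (χ : G → ℂ) 1 = _
    rw [hdeg, hte, Nat.cast_sub (by omega)]
    simp
  have hψ0 : ∀ h : Subgroup.zpowers n, h ≠ 1 → ψ h = 0 := by
    intro h hh
    obtain ⟨k, hk⟩ := Subgroup.mem_zpowers_iff.1 h.2
    have h1 : n ^ (k % (orderOf n : ℤ)) = n ^ k := zpow_mod_orderOf n k
    have hpos : (0 : ℤ) < (orderOf n : ℤ) := by exact_mod_cast orderOf_pos n
    have h2 : 0 ≤ k % (orderOf n : ℤ) := Int.emod_nonneg _ hpos.ne'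
    have h3 : k % (orderOf n : ℤ) < (orderOf n : ℤ) := Int.emod_lt_of_pos _ hpos
    obtain ⟨j, hj⟩ := Int.eq_ofNat_of_zero_le h2
    rw [hj, zpow_natCast] at h1
    rw [hj, hordn] at h3
    have hje : j < e := by exact_mod_cast h3
    have hj0 : 0 < j := by
      rcases Nat.eq_zero_or_pos j with h0 | h0
      · exfalso
        apply hh
        apply Subtype.ext
        rw [← hk, ← h1, h0, pow_zero]
        rfl
      · exact h0
    show (χ : G → ℂ) (h : G) = 0
    rw [← hk, ← h1]
    exact vanish_off hx hC hχc hsum (Subgroup.pow_mem _ hnN j) (hnj j hj0 hje)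
  have hdet := detChar_eq_neg_one hgen hord' heven htodd hψ1 hψ0
  have hres := detChar_restrict (Subgroup.zpowers n) hχc
  obtain ⟨δ, hδ⟩ := exists_detHom hχc
  have hδn : ((δ n : ℂˣ) : ℂ) = -1 := by
    rw [← coeHom_apply, ← hδ]
    have h1 := congrFun hres n'
    rw [← hdet]
    exact h1.symm
  exact even_index_of_hom δ n hδn

end Cfsg.Agent.Lib.Helper8.SP
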