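import Mathlib

set_option autoImplicit false

namespace Cfsg.Agent.Lib.Helper8.SPX

section Main
variable {F V : Type*} [Field F] [Fintype F] [AddCommGroup V] [Module F V]
  [FiniteDimensional F V]

theorem three_eq_zero (hF : Fintype.card F = 3) : (3 : F) = 0 := by
  have h := Nat.cast_card_eq_zero F
  rw [hF] at h
  exact_mod_cast h

theorem two_ne_zero' (hF : Fintype.card F = 3) : (2 : F) ≠ 0 := by
  intro h2
  have h3 := three_eq_zero hF
  have : (1 : F) = 3 - 2 := by norm_num
  rw [h3, h2, sub_zero] at this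
  exact one_ne_zero this

theorem no_sqrt_neg_one (hF : Fintype.card F = 3) (μ : F) : μ * μ ≠ -1 := by
  intro h
  have h1 : μ ^ 3 = μ := by
    have := FiniteField.pow_card μ
    rwa [hF] at this
  have h2 : μ ^ 4 = 1 := by
    have : μ ^ 4 = (μ * μ) * (μ * μ) := by ring
    rw [this, h]
    ring
  have h3 : μ ^ 4 = μ * μ := by
    have : μ ^ 4 = μ ^ 3 * μ := by ring
    rw [this, h1]
  rw [h2, h] at h3
  -- 1 = -1
  have h4 : (2 : F) = 0 := by
    have : (2 : F) = 1 + 1 := by norm_num
    rw [this]
    nth_rewrite 1 [h3]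
    ring
  exact two_ne_zero' hF h4

/-- The main linear algebra lemma: an element of order three of a symplectic group of a
`4`-space over `F₃` that is inverted by a symplectic transformation has a totally isotropic
fixed plane. -/
theorem main (hF : Fintype.card F = 3) (hV : Module.finrank F V = 4)
    (B : LinearMap.BilinForm F V) (hskew : ∀ v w, B v w = -B w v)
    (hnd : ∀ v, (∀ w, B v w = 0) → v = 0)
    (t s : Module.End F V) (ht3 : t ^ 3 = 1) (ht1 : t ≠ 1)
    (htB : ∀ v w, B (t v) (t w) = B v w) (hsB : ∀ v w, B (s v) (s w) = B v w)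
    (hst : s * t = t ^ 2 * s) :
    Module.finrank F (LinearMap.ker (t - 1)) = 2 ∧
      ∀ v w, v ∈ LinearMap.ker (t - 1) → w ∈ LinearMap.ker (t - 1) → B v w = 0 := by
  have h3 : (3 : F) = 0 := three_eq_zero hF
  have h2 : (2 : F) ≠ 0 := two_ne_zero' hF
  have h3E : (3 : Module.End F V) = 0 := by
    have : (3 : Module.End F V) = algebraMap F (Module.End F V) 3 := by
      rw [map_ofNat]
    rw [this, h3, map_zero]
  obtain ⟨N, hNdef⟩ : ∃ N : Module.End F V, N = t - 1 := ⟨_, rfl⟩
  have htN : t = 1 + N := by rw [hNdef]; abel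
  have hN3 : N ^ 3 = 0 := by
    have h : N ^ 3 = t ^ 3 - 1 - 3 * (t ^ 2 - t) := by
      rw [hNdef]
      noncomm_ring
    rw [h, ht3, h3E]
    simp
  have hN4 : N ^ 4 = 0 := by
    rw [pow_succ, hN3, zero_mul]
  have ht2 : t ^ 2 = 1 - N + N ^ 2 := by
    have h : t ^ 2 = 1 - N + N ^ 2 + 3 * N := by
      rw [htN]
      noncomm_ring
    rw [h, h3E, zero_mul, add_zero]
  -- the adjoint of t
  have hadj_t : ∀ v w, B (t v) w = B v ((t ^ 2) w) := by
    intro v w
    have h1 : t ((t ^ 2) w) = w := by
      have : t ((t ^ 2) w) = (t ^ 3) w := by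
        rw [pow_succ' t 2]
        rfl
      rw [this, ht3]
      rfl
    have h2 := htB v ((t ^ 2) w)
    rw [h1] at h2
    exact h2
  have hadj : ∀ v w, B (N v) w = B v ((N ^ 2 - N) w) := by
    intro v w
    have h1 : N v = t v - v := by rw [hNdef]; rfl
    have h2 : (N ^ 2 - N) w = (t ^ 2) w - w := by
      rw [ht2]
      simp only [LinearMap.sub_apply, LinearMap.add_apply, Module.End.one_apply]
      abel
    rw [h1, h2, map_sub, LinearMap.sub_apply, map_sub, hadj_t]
  obtain ⟨M, hMdef⟩ : ∃ M : Module.End F V, M = N ^ 2 := ⟨_, rfl⟩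
  have hMapply : ∀ v, M v = N (N v) := by
    intro v
    rw [hMdef, pow_two]
    rfl
  have hAA : (N ^ 2 - N) * (N ^ 2 - N) = N ^ 2 := by
    have h : (N ^ 2 - N) * (N ^ 2 - N) = N ^ 4 - 2 * N ^ 3 + N ^ 2 := by noncomm_ring
    rw [h, hN4, hN3]
    simp
  have hM : ∀ v w, B (M v) w = B v (M w) := by
    intro v w
    rw [hMapply v, hadj, hadj]
    have : (N ^ 2 - N) ((N ^ 2 - N) w) = ((N ^ 2 - N) * (N ^ 2 - N)) w := rfl
    rw [this, hAA, hMdef]
  have hMalt : ∀ v, B (M v) v = 0 := by
    intro v
    have h1 := hM v v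
    rw [hskew v (M v)] at h1
    have h4 : (2 : F) * B (M v) v = 0 := by
      have : (2 : F) * B (M v) v = B (M v) v + B (M v) v := by ring
      rw [this]
      nth_rewrite 1 [h1]
      ring
    rcases mul_eq_zero.1 h4 with h | h
    · exact absurd h h2
    · exact h
  have hMN : ∀ v, M (N v) = 0 := by
    intro v
    have : M (N v) = (N ^ 3) v := by
      rw [hMdef, pow_succ N 2]
      rfl
    rw [this, hN3]
    rfl
  have hNM : ∀ v, N (M v) = 0 := by
    intro v
    have : N (M v) = (N ^ 3) v := by
      rw [hMdef, pow_succ' N 2]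
      rfl
    rw [this, hN3]
    rfl
  have hMM : ∀ v, M (M v) = 0 := by
    intro v
    rw [hMapply v, hMN]
  -- M = 0
  have hM0 : M = 0 := by
    by_contra hne
    have hex : ∃ v, M v ≠ 0 := by
      by_contra hall
      push Not at hall
      exact hne (LinearMap.ext hall)
    obtain ⟨v, hv⟩ := hex
    have hex2 : ∃ w, B (M v) w ≠ 0 := by
      by_contra hall
      push Not at hall
      exact hv (hnd _ hall)
    obtain ⟨w, hw⟩ := hex2
    have hw' : B (M w) v ≠ 0 := by
      rw [hM w v, hskew w (M v)]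
      exact neg_ne_zero.2 hw
    have hind : ∀ α β : F, α • M v + β • M w = 0 → α = 0 ∧ β = 0 := by
      intro α β h
      have h1 : B (α • M v + β • M w) v = 0 := by rw [h]; simp
      rw [map_add, LinearMap.add_apply, map_smul, map_smul, LinearMap.smul_apply,
        LinearMap.smul_apply, hMalt v, smul_zero, zero_add, smul_eq_mul] at h1
      have hβ : β = 0 := by
        rcases mul_eq_zero.1 h1 with h | h
        · exact h
        · exact absurd h hw'
      rw [hβ, zero_smul, add_zero] at h
      rcases smul_eq_zero.1 h with h | h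
      · exact ⟨h, hβ⟩
      · exact absurd h hv
    have hli : LinearIndependent F ![v, N v, M v, w, N w, M w] := by
      rw [Fintype.linearIndependent_iff]
      intro g hg
      rw [Fin.sum_univ_six] at hg
      simp only [Matrix.cons_val_zero, Matrix.cons_val_one, Matrix.cons_val] at hg
      have hg' : g 0 • v + g 1 • N v + g 2 • M v + g 3 • w + g 4 • N w + g 5 • M w = 0 := hg
      have e1 := congrArg M hg'
      simp only [map_add, map_smul, hMN, hMM, map_zero, smul_zero, add_zero] at e1
      obtain ⟨g0, g3⟩ := hind _ _ e1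
      rw [g0, g3, zero_smul, zero_smul, zero_add, add_zero] at hg'
      have e2 := congrArg N hg'
      simp only [map_add, map_smul, hNM, map_zero, smul_zero, add_zero, ← hMapply] at e2
      obtain ⟨g1, g4⟩ := hind _ _ e2
      rw [g1, g4, zero_smul, zero_smul, zero_add, add_zero] at hg'
      obtain ⟨g2, g5⟩ := hind _ _ hg'
      intro i
      fin_cases i <;> assumption
    have := hli.fintype_card_le_finrank
    rw [hV] at this
    simp at this
  have hNN : ∀ v, N (N v) = 0 := by
    intro v
    rw [← hMapply, hM0]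
    rfl
  have hN2 : N ^ 2 = 0 := by rw [← hMdef, hM0]
  have hadj' : ∀ v w, B (N v) w = -B v (N w) := by
    intro v w
    rw [hadj, hN2, zero_sub, LinearMap.neg_apply, map_neg]
  have hN0 : N ≠ 0 := by
    intro h
    apply ht1
    rw [htN, h, add_zero]
  have hrk := LinearMap.finrank_range_add_finrank_ker N
  rw [hV] at hrk
  have hle : LinearMap.range N ≤ LinearMap.ker N := by
    rintro _ ⟨a, rfl⟩
    exact hNN a
  have hle' := Submodule.finrank_mono hle
  have hr0 : Module.finrank F (LinearMap.range N) ≠ 0 := by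
    intro h
    have : LinearMap.range N = ⊥ := Submodule.finrank_eq_zero.1 h
    exact hN0 (LinearMap.range_eq_bot.1 this)
  have hr1 : Module.finrank F (LinearMap.range N) ≠ 1 := by
    intro h
    obtain ⟨e, he0, he⟩ := finrank_eq_one_iff'.1 h
    have he0' : (e : V) ≠ 0 := fun h0 => he0 (Subtype.ext h0)
    have hex : ∀ a, ∃ c : F, c • (e : V) = N a := by
      intro a
      obtain ⟨c, hc⟩ := he ⟨N a, a, rfl⟩
      exact ⟨c, congrArg Subtype.val hc⟩
    choose ℓ hℓ using hex
    have hkey : ∀ a b, ℓ a * B e b = ℓ b * B e a := by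
      intro a b
      have h1 := hadj' a b
      rw [← hℓ a, ← hℓ b, map_smul, LinearMap.smul_apply, map_smul, smul_eq_mul, smul_eq_mul,
        hskew a e] at h1
      rw [h1]
      ring
    have hex2 : ∃ b, B e b ≠ 0 := by
      by_contra hall
      push Not at hall
      exact he0' (hnd _ hall)
    obtain ⟨b, hb⟩ := hex2
    obtain ⟨b₀, hb₀⟩ : ∃ b₀, B e b₀ = 1 := by
      refine ⟨(B e b)⁻¹ • b, ?_⟩
      rw [map_smul, smul_eq_mul, inv_mul_cancel₀ hb]
    have hℓc : ∀ a, ℓ a = ℓ b₀ * B e a := by
      intro a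
      have := hkey a b₀
      rw [hb₀, mul_one] at this
      exact this
    have hc0 : ℓ b₀ ≠ 0 := by
      intro hc
      apply hN0
      apply LinearMap.ext
      intro a
      rw [← hℓ a, hℓc a, hc, zero_mul, zero_smul]
      rfl
    have hsN : ∀ a, s (N a) = -N (s a) := by
      intro a
      have h1 : s * N = -(N * s) := by
        have : s * N = s * t - s := by rw [hNdef]; noncomm_ring
        rw [this, hst, ht2, hN2]
        noncomm_ring
      have := congrArg (fun f : Module.End F V => f a) h1
      exact this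
    have h5 := hsN b₀
    rw [← hℓ b₀, ← hℓ (s b₀), map_smul, hℓc (s b₀)] at h5
    have h6 : s (e : V) = (-B e (s b₀)) • (e : V) := by
      have h7 : ℓ b₀ • s (e : V) = ℓ b₀ • ((-B e (s b₀)) • (e : V)) := by
        rw [h5, smul_smul, mul_neg, neg_smul]
      exact smul_right_injective V hc0 h7
    have h8 := hsB e b₀
    rw [hb₀, h6, map_smul, LinearMap.smul_apply, smul_eq_mul] at h8
    apply no_sqrt_neg_one hF (B e (s b₀))
    have : B e (s b₀) * B e (s b₀) = -(-B e (s b₀) * B e (s b₀)) := by ring
    rw [this, h8]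
  have hr2 : Module.finrank F (LinearMap.range N) = 2 := by omega
  have hk2 : Module.finrank F (LinearMap.ker N) = 2 := by omega
  have heq : LinearMap.range N = LinearMap.ker N :=
    Submodule.eq_of_le_of_finrank_eq hle (by rw [hr2, hk2])
  rw [← hNdef]
  refine ⟨hk2, ?_⟩
  intro v w hv hw
  rw [← heq] at hv
  obtain ⟨a, rfl⟩ := hv
  rw [hadj', LinearMap.mem_ker.1 hw, map_zero, neg_zero]

end Main

end Cfsg.Agent.Lib.Helper8.SPX
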