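import Mathlib
import Cfsg.Agent.Lib.Helper8.SPX1

set_option autoImplicit false

namespace Cfsg.Agent.Lib.Helper8.SPX

open Matrix

set_option maxRecDepth 100000 in
theorem real_zmod5 : ∀ a b c d : ZMod 5, a * d - b * c = 1 →
    ∃ p q r : ZMod 5, (a - d) * p + c * q + b * r = 0 ∧ -(p * p) - q * r = 1 := by decide

section Real
variable {K : Type*} [Field K] [Fintype K]

theorem real_K (hK : Fintype.card K = 5) (a b c d : K) (h : a * d - b * c = 1) :
    ∃ p q r : K, (a - d) * p + c * q + b * r = 0 ∧ -(p * p) - q * r = 1 := by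
  let e : ZMod 5 ≃+* K := ZMod.ringEquivOfPrime K (by norm_num) hK
  have h' : e.symm a * e.symm d - e.symm b * e.symm c = 1 := by
    rw [← map_mul, ← map_mul, ← map_sub, h, map_one]
  obtain ⟨p, q, r, h1, h2⟩ := real_zmod5 _ _ _ _ h'
  refine ⟨e p, e q, e r, ?_, ?_⟩
  · have := congrArg e h1
    simpa using this
  · have := congrArg e h2
    simpa using this

/-- Every element of `SL₂(5)` is conjugate to its inverse. -/
theorem exists_conj_inv (hK : Fintype.card K = 5) (x : Matrix.SpecialLinearGroup (Fin 2) K) :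
    ∃ u : Matrix.SpecialLinearGroup (Fin 2) K, u * x = x⁻¹ * u := by
  have hdet : x.1 0 0 * x.1 1 1 - x.1 0 1 * x.1 1 0 = 1 := by
    have := x.2
    rwa [Matrix.det_fin_two] at this
  obtain ⟨p, q, r, h1, h2⟩ := real_K hK _ _ _ _ hdet
  have hu : (!![p, q; r, -p] : Matrix (Fin 2) (Fin 2) K).det = 1 := by
    rw [Matrix.det_fin_two_of]
    linear_combination h2
  let u : Matrix.SpecialLinearGroup (Fin 2) K := ⟨!![p, q; r, -p], hu⟩
  have hu1 : (u : Matrix (Fin 2) (Fin 2) K) = !![p, q; r, -p] := rfl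
  refine ⟨u, ?_⟩
  · apply Subtype.ext
    rw [Matrix.SpecialLinearGroup.coe_mul, Matrix.SpecialLinearGroup.coe_mul,
      Matrix.SpecialLinearGroup.coe_inv, Matrix.adjugate_fin_two, hu1]
    have hx : x.1 = !![x.1 0 0, x.1 0 1; x.1 1 0, x.1 1 1] := Matrix.eta_fin_two x.1
    rw [hx]
    ext i j
    fin_cases i <;> fin_cases j
    · simp
      linear_combination h1
    · simp
      ring
    · simp
      ring
    · simp
      linear_combination h1

end Real

section Bridge
variable {F : Type*} [Field F] [Fintype F]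

local notation "n4" => (Fin 2 ⊕ Fin 2)

/-- The symplectic form. -/
noncomputable def frm : LinearMap.BilinForm F (n4 → F) := Matrix.toBilin' (Matrix.J (Fin 2) F)

theorem frm_apply (v w : n4 → F) : frm v w = dotProduct v ((Matrix.J (Fin 2) F).mulVec w) :=
  Matrix.toBilin'_apply' _ _ _

theorem frm_skew (v w : n4 → F) : frm v w = -frm w v := by
  rw [frm_apply, frm_apply, Matrix.dotProduct_mulVec w, ← Matrix.mulVec_transpose,
    Matrix.J_transpose, Matrix.neg_mulVec, neg_dotProduct, neg_neg, dotProduct_comm]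

theorem frm_nondeg (v : n4 → F) (h : ∀ w, frm v w = 0) : v = 0 := by
  funext i
  have h1 := h ((-Matrix.J (Fin 2) F).mulVec (Pi.single i 1))
  rw [frm_apply, Matrix.mulVec_mulVec, Matrix.mul_neg, Matrix.J_squared, neg_neg,
    Matrix.one_mulVec, dotProduct_single_one] at h1
  exact h1

theorem frm_invariant (T : Matrix n4 n4 F) (hT : T ∈ Matrix.symplecticGroup (Fin 2) F)
    (v w : n4 → F) : frm (Matrix.toLin' T v) (Matrix.toLin' T w) = frm v w := by
  rw [SymplecticGroup.mem_iff'] at hT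
  rw [frm_apply, frm_apply, Matrix.toLin'_apply, Matrix.toLin'_apply,
    ← Matrix.vecMul_transpose, ← Matrix.dotProduct_mulVec, Matrix.mulVec_mulVec,
    Matrix.mulVec_mulVec, hT]

theorem bridge (hF : Fintype.card F = 3) (T S : Matrix.symplecticGroup (Fin 2) F)
    (hT3 : T ^ 3 = 1) (hT1 : T ≠ 1) (hST : S * T = T⁻¹ * S) :
    Module.finrank F ↥(LinearMap.ker (Matrix.toLin' (T : Matrix n4 n4 F) - LinearMap.id)) = 2 ∧
      ∀ v w : n4 → F, (T : Matrix n4 n4 F).mulVec v = v → (T : Matrix n4 n4 F).mulVec w = w →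
        dotProduct v ((Matrix.J (Fin 2) F).mulVec w) = 0 := by
  have hV : Module.finrank F (n4 → F) = 4 := by
    rw [Module.finrank_fintype_fun_eq_card]
    rfl
  have hinv : T⁻¹ = T ^ 2 := by
    rw [inv_eq_iff_eq_inv, ← mul_eq_one_iff_eq_inv, ← pow_succ', hT3]
  rw [hinv] at hST
  have hT3' : (T : Matrix n4 n4 F) ^ 3 = 1 := by
    have := congrArg (fun A : Matrix.symplecticGroup (Fin 2) F => (A : Matrix n4 n4 F)) hT3
    simpa using this
  have hST' : (S : Matrix n4 n4 F) * (T : Matrix n4 n4 F)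
      = (T : Matrix n4 n4 F) ^ 2 * (S : Matrix n4 n4 F) := by
    have := congrArg (fun A : Matrix.symplecticGroup (Fin 2) F => (A : Matrix n4 n4 F)) hST
    simpa using this
  have hT1' : (T : Matrix n4 n4 F) ≠ 1 := by
    intro h
    apply hT1
    apply Subtype.ext
    exact h
  have key := main (V := n4 → F) hF hV frm frm_skew frm_nondeg
    (Matrix.toLin' (T : Matrix n4 n4 F)) (Matrix.toLin' (S : Matrix n4 n4 F)) ?_ ?_
    (frm_invariant _ T.2) (frm_invariant _ S.2) ?_
  · obtain ⟨k1, k2⟩ := key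
    refine ⟨k1, ?_⟩
    intro v w hv hw
    rw [← frm_apply]
    apply k2
    · rw [LinearMap.mem_ker, LinearMap.sub_apply, Matrix.toLin'_apply, hv]
      simp
    · rw [LinearMap.mem_ker, LinearMap.sub_apply, Matrix.toLin'_apply, hw]
      simp
  · rw [pow_succ, pow_two, Module.End.mul_eq_comp, Module.End.mul_eq_comp,
      ← Matrix.toLin'_mul, ← Matrix.toLin'_mul, ← pow_two, ← pow_succ, hT3', Matrix.toLin'_one]
    rfl
  · intro h
    apply hT1'
    apply Matrix.toLin'.injective
    rw [h, Matrix.toLin'_one]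
    rfl
  · rw [pow_two, Module.End.mul_eq_comp, Module.End.mul_eq_comp, Module.End.mul_eq_comp,
      ← Matrix.toLin'_mul, ← Matrix.toLin'_mul, ← Matrix.toLin'_mul, hST', pow_two]

end Bridge

end Cfsg.Agent.Lib.Helper8.SPX
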