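import Mathlib
import Cfsg.Prelude.Def_Transfer

/-!
# `G = N ⋊ P`, `N` elementary abelian of odd order and the unique minimal normal subgroup,
`P ≠ 1` a `2`-group: a central involution of `P` inverts `N`
-/

set_option autoImplicit false

namespace Cfsg.Agent.Lib.Helper8.SR

open Cfsg

variable {G : Type*} [Group G]

theorem normal_of_le_normalizer {N P J : Subgroup G} (hprod : N ⊔ P = ⊤)
    (hN : N ≤ Subgroup.normalizer (J : Set G)) (hP : P ≤ Subgroup.normalizer (J : Set G)) : J.Normal := by
  rw [← Subgroup.normalizer_eq_top_iff, eq_top_iff, ← hprod]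
  exact sup_le hN hP

theorem exists_inverting_involution [Finite G] (N P : Subgroup G) (hN : N.Normal) (q : ℕ) [Fact q.Prime]
    (hNel : IsElementaryAbelian q N) (hP : IsPGroup 2 ↥P) (hP1 : P ≠ ⊥)
    (hdisj : N ⊓ P = ⊥) (hprod : N ⊔ P = ⊤)
    (hmin : N ≠ ⊥ ∧ ∀ M : Subgroup G, M.Normal → M ≠ ⊥ → N ≤ M) :
    ∃ z : G, z ∈ P ∧ z * z = 1 ∧ (∀ p ∈ P, p * z = z * p) ∧ ∀ n ∈ N, z * n * z⁻¹ = n⁻¹ := by
  classical
  haveI : Fact (Nat.Prime 2) := ⟨Nat.prime_two⟩
  have hcomm : ∀ a ∈ N, ∀ b ∈ N, a * b = b * a := by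
    intro a ha b hb
    have := hNel.1.is_comm.comm (⟨a, ha⟩ : N) ⟨b, hb⟩
    exact congrArg Subtype.val this
  haveI : Nontrivial P := (Subgroup.nontrivial_iff_ne_bot P).2 hP1
  haveI : Nontrivial (Subgroup.center P) := hP.center_nontrivial
  have h2 : 2 ∣ Nat.card (Subgroup.center P) := by
    obtain ⟨k, hk⟩ := (hP.to_subgroup (Subgroup.center P)).exists_card_eq
    have hk0 : k ≠ 0 := by
      rintro rfl
      rw [pow_zero] at hk
      have := Finite.one_lt_card (α := Subgroup.center P)
      omega
    rw [hk]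
    exact dvd_pow_self 2 hk0
  obtain ⟨c, hc⟩ := exists_prime_orderOf_dvd_card' 2 h2
  set z : G := ((c : P) : G) with hz
  have hzP : z ∈ P := (c : P).2
  have hzo : orderOf z = 2 := by
    rw [hz, Subgroup.orderOf_coe, Subgroup.orderOf_coe]
    exact hc
  have hzz : z * z = 1 := by
    rw [← pow_two, ← hzo]
    exact pow_orderOf_eq_one z
  have hz1 : z ≠ 1 := by
    intro h
    rw [h, orderOf_one] at hzo
    omega
  have hzinv : z⁻¹ = z := inv_eq_of_mul_eq_one_left hzz
  have hzc : ∀ p ∈ P, p * z = z * p := by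
    intro p hp
    have := Subgroup.mem_center_iff.1 c.2 ⟨p, hp⟩
    exact congrArg Subtype.val this
  refine ⟨z, hzP, hzz, hzc, ?_⟩
  -- the fixed points of `z` on `N`
  set J : Subgroup G := N ⊓ Subgroup.centralizer {z} with hJ
  have hJN : J ≤ N := inf_le_left
  have hJnormal : J.Normal := by
    apply normal_of_le_normalizer hprod
    · intro n hn
      rw [Subgroup.mem_normalizer_iff]
      intro j
      have key : ∀ j ∈ N, n * j * n⁻¹ = j := by
        intro j hj
        rw [hcomm n hn j hj, mul_inv_cancel_right]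
      constructor
      · intro hj
        rw [key j (hJN hj)]
        exact hj
      · intro hj
        have h1 : n * j * n⁻¹ ∈ N := hJN hj
        have h2 : j ∈ N := by
          have := N.mul_mem (N.mul_mem (N.inv_mem hn) h1) hn
          simpa [mul_assoc] using this
        rw [key j h2] at hj
        exact hj
    · intro p hp
      rw [Subgroup.mem_normalizer_iff]
      have hpz : p * z = z * p := hzc p hp
      have hpz' : p⁻¹ * z = z * p⁻¹ := hzc p⁻¹ (P.inv_mem hp)
      intro j
      constructor
      · intro hj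
        refine Subgroup.mem_inf.2 ⟨hN.conj_mem j hj.1 p, ?_⟩
        rw [Subgroup.mem_centralizer_singleton_iff]
        have hjz : j * z = z * j := Subgroup.mem_centralizer_singleton_iff.1 hj.2
        calc p * j * p⁻¹ * z = p * j * (p⁻¹ * z) := by group
          _ = p * j * (z * p⁻¹) := by rw [hpz']
          _ = p * (j * z) * p⁻¹ := by group
          _ = p * (z * j) * p⁻¹ := by rw [hjz]
          _ = (p * z) * j * p⁻¹ := by group
          _ = (z * p) * j * p⁻¹ := by rw [hpz]
          _ = z * (p * j * p⁻¹) := by group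
      · intro hj
        have h1 : j ∈ N := by
          have := hN.conj_mem _ hj.1 p⁻¹
          simpa [mul_assoc] using this
        refine Subgroup.mem_inf.2 ⟨h1, ?_⟩
        rw [Subgroup.mem_centralizer_singleton_iff]
        have hjz : p * j * p⁻¹ * z = z * (p * j * p⁻¹) :=
          Subgroup.mem_centralizer_singleton_iff.1 hj.2
        have e1 : j * z = p⁻¹ * (p * j * p⁻¹ * z) * p := by
          calc j * z = p⁻¹ * (p * j * (z * p⁻¹)) * p := by group
            _ = p⁻¹ * (p * j * (p⁻¹ * z)) * p := by rw [hpz']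
            _ = p⁻¹ * (p * j * p⁻¹ * z) * p := by group
        rw [e1, hjz]
        calc p⁻¹ * (z * (p * j * p⁻¹)) * p = (p⁻¹ * z) * p * j := by group
          _ = (z * p⁻¹) * p * j := by rw [hpz']
          _ = z * j := by group
  by_cases hJ0 : J = ⊥
  · intro n hn
    have h1 : n * (z * n * z⁻¹) ∈ J := by
      refine Subgroup.mem_inf.2 ⟨N.mul_mem hn (hN.conj_mem n hn z), ?_⟩
      rw [Subgroup.mem_centralizer_singleton_iff]
      have hc' := hcomm n hn (z * n * z⁻¹) (hN.conj_mem n hn z)
      calc n * (z * n * z⁻¹) * z = (z * n * z⁻¹) * n * z := by rw [hc']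
        _ = z * n * (z⁻¹ * n * z) := by group
        _ = z * n * (z * n * z⁻¹) := by rw [hzinv]
        _ = z * (n * (z * n * z⁻¹)) := by group
    rw [hJ0, Subgroup.mem_bot] at h1
    exact eq_inv_of_mul_eq_one_right h1
  · exfalso
    have hNJ : N ≤ J := hmin.2 J hJnormal hJ0
    -- `z` is central in `G`
    have hcent : Subgroup.centralizer {z} = ⊤ := by
      rw [eq_top_iff, ← hprod]
      apply sup_le
      · exact fun n hn => (hNJ hn).2
      · intro p hp
        rw [Subgroup.mem_centralizer_singleton_iff]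
        exact hzc p hp
    have hzcent : ∀ g : G, g * z = z * g := by
      intro g
      have : g ∈ Subgroup.centralizer {z} := by rw [hcent]; trivial
      exact Subgroup.mem_centralizer_singleton_iff.1 this
    have hZn : (Subgroup.zpowers z).Normal := by
      constructor
      intro x hx g
      obtain ⟨k, rfl⟩ := Subgroup.mem_zpowers_iff.1 hx
      have : g * z ^ k * g⁻¹ = z ^ k := by
        have hcm : Commute g z := hzcent g
        rw [(hcm.zpow_right k).eq, mul_inv_cancel_right]
      rw [this]
      exact Subgroup.zpow_mem_zpowers z k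
    have hZ0 : Subgroup.zpowers z ≠ ⊥ := by
      intro h
      apply hz1
      have : z ∈ Subgroup.zpowers z := Subgroup.mem_zpowers z
      rw [h, Subgroup.mem_bot] at this
      exact this
    have hNZ : N ≤ Subgroup.zpowers z := hmin.2 _ hZn hZ0
    have hZP : Subgroup.zpowers z ≤ P := (Subgroup.zpowers_le).2 hzP
    apply hmin.1
    rw [eq_bot_iff, ← hdisj]
    exact le_inf le_rfl (hNZ.trans hZP)

end Cfsg.Agent.Lib.Helper8.SR
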