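import Mathlib
import Cfsg.Prelude.Def_Characters
import Cfsg.Agent.Lib.Helper2.LinExt

/-!
# The inertia group of a nontrivial linear character of `N` inverted by an involution `z`
-/

set_option autoImplicit false

namespace Cfsg.Agent.Lib.Helper8.SR

open Cfsg Cfsg.Agent.Lib.Helper2

variable {G : Type*} [Group G]

/-- The inertia group of a homomorphism `N →* ℂˣ`. -/
def inertiaHom (N : Subgroup G) [hN : N.Normal] (lam : N →* ℂˣ) : Subgroup G where
  carrier := {g | ∀ n : N, lam ⟨g * n * g⁻¹, hN.conj_mem n n.2 g⟩ = lam n}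
  one_mem' := by
    intro n
    congr 1
    apply Subtype.ext
    simp
  mul_mem' := by
    intro a b ha hb n
    have h1 := hb n
    have h2 := ha ⟨b * n * b⁻¹, hN.conj_mem n n.2 b⟩
    rw [← h1, ← h2]
    congr 1
    apply Subtype.ext
    simp [mul_assoc]
  inv_mem' := by
    intro a ha n
    have h1 := ha ⟨a⁻¹ * n * a⁻¹⁻¹, hN.conj_mem n n.2 a⁻¹⟩
    rw [← h1]
    congr 1
    apply Subtype.ext
    simp [mul_assoc]

theorem mem_inertiaHom {N : Subgroup G} [hN : N.Normal] {lam : N →* ℂˣ} {g : G} :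
    g ∈ inertiaHom N lam ↔ ∀ n : N, lam ⟨g * n * g⁻¹, hN.conj_mem n n.2 g⟩ = lam n := Iff.rfl

/-- The data. -/
structure Setup (N : Subgroup G) [hN : N.Normal] (z : G) (q : ℕ) (lam : N →* ℂˣ) : Prop where
  comm : ∀ a ∈ N, ∀ b ∈ N, a * b = b * a
  exp : ∀ a ∈ N, a ^ q = 1
  qodd : Odd q
  idx : ∃ k : ℕ, N.index = 2 ^ k
  zz : z * z = 1
  zinv : ∀ n ∈ N, z * n * z⁻¹ = n⁻¹
  lam_ne : lam ≠ 1

namespace Setup

variable {N : Subgroup G} [hN : N.Normal] {z : G} {q : ℕ} {lam : N →* ℂˣ}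

theorem z_inv (h : Setup N z q lam) : z⁻¹ = z := inv_eq_of_mul_eq_one_left h.zz

theorem le_inertia (h : Setup N z q lam) : N ≤ inertiaHom N lam := by
  intro a ha n
  congr 1
  apply Subtype.ext
  show a * n * a⁻¹ = n
  rw [h.comm a ha n n.2, mul_inv_cancel_right]

theorem lam_pow (h : Setup N z q lam) (n : N) : lam n ^ q = 1 := by
  rw [← map_pow]
  have : n ^ q = 1 := Subtype.ext (by simpa using h.exp n n.2)
  rw [this, map_one]

theorem lam_conj_z (h : Setup N z q lam) (n : N) :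
    lam ⟨z * n * z⁻¹, hN.conj_mem n n.2 z⟩ = (lam n)⁻¹ := by
  rw [← map_inv]
  congr 1
  apply Subtype.ext
  exact h.zinv n n.2

/-- An element of `ℂˣ` with `u ^ q = 1` (`q` odd) and `u ^ 2 = 1` is `1`. -/
theorem eq_one_of_pow (h : Setup N z q lam) {u : ℂˣ} (h1 : u ^ q = 1) (h2 : u ^ 2 = 1) :
    u = 1 := by
  obtain ⟨k, hk⟩ := h.qodd
  rw [hk, pow_succ, pow_mul, h2, one_pow, one_mul] at h1
  exact h1

theorem z_notMem (h : Setup N z q lam) : z ∉ inertiaHom N lam := by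
  intro hz
  apply h.lam_ne
  ext n
  have h1 := hz n
  rw [h.lam_conj_z n] at h1
  have h2 : lam n ^ 2 = 1 := by
    rw [pow_two]
    nth_rewrite 1 [← h1]
    exact inv_mul_cancel _
  rw [h.eq_one_of_pow (h.lam_pow n) h2]
  rfl

/-- `z` normalizes the inertia group. -/
theorem conj_z_mem (h : Setup N z q lam) {t : G} (ht : t ∈ inertiaHom N lam) :
    z * t * z⁻¹ ∈ inertiaHom N lam := by
  intro n
  -- `m = z⁻¹ n z`
  have hm : z⁻¹ * n * z ∈ N := by
    have := hN.conj_mem n n.2 z⁻¹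
    simpa using this
  have e1 : (⟨z * t * z⁻¹ * n * (z * t * z⁻¹)⁻¹, hN.conj_mem n n.2 _⟩ : N) =
      ⟨z * (⟨t * (⟨z⁻¹ * n * z, hm⟩ : N) * t⁻¹, hN.conj_mem _ hm t⟩ : N) * z⁻¹,
        hN.conj_mem _ (hN.conj_mem _ hm t) z⟩ := by
    apply Subtype.ext
    show z * t * z⁻¹ * n * (z * t * z⁻¹)⁻¹ = z * (t * (z⁻¹ * n * z) * t⁻¹) * z⁻¹
    group
  rw [e1, h.lam_conj_z, ht ⟨z⁻¹ * n * z, hm⟩]
  have e2 : (⟨z⁻¹ * n * z, hm⟩ : N) = n⁻¹ := by
    apply Subtype.ext
    show z⁻¹ * n * z = ((n⁻¹ : N) : G)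
    have := h.zinv n n.2
    rw [h.z_inv]
    nth_rewrite 2 [← h.z_inv]
    rw [this]
    rfl
  rw [e2, map_inv, inv_inv]

theorem index_even (h : Setup N z q lam) [Finite G] : 2 ∣ (inertiaHom N lam).index := by
  obtain ⟨k, hk⟩ := h.idx
  have hdvd : (inertiaHom N lam).index ∣ 2 ^ k := by
    rw [← hk]
    exact Subgroup.index_dvd_of_le h.le_inertia
  obtain ⟨j, -, hj⟩ := (Nat.dvd_prime_pow Nat.prime_two).1 hdvd
  rw [hj]
  have hj0 : j ≠ 0 := by
    rintro rfl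
    rw [pow_zero] at hj
    have := Subgroup.index_eq_one.1 hj
    exact h.z_notMem (this ▸ Subgroup.mem_top z)
  exact dvd_pow_self 2 hj0

end Setup

end Cfsg.Agent.Lib.Helper8.SR
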