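import Mathlib
import Cfsg.Prelude.Def_Characters
import Cfsg.Agent.Lib.Helper8.SR3
import Cfsg.Agent.Lib.Helper1.LinearChar
import Cfsg.Agent.Lib.Helper4.Characters
import Cfsg.Agent.S0146
import Cfsg.Agent.S1489

/-!
# The extension of `λ` to its inertia group and the induced irreducible character
-/

set_option autoImplicit false

namespace Cfsg.Agent.Lib.Helper8.SR

open Cfsg Cfsg.Agent.Lib.Helper1 Cfsg.Agent.Lib.Helper2.LinExt Cfsg.Agent.Lib.Helper4

variable {G : Type*} [Group G]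

/-- `N ∩ T → N`. -/
def subIncl (N T : Subgroup G) : N.subgroupOf T →* N where
  toFun x := ⟨((x : T) : G), Subgroup.mem_subgroupOf.mp x.2⟩
  map_one' := rfl
  map_mul' _ _ := rfl

namespace Setup

variable {N : Subgroup G} [hN : N.Normal] {z : G} {q : ℕ} {lam : N →* ℂˣ}

/-- `λ` on `N ∩ T`. -/
def phi (_h : Setup N z q lam) : N.subgroupOf (inertiaHom N lam) →* ℂˣ :=
  lam.comp (subIncl N (inertiaHom N lam))

theorem phi_apply (h : Setup N z q lam) (x : N.subgroupOf (inertiaHom N lam)) :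
    h.phi x = lam ⟨((x : inertiaHom N lam) : G), Subgroup.mem_subgroupOf.mp x.2⟩ := rfl

theorem phi_pow (h : Setup N z q lam) : h.phi ^ q = 1 := by
  ext x
  rw [MonoidHom.pow_apply, phi_apply, h.lam_pow]
  rfl

theorem coprime_of_pow [Finite G] (h : Setup N z q lam) {α : Type*} [Monoid α] {μ : α}
    (hμ : μ ^ q = 1) : Nat.Coprime (N.subgroupOf (inertiaHom N lam)).index (orderOf μ) := by
  obtain ⟨k, hk⟩ := h.idx
  have h1 : (N.subgroupOf (inertiaHom N lam)).index ∣ 2 ^ k := by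
    rw [← hk]
    exact Subgroup.relIndex_dvd_index_of_normal N (inertiaHom N lam)
  have h2 : orderOf μ ∣ q := orderOf_dvd_of_pow_eq_one hμ
  have h3 : Nat.Coprime (2 ^ k) q := by
    apply Nat.Coprime.pow_left
    apply (Nat.Prime.coprime_iff_not_dvd Nat.prime_two).2
    intro hd
    exact (Nat.not_even_iff_odd.2 h.qodd) (even_iff_two_dvd.2 hd)
  exact Nat.Coprime.coprime_dvd_left h1 (Nat.Coprime.coprime_dvd_right h2 h3)

theorem exists_ext [Finite G] (h : Setup N z q lam) :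
    ∃ ψ : inertiaHom N lam →* ℂˣ, (∀ x : N.subgroupOf (inertiaHom N lam), ψ x = h.phi x) ∧
      ψ ^ q = 1 := by
  have hinv : ∀ (t : inertiaHom N lam) (n : N.subgroupOf (inertiaHom N lam)),
      h.phi ⟨t * n * t⁻¹, (inferInstance : (N.subgroupOf (inertiaHom N lam)).Normal).conj_mem
        n n.2 t⟩ = h.phi n := by
    intro t n
    rw [phi_apply, phi_apply]
    exact t.2 ⟨((n : inertiaHom N lam) : G), Subgroup.mem_subgroupOf.mp n.2⟩
  obtain ⟨ψ, hψ, hord⟩ := exists_extension_of_coprime (N.subgroupOf (inertiaHom N lam)) h.phi hinv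
    (h.coprime_of_pow h.phi_pow)
  refine ⟨ψ, hψ, ?_⟩
  have : orderOf ψ ∣ q := by
    rw [hord]
    exact orderOf_dvd_of_pow_eq_one h.phi_pow
  exact orderOf_dvd_iff_pow_eq_one.1 this

/-- Conjugation by `z` on the inertia group. -/
def conjZ (h : Setup N z q lam) : inertiaHom N lam →* inertiaHom N lam where
  toFun t := ⟨z * t * z⁻¹, h.conj_z_mem t.2⟩
  map_one' := by
    apply Subtype.ext
    simp
  map_mul' a b := by
    apply Subtype.ext
    simp [mul_assoc]

theorem ext_conj_z [Finite G] (h : Setup N z q lam) {ψ : inertiaHom N lam →* ℂˣ}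
    (hψ : ∀ x : N.subgroupOf (inertiaHom N lam), ψ x = h.phi x) (hq : ψ ^ q = 1)
    (t : inertiaHom N lam) : ψ ⟨z * t * z⁻¹, h.conj_z_mem t.2⟩ = (ψ t)⁻¹ := by
  have h1 : (ψ.comp h.conjZ) ^ q = 1 := by
    ext t
    rw [MonoidHom.pow_apply, MonoidHom.comp_apply, ← MonoidHom.pow_apply, hq]
    rfl
  have h2 : (ψ⁻¹) ^ q = 1 := by
    ext t
    rw [MonoidHom.pow_apply, MonoidHom.inv_apply, inv_pow, ← MonoidHom.pow_apply, hq]
    simp
  have hres : ∀ n : N.subgroupOf (inertiaHom N lam), (ψ.comp h.conjZ) n = (ψ⁻¹) n := by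
    intro n
    have hmem : h.conjZ (n : inertiaHom N lam) ∈ N.subgroupOf (inertiaHom N lam) := by
      rw [Subgroup.mem_subgroupOf]
      exact hN.conj_mem _ (Subgroup.mem_subgroupOf.mp n.2) z
    have e1 : (ψ.comp h.conjZ) n = ψ ((⟨h.conjZ (n : inertiaHom N lam), hmem⟩ :
        N.subgroupOf (inertiaHom N lam)) : inertiaHom N lam) := rfl
    rw [e1, hψ, phi_apply, MonoidHom.inv_apply, hψ, phi_apply]
    exact h.lam_conj_z ⟨((n : inertiaHom N lam) : G), Subgroup.mem_subgroupOf.mp n.2⟩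
  have := extension_unique_of_coprime (N.subgroupOf (inertiaHom N lam)) (ψ.comp h.conjZ) ψ⁻¹ hres
    (h.coprime_of_pow h1) (h.coprime_of_pow h2)
  have h3 := DFunLike.congr_fun this t
  exact h3

theorem irr_ind [Fintype G] (h : Setup N z q lam) {μ μ' : inertiaHom N lam →* ℂˣ}
    (hμ : ∀ x : N.subgroupOf (inertiaHom N lam), μ x = h.phi x)
    (hμ' : ∀ x : N.subgroupOf (inertiaHom N lam), μ' x = h.phi x) :
    IsIrrCharacter G (indFun (inertiaHom N lam) (fun t => ((μ t : ℂˣ) : ℂ))) ∧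
    (indFun (inertiaHom N lam) (fun t => ((μ t : ℂˣ) : ℂ)) =
      indFun (inertiaHom N lam) (fun t => ((μ' t : ℂˣ) : ℂ)) → μ = μ') := by
  classical
  haveI : Fintype (inertiaHom N lam) := Fintype.ofFinite _
  haveI : Fintype (N.subgroupOf (inertiaHom N lam)) := Fintype.ofFinite _
  set θ : N → ℂ := fun n => ((lam n : ℂˣ) : ℂ) with hθdef
  have hθ : IsIrrCharacter N θ := isIrrCharacter_of_hom lam
  have hT : ∀ g : G, g ∈ inertiaHom N lam ↔
      ∀ n : N, θ ⟨g * n * g⁻¹, hN.conj_mem n n.2 g⟩ = θ n := by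
    intro g
    rw [mem_inertiaHom]
    constructor
    · intro hg n
      simp only [hθdef]
      rw [hg n]
    · intro hg n
      exact Units.ext (hg n)
  have key : ∀ ν : inertiaHom N lam →* ℂˣ,
      (∀ x : N.subgroupOf (inertiaHom N lam), ν x = h.phi x) →
      classInner (indFun (N.subgroupOf (inertiaHom N lam))
        (fun x : N.subgroupOf (inertiaHom N lam) =>
          θ ⟨(x : inertiaHom N lam), Subgroup.mem_subgroupOf.mp x.2⟩))
        (fun t => ((ν t : ℂˣ) : ℂ)) ≠ 0 := by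
    intro ν hν
    rw [Cfsg.Agent.S0146.result _ _ _ (isClassFunction_irr (isIrrCharacter_of_hom ν))]
    have e : (fun x : N.subgroupOf (inertiaHom N lam) =>
        ((ν (x : inertiaHom N lam) : ℂˣ) : ℂ)) =
        (fun x : N.subgroupOf (inertiaHom N lam) =>
          θ ⟨(x : inertiaHom N lam), Subgroup.mem_subgroupOf.mp x.2⟩) := by
      funext x
      rw [hν x, phi_apply]
    rw [e]
    have hirr : IsIrrCharacter (N.subgroupOf (inertiaHom N lam))
        (fun x : N.subgroupOf (inertiaHom N lam) =>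
          θ ⟨(x : inertiaHom N lam), Subgroup.mem_subgroupOf.mp x.2⟩) :=
      isIrrCharacter_of_hom h.phi
    rw [classInner_irr_self hirr]
    exact one_ne_zero
  obtain ⟨h1, h2⟩ := Cfsg.Agent.S1489.result N (inertiaHom N lam) θ hθ hT h.le_inertia
    (fun t => ((μ t : ℂˣ) : ℂ)) (fun t => ((μ' t : ℂˣ) : ℂ)) (isIrrCharacter_of_hom μ)
    (isIrrCharacter_of_hom μ') (key μ hμ) (key μ' hμ')
  refine ⟨h1, fun heq => ?_⟩
  have h3 := h2 heq
  ext t
  have := congrFun h3 t
  exact this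

end Setup

end Cfsg.Agent.Lib.Helper8.SR
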