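import Mathlib
import Cfsg.Prelude.Def_Characters
import Cfsg.Agent.Lib.Helper8.SR2
import Cfsg.Agent.Lib.Helper8.SR4

/-!
# The Frobenius–Schur indicator of the induced character is `1`
-/

set_option autoImplicit false

namespace Cfsg.Agent.Lib.Helper8.SR

open Cfsg Cfsg.Agent.Lib.Helper1 Cfsg.Agent.Lib.Helper2.LinExt Cfsg.Agent.Lib.Helper4

variable {G : Type*} [Group G]

namespace Setup

variable {N : Subgroup G} [hN : N.Normal] {z : G} {q : ℕ} {lam : N →* ℂˣ}

/-- The twisted product `λ · λ^g`. -/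
def twist (_h : Setup N z q lam) (g : G) : N →* ℂˣ :=
  lam * lam.comp (MulAut.conjNormal g : MulAut N).toMonoidHom

theorem twist_apply (h : Setup N z q lam) (g : G) (n : N) :
    h.twist g n = lam n * lam ⟨g * n * g⁻¹, hN.conj_mem n n.2 g⟩ := by
  unfold twist
  rw [MonoidHom.mul_apply, MonoidHom.comp_apply]
  congr 2

theorem twist_eq_one_iff (h : Setup N z q lam) (g : G) :
    h.twist g = 1 ↔ g * z ∈ inertiaHom N lam := by
  have hzi := h.z_inv
  constructor
  · intro hg n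
    have hgn : ∀ m : N, lam ⟨g * m * g⁻¹, hN.conj_mem m m.2 g⟩ = (lam m)⁻¹ := by
      intro m
      have := DFunLike.congr_fun hg m
      rw [twist_apply, MonoidHom.one_apply] at this
      exact eq_inv_of_mul_eq_one_right this
    have e1 : (⟨g * z * n * (g * z)⁻¹, hN.conj_mem n n.2 (g * z)⟩ : N) =
        ⟨g * (⟨z * n * z⁻¹, hN.conj_mem n n.2 z⟩ : N) * g⁻¹, hN.conj_mem _ (hN.conj_mem n n.2 z) g⟩ := by
      apply Subtype.ext
      show g * z * n * (g * z)⁻¹ = g * (z * n * z⁻¹) * g⁻¹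
      group
    rw [e1, hgn, h.lam_conj_z, inv_inv]
  · intro hg
    ext n
    rw [twist_apply, MonoidHom.one_apply]
    have hm : z * n * z⁻¹ ∈ N := hN.conj_mem n n.2 z
    have h1 := hg ⟨z * n * z⁻¹, hm⟩
    have e1 : (⟨g * z * (⟨z * n * z⁻¹, hm⟩ : N) * (g * z)⁻¹, hN.conj_mem _ hm (g * z)⟩ : N) =
        ⟨g * n * g⁻¹, hN.conj_mem n n.2 g⟩ := by
      apply Subtype.ext
      show g * z * (z * n * z⁻¹) * (g * z)⁻¹ = g * n * g⁻¹
      have : g * z * (z * n * z⁻¹) * (g * z)⁻¹ = g * (z * z) * n * (z * z)⁻¹ * g⁻¹ := by group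
      rw [this, h.zz]
      group
    rw [e1, h.lam_conj_z] at h1
    rw [h1]
    simp

section

variable [Fintype G]

theorem ext_mul (h : Setup N z q lam) {ψ : inertiaHom N lam →* ℂˣ}
    (hψ : ∀ x : N.subgroupOf (inertiaHom N lam), ψ x = h.phi x) (n : N) (y : G) :
    extendByZero (inertiaHom N lam) (fun t => ((ψ t : ℂˣ) : ℂ)) ((n : G) * y) =
      ((lam n : ℂˣ) : ℂ) * extendByZero (inertiaHom N lam) (fun t => ((ψ t : ℂˣ) : ℂ)) y := by
  have hnT : (n : G) ∈ inertiaHom N lam := h.le_inertia n.2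
  by_cases hy : y ∈ inertiaHom N lam
  · rw [extendByZero_of_mem _ _ hy, extendByZero_of_mem _ _ (Subgroup.mul_mem _ hnT hy)]
    have e1 : (⟨(n : G) * y, Subgroup.mul_mem _ hnT hy⟩ : inertiaHom N lam) =
        ⟨n, hnT⟩ * ⟨y, hy⟩ := rfl
    rw [e1, map_mul, Units.val_mul]
    congr 2
    have hmem : (⟨(n : G), hnT⟩ : inertiaHom N lam) ∈ N.subgroupOf (inertiaHom N lam) := by
      rw [Subgroup.mem_subgroupOf]
      exact n.2
    have := hψ ⟨⟨(n : G), hnT⟩, hmem⟩
    rw [phi_apply] at this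
    exact this
  · have hy' : (n : G) * y ∉ inertiaHom N lam := by
      intro hcon
      apply hy
      have := Subgroup.mul_mem _ (Subgroup.inv_mem _ hnT) hcon
      simpa using this
    rw [extendByZero_of_notMem _ _ hy, extendByZero_of_notMem _ _ hy', mul_zero]

/-- The value at the square of an element of `T z`. -/
theorem sq_value [Finite G] (h : Setup N z q lam) {ψ : inertiaHom N lam →* ℂˣ}
    (hψ : ∀ x : N.subgroupOf (inertiaHom N lam), ψ x = h.phi x) (hq : ψ ^ q = 1) {g : G}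
    (hg : g * z ∈ inertiaHom N lam) :
    extendByZero (inertiaHom N lam) (fun t => ((ψ t : ℂˣ) : ℂ)) (g * g) = 1 := by
  have hzi := h.z_inv
  have e1 : g * g = (g * z) * (z * (g * z) * z⁻¹) := by
    have : (g * z) * (z * (g * z) * z⁻¹) = g * (z * z) * g * (z * z⁻¹) := by group
    rw [this, h.zz]
    group
  have hmem2 := h.conj_z_mem hg
  rw [e1, extendByZero_of_mem _ _ (Subgroup.mul_mem _ hg hmem2)]
  have e2 : (⟨(g * z) * (z * (g * z) * z⁻¹), Subgroup.mul_mem _ hg hmem2⟩ : inertiaHom N lam) =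
      ⟨g * z, hg⟩ * ⟨z * (g * z) * z⁻¹, hmem2⟩ := rfl
  rw [e2, map_mul, h.ext_conj_z hψ hq ⟨g * z, hg⟩, mul_inv_cancel]
  rfl

end

theorem sum_twist [Fintype G] (h : Setup N z q lam) (g : G) [Fintype N] [Decidable (g * z ∈ inertiaHom N lam)] :
    ∑ n : N, ((h.twist g n : ℂˣ) : ℂ) =
      if g * z ∈ inertiaHom N lam then (Fintype.card N : ℂ) else 0 := by
  split_ifs with hg
  · rw [(h.twist_eq_one_iff g).2 hg]
    exact sum_hom_one
  · apply sum_hom_eq_zero
    intro hcon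
    exact hg ((h.twist_eq_one_iff g).1 hcon)

theorem sum_sq [Fintype G] (h : Setup N z q lam) {ψ : inertiaHom N lam →* ℂˣ}
    (hψ : ∀ x : N.subgroupOf (inertiaHom N lam), ψ x = h.phi x) (hq : ψ ^ q = 1) :
    ∑ g : G, extendByZero (inertiaHom N lam) (fun t => ((ψ t : ℂˣ) : ℂ)) (g * g) =
      (Nat.card (inertiaHom N lam) : ℂ) := by
  classical
  haveI : Fintype N := Fintype.ofFinite _
  haveI : Fintype (inertiaHom N lam) := Fintype.ofFinite _
  set F : G → ℂ := fun g => extendByZero (inertiaHom N lam) (fun t => ((ψ t : ℂˣ) : ℂ)) (g * g)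
    with hF
  have h1 : ∀ g : G, ∑ n : N, F ((n : G) * g) = F g * ∑ n : N, ((h.twist g n : ℂˣ) : ℂ) := by
    intro g
    rw [Finset.mul_sum]
    refine Finset.sum_congr rfl fun n _ => ?_
    have hm : g * n * g⁻¹ ∈ N := hN.conj_mem n n.2 g
    have e1 : (n : G) * g * ((n : G) * g) = ((n * ⟨g * n * g⁻¹, hm⟩ : N) : G) * (g * g) := by
      show (n : G) * g * ((n : G) * g) = (n : G) * (g * n * g⁻¹) * (g * g)
      group
    simp only [hF]
    rw [e1, h.ext_mul hψ, twist_apply, map_mul, mul_comm]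
  have h2 : (Fintype.card N : ℂ) * ∑ g : G, F g = ∑ g : G, ∑ n : N, F ((n : G) * g) := by
    rw [Finset.sum_comm]
    have : ∀ n : N, ∑ g : G, F ((n : G) * g) = ∑ g : G, F g := by
      intro n
      exact Equiv.sum_comp (Equiv.mulLeft (n : G)) F
    rw [Finset.sum_congr rfl (fun n _ => this n), Finset.sum_const, Finset.card_univ, nsmul_eq_mul]
  have h3 : ∑ g : G, ∑ n : N, F ((n : G) * g) =
      ∑ g : G, if g * z ∈ inertiaHom N lam then (Fintype.card N : ℂ) else 0 := by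
    refine Finset.sum_congr rfl fun g _ => ?_
    rw [h1 g, h.sum_twist g]
    split_ifs with hg
    · simp only [hF]
      rw [h.sq_value hψ hq hg, one_mul]
    · rw [mul_zero]
  have h4 : ∑ g : G, (if g * z ∈ inertiaHom N lam then (Fintype.card N : ℂ) else 0) =
      (Fintype.card N : ℂ) * (Nat.card (inertiaHom N lam) : ℂ) := by
    have := Equiv.sum_comp (Equiv.mulRight z)
      (fun g : G => if g ∈ inertiaHom N lam then (Fintype.card N : ℂ) else 0)
    simp only [Equiv.coe_mulRight] at this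
    refine this.trans ?_
    rw [Finset.sum_ite, Finset.sum_const, Finset.sum_const_zero, add_zero, nsmul_eq_mul,
      mul_comm]
    congr 2
    rw [Nat.card_eq_fintype_card, Fintype.card_subtype]
  have hN0 : (Fintype.card N : ℂ) ≠ 0 := by
    exact_mod_cast Fintype.card_ne_zero
  have h5 : (Fintype.card N : ℂ) * ∑ g : G, F g =
      (Fintype.card N : ℂ) * (Nat.card (inertiaHom N lam) : ℂ) := by
    rw [h2, h3, h4]
  exact mul_left_cancel₀ hN0 h5

/-- The Frobenius–Schur indicator of the induced character is `1`. -/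
theorem fs_ind [Fintype G] (h : Setup N z q lam) {ψ : inertiaHom N lam →* ℂˣ}
    (hψ : ∀ x : N.subgroupOf (inertiaHom N lam), ψ x = h.phi x) (hq : ψ ^ q = 1) :
    (Nat.card G : ℂ)⁻¹ *
      ∑ g : G, indFun (inertiaHom N lam) (fun t => ((ψ t : ℂˣ) : ℂ)) (g * g) = 1 := by
  rw [sum_indFun_sq, h.sum_sq hψ hq]
  have hG0 : (Nat.card G : ℂ) ≠ 0 := Nat.cast_ne_zero.2 Nat.card_pos.ne'
  have hT0 : (Nat.card (inertiaHom N lam) : ℂ) ≠ 0 := Nat.cast_ne_zero.2 Nat.card_pos.ne'
  field_simp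

end Setup

end Cfsg.Agent.Lib.Helper8.SR
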