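import Mathlib
import Cfsg.Prelude.Def_Characters
import Cfsg.Prelude.Def_Blocks
import Cfsg.Agent.Lib.Helper8.SR5
import Cfsg.Agent.Lib.Helper8.Deflation
import Cfsg.Agent.Lib.Helper1.CharFound6
import Cfsg.Agent.S0148
import Cfsg.Agent.S0170

/-!
# Twisting the induced character by real linear characters
-/

set_option autoImplicit false

namespace Cfsg.Agent.Lib.Helper8.SR

open Cfsg Cfsg.Agent.Lib.Helper1 Cfsg.Agent.Lib.Helper2.LinExt Cfsg.Agent.Lib.Helper4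
  Cfsg.Agent.Lib.Helper8

variable {G : Type*} [Group G]

/-- Distinct linear irreducible constituents of multiplicity one: their number is at most the
degree. -/
theorem card_le_of_mult_one [Fintype G] {Ψ : G → ℂ} (hΨ : IsCharacter G Ψ) {d : ℕ}
    (hd : Ψ 1 = (d : ℂ)) (F : Finset (IrrCharacter G))
    (hF : ∀ κ ∈ F, classInner Ψ (κ : G → ℂ) = 1 ∧ (κ : G → ℂ) 1 = 1) : F.card ≤ d := by
  classical
  haveI : Fintype (IrrCharacter G) := Fintype.ofFinite _
  have hexp := class_function_expansion Ψ (isClassFunction_of_isCharacter hΨ)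
  have h1 := congrFun hexp 1
  rw [hd, Finset.sum_apply] at h1
  choose m hm using fun χ : IrrCharacter G => classInner_char_nat hΨ (isCharacter_of_irr χ.2)
  have h2 : (d : ℂ) = ((∑ χ : IrrCharacter G, m χ * charDegree (χ : G → ℂ) : ℕ) : ℂ) := by
    rw [h1]
    push_cast
    refine Finset.sum_congr rfl fun χ _ => ?_
    rw [Pi.smul_apply, hm χ, (irr_apply_one_eq_charDegree χ.2).1, smul_eq_mul]
  have h3 : d = ∑ χ : IrrCharacter G, m χ * charDegree (χ : G → ℂ) := by exact_mod_cast h2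
  rw [h3]
  calc F.card = ∑ χ ∈ F, 1 := by simp
    _ ≤ ∑ χ ∈ F, m χ * charDegree (χ : G → ℂ) := by
        apply Finset.sum_le_sum
        intro κ hκ
        obtain ⟨e1, e2⟩ := hF κ hκ
        have hm1 : m κ = 1 := by
          have := hm κ
          rw [e1] at this
          exact_mod_cast this.symm
        have hd1 : charDegree (κ : G → ℂ) = 1 := by
          have := (irr_apply_one_eq_charDegree κ.2).1
          rw [e2] at this
          exact_mod_cast this.symm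
        rw [hm1, hd1]
    _ ≤ ∑ χ : IrrCharacter G, m χ * charDegree (χ : G → ℂ) :=
        Finset.sum_le_sum_of_subset (Finset.subset_univ F)

namespace Setup

variable {N : Subgroup G} [hN : N.Normal] {z : G} {q : ℕ} {lam : N →* ℂˣ}

theorem real_hom_restrict (h : Setup N z q lam) {f : G →* ℂˣ} (hf : ∀ g : G, f g ^ 2 = 1)
    (n : N) : f n = 1 := by
  apply h.eq_one_of_pow _ (hf n)
  rw [← map_pow, h.exp n n.2, map_one]

/-- `f|_T · ψ`. -/
def twistHom (_h : Setup N z q lam) (f : G →* ℂˣ) (ψ : inertiaHom N lam →* ℂˣ) :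
    inertiaHom N lam →* ℂˣ :=
  f.comp (inertiaHom N lam).subtype * ψ

theorem twistHom_apply (h : Setup N z q lam) (f : G →* ℂˣ) (ψ : inertiaHom N lam →* ℂˣ)
    (t : inertiaHom N lam) : h.twistHom f ψ t = f t * ψ t := rfl

theorem twistHom_ext (h : Setup N z q lam) {f : G →* ℂˣ} (hf : ∀ g : G, f g ^ 2 = 1)
    {ψ : inertiaHom N lam →* ℂˣ}
    (hψ : ∀ x : N.subgroupOf (inertiaHom N lam), ψ x = h.phi x)
    (x : N.subgroupOf (inertiaHom N lam)) : h.twistHom f ψ x = h.phi x := by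
  rw [twistHom_apply, hψ]
  have := h.real_hom_restrict hf ⟨((x : inertiaHom N lam) : G), Subgroup.mem_subgroupOf.mp x.2⟩
  rw [this, one_mul]

theorem mul_chi0 [Fintype G] (h : Setup N z q lam) (f : G →* ℂˣ)
    (ψ : inertiaHom N lam →* ℂˣ) :
    (fun g => ((f g : ℂˣ) : ℂ) * indFun (inertiaHom N lam) (fun t => ((ψ t : ℂˣ) : ℂ)) g) =
      indFun (inertiaHom N lam) (fun t => ((h.twistHom f ψ t : ℂˣ) : ℂ)) := by
  rw [mul_indFun]
  · congr 1
  · intro g x
    rw [map_mul, map_mul, map_inv]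
    simp [mul_comm]

theorem indFun_hom_one [Fintype G] (T : Subgroup G) (μ : T →* ℂˣ) :
    indFun T (fun t => ((μ t : ℂˣ) : ℂ)) 1 = (T.index : ℂ) := by
  rw [Cfsg.Agent.S0170.indFun_one, map_one, Units.val_one, mul_one]
  have hT0 : (Nat.card T : ℂ) ≠ 0 := Nat.cast_ne_zero.2 Nat.card_pos.ne'
  have h2 : (Nat.card G : ℂ) = (Nat.card T : ℂ) * (T.index : ℂ) := by
    rw [← Nat.cast_mul, Subgroup.card_mul_index]
  rw [h2]
  field_simp

theorem real_of_fs [Fintype G] {f : G →* ℂˣ}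
    (hf : (Nat.card G : ℂ)⁻¹ * ∑ g : G, ((f (g * g) : ℂˣ) : ℂ) = 1) (g : G) : f g ^ 2 = 1 := by
  by_contra hcon
  have hne : f ^ 2 ≠ 1 := by
    intro h
    apply hcon
    have := DFunLike.congr_fun h g
    rwa [MonoidHom.pow_apply] at this
  have h0 := sum_hom_eq_zero (f ^ 2) hne
  have e : ∑ g : G, ((f (g * g) : ℂˣ) : ℂ) = ∑ a : G, (((f ^ 2) a : ℂˣ) : ℂ) := by
    refine Finset.sum_congr rfl fun a _ => ?_
    rw [MonoidHom.pow_apply, map_mul, pow_two]
  rw [e, h0, mul_zero] at hf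
  exact zero_ne_one hf

theorem irr_twist [Fintype G] (h : Setup N z q lam) {f : G →* ℂˣ} (hf : ∀ g : G, f g ^ 2 = 1)
    {ψ : inertiaHom N lam →* ℂˣ}
    (hψ : ∀ x : N.subgroupOf (inertiaHom N lam), ψ x = h.phi x) :
    IsIrrCharacter G
      (fun g => ((f g : ℂˣ) : ℂ) * indFun (inertiaHom N lam) (fun t => ((ψ t : ℂˣ) : ℂ)) g) := by
  rw [h.mul_chi0]
  exact (h.irr_ind (h.twistHom_ext hf hψ) hψ).1

theorem deg_twist [Fintype G] (_h : Setup N z q lam) (f : G →* ℂˣ)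
    (ψ : inertiaHom N lam →* ℂˣ) :
    ((f 1 : ℂˣ) : ℂ) * indFun (inertiaHom N lam) (fun t => ((ψ t : ℂˣ) : ℂ)) 1 =
      ((inertiaHom N lam).index : ℂ) := by
  rw [map_one, Units.val_one, one_mul, indFun_hom_one]

theorem fs_twist [Fintype G] (h : Setup N z q lam) {f : G →* ℂˣ} (hf : ∀ g : G, f g ^ 2 = 1)
    {ψ : inertiaHom N lam →* ℂˣ}
    (hψ : ∀ x : N.subgroupOf (inertiaHom N lam), ψ x = h.phi x) (hq : ψ ^ q = 1) :
    (Nat.card G : ℂ)⁻¹ * ∑ g : G, (((f (g * g) : ℂˣ) : ℂ) *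
      indFun (inertiaHom N lam) (fun t => ((ψ t : ℂˣ) : ℂ)) (g * g)) = 1 := by
  rw [← h.fs_ind hψ hq]
  congr 1
  refine Finset.sum_congr rfl fun g _ => ?_
  rw [map_mul, ← pow_two, hf g, Units.val_one, one_mul]

theorem restrict_eq_of_mul_eq [Fintype G] (h : Setup N z q lam) {f f' : G →* ℂˣ}
    (hf : ∀ g : G, f g ^ 2 = 1) (hf' : ∀ g : G, f' g ^ 2 = 1)
    {ψ : inertiaHom N lam →* ℂˣ}
    (hψ : ∀ x : N.subgroupOf (inertiaHom N lam), ψ x = h.phi x)
    (heq : (fun g => ((f g : ℂˣ) : ℂ) *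
        indFun (inertiaHom N lam) (fun t => ((ψ t : ℂˣ) : ℂ)) g) =
      (fun g => ((f' g : ℂˣ) : ℂ) *
        indFun (inertiaHom N lam) (fun t => ((ψ t : ℂˣ) : ℂ)) g))
    (t : inertiaHom N lam) : f t = f' t := by
  rw [h.mul_chi0, h.mul_chi0] at heq
  have h1 := (h.irr_ind (h.twistHom_ext hf hψ) (h.twistHom_ext hf' hψ)).2 heq
  have h2 := DFunLike.congr_fun h1 t
  rw [twistHom_apply, twistHom_apply] at h2
  exact mul_right_cancel h2

theorem fiber_bound [Fintype G] (h : Setup N z q lam) {f₀ : G →* ℂˣ}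
    (hf₀ : ∀ g : G, f₀ g ^ 2 = 1) {ψ : inertiaHom N lam →* ℂˣ}
    (hψ : ∀ x : N.subgroupOf (inertiaHom N lam), ψ x = h.phi x)
    (F : Finset (IrrCharacter G))
    (hF : ∀ κ ∈ F, (κ : G → ℂ) 1 = 1 ∧
      (Nat.card G : ℂ)⁻¹ * ∑ g : G, (κ : G → ℂ) (g * g) = 1 ∧
      (fun g => (κ : G → ℂ) g *
        indFun (inertiaHom N lam) (fun t => ((ψ t : ℂˣ) : ℂ)) g) =
      (fun g => ((f₀ g : ℂˣ) : ℂ) *
        indFun (inertiaHom N lam) (fun t => ((ψ t : ℂˣ) : ℂ)) g)) :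
    F.card ≤ (inertiaHom N lam).index := by
  classical
  haveI : Fintype (inertiaHom N lam) := Fintype.ofFinite _
  set τ : inertiaHom N lam →* ℂˣ := f₀.comp (inertiaHom N lam).subtype with hτ
  have hτirr : IsIrrCharacter (inertiaHom N lam) (fun t => ((τ t : ℂˣ) : ℂ)) :=
    isIrrCharacter_of_hom τ
  have hΨ : IsCharacter G (indFun (inertiaHom N lam) (fun t => ((τ t : ℂˣ) : ℂ))) :=
    Cfsg.Agent.S0148.result _ _ (isCharacter_of_irr hτirr)
  apply card_le_of_mult_one hΨ (indFun_hom_one _ τ) F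
  intro κ hκ
  obtain ⟨h1, h2, h3⟩ := hF κ hκ
  refine ⟨?_, h1⟩
  obtain ⟨f, hfκ⟩ := exists_hom_of_isIrrCharacter κ.2 h1
  have hfreal : ∀ g : G, f g ^ 2 = 1 := by
    apply real_of_fs
    rw [hfκ] at h2
    exact h2
  rw [hfκ] at h3
  have hres := h.restrict_eq_of_mul_eq hfreal hf₀ hψ h3
  rw [Cfsg.Agent.S0146.result _ _ _ (isClassFunction_irr κ.2)]
  have e : (fun t : inertiaHom N lam => (κ : G → ℂ) t) = (fun t => ((τ t : ℂˣ) : ℂ)) := by
    funext t
    rw [hfκ]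
    show ((f t : ℂˣ) : ℂ) = ((f₀ t : ℂˣ) : ℂ)
    rw [hres t]
  rw [e]
  exact classInner_irr_self hτirr

end Setup

end Cfsg.Agent.Lib.Helper8.SR
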