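import Mathlib

/-!
# The counting argument for the average of strongly real degrees
-/

set_option autoImplicit false

namespace Cfsg.Agent.Lib.Helper8.SR

theorem count_main {ι : Type*} [DecidableEq ι] (deg : ι → ℕ) (A B : Finset ι) (f : ι → ι) (m : ℕ)
    (hm : 2 ≤ m) (hA : ∀ a ∈ A, deg a = 1) (hB : ∀ b ∈ B, 2 ≤ deg b)
    (hf : ∀ a ∈ A, f a ∈ B ∧ deg (f a) = m)
    (hfib : ∀ a₀ ∈ A, (A.filter (fun a => f a = f a₀)).card ≤ m) :
    4 * (A.card + B.card) ≤ 3 * (∑ a ∈ A, deg a + ∑ b ∈ B, deg b) := by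
  classical
  set I := A.image f with hI
  have hIB : I ⊆ B := by
    intro b hb
    obtain ⟨a, ha, rfl⟩ := Finset.mem_image.1 hb
    exact (hf a ha).1
  have h1 : A.card ≤ m * I.card := by
    apply Finset.card_le_mul_card_image A m
    intro b hb
    obtain ⟨a₀, ha₀, rfl⟩ := Finset.mem_image.1 hb
    exact hfib a₀ ha₀
  have h2 : ∑ a ∈ A, deg a = A.card := by
    rw [Finset.sum_congr rfl hA, Finset.sum_const, smul_eq_mul, mul_one]
  have h3 : ∑ b ∈ B \ I, deg b + ∑ b ∈ I, deg b = ∑ b ∈ B, deg b := Finset.sum_sdiff hIB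
  have h4 : ∑ b ∈ I, deg b = m * I.card := by
    have : ∀ b ∈ I, deg b = m := by
      intro b hb
      obtain ⟨a, ha, rfl⟩ := Finset.mem_image.1 hb
      exact (hf a ha).2
    rw [Finset.sum_congr rfl this, Finset.sum_const, smul_eq_mul, mul_comm]
  have h5 : 2 * (B \ I).card ≤ ∑ b ∈ B \ I, deg b := by
    have : ∀ b ∈ B \ I, 2 ≤ deg b := fun b hb => hB b (Finset.mem_sdiff.1 hb).1
    calc 2 * (B \ I).card = ∑ b ∈ B \ I, 2 := by
          rw [Finset.sum_const, smul_eq_mul, mul_comm]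
      _ ≤ ∑ b ∈ B \ I, deg b := Finset.sum_le_sum this
  have h6 : (B \ I).card = B.card - I.card := Finset.card_sdiff_of_subset hIB
  have h7 : I.card ≤ B.card := Finset.card_le_card hIB
  have h8 : 2 * I.card ≤ m * I.card := Nat.mul_le_mul_right _ hm
  rw [h2]
  omega

end Cfsg.Agent.Lib.Helper8.SR
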