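import Mathlib
import Cfsg.Agent.Lib.Helper7.SameOrd2

set_option autoImplicit false

/-!
# Counting commuting pairs of elements of coprime orders

`c x m` is the number of elements of order `m` commuting with `x`.  For coprime `k`, `m`
the elements of order `k * m` correspond to the commuting pairs of elements of orders
`k` and `m`.  For a prime `p` not dividing `m` this yields the congruence
`p ∣ s (p * m) + s m` and the bound `2 * s p ≤ s (p * m)` when `p ∤ s m`, `3 ≤ m`.
-/

namespace Cfsg.Agent.Lib.Helper8.SameOrd3V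

open Cfsg.Agent.Lib.Helper7.SameOrd

variable {G : Type*} [Group G] [Finite G]

/-- the number of elements of order `m` commuting with `x` -/
noncomputable def c (x : G) (m : ℕ) : ℕ := Nat.card {y : G // orderOf y = m ∧ Commute x y}

/-- conjugation action of `zpowers x` on the set of elements of order `m` -/
noncomputable instance conjActOrd (x : G) (m : ℕ) :
    MulAction (Subgroup.zpowers x) {y : G // orderOf y = m} where
  smul g y := ⟨(g : G) * y.1 * (g : G)⁻¹, by
    have := (MulAut.conj (g : G)).orderOf_eq y.1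
    rw [MulAut.conj_apply] at this
    rw [this, y.2]⟩
  one_smul y := by
    apply Subtype.ext
    change ((1 : Subgroup.zpowers x) : G) * y.1 * ((1 : Subgroup.zpowers x) : G)⁻¹ = y.1
    simp
  mul_smul g h y := by
    apply Subtype.ext
    change ((g * h : Subgroup.zpowers x) : G) * y.1 * ((g * h : Subgroup.zpowers x) : G)⁻¹ =
      (g : G) * ((h : G) * y.1 * (h : G)⁻¹) * (g : G)⁻¹
    simp [mul_assoc]

omit [Finite G] in
theorem conjActOrd_smul_coe (x : G) (m : ℕ) (g : Subgroup.zpowers x) (y : {y : G // orderOf y = m}) :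
    ((g • y : {y : G // orderOf y = m}) : G) = (g : G) * y.1 * (g : G)⁻¹ := rfl

/-- fixed-point congruence: `c x m ≡ s m (mod p)` for `x` of prime order `p`. -/
theorem c_modEq {p : ℕ} [hp : Fact p.Prime] (x : G) (hx : orderOf x = p) (m : ℕ) :
    s G m ≡ c x m [MOD p] := by
  have hP : IsPGroup p (Subgroup.zpowers x) := by
    apply IsPGroup.of_card (n := 1)
    rw [Nat.card_zpowers, hx, pow_one]
  have h1 := hP.card_modEq_card_fixedPoints {y : G // orderOf y = m}
  have h2 : Nat.card (MulAction.fixedPoints (Subgroup.zpowers x) {y : G // orderOf y = m}) =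
      c x m := by
    unfold c
    refine Nat.card_congr ⟨fun y => ⟨y.1.1, y.1.2, ?_⟩, fun y => ⟨⟨y.1, y.2.1⟩, ?_⟩, ?_, ?_⟩
    · have := y.2 ⟨x, Subgroup.mem_zpowers x⟩
      have h3 := congrArg Subtype.val this
      rw [conjActOrd_smul_coe] at h3
      change x * y.1.1 * x⁻¹ = y.1.1 at h3
      change x * y.1.1 = y.1.1 * x
      calc x * y.1.1 = (x * y.1.1 * x⁻¹) * x := by group
        _ = y.1.1 * x := by rw [h3]
    · intro g
      obtain ⟨g, hg⟩ := g
      apply Subtype.ext
      rw [conjActOrd_smul_coe]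
      change g * y.1 * g⁻¹ = y.1
      have hc : Commute g y.1 := by
        obtain ⟨k, rfl⟩ := Subgroup.mem_zpowers_iff.mp hg
        exact (y.2.2).zpow_left k
      rw [hc.eq, mul_inv_cancel_right]
    · intro y; rfl
    · intro y; rfl
  unfold s
  rw [← h2]
  exact h1

theorem exists_crt {k m : ℕ} (hkm : k.Coprime m) :
    ∃ a b : ℕ, a ≡ 1 [MOD k] ∧ a ≡ 0 [MOD m] ∧ b ≡ 0 [MOD k] ∧ b ≡ 1 [MOD m] := by
  obtain ⟨a, ha1, ha2⟩ := Nat.chineseRemainder hkm 1 0
  obtain ⟨b, hb1, hb2⟩ := Nat.chineseRemainder hkm 0 1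
  exact ⟨a, b, ha1, ha2, hb1, hb2⟩

theorem gcd_crt {k m a : ℕ} (hkm : k.Coprime m) (ha1 : a ≡ 1 [MOD k]) (ha2 : a ≡ 0 [MOD m]) :
    Nat.gcd (k * m) a = m := by
  rw [Nat.gcd_comm, Nat.Coprime.gcd_mul a hkm]
  have h1 : Nat.gcd a k = 1 := by
    rw [Nat.ModEq.gcd_eq ha1]
    exact Nat.gcd_one_left k
  have h2 : Nat.gcd a m = m := Nat.gcd_eq_right ((Nat.modEq_zero_iff_dvd).mp ha2)
  rw [h1, h2, one_mul]

omit [Finite G] in
theorem pow_crt_of_commute {k m a : ℕ} {x y : G} (hxy : Commute x y) (hx : orderOf x = k)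
    (hy : orderOf y = m) (ha1 : a ≡ 1 [MOD k]) (ha2 : a ≡ 0 [MOD m]) : (x * y) ^ a = x := by
  rw [hxy.mul_pow]
  have h1 : x ^ a = x ^ 1 := by
    rw [pow_eq_pow_iff_modEq, hx]; exact ha1
  have h2 : y ^ a = y ^ 0 := by
    rw [pow_eq_pow_iff_modEq, hy]; exact ha2
  rw [h1, h2, pow_one, pow_zero, mul_one]

theorem orderOf_pow_crt {k m a : ℕ} {g : G} (hkm : k.Coprime m) (hg : orderOf g = k * m)
    (ha1 : a ≡ 1 [MOD k]) (ha2 : a ≡ 0 [MOD m]) : orderOf (g ^ a) = k := by
  have hpos : 0 < k * m := by rw [← hg]; exact orderOf_pos g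
  have hm : 0 < m := Nat.pos_of_mul_pos_left hpos
  rw [orderOf_pow, hg, gcd_crt hkm ha1 ha2, Nat.mul_div_cancel _ hm]

omit [Finite G] in
theorem pow_add_crt {k m a b : ℕ} {g : G} (hkm : k.Coprime m) (hg : orderOf g = k * m)
    (ha1 : a ≡ 1 [MOD k]) (ha2 : a ≡ 0 [MOD m]) (hb1 : b ≡ 0 [MOD k]) (hb2 : b ≡ 1 [MOD m]) :
    g ^ a * g ^ b = g := by
  rw [← pow_add]
  have h : g ^ (a + b) = g ^ 1 := by
    rw [pow_eq_pow_iff_modEq, hg]
    rw [← Nat.modEq_and_modEq_iff_modEq_mul hkm]
    exact ⟨by simpa using ha1.add hb1, by simpa using ha2.add hb2⟩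
  rw [h, pow_one]

open Classical in
/-- the elements of order `k * m` (`k`, `m` coprime) correspond to the commuting pairs. -/
theorem s_mul_eq_sum [Fintype G] {k m : ℕ} (hkm : k.Coprime m) :
    s G (k * m) = ∑ x ∈ Finset.univ.filter (fun x : G => orderOf x = k), c x m := by
  obtain ⟨a, b, ha1, ha2, hb1, hb2⟩ := exists_crt hkm
  have hs : s G (k * m) = (Finset.univ.filter fun g : G => orderOf g = k * m).card := by
    unfold s
    rw [Nat.card_eq_fintype_card, Fintype.card_subtype]
  rw [hs, Finset.card_eq_sum_card_fiberwise (f := fun g : G => g ^ a)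
    (t := Finset.univ.filter (fun x : G => orderOf x = k))]
  · apply Finset.sum_congr rfl
    intro x hx
    rw [Finset.mem_filter] at hx
    unfold c
    rw [Nat.card_eq_fintype_card, Fintype.card_subtype]
    apply Finset.card_nbij' (fun g => g ^ b) (fun y => x * y)
    · intro g hg
      have h := Finset.mem_filter.mp (Finset.mem_coe.mp hg)
      have hg1 := (Finset.mem_filter.mp h.1).2
      have hg2 : g ^ a = x := h.2
      apply Finset.mem_coe.mpr
      apply Finset.mem_filter.mpr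
      refine ⟨Finset.mem_univ _, orderOf_pow_crt hkm.symm (by rw [hg1, mul_comm]) hb2 hb1, ?_⟩
      rw [← hg2]
      exact (Commute.refl g).pow_pow a b
    · intro y hy
      obtain ⟨hy1, hy2⟩ := (Finset.mem_filter.mp (Finset.mem_coe.mp hy)).2
      apply Finset.mem_coe.mpr
      apply Finset.mem_filter.mpr
      refine ⟨Finset.mem_filter.mpr ⟨Finset.mem_univ _, ?_⟩,
        pow_crt_of_commute hy2 hx.2 hy1 ha1 ha2⟩
      rw [hy2.orderOf_mul_eq_mul_orderOf_of_coprime (by rw [hx.2, hy1]; exact hkm), hx.2, hy1]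
    · intro g hg
      have h := Finset.mem_filter.mp (Finset.mem_coe.mp hg)
      have hg1 := (Finset.mem_filter.mp h.1).2
      have hg2 : g ^ a = x := h.2
      change x * g ^ b = g
      rw [← hg2]
      exact pow_add_crt hkm hg1 ha1 ha2 hb1 hb2
    · intro y hy
      obtain ⟨hy1, hy2⟩ := (Finset.mem_filter.mp (Finset.mem_coe.mp hy)).2
      change (x * y) ^ b = y
      rw [hy2.eq]
      exact pow_crt_of_commute hy2.symm hy1 hx.2 hb2 hb1
  · intro g hg
    have hg1 := (Finset.mem_filter.mp (Finset.mem_coe.mp hg)).2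
    exact Finset.mem_coe.mpr (Finset.mem_filter.mpr
      ⟨Finset.mem_univ _, orderOf_pow_crt hkm hg1 ha1 ha2⟩)

/-- `p ∣ s p + 1` for a prime divisor `p` of the group order. -/
theorem prime_dvd_s_add_one {p : ℕ} (hp : p.Prime) (hpG : p ∣ Nat.card G) : p ∣ s G p + 1 := by
  have h := frobenius_sum (G := G) p hpG ({1, p} : Finset ℕ) (dvd_sets_prime hp)
  rw [Finset.sum_pair hp.one_lt.ne, s_one] at h
  rwa [add_comm] at h

open Classical in
/-- **K1**: `p ∣ s (p * m) + s m` for a prime `p ∣ |G|` not dividing `m`. -/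
theorem K1 {p m : ℕ} (hp : p.Prime) (hpG : p ∣ Nat.card G) (hpm : p.Coprime m) :
    p ∣ s G (p * m) + s G m := by
  haveI : Fintype G := Fintype.ofFinite G
  have : Fact p.Prime := ⟨hp⟩
  have h1 : s G (p * m) ≡ s G p * s G m [MOD p] := by
    rw [s_mul_eq_sum hpm]
    have h2 : ∀ x ∈ Finset.univ.filter (fun x : G => orderOf x = p), c x m ≡ s G m [MOD p] := by
      intro x hx
      rw [Finset.mem_filter] at hx
      exact (c_modEq x hx.2 m).symm
    have h3 := Nat.ModEq.sum (s := Finset.univ.filter (fun x : G => orderOf x = p)) h2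
    rw [Finset.sum_const, smul_eq_mul] at h3
    have h4 : (Finset.univ.filter (fun x : G => orderOf x = p)).card = s G p := by
      unfold s
      rw [Nat.card_eq_fintype_card, Fintype.card_subtype]
    rwa [h4] at h3
  have h5 : s G (p * m) + s G m ≡ s G p * s G m + s G m [MOD p] := h1.add_right _
  have h6 : p ∣ s G p * s G m + s G m := by
    have : s G p * s G m + s G m = (s G p + 1) * s G m := by ring
    rw [this]
    exact Dvd.dvd.mul_right (prime_dvd_s_add_one hp hpG) _
  exact (Nat.modEq_zero_iff_dvd).mp (h5.trans ((Nat.modEq_zero_iff_dvd).mpr h6))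

/-- a nonzero `c x m` with `3 ≤ m` is at least `2`. -/
theorem two_le_c {x : G} {m : ℕ} (hm : 3 ≤ m) (h : c x m ≠ 0) : 2 ≤ c x m := by
  unfold c at h ⊢
  have hne : Nonempty {y : G // orderOf y = m ∧ Commute x y} := by
    by_contra hcon
    rw [not_nonempty_iff] at hcon
    exact h Nat.card_of_isEmpty
  obtain ⟨⟨y, hy1, hy2⟩⟩ := hne
  have hnt : Nontrivial {y : G // orderOf y = m ∧ Commute x y} := by
    refine ⟨⟨⟨y, hy1, hy2⟩, ⟨y⁻¹, by rw [orderOf_inv, hy1], hy2.inv_right⟩, ?_⟩⟩
    intro heq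
    have h1 : y = y⁻¹ := congrArg Subtype.val heq
    have h2 : y ^ 2 = 1 := by
      rw [pow_two]
      nth_rewrite 1 [h1]
      exact inv_mul_cancel y
    have h3 := orderOf_le_of_pow_eq_one (by norm_num) h2
    omega
  exact Finite.one_lt_card_iff_nontrivial.mpr hnt

open Classical in
/-- **K2**: `2 * s p ≤ s (p * m)` for a prime `p` with `p ∤ m`, `3 ≤ m`, `p ∤ s m`. -/
theorem K2 {p m : ℕ} (hp : p.Prime) (hpm : p.Coprime m) (hm : 3 ≤ m) (hsm : ¬ p ∣ s G m) :
    2 * s G p ≤ s G (p * m) := by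
  haveI : Fintype G := Fintype.ofFinite G
  have : Fact p.Prime := ⟨hp⟩
  rw [s_mul_eq_sum hpm]
  have h4 : (Finset.univ.filter (fun x : G => orderOf x = p)).card = s G p := by
    unfold s
    rw [Nat.card_eq_fintype_card, Fintype.card_subtype]
  rw [← h4, mul_comm, ← smul_eq_mul, ← Finset.sum_const]
  apply Finset.sum_le_sum
  intro x hx
  rw [Finset.mem_filter] at hx
  apply two_le_c hm
  intro h0
  have := c_modEq x hx.2 m
  rw [h0] at this
  exact hsm ((Nat.modEq_zero_iff_dvd).mp this)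

end Cfsg.Agent.Lib.Helper8.SameOrd3V
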