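import Mathlib
import Cfsg.Agent.Lib.Helper8.SameOrd3V1

set_option autoImplicit false

/-!
# Groups whose same-order class sizes (for orders `≥ 3`) take at most two values

`Vals G a b`: every `s m` with `3 ≤ m` is `0`, `a` or `b`.  Under this hypothesis there are
no three odd primes dividing `|G|`; two odd primes exclude elements of order `4`; and if
`a = b` there is at most one odd prime.
-/

namespace Cfsg.Agent.Lib.Helper8.SameOrd3V

open Cfsg.Agent.Lib.Helper7.SameOrd

variable {G : Type*} [Group G] [Finite G]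

/-- every `s m` with `3 ≤ m` is `0`, `a` or `b` -/
def Vals (G : Type*) [Group G] (a b : ℕ) : Prop :=
  ∀ m, 3 ≤ m → s G m = 0 ∨ s G m = a ∨ s G m = b

omit [Finite G] in
theorem Vals.symm {a b : ℕ} (hv : Vals G a b) : Vals G b a := by
  intro m hm
  rcases hv m hm with h | h | h
  · exact Or.inl h
  · exact Or.inr (Or.inr h)
  · exact Or.inr (Or.inl h)

theorem odd_prime_three_le {p : ℕ} (hp : p.Prime) (hp2 : p ≠ 2) : 3 ≤ p := by
  have := hp.two_le
  omega

theorem not_dvd_of_dvd_add_one {p a : ℕ} (hp : p.Prime) (h : p ∣ a + 1) : ¬ p ∣ a := by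
  intro h2
  have := (Nat.dvd_add_right h2).mp h
  exact hp.one_lt.ne' (Nat.dvd_one.mp this)

/-- **P2**: two odd primes with the same number of elements of that order. -/
theorem P2 {a b : ℕ} (hv : Vals G a b) (hab : a ≤ b) {p q : ℕ} (hp : p.Prime) (hq : q.Prime)
    (hp2 : p ≠ 2) (hq2 : q ≠ 2) (hpq : p ≠ q) (hpG : p ∣ Nat.card G) (hqG : q ∣ Nat.card G)
    (heq : s G p = s G q) :
    s G p = a ∧ a < b ∧ s G (p * q) = b ∧ p ∣ a + 1 ∧ p ∣ a + b ∧ q ∣ a + 1 ∧ q ∣ a + b := by
  have hp3 := odd_prime_three_le hp hp2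
  have hq3 := odd_prime_three_le hq hq2
  have hcop : p.Coprime q := (Nat.coprime_primes hp hq).mpr hpq
  have hpos : 0 < s G p := s_prime_pos hp hpG
  have h1 : p ∣ s G p + 1 := prime_dvd_s_add_one hp hpG
  have h1' : q ∣ s G q + 1 := prime_dvd_s_add_one hq hqG
  have h2 : ¬ p ∣ s G q := by rw [← heq]; exact not_dvd_of_dvd_add_one hp h1
  have h3 : 2 * s G p ≤ s G (p * q) := K2 hp hcop hq3 h2
  have hpq3 : 3 ≤ p * q := by nlinarith
  have h4 := K1 (G := G) hp hpG hcop
  have h5 := K1 (G := G) hq hqG hcop.symm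
  rw [mul_comm q p] at h5
  rcases hv p hp3 with h | h | h
  · omega
  · rcases hv (p * q) hpq3 with h' | h' | h'
    · omega
    · omega
    · refine ⟨h, by omega, h', ?_, ?_, ?_, ?_⟩
      · rw [← h]; exact h1
      · rw [h', ← heq, h, add_comm] at h4; exact h4
      · rw [← h, heq]; exact h1'
      · rw [h', h, add_comm] at h5; exact h5
  · rcases hv (p * q) hpq3 with h' | h' | h'
    · omega
    · omega
    · omega

/-- **P3'**: the killing configuration. -/
theorem P3' {a b : ℕ} (hv : Vals G a b) (hab : a < b) {p m : ℕ} (hp : p.Prime) (hp2 : p ≠ 2)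
    (hpG : p ∣ Nat.card G) (hsp : s G p = a) (h1 : p ∣ a + 1) (h2 : p ∣ a + b) (hm : 3 ≤ m)
    (hcop : p.Coprime m) (hsm : s G m = b) : False := by
  have hpos : 0 < s G p := s_prime_pos hp hpG
  have hna : ¬ p ∣ a := not_dvd_of_dvd_add_one hp h1
  have hnb : ¬ p ∣ b := fun h => hna ((Nat.dvd_add_left h).mp h2)
  have h3 : 2 * s G p ≤ s G (p * m) := K2 hp hcop hm (by rw [hsm]; exact hnb)
  have h4 := K1 (G := G) hp hpG hcop
  have hpm3 : 3 ≤ p * m := by
    have := hp.two_le
    nlinarith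
  have h5 : s G (p * m) = b := by
    rcases hv (p * m) hpm3 with h' | h' | h'
    · omega
    · omega
    · exact h'
  rw [h5, hsm] at h4
  have h6 : p ∣ 2 * b := by rw [two_mul]; exact h4
  have h7 : p.Coprime 2 := (Nat.coprime_primes hp Nat.prime_two).mpr hp2
  exact hnb (h7.dvd_of_dvd_mul_left h6)

/-- three odd primes, the first two with equal counts: impossible. -/
theorem P3core {a b : ℕ} (hv : Vals G a b) (hab : a ≤ b) {p q r : ℕ} (hp : p.Prime)
    (hq : q.Prime) (hr : r.Prime) (hp2 : p ≠ 2) (hq2 : q ≠ 2) (hr2 : r ≠ 2) (hpq : p ≠ q)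
    (hpr : p ≠ r) (hqr : q ≠ r) (hpG : p ∣ Nat.card G) (hqG : q ∣ Nat.card G)
    (hrG : r ∣ Nat.card G) (heq : s G p = s G q) : False := by
  obtain ⟨h1, h2, h3, h4, h5, h6, h7⟩ := P2 hv hab hp hq hp2 hq2 hpq hpG hqG heq
  have hr3 := odd_prime_three_le hr hr2
  have hq3 := odd_prime_three_le hq hq2
  have hposr : 0 < s G r := s_prime_pos hr hrG
  rcases hv r hr3 with h | h | h
  · omega
  · -- s r = a = s q
    have heq2 : s G q = s G r := by rw [← heq, h1, h]
    obtain ⟨-, -, h3', -, -, -, -⟩ := P2 hv hab hq hr hq2 hr2 hqr hqG hrG heq2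
    have hcop : p.Coprime (q * r) :=
      Nat.Coprime.mul_right ((Nat.coprime_primes hp hq).mpr hpq)
        ((Nat.coprime_primes hp hr).mpr hpr)
    exact P3' hv h2 hp hp2 hpG h1 h4 h5 (by nlinarith) hcop h3'
  · exact P3' hv h2 hp hp2 hpG h1 h4 h5 hr3 ((Nat.coprime_primes hp hr).mpr hpr) h

/-- **P3**: no three distinct odd primes divide `|G|`. -/
theorem P3 {a b : ℕ} (hv : Vals G a b) {p q r : ℕ} (hp : p.Prime)
    (hq : q.Prime) (hr : r.Prime) (hp2 : p ≠ 2) (hq2 : q ≠ 2) (hr2 : r ≠ 2) (hpq : p ≠ q)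
    (hpr : p ≠ r) (hqr : q ≠ r) (hpG : p ∣ Nat.card G) (hqG : q ∣ Nat.card G)
    (hrG : r ∣ Nat.card G) : False := by
  wlog hab : a ≤ b generalizing a b
  · exact this hv.symm (by omega)
  have hp3 := odd_prime_three_le hp hp2
  have hq3 := odd_prime_three_le hq hq2
  have hr3 := odd_prime_three_le hr hr2
  have hposp : 0 < s G p := s_prime_pos hp hpG
  have hposq : 0 < s G q := s_prime_pos hq hqG
  have hposr : 0 < s G r := s_prime_pos hr hrG
  by_cases h1 : s G p = s G q
  · exact P3core hv hab hp hq hr hp2 hq2 hr2 hpq hpr hqr hpG hqG hrG h1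
  by_cases h2 : s G p = s G r
  · exact P3core hv hab hp hr hq hp2 hr2 hq2 hpr hpq hqr.symm hpG hrG hqG h2
  by_cases h3 : s G q = s G r
  · exact P3core hv hab hq hr hp hq2 hr2 hp2 hqr hpq.symm hpr.symm hqG hrG hpG h3
  rcases hv p hp3 with h | h | h <;> rcases hv q hq3 with h' | h' | h' <;>
    rcases hv r hr3 with h'' | h'' | h'' <;> omega

/-- if all `s m` (`3 ≤ m`) take a single nonzero value, at most one odd prime divides `|G|`. -/
theorem single_value {b : ℕ} (hv : Vals G b b) {p q : ℕ} (hp : p.Prime) (hq : q.Prime)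
    (hp2 : p ≠ 2) (hq2 : q ≠ 2) (hpq : p ≠ q) (hpG : p ∣ Nat.card G) (hqG : q ∣ Nat.card G) :
    False := by
  have hp3 := odd_prime_three_le hp hp2
  have hq3 := odd_prime_three_le hq hq2
  have hposp : 0 < s G p := s_prime_pos hp hpG
  have hposq : 0 < s G q := s_prime_pos hq hqG
  have heq : s G p = s G q := by
    rcases hv p hp3 with h | h | h <;> rcases hv q hq3 with h' | h' | h' <;> omega
  obtain ⟨-, h2, -⟩ := P2 hv le_rfl hp hq hp2 hq2 hpq hpG hqG heq
  omega

/-- auxiliary for `C4`: the case `s p ≠ s q`, `s 4 = s p`. -/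
theorem C4aux {a b : ℕ} (hv : Vals G a b) {p q : ℕ} (hp : p.Prime) (hq : q.Prime)
    (hp2 : p ≠ 2) (hq2 : q ≠ 2) (hpq : p ≠ q) (hpG : p ∣ Nat.card G) (hqG : q ∣ Nat.card G)
    (hne : s G p ≠ s G q) (h4 : s G 4 = s G p) : False := by
  have hp3 := odd_prime_three_le hp hp2
  have hq3 := odd_prime_three_le hq hq2
  have hcop : p.Coprime q := (Nat.coprime_primes hp hq).mpr hpq
  have hposp : 0 < s G p := s_prime_pos hp hpG
  have hposq : 0 < s G q := s_prime_pos hq hqG
  have h1 : p ∣ s G p + 1 := prime_dvd_s_add_one hp hpG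
  have h1' : q ∣ s G q + 1 := prime_dvd_s_add_one hq hqG
  have hnp : ¬ p ∣ s G p := not_dvd_of_dvd_add_one hp h1
  have hnq : ¬ q ∣ s G q := not_dvd_of_dvd_add_one hq h1'
  have hpq3 : 3 ≤ p * q := by nlinarith
  have hK1p := K1 (G := G) hp hpG hcop
  have hK1q := K1 (G := G) hq hqG hcop.symm
  rw [mul_comm q p] at hK1q
  -- the values: every s m (m ≥ 3) is 0, s p or s q
  have hv' : ∀ m, 3 ≤ m → s G m = 0 ∨ s G m = s G p ∨ s G m = s G q := by
    intro m hm
    rcases hv p hp3 with h | h | h <;> rcases hv q hq3 with h' | h' | h' <;>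
      rcases hv m hm with h'' | h'' | h'' <;> omega
  -- step 1: no elements of order p * q
  have hspq : s G (p * q) = 0 := by
    rcases hv' (p * q) hpq3 with h | h | h
    · exact h
    · exfalso
      rw [h] at hK1p
      have hnB : ¬ p ∣ s G q := fun hd => hnp ((Nat.dvd_add_left hd).mp hK1p)
      have := K2 hp hcop hq3 hnB
      omega
    · exfalso
      rw [h] at hK1q
      have hnA : ¬ q ∣ s G p := fun hd => hnq ((Nat.dvd_add_left hd).mp hK1q)
      have := K2 hq hcop.symm hp3 hnA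
      rw [mul_comm q p] at this
      omega
  rw [hspq, zero_add] at hK1p
  -- hK1p : p ∣ s q
  have hcop4 : p.Coprime 4 := by
    have : p.Coprime 2 := (Nat.coprime_primes hp Nat.prime_two).mpr hp2
    exact Nat.Coprime.pow_right 2 this
  have h5 : 2 * s G p ≤ s G (p * 4) := K2 hp hcop4 (by norm_num) (by rw [h4]; exact hnp)
  have h6 := K1 (G := G) hp hpG hcop4
  have hp43 : 3 ≤ p * 4 := by omega
  rcases hv' (p * 4) hp43 with h | h | h
  · omega
  · omega
  · rw [h, h4] at h6
    exact hnp ((Nat.dvd_add_right hK1p).mp h6)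

/-- **C4**: two odd primes exclude elements of order `4`. -/
theorem C4 {a b : ℕ} (hv : Vals G a b) {p q : ℕ} (hp : p.Prime) (hq : q.Prime)
    (hp2 : p ≠ 2) (hq2 : q ≠ 2) (hpq : p ≠ q) (hpG : p ∣ Nat.card G) (hqG : q ∣ Nat.card G) :
    s G 4 = 0 := by
  wlog hab : a ≤ b generalizing a b
  · exact this hv.symm (by omega)
  by_contra h40
  have hp3 := odd_prime_three_le hp hp2
  have hq3 := odd_prime_three_le hq hq2
  have hposp : 0 < s G p := s_prime_pos hp hpG
  have hposq : 0 < s G q := s_prime_pos hq hqG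
  have hcop4 : p.Coprime 4 := by
    have : p.Coprime 2 := (Nat.coprime_primes hp Nat.prime_two).mpr hp2
    exact Nat.Coprime.pow_right 2 this
  have hcoq4 : q.Coprime 4 := by
    have : q.Coprime 2 := (Nat.coprime_primes hq Nat.prime_two).mpr hq2
    exact Nat.Coprime.pow_right 2 this
  by_cases heq : s G p = s G q
  · obtain ⟨h1, h2, h3, h4, h5, h6, h7⟩ := P2 hv hab hp hq hp2 hq2 hpq hpG hqG heq
    rcases hv 4 (by norm_num) with h | h | h
    · exact h40 h
    · -- s 4 = a
      have hna : ¬ p ∣ a := not_dvd_of_dvd_add_one hp h4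
      have h8 : 2 * s G p ≤ s G (p * 4) := K2 hp hcop4 (by norm_num) (by rw [h]; exact hna)
      have h9 : s G (p * 4) = b := by
        rcases hv (p * 4) (by omega) with h' | h' | h'
        · omega
        · omega
        · exact h'
      have hsq : s G q = a := by rw [← heq, h1]
      have hcop : q.Coprime (p * 4) :=
        Nat.Coprime.mul_right ((Nat.coprime_primes hq hp).mpr hpq.symm) hcoq4
      exact P3' hv h2 hq hq2 hqG hsq h6 h7 (by omega) hcop h9
    · exact P3' hv h2 hp hp2 hpG h1 h4 h5 (by norm_num) hcop4 h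
  · -- s p ≠ s q
    have h4pq : s G 4 = s G p ∨ s G 4 = s G q := by
      rcases hv p hp3 with h | h | h <;> rcases hv q hq3 with h' | h' | h' <;>
        rcases hv 4 (by norm_num) with h'' | h'' | h'' <;> omega
    rcases h4pq with h | h
    · exact C4aux hv hp hq hp2 hq2 hpq hpG hqG heq h
    · exact C4aux hv hq hp hq2 hp2 hpq.symm hqG hpG (Ne.symm heq) h

end Cfsg.Agent.Lib.Helper8.SameOrd3V
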