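import Mathlib
import Cfsg.Agent.Lib.Helper8.SameOrd3V2
import Cfsg.Agent.S0144

set_option autoImplicit false

/-!
# Three same-order class sizes force solvability
-/

namespace Cfsg.Agent.Lib.Helper8.SameOrd3V

open Cfsg.Agent.Lib.Helper7.SameOrd

variable {G : Type*} [Group G] [Finite G]

theorem even_s {m : ℕ} (hm : 3 ≤ m) : Even (s G m) :=
  (Nat.totient_even (by omega)).trans_dvd (totient_dvd_s (G := G) m)

/-- the three values are `1`, `u`, `v`. -/
theorem exists_vals
    (h : (((fun m : ℕ => Nat.card {g : G // orderOf g = m}) ''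
      Set.range (orderOf : G → ℕ))).ncard = 3) :
    ∃ u v : ℕ, u ≠ v ∧ u ≠ 1 ∧ v ≠ 1 ∧ ∀ m, s G m = 0 ∨ s G m = 1 ∨ s G m = u ∨ s G m = v := by
  obtain ⟨x, y, z, hxy, hxz, hyz, hV⟩ := Set.ncard_eq_three.mp h
  have hmem : ∀ m, s G m = 0 ∨ s G m = x ∨ s G m = y ∨ s G m = z := by
    intro m
    by_cases hm : m ∈ Set.range (orderOf : G → ℕ)
    · right
      have : s G m ∈ ({x, y, z} : Set ℕ) := by
        rw [← hV]
        exact ⟨m, hm, rfl⟩
      simpa using this
    · left
      exact (s_eq_zero_iff m).mpr hm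
  have h1 : (1 : ℕ) = x ∨ (1 : ℕ) = y ∨ (1 : ℕ) = z := by
    have : (1 : ℕ) ∈ ({x, y, z} : Set ℕ) := by
      rw [← hV]
      exact ⟨1, ⟨1, orderOf_one⟩, s_one⟩
    simpa using this
  rcases h1 with rfl | rfl | rfl
  · exact ⟨y, z, hyz, hxy.symm, hxz.symm, hmem⟩
  · refine ⟨x, z, hxz, hxy, hyz.symm, fun m => ?_⟩
    rcases hmem m with h | h | h | h
    · exact Or.inl h
    · exact Or.inr (Or.inr (Or.inl h))
    · exact Or.inr (Or.inl h)
    · exact Or.inr (Or.inr (Or.inr h))
  · refine ⟨x, y, hxy, hxz, hyz, fun m => ?_⟩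
    rcases hmem m with h | h | h | h
    · exact Or.inl h
    · exact Or.inr (Or.inr (Or.inl h))
    · exact Or.inr (Or.inr (Or.inr h))
    · exact Or.inr (Or.inl h)

theorem vals_of_all {u v : ℕ}
    (hall : ∀ m, s G m = 0 ∨ s G m = 1 ∨ s G m = u ∨ s G m = v) : Vals G u v := by
  intro m hm
  rcases hall m with h | h | h | h
  · exact Or.inl h
  · exfalso
    have := le_two_of_s_eq_one h
    omega
  · exact Or.inr (Or.inl h)
  · exact Or.inr (Or.inr h)

/-- a number all of whose prime factors are `p` or `q` is `p ^ i * q ^ j`. -/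
theorem card_form {n p q : ℕ} (hn : n ≠ 0) (hp : p.Prime) (hq : q.Prime)
    (h : ∀ r : ℕ, r.Prime → r ∣ n → r = p ∨ r = q) : ∃ i j : ℕ, n = p ^ i * q ^ j := by
  obtain ⟨i, n1, hn1, rfl⟩ := Nat.exists_eq_pow_mul_and_not_dvd hn p hp.ne_one
  have hn1' : n1 ≠ 0 := by
    rintro rfl
    simp at hn
  obtain ⟨j, n2, hn2, rfl⟩ := Nat.exists_eq_pow_mul_and_not_dvd hn1' q hq.ne_one
  have : n2 = 1 := by
    by_contra hne
    obtain ⟨r, hr, hrn⟩ := Nat.exists_prime_and_dvd hne
    rcases h r hr (Dvd.dvd.mul_left (Dvd.dvd.mul_left hrn _) _) with rfl | rfl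
    · exact hn1 (Dvd.dvd.mul_left hrn _)
    · exact hn2 hrn
  subst this
  exact ⟨i, j, by ring⟩

/-- if `s 2 ≠ 1` and `2 ∣ |G|`, all `s m` with `3 ≤ m` take a single value. -/
theorem exists_single_of_s_two_ne_one {u v : ℕ}
    (hall : ∀ m, s G m = 0 ∨ s G m = 1 ∨ s G m = u ∨ s G m = v) (h2G : 2 ∣ Nat.card G)
    (hs2 : s G 2 ≠ 1) : ∃ b, Vals G b b := by
  have hodd : 2 ∣ s G 2 + 1 := prime_dvd_s_add_one Nat.prime_two h2G
  have hpos : 0 < s G 2 := s_prime_pos Nat.prime_two h2G
  have hv := vals_of_all hall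
  rcases hall 2 with h | h | h | h
  · omega
  · exact absurd h hs2
  · refine ⟨v, fun m hm => ?_⟩
    rcases hv m hm with h' | h' | h'
    · exact Or.inl h'
    · exfalso
      obtain ⟨k, hk⟩ := even_s (G := G) hm
      omega
    · exact Or.inr (Or.inl h')
  · refine ⟨u, fun m hm => ?_⟩
    rcases hv m hm with h' | h' | h'
    · exact Or.inl h'
    · exact Or.inr (Or.inl h')
    · exfalso
      obtain ⟨k, hk⟩ := even_s (G := G) hm
      omega

/-- a unique involution generates a normal subgroup of order two. -/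
theorem exists_normal_card_two (hs2 : s G 2 = 1) :
    ∃ Z : Subgroup G, Z.Normal ∧ Nat.card Z = 2 ∧ Group.IsSolvable Z := by
  unfold s at hs2
  obtain ⟨hsub, ⟨⟨z, hz⟩⟩⟩ := Nat.card_eq_one_iff_unique.mp hs2
  have hconj : ∀ g : G, g * z * g⁻¹ = z := by
    intro g
    have h1 : orderOf (g * z * g⁻¹) = 2 := by
      have := (MulAut.conj g).orderOf_eq z
      rw [MulAut.conj_apply] at this
      rw [this, hz]
    exact congrArg Subtype.val (hsub.elim ⟨g * z * g⁻¹, h1⟩ ⟨z, hz⟩)
  refine ⟨Subgroup.zpowers z, ⟨?_⟩, ?_, ?_⟩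
  · intro n hn g
    obtain ⟨k, rfl⟩ := Subgroup.mem_zpowers_iff.mp hn
    rw [← conj_zpow, hconj g]
    exact Subgroup.zpow_mem_zpowers z k
  · rw [Nat.card_zpowers, hz]
  · refine Group.isSolvable_of_comm (fun a b => ?_)
    obtain ⟨a, ha⟩ := a
    obtain ⟨b, hb⟩ := b
    obtain ⟨i, rfl⟩ := Subgroup.mem_zpowers_iff.mp ha
    obtain ⟨j, rfl⟩ := Subgroup.mem_zpowers_iff.mp hb
    apply Subtype.ext
    change z ^ i * z ^ j = z ^ j * z ^ i
    exact ((Commute.refl z).zpow_zpow i j).eq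

theorem solvable_of_three_values
    (h : (((fun m : ℕ => Nat.card {g : G // orderOf g = m}) ''
      Set.range (orderOf : G → ℕ))).ncard = 3) : Group.IsSolvable G := by
  obtain ⟨u, v, huv, hu1, hv1, hall⟩ := exists_vals h
  have hvals : Vals G u v := vals_of_all hall
  have hn : Nat.card G ≠ 0 := Nat.card_pos.ne'
  by_cases hodd2 : ∃ p q : ℕ, p.Prime ∧ q.Prime ∧ p ≠ 2 ∧ q ≠ 2 ∧ p ≠ q ∧ p ∣ Nat.card G ∧
      q ∣ Nat.card G
  · obtain ⟨p, q, hp, hq, hp2, hq2, hpq, hpG, hqG⟩ := hodd2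
    have hall3 : ∀ r : ℕ, r.Prime → r ∣ Nat.card G → r = 2 ∨ r = p ∨ r = q := by
      intro r hr hrG
      by_contra hcon
      push Not at hcon
      exact P3 hvals hp hq hr hp2 hq2 hcon.1 hpq (Ne.symm hcon.2.1) (Ne.symm hcon.2.2)
        hpG hqG hrG
    by_cases h2G : 2 ∣ Nat.card G
    · have hs2 : s G 2 = 1 := by
        by_contra hs2
        obtain ⟨b, hb⟩ := exists_single_of_s_two_ne_one hall h2G hs2
        exact single_value hb hp hq hp2 hq2 hpq hpG hqG
      have hs4 : s G 4 = 0 := C4 hvals hp hq hp2 hq2 hpq hpG hqG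
      have h4n : ¬ 4 ∣ Nat.card G := by
        intro h4
        have h5 := frobenius_sum (G := G) 4 h4 ({1, 2, 4} : Finset ℕ) dvd_sets_four
        rw [Finset.sum_insert (by decide), Finset.sum_pair (by decide), s_one, hs2, hs4] at h5
        omega
      obtain ⟨Z, hZn, hZ2, hZs⟩ := exists_normal_card_two hs2
      have hcard : Nat.card G = Nat.card (G ⧸ Z) * 2 := by
        rw [← hZ2]
        exact Subgroup.card_eq_card_quotient_mul_card_subgroup Z
      have hq0 : Nat.card (G ⧸ Z) ≠ 0 := by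
        intro h0
        rw [h0, zero_mul] at hcard
        exact hn hcard
      have hallq : ∀ r : ℕ, r.Prime → r ∣ Nat.card (G ⧸ Z) → r = p ∨ r = q := by
        intro r hr hrq
        have hrG : r ∣ Nat.card G := by
          rw [hcard]
          exact Dvd.dvd.mul_right hrq 2
        rcases hall3 r hr hrG with rfl | h' | h'
        · exfalso
          apply h4n
          rw [hcard]
          exact Nat.mul_dvd_mul hrq (dvd_refl 2)
        · exact Or.inl h'
        · exact Or.inr h'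
      obtain ⟨i, j, hij⟩ := card_form hq0 hp hq hallq
      have : Group.IsSolvable (G ⧸ Z) := Cfsg.Agent.S0144.result p q i j hp hq hij
      have : Group.IsSolvable Z := hZs
      exact Group.isSolvable_of_ker_le_range Z.subtype (QuotientGroup.mk' Z) (by simp)
    · have hallq : ∀ r : ℕ, r.Prime → r ∣ Nat.card G → r = p ∨ r = q := by
        intro r hr hrG
        rcases hall3 r hr hrG with rfl | h' | h'
        · exact absurd hrG h2G
        · exact Or.inl h'
        · exact Or.inr h'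
      obtain ⟨i, j, hij⟩ := card_form hn hp hq hallq
      exact Cfsg.Agent.S0144.result p q i j hp hq hij
  · push Not at hodd2
    by_cases h1 : ∃ p : ℕ, p.Prime ∧ p ≠ 2 ∧ p ∣ Nat.card G
    · obtain ⟨p, hp, hp2, hpG⟩ := h1
      have hallq : ∀ r : ℕ, r.Prime → r ∣ Nat.card G → r = 2 ∨ r = p := by
        intro r hr hrG
        by_contra hcon
        push Not at hcon
        exact hodd2 p r hp hr hp2 hcon.1 (Ne.symm hcon.2) hpG hrG
      obtain ⟨i, j, hij⟩ := card_form hn Nat.prime_two hp hallq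
      exact Cfsg.Agent.S0144.result 2 p i j Nat.prime_two hp hij
    · push Not at h1
      have hallq : ∀ r : ℕ, r.Prime → r ∣ Nat.card G → r = 2 ∨ r = 2 := by
        intro r hr hrG
        by_contra hcon
        push Not at hcon
        exact h1 r hr hcon.1 hrG
      obtain ⟨i, j, hij⟩ := card_form hn Nat.prime_two Nat.prime_two hallq
      exact Cfsg.Agent.S0144.result 2 2 i j Nat.prime_two Nat.prime_two hij

end Cfsg.Agent.Lib.Helper8.SameOrd3V
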