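import Mathlib
import Cfsg.Agent.Lib.Helper8.SameOrd3V3

set_option autoImplicit false

/-!
# Odd order groups with three same-order class sizes: the counting part
-/

namespace Cfsg.Agent.Lib.Helper8.SameOrd3V

open Cfsg.Agent.Lib.Helper7.SameOrd

variable {G : Type*} [Group G] [Finite G]

theorem s_pos_of_dvd_order {x : G} {d : ℕ} (hd : d ∣ orderOf x) : 0 < s G d := by
  obtain ⟨e, he⟩ := hd
  have hpos : 0 < orderOf x := orderOf_pos x
  have he0 : e ≠ 0 := by
    rintro rfl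
    rw [mul_zero] at he
    omega
  have h1 : orderOf (x ^ e) = orderOf x / e := orderOf_pow_of_dvd he0 (Dvd.intro_left d he.symm)
  rw [he, Nat.mul_div_cancel _ (Nat.pos_of_ne_zero he0)] at h1
  exact (s_pos_iff d).mpr ⟨x ^ e, h1⟩

theorem prime_dvd_totient_sq {p : ℕ} (hp : p.Prime) : p ∣ Nat.totient (p ^ 2) := by
  rw [Nat.totient_prime_pow hp (by norm_num)]
  exact Dvd.intro (p - 1) (by norm_num)

theorem s_eq_zero_of_dvd {d m : ℕ} (hdm : d ∣ m) (hd : s G d = 0) : s G m = 0 := by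
  by_contra h
  obtain ⟨x, hx⟩ := (s_pos_iff m).mp (Nat.pos_of_ne_zero h)
  have := s_pos_of_dvd_order (G := G) (x := x) (d := d) (by rw [hx]; exact hdm)
  omega

/-- every `s m` (`3 ≤ m`) is `0`, `s p` or `s q`, for odd primes `p`, `q` with `s p ≠ s q`. -/
theorem vals_pq {a b : ℕ} (hv : Vals G a b) {p q : ℕ} (hp : p.Prime) (hq : q.Prime)
    (hp2 : p ≠ 2) (hq2 : q ≠ 2) (hpG : p ∣ Nat.card G) (hqG : q ∣ Nat.card G)
    (hne : s G p ≠ s G q) : Vals G (s G p) (s G q) := by
  have hp3 := odd_prime_three_le hp hp2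
  have hq3 := odd_prime_three_le hq hq2
  have hposp : 0 < s G p := s_prime_pos hp hpG
  have hposq : 0 < s G q := s_prime_pos hq hqG
  intro m hm
  rcases hv p hp3 with h | h | h <;> rcases hv q hq3 with h' | h' | h' <;>
    rcases hv m hm with h'' | h'' | h'' <;> omega

/-- if `s p ≠ s q` there are no elements of order `p * q`. -/
theorem spq_zero {a b : ℕ} (hv : Vals G a b) {p q : ℕ} (hp : p.Prime) (hq : q.Prime)
    (hp2 : p ≠ 2) (hq2 : q ≠ 2) (hpq : p ≠ q) (hpG : p ∣ Nat.card G) (hqG : q ∣ Nat.card G)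
    (hne : s G p ≠ s G q) : s G (p * q) = 0 ∧ p ∣ s G q ∧ q ∣ s G p := by
  have hp3 := odd_prime_three_le hp hp2
  have hq3 := odd_prime_three_le hq hq2
  have hcop : p.Coprime q := (Nat.coprime_primes hp hq).mpr hpq
  have hposp : 0 < s G p := s_prime_pos hp hpG
  have hposq : 0 < s G q := s_prime_pos hq hqG
  have h1 : p ∣ s G p + 1 := prime_dvd_s_add_one hp hpG
  have h1' : q ∣ s G q + 1 := prime_dvd_s_add_one hq hqG
  have hnp : ¬ p ∣ s G p := not_dvd_of_dvd_add_one hp h1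
  have hnq : ¬ q ∣ s G q := not_dvd_of_dvd_add_one hq h1'
  have hpq3 : 3 ≤ p * q := by nlinarith
  have hK1p := K1 (G := G) hp hpG hcop
  have hK1q := K1 (G := G) hq hqG hcop.symm
  rw [mul_comm q p] at hK1q
  have hv' := vals_pq hv hp hq hp2 hq2 hpG hqG hne
  have hspq : s G (p * q) = 0 := by
    rcases hv' (p * q) hpq3 with h | h | h
    · exact h
    · exfalso
      rw [h] at hK1p
      have hnB : ¬ p ∣ s G q := fun hd => hnp ((Nat.dvd_add_left hd).mp hK1p)
      have := K2 hp hcop hq3 hnB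
      omega
    · exfalso
      rw [h] at hK1q
      have hnA : ¬ q ∣ s G p := fun hd => hnq ((Nat.dvd_add_left hd).mp hK1q)
      have := K2 hq hcop.symm hp3 hnA
      rw [mul_comm q p] at this
      omega
  rw [hspq, zero_add] at hK1p hK1q
  exact ⟨hspq, hK1p, hK1q⟩

/-- if `s p ≠ s q` there are no elements of order `p ^ 2`. -/
theorem s_sq_zero {a b : ℕ} (hv : Vals G a b) {p q : ℕ} (hp : p.Prime) (hq : q.Prime)
    (hp2 : p ≠ 2) (hq2 : q ≠ 2) (hpq : p ≠ q) (hpG : p ∣ Nat.card G) (hqG : q ∣ Nat.card G)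
    (hne : s G p ≠ s G q) : s G (p ^ 2) = 0 := by
  obtain ⟨h0, hpB, hqA⟩ := spq_zero hv hp hq hp2 hq2 hpq hpG hqG hne
  have hv' := vals_pq hv hp hq hp2 hq2 hpG hqG hne
  have hp3 := odd_prime_three_le hp hp2
  have h1 : p ∣ s G p + 1 := prime_dvd_s_add_one hp hpG
  have h1' : q ∣ s G q + 1 := prime_dvd_s_add_one hq hqG
  have hnp : ¬ p ∣ s G p := not_dvd_of_dvd_add_one hp h1
  have hnq : ¬ q ∣ s G q := not_dvd_of_dvd_add_one hq h1'
  have hcop : q.Coprime (p ^ 2) :=
    Nat.Coprime.pow_right 2 ((Nat.coprime_primes hq hp).mpr hpq.symm)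
  have h2 := K1 (G := G) hq hqG hcop
  have h3 : s G (q * p ^ 2) = 0 :=
    s_eq_zero_of_dvd (d := p * q) ⟨p, by ring⟩ h0
  rw [h3, zero_add] at h2
  have h4 : p ∣ s G (p ^ 2) := by
    exact Dvd.dvd.trans (prime_dvd_totient_sq hp) (totient_dvd_s (G := G) (p ^ 2))
  have hsq3 : 3 ≤ p ^ 2 := by nlinarith
  rcases hv' (p ^ 2) hsq3 with h | h | h
  · exact h
  · rw [h] at h4
    exact absurd h4 hnp
  · rw [h] at h2
    exact absurd h2 hnq

/-- with exactly the two odd primes `p`, `q` dividing `|G|`, `s p ≠ s q`. -/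
theorem s_ne_of_two_primes {a b : ℕ} (hv : Vals G a b) {p q : ℕ} (hp : p.Prime) (hq : q.Prime)
    (hp2 : p ≠ 2) (hq2 : q ≠ 2) (hpq : p ≠ q) (hpG : p ∣ Nat.card G) (hqG : q ∣ Nat.card G)
    (hall : ∀ r : ℕ, r.Prime → r ∣ Nat.card G → r = p ∨ r = q) : s G p ≠ s G q := by
  intro heq
  wlog hab : a ≤ b generalizing a b
  · exact this hv.symm (by omega)
  obtain ⟨h1, h2, h3, h4, h5, h6, h7⟩ := P2 hv hab hp hq hp2 hq2 hpq hpG hqG heq
  have hna : ¬ p ∣ a := not_dvd_of_dvd_add_one hp h4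
  have hnb : ¬ p ∣ b := fun h => hna ((Nat.dvd_add_left h).mp h5)
  have hna' : ¬ q ∣ a := not_dvd_of_dvd_add_one hq h6
  have hnb' : ¬ q ∣ b := fun h => hna' ((Nat.dvd_add_left h).mp h7)
  have hsq : s G q = a := by rw [← heq, h1]
  -- no elements of order r ^ 2 for r = p, q
  have key : ∀ r : ℕ, r.Prime → r ≠ 2 → ¬ r ∣ a → ¬ r ∣ b → s G (r ^ 2) = 0 := by
    intro r hr hr2 hra hrb
    have hr3 := odd_prime_three_le hr hr2
    have h8 : r ∣ s G (r ^ 2) := by
      exact Dvd.dvd.trans (prime_dvd_totient_sq hr) (totient_dvd_s (G := G) (r ^ 2))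
    rcases hv (r ^ 2) (by nlinarith) with h | h | h
    · exact h
    · rw [h] at h8; exact absurd h8 hra
    · rw [h] at h8; exact absurd h8 hrb
  -- the r-elements
  have key2 : ∀ r : ℕ, r.Prime → s G (r ^ 2) = 0 → ∀ i : ℕ, r ^ i ∣ Nat.card G →
      r ^ i ∣ Nat.card {g : G // g ^ r = 1} := by
    intro r hr hr0 i hi
    rcases i with _ | i
    · simp
    have h10 := Cfsg.Agent.S3993.result (G := G) (r ^ (i + 1)) hi
    have heq' : Nat.card {g : G // g ^ (r ^ (i + 1)) = 1} = Nat.card {g : G // g ^ r = 1} := by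
      apply Nat.card_congr
      apply Equiv.subtypeEquivRight
      intro g
      constructor
      · intro hg
        have h12 : orderOf g ∣ r ^ (i + 1) := orderOf_dvd_of_pow_eq_one hg
        obtain ⟨k, hk, hk2⟩ := (Nat.dvd_prime_pow hr).mp h12
        have hk1 : k ≤ 1 := by
          by_contra hk1
          have h13 : r ^ 2 ∣ orderOf g := by
            rw [hk2]
            exact pow_dvd_pow r (by omega)
          have := s_pos_of_dvd_order (G := G) h13
          omega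
        have h14 : orderOf g ∣ r := by
          rw [hk2]
          calc r ^ k ∣ r ^ 1 := pow_dvd_pow r hk1
            _ = r := pow_one r
        exact orderOf_dvd_iff_pow_eq_one.mp h14
      · intro hg
        rw [pow_succ', pow_mul, hg, one_pow]
    rwa [heq'] at h10
  have h15 : Nat.card {g : G // g ^ p = 1} = 1 + a := by
    rw [card_pow_eq_one (G := G) p hp.pos ({1, p} : Finset ℕ) (dvd_sets_prime hp),
      Finset.sum_pair hp.one_lt.ne, s_one, h1]
  have h15' : Nat.card {g : G // g ^ q = 1} = 1 + a := by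
    rw [card_pow_eq_one (G := G) q hq.pos ({1, q} : Finset ℕ) (dvd_sets_prime hq),
      Finset.sum_pair hq.one_lt.ne, s_one, hsq]
  have hn : Nat.card G ≠ 0 := Nat.card_pos.ne'
  obtain ⟨i, j, hij⟩ := card_form hn hp hq hall
  have hpi : p ^ i ∣ 1 + a := by
    rw [← h15]
    exact key2 p hp (key p hp hp2 hna hnb) i (by rw [hij]; exact Dvd.intro _ rfl)
  have hqj : q ^ j ∣ 1 + a := by
    rw [← h15']
    exact key2 q hq (key q hq hq2 hna' hnb') j (by rw [hij]; exact Dvd.intro_left _ rfl)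
  have hcop : (p ^ i).Coprime (q ^ j) :=
    Nat.Coprime.pow i j ((Nat.coprime_primes hp hq).mpr hpq)
  have hdvd : Nat.card G ∣ 1 + a := by
    rw [hij]
    exact hcop.mul_dvd_of_dvd_of_dvd hpi hqj
  have hle : Nat.card G ≤ Nat.card {g : G // g ^ p = 1} := by
    rw [h15]
    exact Nat.le_of_dvd (by omega) hdvd
  have hbij := Function.Injective.bijective_of_nat_card_le
    (f := (Subtype.val : {g : G // g ^ p = 1} → G)) Subtype.val_injective hle
  obtain ⟨y, hy⟩ := (s_pos_iff (G := G) q).mp (s_prime_pos hq hqG)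
  obtain ⟨⟨y', hy'⟩, rfl⟩ := hbij.2 y
  have h17 : q ∣ p := by
    rw [← hy]
    exact orderOf_dvd_of_pow_eq_one hy'
  exact hpq ((Nat.prime_dvd_prime_iff_eq hq hp).mp h17).symm

end Cfsg.Agent.Lib.Helper8.SameOrd3V
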