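import Mathlib
import Cfsg.Agent.Lib.Helper7.FrobPQ
import Cfsg.Agent.Lib.Helper8.SameOrd3V4
import Cfsg.Agent.S0041
import Cfsg.Prelude.Def_Solvable

set_option autoImplicit false

/-!
# A group of order `p ^ i * q ^ j` all of whose elements have prime order, with a nontrivial
abelian normal `p`-subgroup, has a self-normalizing subgroup of order `q`.
-/

namespace Cfsg.Agent.Lib.Helper8.SameOrd3V

open Pointwise

variable {G : Type*} [Group G] [Finite G]

omit [Finite G] in
theorem orderOf_mul_absurd {p q : ℕ} (hp : p.Prime) (hq : q.Prime) (hpq : p ≠ q)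
    (hord : ∀ g : G, orderOf g = 1 ∨ orderOf g = p ∨ orderOf g = q) {x y : G}
    (hx : orderOf x = p) (hy : orderOf y = q) (hc : Commute x y) : False := by
  have hcop : (orderOf x).Coprime (orderOf y) := by
    rw [hx, hy]
    exact (Nat.coprime_primes hp hq).mpr hpq
  have h1 := hc.orderOf_mul_eq_mul_orderOf_of_coprime hcop
  rw [hx, hy] at h1
  have := hp.two_le
  have := hq.two_le
  rcases hord (x * y) with h | h | h
  · rw [h] at h1; nlinarith
  · rw [h] at h1; nlinarith
  · rw [h] at h1; nlinarith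

theorem exists_frobenius_complement_of_normal_p
    {p q : ℕ} (hp : p.Prime) (hq : q.Prime) (hpq : p ≠ q)
    (hord : ∀ g : G, orderOf g = 1 ∨ orderOf g = p ∨ orderOf g = q)
    (hqG : q ∣ Nat.card G)
    (hall : ∀ r : ℕ, r.Prime → r ∣ Nat.card G → r = p ∨ r = q)
    (A : Subgroup G) [A.Normal] (hA : A ≠ ⊥) (hAc : ∀ a ∈ A, ∀ b ∈ A, a * b = b * a)
    (hAp : ∀ a ∈ A, a ^ p = 1) :
    ∃ C : Subgroup G, Cfsg.IsFrobeniusComplement C ∧ Nat.card C = q := by
  have : Fact p.Prime := ⟨hp⟩
  have : Fact q.Prime := ⟨hq⟩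
  have hp2 := hp.two_le
  have hq2 := hq.two_le
  -- (a) elements of order q act fixed point freely on A
  have hfpf : ∀ y : G, orderOf y = q → ∀ v ∈ A, y * v = v * y → v = 1 := by
    intro y hy v hv hc
    by_contra hv1
    have hov : orderOf v = p := orderOf_eq_prime (hAp v hv) hv1
    exact orderOf_mul_absurd hp hq hpq hord hov hy (Commute.symm hc)
  -- p divides |G|
  have hpG : p ∣ Nat.card G := by
    obtain ⟨⟨a0, ha0⟩, ha01⟩ := (Subgroup.ne_bot_iff_exists_ne_one).mp hA
    have h1 : a0 ≠ 1 := fun h => ha01 (Subtype.ext h)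
    have hov : orderOf a0 = p := orderOf_eq_prime (hAp a0 ha0) h1
    rw [← hov]
    exact orderOf_dvd_natCard a0
  -- (b) q² does not divide |G|
  have hq2G : ¬ q ^ 2 ∣ Nat.card G := by
    intro h
    obtain ⟨E, hE⟩ := Sylow.exists_subgroup_card_pow_prime q h
    have : IsMulCommutative A := ⟨⟨fun a b => Subtype.ext (hAc a a.2 b b.2)⟩⟩
    have hfpf' : ∀ a ∈ E, a ≠ 1 → A ⊓ Subgroup.centralizer {a} = ⊥ := by
      intro a ha ha1
      have hdvd : orderOf a ∣ q ^ 2 := by
        rw [← hE]
        exact Subgroup.orderOf_dvd_natCard E ha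
      have hoa : orderOf a = q := by
        rcases hord a with h1 | h1 | h1
        · exact absurd (orderOf_eq_one_iff.mp h1) ha1
        · exfalso
          rw [h1] at hdvd
          exact hpq ((Nat.prime_dvd_prime_iff_eq hp hq).mp (hp.dvd_of_dvd_pow hdvd))
        · exact h1
      rw [Subgroup.eq_bot_iff_forall]
      intro v hv
      obtain ⟨hvA, hvC⟩ := Subgroup.mem_inf.mp hv
      have := Subgroup.mem_centralizer_iff.mp hvC a (Set.mem_singleton a)
      exact hfpf a hoa v hvA this
    have hcyc : IsCyclic E := Cfsg.Agent.S0041.result E A hA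
      (by rw [Subgroup.normalizer_eq_top]; exact le_top) hfpf'
      (Or.inr ⟨q, q, hq, hq, by rw [hE, pow_two]⟩)
    obtain ⟨g, hg⟩ := hcyc.exists_ofOrder_eq_natCard
    rw [hE, ← Subgroup.orderOf_coe] at hg
    rcases hord (g : G) with h1 | h1 | h1
    · rw [h1] at hg; nlinarith
    · rw [h1] at hg
      have : q ∣ p := by rw [hg]; exact Dvd.intro_left _ (pow_two q).symm
      exact hpq ((Nat.prime_dvd_prime_iff_eq hq hp).mp this).symm
    · rw [h1] at hg; nlinarith
  -- (c) a Sylow q-subgroup has order q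
  obtain ⟨Q⟩ : Nonempty (Sylow q G) := inferInstance
  have hQcard : Nat.card (Q : Subgroup G) = q := by
    obtain ⟨k, hk⟩ := IsPGroup.iff_card.mp Q.isPGroup'
    have h1 : q ∣ Nat.card (Q : Subgroup G) := Q.dvd_card_of_dvd_card hqG
    have h2 : Nat.card (Q : Subgroup G) ∣ Nat.card G := Subgroup.card_subgroup_dvd_card _
    have hk1 : k = 1 := by
      have hk0 : k ≠ 0 := by
        rintro rfl
        rw [hk, pow_zero] at h1
        exact hq.one_lt.ne' (Nat.dvd_one.mp h1)
      have hk2 : k < 2 := by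
        by_contra hk2
        apply hq2G
        calc q ^ 2 ∣ q ^ k := pow_dvd_pow q (by omega)
          _ ∣ Nat.card G := by rw [← hk]; exact h2
      omega
    rw [hk, hk1, pow_one]
  set C : Subgroup G := (Q : Subgroup G) with hC
  -- a generator of C
  have hCbot : C ≠ ⊥ := by
    intro h
    rw [h, Subgroup.card_bot] at hQcard
    omega
  obtain ⟨⟨y, hyC⟩, hy1'⟩ := (Subgroup.ne_bot_iff_exists_ne_one).mp hCbot
  have hy1 : y ≠ 1 := fun h => hy1' (Subtype.ext h)
  have hoy : orderOf y = q := by
    have hdvd : orderOf y ∣ q := by rw [← hQcard]; exact Subgroup.orderOf_dvd_natCard C hyC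
    rcases (Nat.dvd_prime hq).mp hdvd with h | h
    · exact absurd (orderOf_eq_one_iff.mp h) hy1
    · exact h
  have hzy : Subgroup.zpowers y = C := by
    apply Subgroup.eq_of_le_of_card_ge ((Subgroup.zpowers_le).mpr hyC)
    rw [Nat.card_zpowers, hoy, hQcard]
  -- C ≠ ⊤
  have hCtop : C ≠ ⊤ := by
    intro h
    have : Nat.card G = q := by rw [← hQcard, h, Subgroup.card_top]
    rw [this] at hpG
    exact hpq ((Nat.prime_dvd_prime_iff_eq hp hq).mp hpG)
  -- self-normalizing
  have hN : ∀ g : G, g ∈ Subgroup.normalizer (C : Set G) → g ∈ C := by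
    by_contra hcon
    push Not at hcon
    obtain ⟨g, hgN, hgC⟩ := hcon
    have hCN : C ≤ Subgroup.normalizer (C : Set G) := Subgroup.le_normalizer
    -- p divides |N|
    have hpN : p ∣ Nat.card (Subgroup.normalizer (C : Set G)) := by
      have hN0 : Nat.card (Subgroup.normalizer (C : Set G)) ≠ 0 := Nat.card_pos.ne'
      have hNG : Nat.card (Subgroup.normalizer (C : Set G)) ∣ Nat.card G := Subgroup.card_subgroup_dvd_card _
      by_contra hpN
      have hallN : ∀ r : ℕ, r.Prime → r ∣ Nat.card (Subgroup.normalizer (C : Set G)) → r = q ∨ r = q := by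
        intro r hr hrN
        rcases hall r hr (hrN.trans hNG) with h | h
        · exact absurd (h ▸ hrN) hpN
        · exact Or.inl h
      obtain ⟨i, j, hij⟩ := card_form hN0 hq hq hallN
      rw [← pow_add] at hij
      have hle : i + j < 2 := by
        by_contra hge
        apply hq2G
        calc q ^ 2 ∣ q ^ (i + j) := pow_dvd_pow q (by omega)
          _ ∣ Nat.card G := by rw [← hij]; exact hNG
      have hcardle : Nat.card (Subgroup.normalizer (C : Set G)) ≤ Nat.card C := by
        rw [hij, hQcard]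
        calc q ^ (i + j) ≤ q ^ 1 := Nat.pow_le_pow_right hq.pos (by omega)
          _ = q := pow_one q
      have : C = Subgroup.normalizer (C : Set G) := Subgroup.eq_of_le_of_card_ge hCN hcardle
      exact hgC (this ▸ hgN)
    obtain ⟨σ', hσ'⟩ := exists_prime_orderOf_dvd_card' p hpN
    have hoσ : orderOf (σ' : G) = p := by rw [Subgroup.orderOf_coe]; exact hσ'
    have hσN : (σ' : G) ∈ Subgroup.normalizer (C : Set G) := σ'.2
    apply hA
    apply Cfsg.Agent.Lib.Helper7.FrobPQ.eq_bot_of_frobenius_pq_action A hAc y (σ' : G) p q hp hq hoy hoσ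
    · rw [hzy]
      exact (Subgroup.mem_normalizer_iff.mp hσN y).mp hyC
    · exact hfpf y hoy
    · intro i hi hc
      have hoi : orderOf ((σ' : G) ^ i) = p := by
        have hdvd : orderOf ((σ' : G) ^ i) ∣ p := by
          rw [← hoσ]; exact orderOf_pow_dvd i
        rcases (Nat.dvd_prime hp).mp hdvd with h | h
        · exact absurd (orderOf_eq_one_iff.mp h) hi
        · exact h
      exact orderOf_mul_absurd hp hq hpq hord hoi hoy hc
    · intro v hv hvq
      have h1 : orderOf v ∣ q := orderOf_dvd_of_pow_eq_one hvq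
      have h2 : orderOf v ∣ p := orderOf_dvd_of_pow_eq_one (hAp v hv)
      have h3 : orderOf v ∣ 1 := by
        have := Nat.dvd_gcd h2 h1
        rwa [(Nat.coprime_primes hp hq).mpr hpq] at this
      exact orderOf_eq_one_iff.mp (Nat.dvd_one.mp h3)
    · intro v hv
      have hmem : (v * (σ' : G)) ^ p ∈ A := by
        rw [← QuotientGroup.eq_one_iff (N := A)]
        rw [QuotientGroup.mk_pow, QuotientGroup.mk_mul, (QuotientGroup.eq_one_iff v).mpr hv,
          one_mul, ← QuotientGroup.mk_pow, ← hoσ, pow_orderOf_eq_one]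
        rfl
      rcases hord (v * (σ' : G)) with h | h | h
      · rw [orderOf_eq_one_iff.mp h, one_pow]
      · rw [← h]; exact pow_orderOf_eq_one _
      · exfalso
        have h4 : ((v * (σ' : G)) ^ p) ^ p = 1 := hAp _ hmem
        rw [← pow_mul] at h4
        have h5 : q ∣ p * p := by rw [← h]; exact orderOf_dvd_of_pow_eq_one h4
        rcases (Nat.Prime.dvd_mul hq).mp h5 with h6 | h6 <;>
          exact hpq ((Nat.prime_dvd_prime_iff_eq hq hp).mp h6).symm
  refine ⟨C, ⟨hCbot, hCtop, ?_⟩, hQcard⟩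
  intro g hg
  by_contra hne
  apply hg
  apply hN
  have hHC : C ⊓ MulAut.conj g • C = C := by
    have hle : C ⊓ MulAut.conj g • C ≤ C := inf_le_left
    have hd : Nat.card (C ⊓ MulAut.conj g • C : Subgroup G) ∣ q := by
      rw [← hQcard]; exact Subgroup.card_dvd_of_le hle
    rcases (Nat.dvd_prime hq).mp hd with h | h
    · exact absurd (Subgroup.eq_bot_of_card_eq _ h) hne
    · exact Subgroup.eq_of_le_of_card_ge hle (by rw [h, hQcard])
  have hle2 : C ≤ MulAut.conj g • C := by
    intro x hx
    rw [← hHC] at hx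
    exact (Subgroup.mem_inf.mp hx).2
  have hcardconj : Nat.card (MulAut.conj g • C : Subgroup G) = Nat.card C :=
    Nat.card_congr (Subgroup.equivSMul (MulAut.conj g) C).toEquiv.symm
  have heq : C = MulAut.conj g • C := Subgroup.eq_of_le_of_card_ge hle2 (by rw [hcardconj])
  rw [Subgroup.mem_normalizer_iff]
  intro h
  have h7 : g * h * g⁻¹ = MulAut.conj g • h := by rw [MulAut.smul_def, MulAut.conj_apply]
  rw [h7]
  nth_rewrite 2 [heq]
  exact (Subgroup.smul_mem_pointwise_smul_iff).symm

end Cfsg.Agent.Lib.Helper8.SameOrd3V
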