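import Mathlib
import Cfsg.Agent.Lib.Helper8.SameOrd3V5
import Cfsg.Agent.Lib.Helper7.SameOrderConj

set_option autoImplicit false

/-!
# Odd order groups with three same-order class sizes
-/

namespace Cfsg.Agent.Lib.Helper8.SameOrd3V

open Cfsg.Agent.Lib.Helper7.SameOrd

variable {G : Type*} [Group G] [Finite G]

theorem odd_order_three_values (hodd : Odd (Nat.card G))
    (h : (((fun m : ℕ => Nat.card {g : G // orderOf g = m}) ''
      Set.range (orderOf : G → ℕ))).ncard = 3) :
    (Nat.card G).primeFactors.card ≤ 2 ∧ ((Nat.card G).primeFactors.card = 2 →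
      (∀ (p : ℕ) [Fact p.Prime] (P : Sylow p G), p ∣ Nat.card G →
        Monoid.exponent ↥(P : Subgroup G) = p) ∧
      ∃ C : Subgroup G, Cfsg.IsFrobeniusComplement C ∧ (Nat.card ↥C).Prime) := by
  obtain ⟨u, v, huv, hu1, hv1, hallv⟩ := exists_vals h
  have hvals : Vals G u v := vals_of_all hallv
  have hn : Nat.card G ≠ 0 := Nat.card_pos.ne'
  have h2n : ¬ 2 ∣ Nat.card G := by
    intro h2
    exact (Nat.not_even_iff_odd.mpr hodd) (even_iff_two_dvd.mpr h2)
  have hodd_prime : ∀ r : ℕ, r ∣ Nat.card G → r ≠ 2 := by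
    rintro r hr rfl
    exact h2n hr
  refine ⟨?_, ?_⟩
  · by_contra hcon
    push Not at hcon
    obtain ⟨a, b, c, ha, hb, hc, hab, hac, hbc⟩ := Finset.two_lt_card_iff.mp hcon
    rw [Nat.mem_primeFactors] at ha hb hc
    exact P3 hvals ha.1 hb.1 hc.1 (hodd_prime a ha.2.1) (hodd_prime b hb.2.1)
      (hodd_prime c hc.2.1) hab hac hbc ha.2.1 hb.2.1 hc.2.1
  · intro hcard2
    obtain ⟨p, q, hpq, hpf⟩ := Finset.card_eq_two.mp hcard2
    have hpm : p ∈ (Nat.card G).primeFactors := by rw [hpf]; simp
    have hqm : q ∈ (Nat.card G).primeFactors := by rw [hpf]; simp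
    rw [Nat.mem_primeFactors] at hpm hqm
    obtain ⟨hp, hpG, -⟩ := hpm
    obtain ⟨hq, hqG, -⟩ := hqm
    have hp2 := hodd_prime p hpG
    have hq2 := hodd_prime q hqG
    have hall : ∀ r : ℕ, r.Prime → r ∣ Nat.card G → r = p ∨ r = q := by
      intro r hr hrG
      have : r ∈ (Nat.card G).primeFactors := Nat.mem_primeFactors.mpr ⟨hr, hrG, hn⟩
      rw [hpf] at this
      simpa using this
    have hne : s G p ≠ s G q := s_ne_of_two_primes hvals hp hq hp2 hq2 hpq hpG hqG hall
    have hpsq : s G (p ^ 2) = 0 := s_sq_zero hvals hp hq hp2 hq2 hpq hpG hqG hne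
    have hqsq : s G (q ^ 2) = 0 := s_sq_zero hvals hq hp hq2 hp2 hpq.symm hqG hpG hne.symm
    obtain ⟨hspq, -, -⟩ := spq_zero hvals hp hq hp2 hq2 hpq hpG hqG hne
    -- all elements have order 1, p or q
    have hord : ∀ g : G, orderOf g = 1 ∨ orderOf g = p ∨ orderOf g = q := by
      intro g
      by_cases h1 : orderOf g = 1
      · exact Or.inl h1
      right
      obtain ⟨r, hr, hrg⟩ := Nat.exists_prime_and_dvd h1
      obtain ⟨m', hm'⟩ := hrg
      have hrG : r ∣ Nat.card G := (Dvd.intro _ hm'.symm).trans (orderOf_dvd_natCard g)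
      have hm1 : m' = 1 := by
        by_contra hm1
        obtain ⟨r', hr', hr'm⟩ := Nat.exists_prime_and_dvd hm1
        have hrr' : r * r' ∣ orderOf g := by
          rw [hm']
          exact Nat.mul_dvd_mul_left r hr'm
        have hr'G : r' ∣ Nat.card G :=
          ((Dvd.intro_left _ rfl).trans hrr').trans (orderOf_dvd_natCard g)
        have hpos := s_pos_of_dvd_order (G := G) hrr'
        rcases hall r hr hrG with rfl | rfl <;> rcases hall r' hr' hr'G with rfl | rfl
        · rw [← pow_two] at hpos; omega
        · omega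
        · rw [mul_comm] at hpos; omega
        · rw [← pow_two] at hpos; omega
      rw [hm1, mul_one] at hm'
      rcases hall r hr hrG with rfl | rfl
      · exact Or.inl hm'
      · exact Or.inr hm'
    refine ⟨?_, ?_⟩
    · intro p' hp' P hp'G
      have hp'pq := hall p' hp'.out hp'G
      have hpow : ∀ x : (P : Subgroup G), x ^ p' = 1 := by
        intro x
        obtain ⟨k, hk⟩ := IsPGroup.iff_card.mp P.isPGroup'
        have hdvd : orderOf (x : G) ∣ p' ^ k := by
          rw [← hk]
          exact Subgroup.orderOf_dvd_natCard _ x.2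
        have hx : (x : G) ^ p' = 1 := by
          rcases hord (x : G) with h1 | h1 | h1
          · rw [orderOf_eq_one_iff.mp h1, one_pow]
          · rw [h1] at hdvd
            have : p = p' :=
              (Nat.prime_dvd_prime_iff_eq hp hp'.out).mp (hp.dvd_of_dvd_pow hdvd)
            have hxp : (x : G) ^ orderOf (x : G) = 1 := pow_orderOf_eq_one _
            rw [h1, this] at hxp
            exact hxp
          · rw [h1] at hdvd
            have : q = p' :=
              (Nat.prime_dvd_prime_iff_eq hq hp'.out).mp (hq.dvd_of_dvd_pow hdvd)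
            have hxp : (x : G) ^ orderOf (x : G) = 1 := pow_orderOf_eq_one _
            rw [h1, this] at hxp
            exact hxp
        exact Subtype.ext (by simpa using hx)
      have hdvd : Monoid.exponent ↥(P : Subgroup G) ∣ p' :=
        Monoid.exponent_dvd_of_forall_pow_eq_one hpow
      rcases (Nat.dvd_prime hp'.out).mp hdvd with h1 | h1
      · exfalso
        have hsub : Subsingleton ↥(P : Subgroup G) := Monoid.exp_eq_one_iff.mp h1
        exact P.ne_bot_of_dvd_card hp'G (Subgroup.eq_bot_of_subsingleton _)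
      · exact h1
    · -- the Frobenius complement
      obtain ⟨i, j, hij⟩ := card_form hn hp hq hall
      haveI : Group.IsSolvable G := Cfsg.Agent.S0144.result p q i j hp hq hij
      haveI : Nontrivial G := by
        rw [← Finite.one_lt_card_iff_nontrivial]
        have := Nat.le_of_dvd (Nat.pos_of_ne_zero hn) hpG
        have := hp.two_le
        omega
      obtain ⟨A, hAn, hAbot, hAc⟩ := Cfsg.Agent.Lib.Helper7.SOC.exists_abelian_normal (G := G)
      obtain ⟨⟨a0, ha0⟩, ha01'⟩ := (Subgroup.ne_bot_iff_exists_ne_one).mp hAbot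
      have ha01 : a0 ≠ 1 := fun h => ha01' (Subtype.ext h)
      have hord' : ∀ g : G, orderOf g = 1 ∨ orderOf g = q ∨ orderOf g = p := by
        intro g
        rcases hord g with h1 | h1 | h1
        · exact Or.inl h1
        · exact Or.inr (Or.inr h1)
        · exact Or.inr (Or.inl h1)
      have hall' : ∀ r : ℕ, r.Prime → r ∣ Nat.card G → r = q ∨ r = p := fun r hr hrG =>
        (hall r hr hrG).symm
      rcases hord a0 with h1 | h1 | h1
      · exact absurd (orderOf_eq_one_iff.mp h1) ha01
      · -- A is a p-group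
        have hAp : ∀ a ∈ A, a ^ p = 1 := by
          intro a ha
          rcases hord a with h2 | h2 | h2
          · rw [orderOf_eq_one_iff.mp h2, one_pow]
          · rw [← h2]; exact pow_orderOf_eq_one _
          · exact absurd (hAc a0 ha0 a ha) (fun hc =>
              orderOf_mul_absurd hp hq hpq hord h1 h2 hc)
        obtain ⟨C, hC, hCq⟩ := exists_frobenius_complement_of_normal_p hp hq hpq hord hqG hall
          A hAbot hAc hAp
        exact ⟨C, hC, by rw [hCq]; exact hq⟩
      · have hAq : ∀ a ∈ A, a ^ q = 1 := by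
          intro a ha
          rcases hord a with h2 | h2 | h2
          · rw [orderOf_eq_one_iff.mp h2, one_pow]
          · exact absurd (hAc a ha a0 ha0) (fun hc =>
              orderOf_mul_absurd hp hq hpq hord h2 h1 hc)
          · rw [← h2]; exact pow_orderOf_eq_one _
        obtain ⟨C, hC, hCp⟩ := exists_frobenius_complement_of_normal_p hq hp hpq.symm hord'
          hpG hall' A hAbot hAc hAq
        exact ⟨C, hC, by rw [hCp]; exact hp⟩

end Cfsg.Agent.Lib.Helper8.SameOrd3V
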