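import Mathlib
import Cfsg.Agent.Lib.Lead.FrobSylow
import Cfsg.Agent.Lib.Lead.FrobConj1
import Cfsg.Agent.Lib.Lead.Fpf4
import Cfsg.Agent.S0042

set_option autoImplicit false

/-!
# Same order type as a Frobenius group: facts about Frobenius groups
-/

namespace Cfsg.Agent.Lib.Helper8.SameOrdFr

open Cfsg.Agent.Lib.Lead

universe u

variable {X : Type u} [Group X] [Finite X] {H K : Subgroup X}

/-- two elements of order `p` in a `p`-subgroup of a Frobenius complement generate the same
subgroup. -/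
theorem mem_zpowers_of_pgroup (h : FrobData H K) (p : ℕ) (hp : p.Prime) (B : Subgroup X)
    (hBH : B ≤ H) (hB : IsPGroup p B) (u v : X) (hu : u ∈ B) (hv : v ∈ B) (hou : orderOf u = p)
    (hov : orderOf v = p) : v ∈ Subgroup.zpowers u := by
  haveI : Fact p.Prime := ⟨hp⟩
  have hB' : IsPGroup p (B.subgroupOf H) := hB.comap_subtype
  obtain ⟨S, hS⟩ := hB'.exists_le_sylow
  have hU := h.uniqueOrderP_sylow S
  let u' : H := ⟨u, hBH hu⟩
  let v' : H := ⟨v, hBH hv⟩
  have hu'S : u' ∈ (S : Subgroup H) := hS (Subgroup.mem_subgroupOf.mpr hu)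
  have hv'S : v' ∈ (S : Subgroup H) := hS (Subgroup.mem_subgroupOf.mpr hv)
  let u'' : (S : Subgroup H) := ⟨u', hu'S⟩
  let v'' : (S : Subgroup H) := ⟨v', hv'S⟩
  have hou'' : orderOf u'' = p := by
    rw [← Subgroup.orderOf_coe, ← Subgroup.orderOf_coe]
    exact hou
  have hov'' : orderOf v'' = p := by
    rw [← Subgroup.orderOf_coe, ← Subgroup.orderOf_coe]
    exact hov
  have heq := hU (Subgroup.zpowers u'') (Subgroup.zpowers v'')
    (by rw [Nat.card_zpowers, hou'']) (by rw [Nat.card_zpowers, hov''])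
  have hv2 : v'' ∈ Subgroup.zpowers u'' := heq ▸ Subgroup.mem_zpowers v''
  obtain ⟨k, hk⟩ := Subgroup.mem_zpowers_iff.mp hv2
  refine Subgroup.mem_zpowers_iff.mpr ⟨k, ?_⟩
  have := congrArg (fun z : (S : Subgroup H) => ((z : H) : X)) hk
  simpa using this

/-- the Frobenius kernel is nilpotent. -/
theorem isNilpotent_kernel (h : FrobData H K) : Group.IsNilpotent K := by
  obtain ⟨N, hN, -, hnil⟩ := Cfsg.Agent.S0042.result H h.frob
  have : N = K := SetLike.coe_injective (hN.trans h.coe_eq.symm)
  subst this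
  exact hnil

theorem mem_of_coprime_index' (N : Subgroup X) [N.Normal] (g : X)
    (hc : Nat.Coprime (orderOf g) N.index) : g ∈ N := by
  have h1 : orderOf (QuotientGroup.mk' N g) ∣ orderOf g := orderOf_map_dvd _ g
  have h2 : orderOf (QuotientGroup.mk' N g) ∣ N.index := by
    rw [Subgroup.index_eq_card]
    exact orderOf_dvd_natCard _
  have h3 : orderOf (QuotientGroup.mk' N g) = 1 := Nat.eq_one_of_dvd_coprimes hc h1 h2
  rw [orderOf_eq_one_iff] at h3
  exact (QuotientGroup.eq_one_iff g).1 h3

/-- a prime dividing the order of the kernel does not divide the order of the complement. -/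
theorem not_dvd_complement (h : FrobData H K) {p : ℕ} (hp : p.Prime) (hpK : p ∣ Nat.card K) :
    ¬ p ∣ Nat.card H := by
  intro hpH
  have := Nat.dvd_gcd hpK hpH
  rw [h.coprime] at this
  exact hp.one_lt.ne' (Nat.dvd_one.mp this)

/-- a Frobenius group has no element of order `p * r`, `p ∣ |K|`, `r ∣ |H|` primes. -/
theorem no_mixed_order (h : FrobData H K) {p r : ℕ} (hp : p.Prime) (hr : r.Prime)
    (hpK : p ∣ Nat.card K) (hrH : r ∣ Nat.card H) (g : X) : orderOf g ≠ p * r := by
  intro hg
  haveI := h.normal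
  have hpH : ¬ p ∣ Nat.card H := not_dvd_complement h hp hpK
  have hrK : ¬ r ∣ Nat.card K := by
    intro hrK
    have := Nat.dvd_gcd hrK hrH
    rw [h.coprime] at this
    exact hr.one_lt.ne' (Nat.dvd_one.mp this)
  have hz : orderOf (g ^ r) = p := by
    rw [orderOf_pow_of_dvd hr.ne_zero (by rw [hg]; exact dvd_mul_left r p), hg,
      Nat.mul_div_cancel _ hr.pos]
  have hy : orderOf (g ^ p) = r := by
    rw [orderOf_pow_of_dvd hp.ne_zero (by rw [hg]; exact dvd_mul_right p r), hg,
      Nat.mul_div_cancel_left _ hp.pos]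
  have hzK : g ^ r ∈ K := by
    apply mem_of_coprime_index' K
    rw [hz, h.compl.symm.index_eq_card]
    exact (Nat.Prime.coprime_iff_not_dvd hp).mpr hpH
  have hyK : g ^ p ∉ K := by
    intro hyK
    have h1 : orderOf (g ^ p) ∣ Nat.card K := by
      have := orderOf_dvd_natCard (⟨g ^ p, hyK⟩ : K)
      rwa [← Subgroup.orderOf_coe] at this
    rw [hy] at h1
    exact hrK h1
  obtain ⟨-, a, ha⟩ := h.not_mem_iff.mp hyK
  rw [mem_conj_smul_iff] at ha
  have hy1 : a⁻¹ * g ^ p * a ≠ 1 := by
    intro h1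
    have : g ^ p = 1 := by
      have h2 : g ^ p = a * (a⁻¹ * g ^ p * a) * a⁻¹ := by group
      rw [h2, h1]; group
    rw [this, orderOf_one] at hy
    exact hr.one_lt.ne hy
  have hzK' : a⁻¹ * g ^ r * a ∈ K := by
    have := h.normal.conj_mem _ hzK a⁻¹
    simpa using this
  have hcomm : a⁻¹ * g ^ p * a * (a⁻¹ * g ^ r * a) = a⁻¹ * g ^ r * a * (a⁻¹ * g ^ p * a) := by
    have h1 : g ^ p * g ^ r = g ^ r * g ^ p := by rw [← pow_add, ← pow_add, add_comm]
    calc a⁻¹ * g ^ p * a * (a⁻¹ * g ^ r * a) = a⁻¹ * (g ^ p * g ^ r) * a := by group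
      _ = a⁻¹ * (g ^ r * g ^ p) * a := by rw [h1]
      _ = _ := by group
  have h1 := h.fpf ha hy1 hzK' hcomm
  have h2 : g ^ r = 1 := by
    have h3 : g ^ r = a * (a⁻¹ * g ^ r * a) * a⁻¹ := by group
    rw [h3, h1]; group
  rw [h2, orderOf_one] at hz
  exact hp.one_lt.ne hz

/-- the Sylow subgroups of the kernel are normal Sylow subgroups of the whole group. -/
theorem exists_normal_sylow_of_dvd_kernel (h : FrobData H K) {p : ℕ} (hp : p.Prime)
    (hpK : p ∣ Nat.card K) :
    ∃ Q : Subgroup X, Q.Normal ∧ Nat.card Q = p ^ (Nat.card X).factorization p := by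
  haveI : Fact p.Prime := ⟨hp⟩
  haveI := h.normal
  have hnil := isNilpotent_kernel h
  let Q₀ : Sylow p K := default
  haveI hQ₀n : (Q₀ : Subgroup K).Normal :=
    haveI := hnil
    Sylow.normal_of_normalizerCondition normalizerCondition_of_isNilpotent Q₀
  haveI : (Q₀ : Subgroup K).Characteristic := Sylow.characteristic_of_normal Q₀ hQ₀n
  refine ⟨(Q₀ : Subgroup K).map K.subtype, ConjAct.normal_of_characteristic_of_normal, ?_⟩
  rw [Subgroup.card_map_of_injective K.subtype_injective, Sylow.card_eq_multiplicity]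
  congr 1
  rw [← h.card_mul, Nat.factorization_mul Nat.card_pos.ne' Nat.card_pos.ne']
  simp [Nat.factorization_eq_zero_of_not_dvd (not_dvd_complement h hp hpK)]

/-- a Frobenius group is solvable iff its complement is. -/
theorem isSolvable_iff_complement (h : FrobData H K) :
    Group.IsSolvable X ↔ Group.IsSolvable H := by
  haveI := h.normal
  constructor
  · intro hX
    exact Group.isSolvable_of_isSolvable_injective H.subtype_injective
  · intro hH
    have hnil := isNilpotent_kernel h
    have hK : Group.IsSolvable K := @IsNilpotent.to_isSolvable _ _ hnil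
    have e : X ⧸ K ≃* H := h.compl.symm.QuotientMulEquiv
    have hq : Group.IsSolvable (X ⧸ K) :=
      Group.isSolvable_of_isSolvable_injective (f := e.toMonoidHom) e.injective
    exact Fpf.isSolvable_of_normal_of_quotient K hK hq

end Cfsg.Agent.Lib.Helper8.SameOrdFr
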