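import Mathlib
import Cfsg.Agent.Lib.Helper2.Basic

set_option autoImplicit false

/-!
# Normal Sylow subgroups for a set of primes give a normal Hall subgroup
-/

namespace Cfsg.Agent.Lib.Helper8.SameOrdFr

universe u

variable {X : Type u} [Group X] [Finite X]

theorem exists_normal_of_normal_sylows_aux (S : Finset ℕ) :
    (∀ p ∈ S, p.Prime ∧
      ∃ R : Subgroup X, R.Normal ∧ Nat.card R = p ^ (Nat.card X).factorization p) →
    ∃ K : Subgroup X, K.Normal ∧
      Nat.card K = ∏ p ∈ S, p ^ (Nat.card X).factorization p := by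
  classical
  induction S using Finset.induction_on with
  | empty =>
    intro _
    exact ⟨⊥, inferInstance, by simp⟩
  | insert p S hpS ih =>
    intro h
    obtain ⟨K, hKn, hKc⟩ := ih (fun q hq => h q (Finset.mem_insert_of_mem hq))
    obtain ⟨hp, R, hRn, hRc⟩ := h p (Finset.mem_insert_self p S)
    haveI := hKn
    haveI := hRn
    refine ⟨K ⊔ R, inferInstance, ?_⟩
    have hcop : (Nat.card K).Coprime (Nat.card R) := by
      rw [hKc, hRc]
      apply Nat.Coprime.prod_left
      intro q hq
      have hqp : q ≠ p := fun hqp => hpS (hqp ▸ hq)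
      have hqprime := (h q (Finset.mem_insert_of_mem hq)).1
      exact Nat.Coprime.pow _ _ ((Nat.coprime_primes hqprime hp).mpr hqp)
    have hinf : K ⊓ R = ⊥ := Subgroup.inf_eq_bot_of_coprime hcop
    have h1 := Cfsg.Agent.Lib.Helper2.card_sup_mul_card_inf K R
      (by rw [Subgroup.normalizer_eq_top]; exact le_top)
    rw [hinf, Subgroup.card_bot, mul_one] at h1
    rw [h1, Finset.prod_insert hpS, hKc, hRc, mul_comm]

/-- normal Sylow subgroups for all primes dividing `n` give a normal subgroup of order `n`. -/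
theorem exists_normal_of_normal_sylows (n : ℕ) (hn : n ∣ Nat.card X)
    (hcop : n.Coprime (Nat.card X / n))
    (hS : ∀ p : ℕ, p.Prime → p ∣ n →
      ∃ R : Subgroup X, R.Normal ∧ Nat.card R = p ^ (Nat.card X).factorization p) :
    ∃ K : Subgroup X, K.Normal ∧ Nat.card K = n := by
  have hX0 : Nat.card X ≠ 0 := Nat.card_pos.ne'
  have hn0 : n ≠ 0 := fun h0 => hX0 (by rw [h0] at hn; exact Nat.eq_zero_of_zero_dvd hn)
  obtain ⟨K, hKn, hKc⟩ := exists_normal_of_normal_sylows_aux (X := X) n.primeFactors
    (fun p hp => ⟨Nat.prime_of_mem_primeFactors hp,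
      hS p (Nat.prime_of_mem_primeFactors hp) (Nat.dvd_of_mem_primeFactors hp)⟩)
  refine ⟨K, hKn, ?_⟩
  rw [hKc]
  have h1 : ∀ p ∈ n.primeFactors, p ^ (Nat.card X).factorization p = p ^ n.factorization p := by
    intro p hp
    have hpp := Nat.prime_of_mem_primeFactors hp
    have hpn := Nat.dvd_of_mem_primeFactors hp
    have hm0 : Nat.card X / n ≠ 0 := by
      intro h0
      have := Nat.div_mul_cancel hn
      rw [h0, zero_mul] at this
      exact hX0 this.symm
    have hpm : ¬ p ∣ Nat.card X / n := by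
      intro hpm
      have := Nat.dvd_gcd hpn hpm
      rw [hcop] at this
      exact hpp.one_lt.ne' (Nat.dvd_one.mp this)
    congr 1
    conv_lhs => rw [← Nat.mul_div_cancel' hn]
    rw [Nat.factorization_mul hn0 hm0]
    simp [Nat.factorization_eq_zero_of_not_dvd hpm]
  rw [Finset.prod_congr rfl h1]
  exact Nat.factorization_prod_pow_eq_self hn0

end Cfsg.Agent.Lib.Helper8.SameOrdFr
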