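import Mathlib
import Cfsg.Agent.Lib.Helper8.SameOrdFr1
import Cfsg.Agent.Lib.Lead.FrobCenter2
import Cfsg.Agent.Lib.Lead.UniqueOrderP5
import Cfsg.Agent.Lib.Helper7.CoprimeHall

set_option autoImplicit false

/-!
# Solvable Frobenius complements: elements of prime order `p ≥ 5` lie in one cyclic subgroup
-/

namespace Cfsg.Agent.Lib.Helper8.SameOrdFr

open Cfsg.Agent.Lib.Lead

universe u

variable {X : Type u} [Group X] [Finite X] {H K : Subgroup X}

/-- the hypothesis provided by package P4c. -/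
def TwoGroupHyp (H : Subgroup X) : Prop :=
  ∀ x : X, x ∈ H → ∀ p : ℕ, p.Prime → 5 ≤ p → orderOf x = p → ∀ Q : Subgroup X, Q ≤ H →
    IsPGroup 2 Q → x ∈ Subgroup.normalizer (Q : Set X) → ∀ y ∈ Q, x * y = y * x

theorem mem_normalizer_of_conj_mem (Z : Subgroup X) (x : X)
    (hx : ∀ g ∈ Z, x * g * x⁻¹ ∈ Z) : x ∈ Subgroup.normalizer (Z : Set X) := by
  rw [Subgroup.mem_normalizer_iff]
  intro g
  refine ⟨hx g, fun hg => ?_⟩
  let f : Z → Z := fun z => ⟨x * z * x⁻¹, hx z z.2⟩
  have hinj : Function.Injective f := by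
    intro a b hab
    have := congrArg Subtype.val hab
    simp only [f] at this
    exact Subtype.ext (mul_left_cancel (mul_right_cancel this))
  obtain ⟨a, ha⟩ := (Finite.injective_iff_surjective.mp hinj) ⟨x * g * x⁻¹, hg⟩
  have := congrArg Subtype.val ha
  simp only [f] at this
  have hag : (a : X) = g := mul_left_cancel (mul_right_cancel this)
  rw [← hag]
  exact a.2

omit [Finite X] in
theorem conj_mem_zpowers {x z : X} (hz : x * z * x⁻¹ ∈ Subgroup.zpowers z) :
    ∀ g ∈ Subgroup.zpowers z, x * g * x⁻¹ ∈ Subgroup.zpowers z := by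
  intro g hg
  obtain ⟨k, rfl⟩ := Subgroup.mem_zpowers_iff.mp hg
  rw [← conj_zpow]
  exact Subgroup.zpow_mem _ hz k

/-- (N1) an element of order `p` normalising a subgroup of order `p` of a Frobenius complement
lies in it. -/
theorem mem_zpowers_of_conj_mem (h : FrobData H K) (p : ℕ) (hp : p.Prime) (x z : X)
    (hx : x ∈ H) (hz : z ∈ H) (hox : orderOf x = p) (hoz : orderOf z = p)
    (hc : x * z * x⁻¹ ∈ Subgroup.zpowers z) : x ∈ Subgroup.zpowers z := by
  haveI : Fact p.Prime := ⟨hp⟩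
  have hn : x ∈ Subgroup.normalizer (Subgroup.zpowers z : Set X) :=
    mem_normalizer_of_conj_mem _ x (conj_mem_zpowers hc)
  have hPx : IsPGroup p (Subgroup.zpowers x) :=
    IsPGroup.of_card (n := 1) (by rw [Nat.card_zpowers, hox, pow_one])
  have hPz : IsPGroup p (Subgroup.zpowers z) :=
    IsPGroup.of_card (n := 1) (by rw [Nat.card_zpowers, hoz, pow_one])
  have hB : IsPGroup p (Subgroup.zpowers x ⊔ Subgroup.zpowers z : Subgroup X) :=
    IsPGroup.to_sup_of_normal_right' hPx hPz (Subgroup.zpowers_le.mpr hn)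
  have hBH : Subgroup.zpowers x ⊔ Subgroup.zpowers z ≤ H :=
    sup_le (Subgroup.zpowers_le.mpr hx) (Subgroup.zpowers_le.mpr hz)
  exact mem_zpowers_of_pgroup h p hp _ hBH hB z x
    (Subgroup.mem_sup_right (Subgroup.mem_zpowers z))
    (Subgroup.mem_sup_left (Subgroup.mem_zpowers x)) hoz hox

theorem zpowers_eq_of_mem {p : ℕ} {x z : X} (hox : orderOf x = p) (hoz : orderOf z = p)
    (hxz : x ∈ Subgroup.zpowers z) : Subgroup.zpowers x = Subgroup.zpowers z := by
  apply Subgroup.eq_of_le_of_card_ge (Subgroup.zpowers_le.mpr hxz)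
  rw [Nat.card_zpowers, Nat.card_zpowers, hox, hoz]

/-- (C) an element of prime order `p ≥ 5` centralises every `q`-subgroup (`q ≠ p`) of the
complement that it normalises. -/
theorem prime_centralizes_qgroup (h : FrobData H K) (h2 : TwoGroupHyp H) (x : X) (hxH : x ∈ H)
    (p : ℕ) (hp : p.Prime) (hp5 : 5 ≤ p) (hox : orderOf x = p) (q : ℕ) (hq : q.Prime)
    (hqp : q ≠ p) (Q : Subgroup X) (hQH : Q ≤ H) (hQ : IsPGroup q Q)
    (hxQ : x ∈ Subgroup.normalizer (Q : Set X)) : ∀ y ∈ Q, x * y = y * x := by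
  haveI : Fact q.Prime := ⟨hq⟩
  by_cases hq2 : q = 2
  · subst hq2
    exact h2 x hxH p hp hp5 hox Q hQH hQ hxQ
  · -- `Q` is abelian
    have hQ' : IsPGroup q (Q.subgroupOf H) := hQ.comap_subtype
    obtain ⟨S, hS⟩ := hQ'.exists_le_sylow
    have hcyc : IsCyclic (S : Subgroup H) := by
      rcases (h.uniqueOrderP_sylow S).main S.2 with h1 | ⟨h1, -⟩
      · exact h1
      · exact absurd h1 hq2
    have hcomm : ∀ a ∈ Q, ∀ b ∈ Q, a * b = b * a := by
      intro a ha b hb
      have haS : (⟨a, hQH ha⟩ : H) ∈ (S : Subgroup H) := hS (Subgroup.mem_subgroupOf.mpr ha)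
      have hbS : (⟨b, hQH hb⟩ : H) ∈ (S : Subgroup H) := hS (Subgroup.mem_subgroupOf.mpr hb)
      letI := hcyc.commGroup
      have := mul_comm (⟨⟨a, hQH ha⟩, haS⟩ : (S : Subgroup H)) ⟨⟨b, hQH hb⟩, hbS⟩
      have := congrArg (fun z : (S : Subgroup H) => ((z : H) : X)) this
      simpa using this
    haveI : IsMulCommutative Q := ⟨⟨fun a b => Subtype.ext (hcomm a a.2 b b.2)⟩⟩
    have hpQ : ¬ p ∣ Nat.card Q := by
      obtain ⟨k, hk⟩ := hQ.exists_card_eq
      rw [hk]
      intro hd
      exact hqp ((Nat.prime_dvd_prime_iff_eq hp hq).mp (hp.dvd_of_dvd_pow hd)).symm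
    exact h.prime_centralizes_abelian x hxH p hp hox Q hQH hxQ hpQ

/-- (D) an element of prime order `p ≥ 5` centralises every solvable `p'`-subgroup of the
complement that it normalises. -/
theorem prime_centralizes_solvable (h : FrobData H K) (h2 : TwoGroupHyp H) (x : X) (hxH : x ∈ H)
    (p : ℕ) (hp : p.Prime) (hp5 : 5 ≤ p) (hox : orderOf x = p) (M : Subgroup X) (hMH : M ≤ H)
    (hMs : Group.IsSolvable M) (hxM : x ∈ Subgroup.normalizer (M : Set X))
    (hpM : ¬ p ∣ Nat.card M) : ∀ m ∈ M, x * m = m * x := by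
  set C : Subgroup X := M ⊓ Subgroup.centralizer {x} with hC
  have hC0 : Nat.card C ≠ 0 := Nat.card_pos.ne'
  have hM0 : Nat.card M ≠ 0 := Nat.card_pos.ne'
  have hAK : Subgroup.zpowers x ≤ Subgroup.normalizer (M : Set X) := Subgroup.zpowers_le.mpr hxM
  have hcop : (Nat.card (Subgroup.zpowers x)).Coprime (Nat.card M) := by
    rw [Nat.card_zpowers, hox]
    exact (Nat.Prime.coprime_iff_not_dvd hp).mpr hpM
  have hdvd : Nat.card M ∣ Nat.card C := by
    rw [← Nat.factorization_prime_le_iff_dvd hM0 hC0]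
    intro q hq
    by_cases hqM : q ∣ Nat.card M
    · have hqp : q ≠ p := fun hqp => hpM (hqp ▸ hqM)
      have hn : Nat.card M = q ^ (Nat.card M).factorization q *
          (Nat.card M / q ^ (Nat.card M).factorization q) :=
        (Nat.mul_div_cancel' (Nat.ordProj_dvd (Nat.card M) q)).symm
      have hmn : (q ^ (Nat.card M).factorization q).Coprime
          (Nat.card M / q ^ (Nat.card M).factorization q) :=
        Nat.Coprime.pow_left _ (Nat.coprime_ordCompl hq hM0)
      obtain ⟨Q, hQM, hQc, hQn⟩ := Cfsg.Agent.Lib.Helper7.coprime_hall_exists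
        (Subgroup.zpowers x) M hAK hcop hMs _ _ hn hmn
      have hQp : IsPGroup q Q := IsPGroup.of_card hQc
      have hcent := prime_centralizes_qgroup h h2 x hxH p hp hp5 hox q hq hqp Q (hQM.trans hMH)
        hQp (hQn (Subgroup.mem_zpowers x))
      have hQC : Q ≤ C := by
        intro y hy
        refine Subgroup.mem_inf.mpr ⟨hQM hy, ?_⟩
        rw [Subgroup.mem_centralizer_singleton_iff]
        exact (hcent y hy).symm
      have h3 : q ^ (Nat.card M).factorization q ∣ Nat.card C := by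
        rw [← hQc]
        exact Subgroup.card_dvd_of_le hQC
      exact (hq.pow_dvd_iff_le_factorization hC0).mp h3
    · rw [Nat.factorization_eq_zero_of_not_dvd hqM]
      exact Nat.zero_le _
  have hCM : C = M :=
    Subgroup.eq_of_le_of_card_ge inf_le_left (Nat.le_of_dvd Nat.card_pos hdvd)
  intro m hm
  have : m ∈ C := hCM ▸ hm
  have := (Subgroup.mem_inf.mp this).2
  rw [Subgroup.mem_centralizer_singleton_iff] at this
  exact this.symm

end Cfsg.Agent.Lib.Helper8.SameOrdFr
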