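import Mathlib
import Cfsg.Agent.Lib.Helper8.SameOrdFr3

set_option autoImplicit false

/-!
# Solvable Frobenius complements: the main induction
-/

namespace Cfsg.Agent.Lib.Helper8.SameOrdFr

open Cfsg.Agent.Lib.Lead
open scoped commutatorElement

universe u

variable {X : Type u} [Group X] [Finite X] {H K : Subgroup X}

omit [Finite X] in
theorem orderOf_conj' (w z : X) : orderOf (w * z * w⁻¹) = orderOf z := by
  have := (MulAut.conj w).orderOf_eq z
  rwa [MulAut.conj_apply] at this

theorem mem_zpowers_of_solvable_aux (h : FrobData H K) (h2 : TwoGroupHyp H)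
    (hsolv : Group.IsSolvable H) (p : ℕ) (hp : p.Prime) (hp5 : 5 ≤ p) :
    ∀ k : ℕ, ∀ A : Subgroup X, A ≤ H → Nat.card A ≤ k → ∀ x y : X, x ∈ A → y ∈ A →
      orderOf x = p → orderOf y = p → y ∈ Subgroup.zpowers x := by
  intro k
  induction k with
  | zero =>
    intro A _ hk
    have := Nat.card_pos (α := A)
    omega
  | succ k ih =>
    intro A hAH hk x y hxA hyA hox hoy
    haveI hAs : Group.IsSolvable A :=
      Group.isSolvable_of_isSolvable_injective (Subgroup.inclusion_injective hAH)
    have hx1 : x ≠ 1 := by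
      intro h1
      rw [h1, orderOf_one] at hox
      omega
    haveI : Nontrivial A := ⟨⟨⟨x, hxA⟩, 1, fun h1 => hx1 (congrArg Subtype.val h1)⟩⟩
    have hlt := IsSolvable.commutator_lt_top_of_nontrivial (G := A)
    set M : Subgroup X := (commutator A).map A.subtype with hM
    have hMA : M ≤ A := Subgroup.map_subtype_le _
    have hMcard : Nat.card M < Nat.card A := by
      rw [hM, Subgroup.card_map_of_injective A.subtype_injective]
      by_contra hge
      exact hlt.ne (Subgroup.eq_top_of_le_card _ (not_lt.mp hge))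
    have hconjM : ∀ a ∈ A, ∀ m ∈ M, a * m * a⁻¹ ∈ M := by
      rintro a ha _ ⟨m', hm', rfl⟩
      exact ⟨⟨a, ha⟩ * m' * ⟨a, ha⟩⁻¹,
        (inferInstance : (commutator A).Normal).conj_mem m' hm' ⟨a, ha⟩, by simp⟩
    have hcommM : ∀ a ∈ A, ∀ b ∈ A, a * b * a⁻¹ * b⁻¹ ∈ M := by
      intro a ha b hb
      refine ⟨⁅(⟨a, ha⟩ : A), ⟨b, hb⟩⁆,
        Subgroup.commutator_mem_commutator (Subgroup.mem_top _) (Subgroup.mem_top _), ?_⟩
      simp [commutatorElement_def]
    by_cases hpM : p ∣ Nat.card M
    · haveI : Fact p.Prime := ⟨hp⟩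
      obtain ⟨z', hz'⟩ := exists_prime_orderOf_dvd_card' p hpM
      have hoz : orderOf (z' : X) = p := by rw [Subgroup.orderOf_coe]; exact hz'
      have hzM : (z' : X) ∈ M := z'.2
      have ihM := ih M (hMA.trans hAH) (by omega)
      have key : ∀ w ∈ A, orderOf w = p → w ∈ Subgroup.zpowers (z' : X) := by
        intro w hw how
        apply mem_zpowers_of_conj_mem h p hp w z' (hAH hw) (hAH (hMA hzM)) how hoz
        apply ihM z' (w * z' * w⁻¹) hzM (hconjM w hw z' hzM) hoz
        rw [orderOf_conj']
        exact hoz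
      have hx := key x hxA hox
      have hy := key y hyA hoy
      rw [zpowers_eq_of_mem hox hoz hx]
      exact hy
    · set M₁ : Subgroup X := M ⊔ Subgroup.zpowers x with hM₁
      have hM₁A : M₁ ≤ A := sup_le hMA (Subgroup.zpowers_le.mpr hxA)
      have hxM₁ : x ∈ M₁ := Subgroup.mem_sup_right (Subgroup.mem_zpowers x)
      have hconjM₁ : ∀ a ∈ A, ∀ g ∈ M₁, a * g * a⁻¹ ∈ M₁ := by
        intro a ha g hg
        have h3 : a * g * a⁻¹ = (a * g * a⁻¹ * g⁻¹) * g := by group
        rw [h3]
        exact M₁.mul_mem (Subgroup.mem_sup_left (hcommM a ha g (hM₁A hg))) hg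
      have hfin : y * x * y⁻¹ ∈ Subgroup.zpowers x := by
        by_cases hlt1 : Nat.card M₁ < Nat.card A
        · have ihM₁ := ih M₁ (hM₁A.trans hAH) (by omega)
          exact ihM₁ x (y * x * y⁻¹) hxM₁ (hconjM₁ y hyA x hxM₁) hox
            (by rw [orderOf_conj']; exact hox)
        · have hM₁eq : M₁ = A := Subgroup.eq_of_le_of_card_ge hM₁A (not_lt.mp hlt1)
          have hxnM : x ∈ Subgroup.normalizer (M : Set X) :=
            mem_normalizer_of_conj_mem M x (hconjM x hxA)
          have hMs : Group.IsSolvable M :=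
            Group.isSolvable_of_isSolvable_injective
              (Subgroup.inclusion_injective (hMA.trans hAH))
          have hcent := prime_centralizes_solvable h h2 x (hAH hxA) p hp hp5 hox M
            (hMA.trans hAH) hMs hxnM hpM
          have hle : M₁ ≤ Subgroup.centralizer {x} := by
            apply sup_le
            · intro m hm
              rw [Subgroup.mem_centralizer_singleton_iff]
              exact (hcent m hm).symm
            · rw [Subgroup.zpowers_le, Subgroup.mem_centralizer_singleton_iff]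
          have hy' : y ∈ Subgroup.centralizer {x} := hle (hM₁eq ▸ hyA)
          rw [Subgroup.mem_centralizer_singleton_iff] at hy'
          have h4 : y * x * y⁻¹ = x := by rw [hy']; group
          rw [h4]
          exact Subgroup.mem_zpowers x
      exact mem_zpowers_of_conj_mem h p hp y x (hAH hyA) (hAH hxA) hoy hox hfin

/-- **P4** (modulo the hypothesis on 2-groups): in a solvable Frobenius complement, the elements
of order `p ≥ 5` lie in one cyclic subgroup. -/
theorem mem_zpowers_of_solvable' (h : FrobData H K) (h2 : TwoGroupHyp H)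
    (hsolv : Group.IsSolvable H) (p : ℕ)
    (hp : p.Prime) (hp5 : 5 ≤ p) (x y : X) (hx : x ∈ H) (hy : y ∈ H) (hox : orderOf x = p)
    (hoy : orderOf y = p) : y ∈ Subgroup.zpowers x :=
  mem_zpowers_of_solvable_aux h h2 hsolv p hp hp5 (Nat.card H) H le_rfl le_rfl x y hx hy hox hoy

end Cfsg.Agent.Lib.Helper8.SameOrdFr
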