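import Mathlib
import Cfsg.Agent.Lib.Helper8.SameOrdFr4
import Cfsg.Agent.Lib.Helper8.SameOrdFr2
import Cfsg.Agent.Lib.Helper8.SameOrdSS2
import Cfsg.Agent.Lib.Helper4.SameOrdGA3
import Cfsg.Agent.Lib.Helper3.SameOrdGA2
import Cfsg.Agent.Lib.Helper5.SameOrdP4c
import Cfsg.Agent.Lib.Helper2.SameOrdP5

set_option autoImplicit false

/-!
# A group with the same order type as a Frobenius group is a Frobenius group
-/

namespace Cfsg.Agent.Lib.Helper8.SameOrdFr

open Cfsg.Agent.Lib.Lead Cfsg.Agent.Lib.Helper7.SameOrd Cfsg.Agent.Lib.Helper8.SameOrdSS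

universe u v

section complement

variable {X : Type u} [Group X] [Finite X] {H K : Subgroup X}

theorem twoGroupHyp (h : FrobData H K) : TwoGroupHyp H :=
  fun x hxH p hp hp5 hox Q hQH hQ2 hxQ =>
    Cfsg.Agent.Lib.Helper5.SameOrdP4c.prime_centralizes_two_group h x hxH p hp hp5 hox Q hQH
      hQ2 hxQ

/-- **P4**: in a solvable Frobenius complement, the elements of order `p ≥ 5` lie in one cyclic
subgroup. -/
theorem mem_zpowers_of_solvable (h : FrobData H K) (hsolv : Group.IsSolvable H) (p : ℕ)
    (hp : p.Prime) (hp5 : 5 ≤ p) (x y : X) (hx : x ∈ H) (hy : y ∈ H) (hox : orderOf x = p)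
    (hoy : orderOf y = p) : y ∈ Subgroup.zpowers x :=
  mem_zpowers_of_solvable' h (twoGroupHyp h) hsolv p hp hp5 x y hx hy hox hoy

/-- a solvable Frobenius complement has at most four elements of order 5. -/
theorem s_five_le (h : FrobData H K) (hsolv : Group.IsSolvable H) : s H 5 ≤ 4 := by
  classical
  by_cases hex : ∃ x : H, orderOf x = 5
  · obtain ⟨x, hox⟩ := hex
    have hmem : ∀ y : H, orderOf y = 5 → y ∈ Subgroup.zpowers x := by
      intro y hoy
      have h1 := mem_zpowers_of_solvable h hsolv 5 (by norm_num) le_rfl (x : X) (y : X) x.2 y.2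
        (by rw [Subgroup.orderOf_coe]; exact hox) (by rw [Subgroup.orderOf_coe]; exact hoy)
      obtain ⟨k, hk⟩ := Subgroup.mem_zpowers_iff.mp h1
      exact Subgroup.mem_zpowers_iff.mpr ⟨k, Subtype.ext (by simpa using hk)⟩
    haveI : Fintype {g : H // orderOf g = 5} := Fintype.ofFinite _
    haveI : Fintype (Subgroup.zpowers x) := Fintype.ofFinite _
    let f : {g : H // orderOf g = 5} → Subgroup.zpowers x := fun g => ⟨g.1, hmem g.1 g.2⟩
    have hf : Function.Injective f := by
      intro a b hab
      have := congrArg (fun z : Subgroup.zpowers x => (z : H)) hab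
      exact Subtype.ext this
    have hnot : (1 : Subgroup.zpowers x) ∉ Set.range f := by
      rintro ⟨g, hg⟩
      have h1 : (g : H) = 1 := congrArg (fun z : Subgroup.zpowers x => (z : H)) hg
      have h2 := g.2
      rw [h1, orderOf_one] at h2
      omega
    have h3 := Fintype.card_lt_of_injective_of_notMem f hf hnot
    have h4 : Fintype.card (Subgroup.zpowers x) = 5 := by
      rw [← Nat.card_eq_fintype_card, Nat.card_zpowers, hox]
    unfold s
    rw [Nat.card_eq_fintype_card]
    omega
  · have : s H 5 = 0 := by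
      rw [s_eq_zero_iff]
      rintro ⟨x, hx⟩
      exact hex ⟨x, hx⟩
    omega

/-- a nonsolvable Frobenius complement has at least five elements of order 5. -/
theorem five_le_s_five (h : FrobData H K) (hns : ¬ Group.IsSolvable H) : 5 ≤ s H 5 := by
  classical
  obtain ⟨u, v, hu, hv, hou, hov, huv⟩ :=
    Cfsg.Agent.Lib.Helper2.SameOrdP5.exists_noncommuting_order_five h hns
  let u' : H := ⟨u, hu⟩
  let v' : H := ⟨v, hv⟩
  have hou' : orderOf u' = 5 := by rw [← Subgroup.orderOf_coe]; exact hou
  have hov' : orderOf v' = 5 := by rw [← Subgroup.orderOf_coe]; exact hov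
  have hvz : v' ∉ Subgroup.zpowers u' := by
    intro hmem
    obtain ⟨k, hk⟩ := Subgroup.mem_zpowers_iff.mp hmem
    apply huv
    have h1 : v = u ^ k := by
      have := congrArg (fun z : H => (z : X)) hk
      simpa [u', v'] using this.symm
    rw [h1]
    exact (Commute.self_zpow u k).eq
  have hcardZ : Nat.card (Subgroup.zpowers u') = 5 := by rw [Nat.card_zpowers, hou']
  have hord : ∀ z : Subgroup.zpowers u', z ≠ 1 → orderOf (z : H) = 5 := by
    intro z hz
    have h1 : orderOf z ∣ 5 := hcardZ ▸ orderOf_dvd_natCard z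
    rw [Subgroup.orderOf_coe]
    rcases (Nat.dvd_prime (by norm_num : Nat.Prime 5)).mp h1 with h2 | h2
    · exact absurd (orderOf_eq_one_iff.mp h2) hz
    · exact h2
  let f : Subgroup.zpowers u' → {g : H // orderOf g = 5} := fun z =>
    if hz : z = 1 then ⟨v', hov'⟩ else ⟨(z : H), hord z hz⟩
  have hf : Function.Injective f := by
    intro a b hab
    by_cases ha : a = 1
    · by_cases hb : b = 1
      · rw [ha, hb]
      · exfalso
        simp only [f, dif_pos ha, dif_neg hb] at hab
        have h1 : v' = (b : H) := congrArg Subtype.val hab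
        exact hvz (h1 ▸ b.2)
    · by_cases hb : b = 1
      · exfalso
        simp only [f, dif_neg ha, dif_pos hb] at hab
        have h1 : (a : H) = v' := congrArg Subtype.val hab
        exact hvz (h1 ▸ a.2)
      · simp only [f, dif_neg ha, dif_neg hb] at hab
        have h1 : (a : H) = (b : H) :=
          congrArg (fun z : {g : H // orderOf g = 5} => (z : H)) hab
        exact Subtype.ext h1
  have := Nat.card_le_card_of_injective f hf
  rw [hcardZ] at this
  exact this

end complement

section transport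

variable {A : Type u} {B : Type v} [Group A] [Group B]

theorem s_congr (e : A ≃* B) (m : ℕ) : s A m = s B m := by
  unfold s
  exact Nat.card_congr (e.toEquiv.subtypeEquiv (fun a => by
    show orderOf a = m ↔ orderOf (e a) = m
    rw [MulEquiv.orderOf_eq]))

end transport

section main

variable {F : Type u} {G : Type v} [Group F] [Finite F] [Group G] [Finite G]

theorem solvable_of_complements {H K : Subgroup F} {H' K' : Subgroup G} (h : FrobData H K)
    (h' : FrobData H' K') (h5 : s H 5 = s H' 5) (hs : Group.IsSolvable H) :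
    Group.IsSolvable H' := by
  by_contra hns
  have h1 := s_five_le h hs
  have h2 := five_le_s_five h' hns
  omega

theorem main (hF : ∃ C : Subgroup F, Cfsg.IsFrobeniusComplement C)
    (hT : ∀ m : ℕ, Nat.card {g : F // orderOf g = m} = Nat.card {h : G // orderOf h = m}) :
    (∃ C : Subgroup G, Cfsg.IsFrobeniusComplement C) ∧
      (Group.IsSolvable G ↔ Group.IsSolvable F) := by
  obtain ⟨C, hC⟩ := hF
  obtain ⟨N, hd⟩ := exists_frobData hC
  have hT' : SameType F G := hT
  have hcard : Nat.card F = Nat.card G := hT'.card_eq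
  haveI := hd.normal
  have hnc : Nat.card N * Nat.card C = Nat.card F := hd.card_mul
  have hcop : (Nat.card N).Coprime (Nat.card C) := hd.coprime
  -- normal Sylow subgroups of `G`
  have hS : ∀ p : ℕ, p.Prime → p ∣ Nat.card N →
      ∃ R : Subgroup G, R.Normal ∧ Nat.card R = p ^ (Nat.card G).factorization p := by
    intro p hp hpn
    obtain ⟨Q, hQn, hQc⟩ := exists_normal_sylow_of_dvd_kernel hd hp hpn
    haveI := hQn
    have h1 := card_pow_of_normal hp Q hQc
    rw [hT'.card_pow _ (pow_pos hp.pos _)] at h1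
    have hfac : (Nat.card F).factorization p = (Nat.card G).factorization p := by rw [hcard]
    rw [hfac] at h1
    exact exists_normal_of_card_pow hp h1
  have hn_dvd : Nat.card N ∣ Nat.card G := by
    rw [← hcard, ← hnc]
    exact dvd_mul_right _ _
  have hquot : Nat.card G / Nat.card N = Nat.card C := by
    rw [← hcard, ← hnc]
    exact Nat.mul_div_cancel_left _ Nat.card_pos
  obtain ⟨KG, hKGn, hKGc⟩ := exists_normal_of_normal_sylows (X := G) (Nat.card N) hn_dvd
    (by rw [hquot]; exact hcop) hS
  haveI := hKGn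
  have hidx : KG.index = Nat.card C := by
    have h1 := KG.card_mul_index
    rw [hKGc, ← hcard, ← hnc] at h1
    exact Nat.eq_of_mul_eq_mul_left Nat.card_pos h1
  have hn2 : 1 < Nat.card N := (Subgroup.one_lt_card_iff_ne_bot N).mpr hd.ne_bot
  have hc2 : 1 < Nat.card C := (Subgroup.one_lt_card_iff_ne_bot C).mpr hC.1
  have hKG1 : KG ≠ ⊥ := by
    rw [← Subgroup.one_lt_card_iff_ne_bot KG, hKGc]
    exact hn2
  have hKGtop : KG ≠ ⊤ := by
    intro htop
    rw [htop, Subgroup.index_top] at hidx
    omega
  have hno : ∀ p r : ℕ, p.Prime → r.Prime → p ∣ Nat.card KG → r ∣ KG.index →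
      ∀ g : G, orderOf g ≠ p * r := by
    intro p r hp hr hpK hrI g hg
    rw [hKGc] at hpK
    rw [hidx] at hrI
    have h1 : 0 < s G (p * r) := (s_pos_iff _).mpr ⟨g, hg⟩
    rw [← hT' (p * r)] at h1
    obtain ⟨f, hf⟩ := (s_pos_iff _).mp h1
    exact no_mixed_order hd hp hr hpK hrI f hf
  obtain ⟨CG, hCG, hcompl⟩ :=
    Cfsg.Agent.Lib.Helper4.SameOrdGA3.exists_frobenius_complement_of_no_mixed KG hKG1 hKGtop
      (by rw [hKGc, hidx]; exact hcop) hno
  refine ⟨⟨CG, hCG⟩, ?_⟩
  obtain ⟨K', hd'⟩ := exists_frobData hCG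
  rw [isSolvable_iff_complement hd', isSolvable_iff_complement hd]
  have hqc : Nat.card (F ⧸ N) = Nat.card C := by
    rw [← Subgroup.index_eq_card]
    exact hd.compl.symm.index_eq_card
  have hTq : SameType (F ⧸ N) (G ⧸ KG) :=
    Cfsg.Agent.Lib.Helper3.SameOrdGA2.SameType.quotient_hall hT' N KG hKGc.symm
      (by rw [hqc]; exact hcop)
  have e1 : F ⧸ N ≃* C := hd.compl.symm.QuotientMulEquiv
  have e2 : G ⧸ KG ≃* CG := hcompl.symm.QuotientMulEquiv
  have h5 : s C 5 = s CG 5 := by
    rw [← s_congr e1, ← s_congr e2]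
    exact hTq 5
  constructor
  · intro hs
    exact solvable_of_complements hd' hd h5.symm hs
  · intro hs
    exact solvable_of_complements hd hd' h5 hs

end main

end Cfsg.Agent.Lib.Helper8.SameOrdFr
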