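import Cfsg.Agent.Lib.Lead.SchQuot

/-!
# S4395, package KAPPA / BOUND (paper `notes/S4395_paper_lead.md` §4)

`kappa_count`: the commutator form gives `|C| ≤ #{alternating T-invariant forms on V}` (abstract version).
`SD.card_C_le`: the same for a Schmidt datum.
`bound_of`: the bound `|P| ≤ p^{a0}` from `irr_card` and `alt_count` (taken as hypotheses here).
-/

set_option autoImplicit false
set_option linter.style.haveILetI false
set_option linter.unusedSectionVars false
universe u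

namespace Cfsg.Agent.Lib.Lead.Sch

theorem kap_dual_card_mod {B : Type*} [AddCommGroup B] [Finite B] (p : ℕ) [Fact p.Prime] [Module (ZMod p) B] :
    Nat.card (Module.Dual (ZMod p) B) = Nat.card B := by
  have e1 : Nat.card (Module.Dual (ZMod p) B) = Nat.card (ZMod p) ^ Module.finrank (ZMod p) (Module.Dual (ZMod p) B) :=
    Module.natCard_eq_pow_finrank
  have e2 : Nat.card B = Nat.card (ZMod p) ^ Module.finrank (ZMod p) B :=
    Module.natCard_eq_pow_finrank
  rw [e1, e2, Subspace.dual_finrank_eq]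

theorem kap_dual_card_add {B : Type*} [AddCommGroup B] [Finite B] (p : ℕ) [Fact p.Prime]
    (hexp : ∀ b : B, p • b = 0) : Nat.card B ≤ Nat.card (B →+ ZMod p) := by
  letI : Module (ZMod p) B := AddCommGroup.zmodModule hexp
  haveI : NeZero p := ⟨(Fact.out : p.Prime).ne_zero⟩
  haveI : Finite (B →+ ZMod p) := Finite.of_injective (fun f : B →+ ZMod p => (f : B → ZMod p)) DFunLike.coe_injective
  rw [← kap_dual_card_mod p]
  exact Nat.card_le_card_of_injective (fun φ : Module.Dual (ZMod p) B => φ.toAddMonoidHom)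
    LinearMap.toAddMonoidHom_injective

theorem kap_dual_card_le {A : Type*} [Group A] [Finite A] (p : ℕ) [Fact p.Prime]
    (hcomm : ∀ a b : A, a * b = b * a) (hexp : ∀ a : A, a ^ p = 1) :
    Nat.card A ≤ Nat.card (A →* Multiplicative (ZMod p)) := by
  letI : CommGroup A := { (inferInstance : Group A) with mul_comm := hcomm }
  have hexp' : ∀ x : Additive A, p • x = 0 := fun x => by
    have := hexp (Additive.toMul x)
    exact congrArg Additive.ofMul this
  have h := kap_dual_card_add (B := Additive A) p hexp'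
  have h2 : Nat.card (Additive A) = Nat.card A := rfl
  rw [h2] at h
  refine h.trans (le_of_eq ?_)
  exact Nat.card_congr AddMonoidHom.toMultiplicativeRight

/-- class-2 power formula -/
theorem kap_mul_pow {G : Type*} [Group G] (u v : G)
    (hz : ∀ g : G, (v * u * v⁻¹ * u⁻¹) * g = g * (v * u * v⁻¹ * u⁻¹)) (n : ℕ) :
    (u * v) ^ n = u ^ n * v ^ n * (v * u * v⁻¹ * u⁻¹) ^ (n * (n - 1) / 2) := by
  obtain ⟨z, hzdef⟩ : ∃ z, z = v * u * v⁻¹ * u⁻¹ := ⟨_, rfl⟩
  rw [← hzdef] at hz ⊢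
  have hzc : ∀ g, Commute z g := hz
  have hvu : v * u = z * (u * v) := by rw [hzdef]; group
  have hvn : ∀ k : ℕ, v ^ k * u = z ^ k * (u * v ^ k) := by
    intro k
    induction k with
    | zero => simp
    | succ k ih =>
      calc v ^ (k + 1) * u = v * (v ^ k * u) := by rw [pow_succ']; group
        _ = v * (z ^ k * (u * v ^ k)) := by rw [ih]
        _ = z ^ k * ((v * u) * v ^ k) := by
            rw [← mul_assoc, ← ((hzc v).pow_left k).eq]; group
        _ = z ^ k * ((z * (u * v)) * v ^ k) := by rw [hvu]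
        _ = z ^ (k + 1) * (u * v ^ (k + 1)) := by rw [pow_succ, pow_succ']; group
  induction n with
  | zero => simp
  | succ n ih =>
    rw [Nat.triangle_succ]
    calc (u * v) ^ (n + 1) = (u * v) ^ n * (u * v) := pow_succ _ _
      _ = u ^ n * v ^ n * z ^ (n * (n - 1) / 2) * (u * v) := by rw [ih]
      _ = u ^ n * (v ^ n * u) * v * z ^ (n * (n - 1) / 2) := by
          rw [mul_assoc (u ^ n * v ^ n), ((hzc (u * v)).pow_left _).eq]; group
      _ = u ^ n * (z ^ n * (u * v ^ n)) * v * z ^ (n * (n - 1) / 2) := by rw [hvn]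
      _ = u ^ n * u * (v ^ n * v) * (z ^ n * z ^ (n * (n - 1) / 2)) := by
          have h1 : u ^ n * (z ^ n * (u * v ^ n)) = z ^ n * (u ^ n * (u * v ^ n)) := by
            rw [← mul_assoc, ← ((hzc (u ^ n)).pow_left n).eq, mul_assoc]
          rw [h1, mul_assoc (z ^ n), mul_assoc (z ^ n), ((hzc _).pow_left n).eq]
          group
      _ = u ^ (n + 1) * v ^ (n + 1) * z ^ (n * (n - 1) / 2 + n) := by
          rw [← pow_succ, ← pow_succ, ← pow_add, Nat.add_comm n (n * (n - 1) / 2)]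

section Kappa
variable {P V : Type u} [Group P] [Finite P] [AddCommGroup V] [Finite V]

/-- descent of a bimultiplicative map vanishing on `C = ker π` to `V` -/
theorem kap_descend2 (C : Subgroup P) (π : P →* Multiplicative V) (hπ : Function.Surjective π)
    (hker : ∀ u : P, π u = 1 ↔ u ∈ C) {Z : Type*} [AddCommGroup Z] (k : P → P → Z)
    (hk1 : ∀ a b c, k (a * b) c = k a c + k b c) (hk2 : ∀ a b c, k a (b * c) = k a b + k a c)
    (hkC1 : ∀ c ∈ C, ∀ u, k c u = 0) (hkC2 : ∀ c ∈ C, ∀ u, k u c = 0) :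
    ∃ β : V →+ V →+ Z, ∀ u u', β (Multiplicative.toAdd (π u)) (Multiplicative.toAdd (π u')) = k u u' := by
  classical
  -- independence of representatives
  have hrep1 : ∀ u u' v, π u = π u' → k u v = k u' v := by
    intro u u' v h
    have hc : u⁻¹ * u' ∈ C := by rw [← hker, map_mul, map_inv, h, inv_mul_cancel]
    have : u' = u * (u⁻¹ * u') := by group
    rw [this, hk1, hkC1 _ hc, add_zero]
  have hrep2 : ∀ u v v', π v = π v' → k u v = k u v' := by
    intro u v v' h
    have hc : v⁻¹ * v' ∈ C := by rw [← hker, map_mul, map_inv, h, inv_mul_cancel]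
    have : v' = v * (v⁻¹ * v') := by group
    rw [this, hk2, hkC2 _ hc, add_zero]
  let s : V → P := fun v => Function.surjInv hπ (Multiplicative.ofAdd v)
  have hs : ∀ v, π (s v) = Multiplicative.ofAdd v := fun v => Function.surjInv_eq hπ _
  have hsadd : ∀ v w, π (s (v + w)) = π (s v * s w) := by
    intro v w; rw [map_mul, hs, hs, hs, ofAdd_add]
  let β₀ : V → V →+ Z := fun v => AddMonoidHom.mk' (fun w => k (s v) (s w)) (by
    intro w w'
    change k (s v) (s (w + w')) = k (s v) (s w) + k (s v) (s w')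
    rw [hrep2 (s v) _ _ (hsadd w w'), hk2])
  let β : V →+ V →+ Z := AddMonoidHom.mk' β₀ (by
    intro v v'
    ext w
    change k (s (v + v')) (s w) = k (s v) (s w) + k (s v') (s w)
    rw [hrep1 _ _ (s w) (hsadd v v'), hk1])
  refine ⟨β, ?_⟩
  intro u u'
  change k (s _) (s _) = k u u'
  rw [hrep1 _ u _ (by rw [hs]; rfl), hrep2 u _ u' (by rw [hs]; rfl)]

/-- descent of an additive map vanishing on `C` -/
theorem kap_descend1 (C : Subgroup P) (π : P →* Multiplicative V) (hπ : Function.Surjective π)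
    (hker : ∀ u : P, π u = 1 ↔ u ∈ C) {Z : Type*} [AddCommGroup Z] (d : P → Z)
    (hd : ∀ a b, d (a * b) = d a + d b) (hdC : ∀ c ∈ C, d c = 0) :
    ∃ δ : V →+ Z, ∀ u, δ (Multiplicative.toAdd (π u)) = d u := by
  classical
  have hrep : ∀ u u', π u = π u' → d u = d u' := by
    intro u u' h
    have hc : u⁻¹ * u' ∈ C := by rw [← hker, map_mul, map_inv, h, inv_mul_cancel]
    have : u' = u * (u⁻¹ * u') := by group
    rw [this, hd, hdC _ hc, add_zero]
  let s : V → P := fun v => Function.surjInv hπ (Multiplicative.ofAdd v)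
  have hs : ∀ v, π (s v) = Multiplicative.ofAdd v := fun v => Function.surjInv_eq hπ _
  have hsadd : ∀ v w, π (s (v + w)) = π (s v * s w) := by
    intro v w; rw [map_mul, hs, hs, hs, ofAdd_add]
  refine ⟨AddMonoidHom.mk' (fun v => d (s v)) ?_, ?_⟩
  · intro v w
    change d (s (v + w)) = d (s v) + d (s w)
    rw [hrep _ _ (hsadd v w), hd]
  · intro u
    change d (s _) = d u
    exact hrep _ _ (by rw [hs]; rfl)

/-- a `T`-invariant additive functional on an irreducible nontrivial module is zero -/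
theorem IrrMod.inv_functional_eq_zero {p q : ℕ} {T : V ≃+ V} (hV : IrrMod p q V T) {Z : Type*} [AddCommGroup Z]
    (δ : V →+ Z) (hδ : ∀ v, δ (T v) = δ v) : ∀ v, δ v = 0 := by
  let W : AddSubgroup V := (T.toAddMonoidHom - AddMonoidHom.id V).range
  have hW : ∀ w ∈ W, T w ∈ W := by
    rintro w ⟨v, rfl⟩
    refine ⟨T v, ?_⟩
    simp [map_sub]
  rcases hV.irr W hW with h | h
  · exfalso
    obtain ⟨v, hv⟩ := hV.ne_one
    apply hv
    have : T v - v ∈ W := ⟨v, by simp⟩
    rw [h, AddSubgroup.mem_bot] at this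
    exact sub_eq_zero.mp this
  · intro v
    have : v ∈ W := by rw [h]; trivial
    obtain ⟨w, rfl⟩ := this
    simp [map_sub, hδ]

open Multiplicative in
theorem kappa_count (p q : ℕ) [Fact p.Prime] [Fact q.Prime] (T : V ≃+ V) (hV : IrrMod p q V T)
    (C : Subgroup P) (hCZ : C ≤ Subgroup.center P) (hCexp : ∀ c ∈ C, c ^ p = 1)
    (π : P →* Multiplicative V) (hπ : Function.Surjective π) (hker : ∀ u : P, π u = 1 ↔ u ∈ C)
    (α : P ≃* P) (hα : ∀ u : P, π (α u) = Multiplicative.ofAdd (T (Multiplicative.toAdd (π u))))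
    (hαC : ∀ c ∈ C, α c = c)
    (hgen : C ≤ Subgroup.closure ({x : P | ∃ u : P, x = u ^ p} ∪ {x : P | ∃ u v : P, x = u * v * u⁻¹ * v⁻¹})) :
    Nat.card C ≤ Nat.card {β : V →+ V →+ ZMod p // (∀ v, β v v = 0) ∧ ∀ v w, β (T v) (T w) = β v w} := by
  classical
  haveI : NeZero p := ⟨(Fact.out : p.Prime).ne_zero⟩
  have hcomm_mem : ∀ u v : P, u * v * u⁻¹ * v⁻¹ ∈ C := by
    intro u v
    rw [← hker]
    simp only [map_mul, map_inv]
    rw [mul_comm (π u) (π v)]; simp
  have hpow_mem : ∀ u : P, u ^ p ∈ C := by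
    intro u
    rw [← hker, map_pow]
    have h := hV.exp (toAdd (π u))
    have e : (π u) ^ p = ofAdd (p • toAdd (π u)) := by
      rw [ofAdd_nsmul]; rfl
    rw [e, h]; rfl
  have hcen : ∀ c ∈ C, ∀ g : P, c * g = g * c := fun c hc g =>
    ((Subgroup.mem_center_iff.mp (hCZ hc)) g).symm
  have hcm1 : ∀ a b c : P, (a * b) * c * (a * b)⁻¹ * c⁻¹ = (b * c * b⁻¹ * c⁻¹) * (a * c * a⁻¹ * c⁻¹) := by
    intro a b c
    have e : (a * b) * c * (a * b)⁻¹ * c⁻¹ = a * (b * c * b⁻¹ * c⁻¹) * a⁻¹ * (a * c * a⁻¹ * c⁻¹) := by group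
    rw [e, ← hcen _ (hcomm_mem b c) a, mul_inv_cancel_right]
  have hcm2 : ∀ a b c : P, a * (b * c) * a⁻¹ * (b * c)⁻¹ = (a * c * a⁻¹ * c⁻¹) * (a * b * a⁻¹ * b⁻¹) := by
    intro a b c
    have e : a * (b * c) * a⁻¹ * (b * c)⁻¹ = (a * b * a⁻¹) * (a * c * a⁻¹ * c⁻¹) * b⁻¹ := by group
    rw [e, ← hcen _ (hcomm_mem a c) (a * b * a⁻¹)]; group
  let cm : P → P → ↥C := fun u v => ⟨u * v * u⁻¹ * v⁻¹, hcomm_mem u v⟩
  have cm1 : ∀ a b c, cm (a * b) c = cm b c * cm a c := fun a b c => Subtype.ext (hcm1 a b c)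
  have cm2 : ∀ a b c, cm a (b * c) = cm a c * cm a b := fun a b c => Subtype.ext (hcm2 a b c)
  have cmC1 : ∀ c ∈ C, ∀ u, cm c u = 1 := by
    intro c hc u
    apply Subtype.ext
    change c * u * c⁻¹ * u⁻¹ = 1
    rw [hcen c hc u]; group
  have cmC2 : ∀ c ∈ C, ∀ u, cm u c = 1 := by
    intro c hc u
    apply Subtype.ext
    change u * c * u⁻¹ * c⁻¹ = 1
    rw [← hcen c hc u]; group
  have cmα : ∀ u v, cm (α u) (α v) = cm u v := by
    intro u v
    apply Subtype.ext
    change α u * α v * (α u)⁻¹ * (α v)⁻¹ = u * v * u⁻¹ * v⁻¹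
    rw [← map_inv, ← map_inv, ← map_mul, ← map_mul, ← map_mul]
    exact hαC _ (hcomm_mem u v)
  have hTπ : ∀ u, T (toAdd (π u)) = toAdd (π (α u)) := by
    intro u; rw [hα]; rfl
  have hβ : ∀ f : ↥C →* Multiplicative (ZMod p), ∃ β : V →+ V →+ ZMod p,
      ∀ u u', β (toAdd (π u)) (toAdd (π u')) = toAdd (f (cm u u')) := by
    intro f
    refine kap_descend2 C π hπ hker (fun u u' => toAdd (f (cm u u'))) ?_ ?_ ?_ ?_
    · intro a b c
      simp only [cm1, map_mul, toAdd_mul]; exact add_comm _ _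
    · intro a b c
      simp only [cm2, map_mul, toAdd_mul]; exact add_comm _ _
    · intro c hc u
      simp only [cmC1 c hc u, map_one, toAdd_one]
    · intro c hc u
      simp only [cmC2 c hc u, map_one, toAdd_one]
  choose Φ hΦ using hβ
  have hsurj : ∀ v : V, ∃ u, toAdd (π u) = v := by
    intro v
    obtain ⟨u, hu⟩ := hπ (ofAdd v)
    exact ⟨u, by rw [hu]; rfl⟩
  have hΦalt : ∀ f v, Φ f v v = 0 := by
    intro f v
    obtain ⟨u, rfl⟩ := hsurj v
    rw [hΦ]
    have : cm u u = 1 := by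
      apply Subtype.ext
      change u * u * u⁻¹ * u⁻¹ = 1
      group
    rw [this, map_one, toAdd_one]
  have hΦinv : ∀ f v w, Φ f (T v) (T w) = Φ f v w := by
    intro f v w
    obtain ⟨u, rfl⟩ := hsurj v
    obtain ⟨u', rfl⟩ := hsurj w
    rw [hTπ, hTπ, hΦ, hΦ, cmα]
  let Ψ : (↥C →* Multiplicative (ZMod p)) →
      {β : V →+ V →+ ZMod p // (∀ v, β v v = 0) ∧ ∀ v w, β (T v) (T w) = β v w} :=
    fun f => ⟨Φ f, hΦalt f, hΦinv f⟩
  have hΨ : Function.Injective Ψ := by
    intro f g hfg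
    have hfg' : Φ f = Φ g := congrArg Subtype.val hfg
    have hcmfg : ∀ u u', f (cm u u') = g (cm u u') := by
      intro u u'
      have h1 := hΦ f u u'
      have h2 := hΦ g u u'
      rw [hfg'] at h1
      have := h1.symm.trans h2
      exact toAdd.injective this
    -- p-th powers
    let pw : P → ↥C := fun u => ⟨u ^ p, hpow_mem u⟩
    have pw_mul : ∀ u v, pw (u * v) = pw u * pw v * (cm v u) ^ (p * (p - 1) / 2) := by
      intro u v
      apply Subtype.ext
      change (u * v) ^ p = u ^ p * v ^ p * (v * u * v⁻¹ * u⁻¹) ^ (p * (p - 1) / 2)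
      exact kap_mul_pow u v (fun g => hcen _ (hcomm_mem v u) g) p
    have pwC : ∀ c ∈ C, pw c = 1 := fun c hc => Subtype.ext (hCexp c hc)
    have pwα : ∀ u, pw (α u) = pw u := by
      intro u
      apply Subtype.ext
      change (α u) ^ p = u ^ p
      rw [← map_pow]; exact hαC _ (hpow_mem u)
    let d : P → ZMod p := fun u => toAdd (f (pw u)) - toAdd (g (pw u))
    have hd : ∀ a b, d (a * b) = d a + d b := by
      intro a b
      simp only [d, pw_mul, map_mul, map_pow, toAdd_mul, hcmfg]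
      abel
    have hdC : ∀ c ∈ C, d c = 0 := by
      intro c hc
      simp only [d, pwC c hc, map_one, toAdd_one, sub_self]
    obtain ⟨δ, hδ⟩ := kap_descend1 C π hπ hker d hd hdC
    have hδT : ∀ v, δ (T v) = δ v := by
      intro v
      obtain ⟨u, rfl⟩ := hsurj v
      rw [hTπ, hδ, hδ]
      simp only [d, pwα]
    have hδ0 := hV.inv_functional_eq_zero δ hδT
    have hpwfg : ∀ u, f (pw u) = g (pw u) := by
      intro u
      have := hδ0 (toAdd (π u))
      rw [hδ] at this
      exact toAdd.injective (sub_eq_zero.mp this)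
    -- closure induction
    have hle : Subgroup.closure ({x : P | ∃ u : P, x = u ^ p} ∪ {x : P | ∃ u v : P, x = u * v * u⁻¹ * v⁻¹}) ≤ C := by
      rw [Subgroup.closure_le]
      rintro x (⟨u, rfl⟩ | ⟨u, v, rfl⟩)
      · exact hpow_mem u
      · exact hcomm_mem u v
    have key : ∀ x (hx : x ∈ Subgroup.closure ({x : P | ∃ u : P, x = u ^ p} ∪ {x : P | ∃ u v : P, x = u * v * u⁻¹ * v⁻¹})),
        f ⟨x, hle hx⟩ = g ⟨x, hle hx⟩ := by
      intro x hx
      induction hx using Subgroup.closure_induction with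
      | mem x hx =>
        rcases hx with ⟨u, rfl⟩ | ⟨u, v, rfl⟩
        · exact hpwfg u
        · exact hcmfg u v
      | one => exact (map_one f).trans (map_one g).symm
      | mul x y hx hy ihx ihy =>
        have : (⟨x * y, hle (Subgroup.mul_mem _ hx hy)⟩ : ↥C) = ⟨x, hle hx⟩ * ⟨y, hle hy⟩ := rfl
        rw [this, map_mul, map_mul, ihx, ihy]
      | inv x hx ihx =>
        have : (⟨x⁻¹, hle (Subgroup.inv_mem _ hx)⟩ : ↥C) = (⟨x, hle hx⟩ : ↥C)⁻¹ := rfl
        rw [this, map_inv, map_inv, ihx]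
    ext c
    have := key c.1 (hgen c.2)
    exact congrArg toAdd this
  haveI : Finite (V →+ V →+ ZMod p) :=
    Finite.of_injective (fun β : V →+ V →+ ZMod p => fun v w => β v w) (by
      intro β β' h
      ext v w
      exact congrFun (congrFun h v) w)
  calc Nat.card C ≤ Nat.card (↥C →* Multiplicative (ZMod p)) := by
        apply kap_dual_card_le p
        · intro a b
          apply Subtype.ext
          exact hcen a.1 a.2 b.1
        · intro a
          apply Subtype.ext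
          exact hCexp a.1 a.2
    _ ≤ _ := Nat.card_le_card_of_injective Ψ hΨ

end Kappa

variable {X : Type u} [Group X] {p q : ℕ}

/-- `|C| ≤ #{alternating T-invariant forms on V = P/C}`. -/
theorem SD.card_C_le [Finite X] [Fact p.Prime] [Fact q.Prime] (hpq : p ≠ q) (sd : SD p q X) :
    Nat.card sd.C ≤ Nat.card {β : sd.V →+ sd.V →+ ZMod p //
      (∀ v, β v v = 0) ∧ ∀ v w, β (sd.T v) (sd.T w) = β v w} := by
  have h2 : Nat.card sd.CP = Nat.card sd.C :=
    Nat.card_congr (Subgroup.subgroupOfEquivOfLe sd.C_le).toEquiv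
  rw [← h2]
  let π : ↥sd.P →* Multiplicative sd.V :=
    { toFun := fun u => Multiplicative.ofAdd (sd.mkV u)
      map_one' := rfl
      map_mul' := fun _ _ => rfl }
  have hfix : ∀ c : ↥sd.P, c ∈ sd.CP → sd.conjP c = c := by
    intro c hc
    rw [SD.mem_CP] at hc
    have hz := sd.C_central hc
    apply Subtype.ext
    rw [SD.conjP_coe]
    rw [Subgroup.mem_center_iff] at hz
    rw [hz sd.y]; group
  refine kappa_count p q sd.T (sd.irrMod hpq) sd.CP ?_ ?_ π ?_ ?_ sd.conjP ?_ hfix ?_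
  · intro c hc
    rw [SD.mem_CP] at hc
    have hz := sd.C_central hc
    rw [Subgroup.mem_center_iff] at hz ⊢
    intro g
    apply Subtype.ext
    exact hz g
  · intro c hc
    rw [SD.mem_CP] at hc
    apply Subtype.ext
    exact sd.C_exp _ hc
  · intro v
    obtain ⟨u, hu⟩ := sd.mkV_surjective (Multiplicative.toAdd v)
    exact ⟨u, by change Multiplicative.ofAdd (sd.mkV u) = v; rw [hu]; rfl⟩
  · intro u
    rw [SD.mem_CP, ← SD.mkV_eq_zero_iff]
    exact Iff.rfl
  · intro u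
    rfl
  · -- generation
    intro c hc
    rw [SD.mem_CP] at hc
    have h := sd.C_gen hc
    set S' : Set ↥sd.P := {x : ↥sd.P | ∃ u : ↥sd.P, x = u ^ p} ∪ {x : ↥sd.P | ∃ u v : ↥sd.P, x = u * v * u⁻¹ * v⁻¹} with hS'
    have himg : sd.P.subtype '' S' = ({x : X | ∃ u ∈ sd.P, x = u ^ p} ∪ {x : X | ∃ u ∈ sd.P, ∃ v ∈ sd.P, x = u * v * u⁻¹ * v⁻¹}) := by
      ext x
      constructor
      · rintro ⟨x', (⟨u, rfl⟩ | ⟨u, v, rfl⟩), rfl⟩
        · left; exact ⟨u, u.2, rfl⟩
        · right; exact ⟨u, u.2, v, v.2, rfl⟩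
      · rintro (⟨u, hu, rfl⟩ | ⟨u, hu, v, hv, rfl⟩)
        · exact ⟨(⟨u, hu⟩ : ↥sd.P) ^ p, Or.inl ⟨⟨u, hu⟩, rfl⟩, rfl⟩
        · exact ⟨(⟨u, hu⟩ : ↥sd.P) * ⟨v, hv⟩ * (⟨u, hu⟩ : ↥sd.P)⁻¹ * (⟨v, hv⟩ : ↥sd.P)⁻¹,
            Or.inr ⟨⟨u, hu⟩, ⟨v, hv⟩, rfl⟩, rfl⟩
    rw [← himg, ← MonoidHom.map_closure] at h
    obtain ⟨c', hc', hcc'⟩ := h
    have : c' = c := Subtype.ext hcc'
    rw [← this]; exact hc'

/-- `bound` from `irr_card` and `alt_count` (as hypotheses). -/
theorem bound_of [Finite X] [Fact p.Prime] [Fact q.Prime] (hpq : p ≠ q) (sd : SD p q X)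
    (hcard : Nat.card sd.V = p ^ orderOf (p : ZMod q))
    (hcount : Nat.card {β : sd.V →+ sd.V →+ ZMod p // (∀ v, β v v = 0) ∧ ∀ v w, β (sd.T v) (sd.T w) = β v w} ≤
      p ^ (a0 p q - orderOf (p : ZMod q))) :
    Nat.card sd.P ≤ p ^ a0 p q := by
  have ha : orderOf (p : ZMod q) ≤ a0 p q := by
    unfold a0
    split_ifs <;> omega
  rw [sd.card_P, hcard]
  calc p ^ orderOf (p : ZMod q) * Nat.card sd.C
      ≤ p ^ orderOf (p : ZMod q) * p ^ (a0 p q - orderOf (p : ZMod q)) :=
        Nat.mul_le_mul_left _ ((sd.card_C_le hpq).trans hcount)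
    _ = p ^ a0 p q := by rw [← pow_add, Nat.add_sub_cancel' ha]

end Cfsg.Agent.Lib.Lead.Sch
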