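import Cfsg.Agent.Lib.Lead.SchQuot

/-!
# S4395: `[P, y] = P` for a Schmidt datum
-/

set_option autoImplicit false
universe u

namespace Cfsg.Agent.Lib.Lead.Sch

variable {X : Type u} [Group X]

/-- `y` does not act trivially on `P / C`. -/
theorem SD.comm_not_mem [Finite X] (p q : ℕ) [Fact p.Prime] [Fact q.Prime] (hpq : p ≠ q)
    (sd : SD p q X) : ∃ u ∈ sd.P, sd.y * u * sd.y⁻¹ * u⁻¹ ∉ sd.C := by
  obtain ⟨v, hv⟩ := (sd.irrMod hpq).ne_one
  obtain ⟨u, rfl⟩ := sd.mkV_surjective v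
  refine ⟨u, u.2, fun hc => hv ?_⟩
  rw [SD.T_mkV, eq_comm, SD.mkV_eq_iff, SD.conjP_coe]
  -- u⁻¹ * (y u y⁻¹) = u⁻¹ * (y u y⁻¹ u⁻¹) * u, and the middle is central
  have hz := sd.C_central hc
  rw [Subgroup.mem_center_iff] at hz
  have e : (u : X)⁻¹ * (sd.y * u * sd.y⁻¹) = (u : X)⁻¹ * ((sd.y * u * sd.y⁻¹ * (u : X)⁻¹) * u) := by group
  rw [e, ← hz (u : X), inv_mul_cancel_left]
  exact hc

/-- `[P, y] = P`. -/
theorem SD.comm_closure [Finite X] (p q : ℕ) [Fact p.Prime] [Fact q.Prime] (hpq : p ≠ q)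
    (sd : SD p q X) : Subgroup.closure {x : X | ∃ u ∈ sd.P, x = sd.y * u * sd.y⁻¹ * u⁻¹} = sd.P := by
  have hPn := sd.P_normal
  set D := Subgroup.closure {x : X | ∃ u ∈ sd.P, x = sd.y * u * sd.y⁻¹ * u⁻¹} with hD
  have hDP : D ≤ sd.P := by
    rw [hD, Subgroup.closure_le]
    rintro x ⟨u, hu, rfl⟩
    exact sd.P.mul_mem (hPn.conj_mem u hu sd.y) (sd.P.inv_mem hu)
  -- invariance of D ⊔ C under conjugation by y
  have hinv : ∀ d ∈ D ⊔ sd.C, sd.y * d * sd.y⁻¹ ∈ D ⊔ sd.C := by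
    have hle : D ⊔ sd.C ≤ (D ⊔ sd.C).comap (MulAut.conj sd.y).toMonoidHom := by
      apply sup_le
      · rw [hD, Subgroup.closure_le]
        rintro x ⟨u, hu, rfl⟩
        change sd.y * (sd.y * u * sd.y⁻¹ * u⁻¹) * sd.y⁻¹ ∈ D ⊔ sd.C
        apply Subgroup.mem_sup_left
        apply Subgroup.subset_closure
        refine ⟨sd.y * u * sd.y⁻¹, hPn.conj_mem u hu sd.y, ?_⟩
        group
      · intro c hc
        change sd.y * c * sd.y⁻¹ ∈ D ⊔ sd.C
        have hz := sd.C_central hc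
        rw [Subgroup.mem_center_iff] at hz
        rw [hz sd.y, mul_inv_cancel_right]
        exact Subgroup.mem_sup_right hc
    intro d hd
    exact hle hd
  rcases sd.irr (D ⊔ sd.C) le_sup_right (sup_le hDP sd.C_le) hinv with h | h
  · exfalso
    obtain ⟨u, hu, hnot⟩ := sd.comm_not_mem p q hpq
    apply hnot
    have : sd.y * u * sd.y⁻¹ * u⁻¹ ∈ D ⊔ sd.C :=
      Subgroup.mem_sup_left (Subgroup.subset_closure ⟨u, hu, rfl⟩)
    rw [h] at this
    exact this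
  · exact sd.nongen D hDP h

end Cfsg.Agent.Lib.Lead.Sch
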