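import Mathlib
import Cfsg.Agent.Lib.Helper8.SmTwoDefs
import Cfsg.Agent.Lib.Helper8.SmTwoB
import Cfsg.Agent.Lib.Helper8.SmTwoC
import Cfsg.Agent.Lib.Helper8.SmTwoPN2
import Cfsg.Agent.Lib.Helper4.SmTwoPN4
import Cfsg.Agent.Lib.Helper7.SmTwoPN3
import Cfsg.Agent.Lib.Helper2.SmTwoPT
import Cfsg.Agent.Lib.Helper2.SmTwoPT2
import Cfsg.Agent.Lib.Helper3.SmTwoPF
import Cfsg.Agent.Lib.Lead.CoprimeAction2
import Cfsg.Agent.Lib.Helper8.SmTwoD3
import Cfsg.Agent.Lib.Helper8.SmTwoSM
import Cfsg.Agent.Lib.Lead.CoprimeAction3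

set_option autoImplicit false

/-! S4409, section 3, case (c): `⁅X, H⁆ = X` and every proper `H`-invariant subgroup of `X` lies in
`phi2 X`. -/

namespace Cfsg.Agent.Lib.Helper8.SmTwo

universe u

variable {G : Type u} [Group G]

theorem p3c_le_normalizer_of_conj_mem (H K : Subgroup G)
    (h : ∀ a ∈ H, ∀ k ∈ K, a * k * a⁻¹ ∈ K) : H ≤ Subgroup.normalizer (K : Set G) := by
  intro a ha
  rw [Subgroup.mem_normalizer_iff]
  intro g
  constructor
  · exact h a ha g
  · intro hg
    have h1 := h a⁻¹ (H.inv_mem ha) _ hg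
    have e : a⁻¹ * (a * g * a⁻¹) * a⁻¹⁻¹ = g := by group
    rw [e] at h1
    exact h1

theorem p3c_conj_mem_centralizer {K : Subgroup G} {a g : G}
    (ha : a ∈ Subgroup.normalizer (K : Set G)) (hg : g ∈ Subgroup.centralizer (K : Set G)) :
    a * g * a⁻¹ ∈ Subgroup.centralizer (K : Set G) := by
  rw [Subgroup.mem_centralizer_iff]
  intro k hk
  have hk' : a⁻¹ * k * a ∈ K := by
    have := (Subgroup.mem_normalizer_iff.mp ((Subgroup.normalizer (K : Set G)).inv_mem ha) k).mp hk
    simpa using this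
  have hc := Subgroup.mem_centralizer_iff.mp hg _ hk'
  calc k * (a * g * a⁻¹) = a * ((a⁻¹ * k * a) * g) * a⁻¹ := by group
    _ = a * (g * (a⁻¹ * k * a)) * a⁻¹ := by rw [hc]
    _ = a * g * a⁻¹ * k := by group

theorem p3c_le_normalizer_inf_centralizer (H X P : Subgroup G)
    (hX : H ≤ Subgroup.normalizer (X : Set G)) (hP : H ≤ Subgroup.normalizer (P : Set G)) :
    H ≤ Subgroup.normalizer ((X ⊓ Subgroup.centralizer (P : Set G) : Subgroup G) : Set G) := by
  apply p3c_le_normalizer_of_conj_mem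
  intro a ha k hk
  exact Subgroup.mem_inf.mpr ⟨(Subgroup.mem_normalizer_iff.mp (hX ha) k).mp hk.1,
    p3c_conj_mem_centralizer (hP ha) hk.2⟩

theorem p3c_isAb_of_le_centralizer {X : Subgroup G}
    (h : X ≤ Subgroup.centralizer (X : Set G)) : IsAb X := by
  intro a ha b hb
  exact (Subgroup.mem_centralizer_iff.mp (h hb) a ha)

theorem p3c_pow_lt {j m : ℕ} (h : 2 ^ j < 2 ^ m) : j < m := by
  by_contra hh
  push Not at hh
  have : 2 ^ m ≤ 2 ^ j := Nat.pow_le_pow_right (by norm_num) hh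
  omega

/-- P3c -/
theorem sec3_c [Finite G] (X H : Subgroup G) (h : Sec3 X H) (heq : ⁅X, H⁆ = X)
    (hall : ∀ Y : Subgroup G, Y ≤ X → Y ≠ X → H ≤ Subgroup.normalizer (Y : Set G) → Y ≤ phi2 X) :
    IsAb X ∨ SpecialData X 2 ∨ SpecialData X 4 := by
  have hp2 : Fact (Nat.Prime 2) := ⟨Nat.prime_two⟩
  have hX := h.hX
  have hHX := h.hHX
  have hXne : X ≠ ⊥ := by
    intro hb
    apply h.hbad
    intro A hA hBad
    rw [hb] at hA
    have : A = ⊥ := le_bot_iff.mp hA
    have h8 := hBad.2.2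
    rw [this, Subgroup.card_bot] at h8
    omega
  obtain ⟨Φ, hΦdef⟩ : ∃ Φ : Subgroup G, Φ = phi2 X := ⟨_, rfl⟩
  have hΦle : Φ ≤ X := by rw [hΦdef]; exact phi2_le X
  have hΦne : Φ ≠ X := by rw [hΦdef]; exact phi2_ne X hX hXne
  have hHΦ : H ≤ Subgroup.normalizer (Φ : Set G) := by
    rw [hΦdef]; exact hHX.trans (normalizer_le_normalizer_phi2 X)
  have hXΦ : X ≤ Subgroup.normalizer (Φ : Set G) := by
    rw [hΦdef]; exact Subgroup.le_normalizer.trans (normalizer_le_normalizer_phi2 X)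
  have hall' : ∀ Y : Subgroup G, Y ≤ X → Y ≠ X → H ≤ Subgroup.normalizer (Y : Set G) → Y ≤ Φ := by
    rw [hΦdef]; exact hall
  have hΦsmall : Small Φ := h.hmin Φ hΦle hΦne hHΦ
  have hΦp : IsPGroup 2 Φ := hX.to_le hΦle
  obtain ⟨Z, hZdef⟩ : ∃ Z : Subgroup G, Z = X ⊓ Subgroup.centralizer (X : Set G) := ⟨_, rfl⟩
  have hZle : Z ≤ X := by rw [hZdef]; exact inf_le_left
  have hHZ : H ≤ Subgroup.normalizer (Z : Set G) := by
    rw [hZdef]; exact p3c_le_normalizer_inf_centralizer H X X hHX hHX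
  have hZX_ab : Z = X → IsAb X := by
    intro hZX
    apply p3c_isAb_of_le_centralizer
    intro x hx
    have : x ∈ Z := by rw [hZX]; exact hx
    rw [hZdef] at this
    exact this.2
  have hD_ab : ⁅X, X⁆ = ⊥ → IsAb X := by
    intro hD
    apply p3c_isAb_of_le_centralizer
    exact Subgroup.commutator_eq_bot_iff_le_centralizer.mp hD
  obtain ⟨K, hKdef⟩ : ∃ K : Subgroup G, K = H ⊓ Subgroup.centralizer (Φ : Set G) := ⟨_, rfl⟩
  have hKH : K ≤ H := by rw [hKdef]; exact inf_le_left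
  have hKΦ : K ≤ Subgroup.centralizer (Φ : Set G) := by rw [hKdef]; exact inf_le_right
  by_cases hK : K = ⊥
  swap
  · -- `K ≠ ⊥`
    have hKX : K ≤ Subgroup.normalizer (X : Set G) := hKH.trans hHX
    have hHK : H ≤ Subgroup.normalizer (K : Set G) := by
      rw [hKdef]
      exact p3c_le_normalizer_inf_centralizer H H Φ Subgroup.le_normalizer hHΦ
    have hKodd : Odd (Nat.card K) :=
      Odd.of_dvd_nat h.hodd (Subgroup.card_dvd_of_le hKH)
    have hcop : (Nat.card K).Coprime (Nat.card X) := by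
      obtain ⟨k, hk⟩ := IsPGroup.iff_card.mp hX
      rw [hk]
      exact Nat.Coprime.pow_right _ (Nat.coprime_two_right.mpr hKodd)
    have hsolv : Group.IsSolvable K ∨ Group.IsSolvable X := by
      right
      have : Group.IsNilpotent X := hX.isNilpotent
      infer_instance
    have hXK_le : ⁅X, K⁆ ≤ X := Cfsg.Agent.Lib.Lead.commutator_le_left_of_le_normalizer X K hKX
    have hHXK : H ≤ Subgroup.normalizer ((⁅X, K⁆ : Subgroup G) : Set G) :=
      (le_inf hHX hHK).trans (Cfsg.Agent.Lib.Lead.normalizer_inf_le_normalizer_commutator X K)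
    have hXK : ⁅X, K⁆ = X := by
      by_contra hne
      have h1 : ⁅X, K⁆ ≤ Φ := hall' _ hXK_le hne hHXK
      have h2 : ⁅⁅X, K⁆, K⁆ ≤ ⁅Φ, K⁆ := Subgroup.commutator_mono h1 le_rfl
      have h3 : ⁅Φ, K⁆ = ⊥ := by
        rw [Subgroup.commutator_comm, Subgroup.commutator_eq_bot_iff_le_centralizer]
        exact hKΦ
      rw [Cfsg.Agent.Lib.Lead.coprime_commutator_stable K X hKX hcop hsolv, h3] at h2
      have h4 : ⁅X, K⁆ = ⊥ := le_bot_iff.mp h2
      rw [Subgroup.commutator_comm, Subgroup.commutator_eq_bot_iff_le_centralizer] at h4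
      apply hK
      rw [eq_bot_iff, ← h.hfaith]
      exact le_inf hKH h4
    rw [hΦdef] at hKΦ
    obtain ⟨hΦZ, hsq, hexp⟩ := lemma_2b X K hKX hXK hKΦ
    -- `Φ = ⁅X, X⁆`
    have hΦD : Φ = ⁅X, X⁆ := by
      rw [hΦdef]
      apply le_antisymm
      · unfold phi2
        apply sup_le le_rfl
        rw [Subgroup.closure_le]
        rintro g ⟨x, hx, rfl⟩
        exact hsq x hx
      · exact commutator_le_phi2 X
    have hΦZ' : Φ ≤ Z := by
      rw [hZdef, hΦdef]
      exact le_inf (phi2_le X) hΦZ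
    by_cases hZX : Z = X
    · left; exact hZX_ab hZX
    have hZΦ : Z = Φ := le_antisymm (hall' Z hZle hZX hHZ) hΦZ'
    have hexpΦ : ∀ c ∈ Φ, c ^ 2 = 1 := by rw [hΦD]; exact hexp
    have hcardΦ : Nat.card Φ < 8 := by
      by_contra hh
      push Not at hh
      exact not_small_of_exp_two Φ hexpΦ hh hΦsmall
    obtain ⟨j, hj⟩ := IsPGroup.iff_card.mp hΦp
    have hj3 : j < 3 := by
      apply p3c_pow_lt
      rw [← hj]; exact hcardΦ
    have hspec : ∀ n : ℕ, Nat.card Φ = n → SpecialData X n := by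
      intro n hn
      refine ⟨?_, hsq, ?_⟩
      · rw [← hZdef, hZΦ, hΦD]
      · rw [← hZdef, hZΦ, hn]
    interval_cases j
    · left
      apply hD_ab
      rw [← hΦD]
      exact Subgroup.card_eq_one.mp (by rw [hj]; norm_num)
    · right; left
      exact hspec 2 (by rw [hj]; norm_num)
    · right; right
      exact hspec 4 (by rw [hj]; norm_num)
  · -- `K = ⊥`: `H` acts faithfully on `Φ`
    have hHne : H ≠ ⊥ := by
      intro hb
      apply hXne
      rw [← heq, hb]
      rw [Subgroup.commutator_eq_bot_iff_le_centralizer]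
      intro x _
      rw [Subgroup.mem_centralizer_iff]
      intro y hy
      have : y = 1 := hy
      rw [this, one_mul, mul_one]
    have hncΦ : ¬ H ≤ Subgroup.centralizer (Φ : Set G) := by
      intro hc
      apply hHne
      rw [eq_bot_iff, ← hK, hKdef]
      exact le_inf le_rfl hc
    obtain ⟨hshape, hcommΦ⟩ := sm Φ H hΦp hΦsmall hHΦ h.hodd hncΦ
    rcases hshape with hV | hN
    · -- four-group
      have hXc : X ≤ Subgroup.centralizer (Φ : Set G) :=
        v4_le_centralizer Φ X H hV hX hXΦ hHΦ hHX h.hodd hncΦ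
      have hΦZ' : Φ ≤ Z := by
        rw [hZdef]
        exact le_inf hΦle (Subgroup.le_centralizer_iff.mp hXc)
      by_cases hZX : Z = X
      · left; exact hZX_ab hZX
      have hZΦ : Z = Φ := le_antisymm (hall' Z hZle hZX hHZ) hΦZ'
      have hDΦ : ⁅X, X⁆ ≤ Φ := by rw [hΦdef]; exact commutator_le_phi2 X
      have hHD : H ≤ Subgroup.normalizer ((⁅X, X⁆ : Subgroup G) : Set G) :=
        (le_inf hHX hHX).trans (Cfsg.Agent.Lib.Lead.normalizer_inf_le_normalizer_commutator X X)
      rcases v4_invariant Φ H ⁅X, X⁆ hV hHΦ hcommΦ hDΦ hHD with hD | hD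
      · left; exact hD_ab hD
      · right; right
        refine ⟨?_, ?_, ?_⟩
        · rw [← hZdef, hZΦ, hD]
        · intro x hx
          rw [hD, hΦdef]
          exact sq_mem_phi2 X hx
        · rw [← hZdef, hZΦ]
          exact hV.1
    · -- non-abelian of order 8: impossible
      exfalso
      have h1 := na8_sup_centralizer Φ X H hN hX hΦle hXΦ hHΦ hHX h.hodd hcommΦ
      obtain ⟨T, hTdef⟩ : ∃ T : Subgroup G, T = X ⊓ Subgroup.centralizer (Φ : Set G) := ⟨_, rfl⟩
      rw [← hTdef] at h1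
      have hTle : T ≤ X := by rw [hTdef]; exact inf_le_left
      have hHT : H ≤ Subgroup.normalizer (T : Set G) := by
        rw [hTdef]; exact p3c_le_normalizer_inf_centralizer H X Φ hHX hHΦ
      by_cases hTX : T = X
      · obtain ⟨_, a, ha, b, hb, hab⟩ := hN
        apply hab
        have haT : a ∈ T := by rw [hTX]; exact hΦle ha
        rw [hTdef] at haT
        exact (Subgroup.mem_centralizer_iff.mp haT.2 b hb).symm
      · have hTΦ : T ≤ Φ := hall' T hTle hTX hHT
        apply hΦne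
        rw [← h1]
        exact (sup_eq_left.mpr hTΦ).symm

end Cfsg.Agent.Lib.Helper8.SmTwo
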