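import Mathlib
import Cfsg.Agent.Lib.Helper8.SmTwoDefs
import Cfsg.Agent.Lib.Helper8.SmTwoB
import Cfsg.Agent.Lib.Helper8.SmTwoC
import Cfsg.Agent.Lib.Helper8.SmTwoPN2
import Cfsg.Agent.Lib.Helper4.SmTwoPN4
import Cfsg.Agent.Lib.Helper7.SmTwoPN3
import Cfsg.Agent.Lib.Helper2.SmTwoPT
import Cfsg.Agent.Lib.Helper2.SmTwoPT2
import Cfsg.Agent.Lib.Helper3.SmTwoPF
import Cfsg.Agent.Lib.Lead.CoprimeAction2
import Cfsg.Agent.Lib.Helper8.SmTwoD3
import Cfsg.Agent.Lib.Helper8.SmTwoSM
import Cfsg.Agent.Lib.Lead.CoprimeAction3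
import Cfsg.Agent.Lib.Helper8.SmTwoP3c

set_option autoImplicit false

/-! S4409, section 3, case (a): `⁅X, H⁆ ≠ X`. -/

namespace Cfsg.Agent.Lib.Helper8.SmTwo

universe u

variable {G : Type u} [Group G]

theorem p3a_le_normalizer_sup (H A B : Subgroup G) (hA : H ≤ Subgroup.normalizer (A : Set G))
    (hB : H ≤ Subgroup.normalizer (B : Set G)) :
    H ≤ Subgroup.normalizer ((A ⊔ B : Subgroup G) : Set G) := by
  apply p3c_le_normalizer_of_conj_mem
  intro a ha k hk
  have key : A ⊔ B ≤ (A ⊔ B).comap (MulAut.conj a).toMonoidHom := by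
    apply sup_le
    · intro x hx
      rw [Subgroup.mem_comap]
      simp only [MulEquiv.coe_toMonoidHom, MulAut.conj_apply]
      exact (le_sup_left : A ≤ A ⊔ B) ((Subgroup.mem_normalizer_iff.mp (hA ha) x).mp hx)
    · intro x hx
      rw [Subgroup.mem_comap]
      simp only [MulEquiv.coe_toMonoidHom, MulAut.conj_apply]
      exact (le_sup_right : B ≤ A ⊔ B) ((Subgroup.mem_normalizer_iff.mp (hB ha) x).mp hx)
  have h1 := key hk
  rw [Subgroup.mem_comap] at h1
  simpa using h1

/-- `H` centralizing `c` normalizes `zpowers c` -/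
theorem p3a_le_normalizer_zpowers (H : Subgroup G) (c : G) (hc : ∀ a ∈ H, a * c = c * a) :
    H ≤ Subgroup.normalizer ((Subgroup.zpowers c : Subgroup G) : Set G) := by
  apply p3c_le_normalizer_of_conj_mem
  intro a ha k hk
  have hz : Subgroup.zpowers c ≤ Subgroup.centralizer ({a} : Set G) := by
    rw [Subgroup.zpowers_le, Subgroup.mem_centralizer_iff]
    intro g hg
    have : g = a := hg
    rw [this]
    exact hc a ha
  have h1 := Subgroup.mem_centralizer_iff.mp (hz hk) a rfl
  have : a * k * a⁻¹ = k := by rw [h1]; group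
  rw [this]
  exact hk

theorem p3a_isAb_of_bad {X₁ X : Subgroup G} (hb : Bad X₁) (he : X₁ = X) : IsAb X := by
  intro a ha b hb'
  rw [← he] at ha hb'
  have := hb.1.is_comm.comm ⟨a, ha⟩ ⟨b, hb'⟩
  exact congrArg Subtype.val this

/-- P3a -/
theorem sec3_a [Finite G] (X H : Subgroup G) (h : Sec3 X H) (hne : ⁅X, H⁆ ≠ X) :
    IsAb X ∨ ∃ X₀ : Subgroup G, X₀ ≤ X ∧ X₀.relIndex X = 2 ∧
      Nonempty (↥X₀ ≃* QuaternionGroup 2) ∧
      X₀ ⊔ (X ⊓ Subgroup.centralizer (X₀ : Set G)) = X := by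
  have hp2 : Fact (Nat.Prime 2) := ⟨Nat.prime_two⟩
  have hX := h.hX
  have hHX := h.hHX
  obtain ⟨Y, hYdef⟩ : ∃ Y : Subgroup G, Y = ⁅X, H⁆ := ⟨_, rfl⟩
  rw [← hYdef] at hne
  have hYle : Y ≤ X := by
    rw [hYdef]; exact Cfsg.Agent.Lib.Lead.commutator_le_left_of_le_normalizer X H hHX
  have hHY : H ≤ Subgroup.normalizer (Y : Set G) := by
    rw [hYdef]; exact Cfsg.Agent.Lib.Lead.le_normalizer_commutator_right X H hHX
  have hXY : X ≤ Subgroup.normalizer (Y : Set G) := by
    rw [hYdef]; exact Cfsg.Agent.Lib.Lead.le_normalizer_commutator_left X H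
  have hcopOf : ∀ K : Subgroup G, K ≤ X → (Nat.card H).Coprime (Nat.card K) := by
    intro K hK
    obtain ⟨k, hk⟩ := IsPGroup.iff_card.mp (hX.to_le hK)
    rw [hk]
    exact Nat.Coprime.pow_right _ (Nat.coprime_two_right.mpr h.hodd)
  have hsolvOf : ∀ K : Subgroup G, K ≤ X → (Group.IsSolvable H ∨ Group.IsSolvable K) := by
    intro K hK
    right
    have : Group.IsNilpotent K := (hX.to_le hK).isNilpotent
    infer_instance
  have hstab : ⁅Y, H⁆ = Y := by
    rw [hYdef]
    exact Cfsg.Agent.Lib.Lead.coprime_commutator_stable H X hHX (hcopOf X le_rfl) (hsolvOf X le_rfl)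
  have hYsmall : Small Y := h.hmin Y hYle hne hHY
  have hmin' : ∀ X₁ : Subgroup G, X₁ ≤ X → H ≤ Subgroup.normalizer (X₁ : Set G) → ¬ Small X₁ →
      X₁ = X := by
    intro X₁ h1 h2 h3
    by_contra h4
    exact h3 (h.hmin X₁ h1 h4 h2)
  by_cases hY1 : Y = ⊥
  · -- `H = ⊥`
    left
    have hHc : H ≤ Subgroup.centralizer (X : Set G) := by
      have h1 : ⁅X, H⁆ = ⊥ := by rw [← hYdef]; exact hY1
      rw [Subgroup.commutator_comm, Subgroup.commutator_eq_bot_iff_le_centralizer] at h1
      exact h1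
    have hH1 : H = ⊥ := by
      rw [eq_bot_iff, ← h.hfaith]
      exact le_inf le_rfl hHc
    obtain ⟨A₀, hA₀X, hA₀⟩ : ∃ A₀ : Subgroup G, A₀ ≤ X ∧ Bad A₀ := by
      by_contra hno
      push Not at hno
      exact h.hbad (fun A hA hB => hno A hA hB)
    have hA₀eq : A₀ = X := by
      apply hmin' A₀ hA₀X
      · rw [hH1]; exact bot_le
      · intro hs
        exact hs A₀ le_rfl hA₀
    exact p3a_isAb_of_bad hA₀ hA₀eq
  have hncY : ¬ H ≤ Subgroup.centralizer (Y : Set G) := by
    intro hc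
    apply hY1
    rw [← hstab, Subgroup.commutator_comm, Subgroup.commutator_eq_bot_iff_le_centralizer]
    exact hc
  obtain ⟨hshape, _⟩ := sm Y H (hX.to_le hYle) hYsmall hHY h.hodd hncY
  rcases hshape with hV | hN
  · -- four-group
    left
    have hXc : X ≤ Subgroup.centralizer (Y : Set G) :=
      v4_le_centralizer Y X H hV hX hXY hHY hHX h.hodd hncY
    obtain ⟨C, hCdef⟩ : ∃ C : Subgroup G, C = X ⊓ Subgroup.centralizer (H : Set G) := ⟨_, rfl⟩
    have hsup : Y ⊔ C = X := by
      rw [hYdef, hCdef]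
      exact Cfsg.Agent.Lib.Lead.coprime_commutator_sup_centralizer H X hHX (hcopOf X le_rfl)
        (hsolvOf X le_rfl)
    have hCX : C ≤ X := by rw [hCdef]; exact inf_le_left
    have hCY : ¬ C ≤ Y := by
      intro hle
      apply hne
      rw [← hsup]
      exact (sup_eq_left.mpr hle).symm
    have hNne : C ⊓ Y ≠ C := by
      intro he
      apply hCY
      rw [← he]; exact inf_le_right
    have hCN : C ≤ Subgroup.normalizer ((C ⊓ Y : Subgroup G) : Set G) := by
      apply p3c_le_normalizer_of_conj_mem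
      intro a ha k hk
      exact Subgroup.mem_inf.mpr ⟨C.mul_mem (C.mul_mem ha hk.1) (C.inv_mem ha),
        (Subgroup.mem_normalizer_iff.mp (hXY (hCX ha)) k).mp hk.2⟩
    obtain ⟨c, hcC, hcN, hc2⟩ := exists_sq_mem_of_ne (C ⊓ Y) C (hX.to_le hCX) inf_le_left hNne hCN
    have hcY : c ∉ Y := fun hh => hcN (Subgroup.mem_inf.mpr ⟨hcC, hh⟩)
    have hc2Y : c ^ 2 ∈ Y := hc2.2
    have hcX : c ∈ X := hCX hcC
    have hcH : ∀ a ∈ H, a * c = c * a := by
      intro a ha
      rw [hCdef] at hcC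
      exact Subgroup.mem_centralizer_iff.mp hcC.2 a ha
    have hbad : Bad (Y ⊔ Subgroup.zpowers c) := by
      apply bad_sup_zpowers Y c hV.1 hV.comm
      · intro a ha
        have : a ^ 4 = (a ^ 2) ^ 2 := by rw [← pow_mul]
        rw [this, hV.2 a ha, one_pow]
      · intro a ha
        exact (Subgroup.mem_centralizer_iff.mp (hXc hcX) a ha).symm
      · exact hcY
      · exact hc2Y
      · have : c ^ 4 = (c ^ 2) ^ 2 := by rw [← pow_mul]
        rw [this, hV.2 _ hc2Y]
    have hX₁ : Y ⊔ Subgroup.zpowers c = X := by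
      apply hmin'
      · exact sup_le hYle (by rw [Subgroup.zpowers_le]; exact hcX)
      · exact p3a_le_normalizer_sup H Y _ hHY (p3a_le_normalizer_zpowers H c hcH)
      · intro hs
        exact hs _ le_rfl hbad
    exact p3a_isAb_of_bad hbad hX₁
  · -- non-abelian of order 8
    right
    have hQ := na8_quaternion Y H hN h.hodd hHY hstab
    have hsupT := na8_sup_centralizer Y X H hN hX hYle hXY hHY hHX h.hodd hstab
    refine ⟨Y, hYle, ?_, hQ, hsupT⟩
    obtain ⟨T, hTdef⟩ : ∃ T : Subgroup G, T = X ⊓ Subgroup.centralizer (Y : Set G) := ⟨_, rfl⟩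
    rw [← hTdef] at hsupT
    have hTX : T ≤ X := by rw [hTdef]; exact inf_le_left
    have hHT : H ≤ Subgroup.normalizer (T : Set G) := by
      rw [hTdef]; exact p3c_le_normalizer_inf_centralizer H X Y hHX hHY
    -- `H` centralizes `Z(Y)`
    obtain ⟨z, hzY, hz1, _, _, _, _, hcen, _⟩ := hN.facts
    have hHZ : H ≤ Subgroup.normalizer ((Y ⊓ Subgroup.centralizer (Y : Set G) : Subgroup G) : Set G) :=
      p3c_le_normalizer_inf_centralizer H Y Y hHY hHY
    have hZelts : ∀ g ∈ (Y ⊓ Subgroup.centralizer (Y : Set G) : Subgroup G), g = 1 ∨ g = z := by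
      intro g hg
      apply hcen g hg.1
      intro y hy
      exact (Subgroup.mem_centralizer_iff.mp hg.2 y hy).symm
    have hHcZ : H ≤ Subgroup.centralizer
        ((Y ⊓ Subgroup.centralizer (Y : Set G) : Subgroup G) : Set G) := by
      intro a ha
      rw [Subgroup.mem_centralizer_iff]
      intro g hg
      have hconj := (Subgroup.mem_normalizer_iff.mp (hHZ ha) g).mp hg
      rcases hZelts g hg with h1 | h1
      · rw [h1, one_mul, mul_one]
      · rcases hZelts _ hconj with h2 | h2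
        · exfalso
          apply hz1
          have : g = a⁻¹ * (a * g * a⁻¹) * a := by group
          rw [← h1, this, h2]; group
        · rw [h1] at h2 ⊢
          calc z * a = (a * z * a⁻¹) * a := by rw [h2]
            _ = a * z := by group
    have hTH : T ≤ Subgroup.centralizer (H : Set G) := by
      have h1 : ⁅T, H⁆ ≤ T := Cfsg.Agent.Lib.Lead.commutator_le_left_of_le_normalizer T H hHT
      have h2 : ⁅T, H⁆ ≤ Y := by
        rw [hYdef]; exact Subgroup.commutator_mono hTX le_rfl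
      have h3 : ⁅T, H⁆ ≤ Y ⊓ Subgroup.centralizer (Y : Set G) := by
        intro g hg
        have hgT := h1 hg
        rw [hTdef] at hgT
        exact Subgroup.mem_inf.mpr ⟨h2 hg, hgT.2⟩
      have h4 : ⁅⁅T, H⁆, H⁆ ≤ ⁅Y ⊓ Subgroup.centralizer (Y : Set G), H⁆ :=
        Subgroup.commutator_mono h3 le_rfl
      have h5 : ⁅Y ⊓ Subgroup.centralizer (Y : Set G), H⁆ = ⊥ := by
        rw [Subgroup.commutator_comm, Subgroup.commutator_eq_bot_iff_le_centralizer]
        exact hHcZ
      rw [Cfsg.Agent.Lib.Lead.coprime_commutator_stable H T hHT (hcopOf T hTX) (hsolvOf T hTX),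
        h5] at h4
      exact Subgroup.commutator_eq_bot_iff_le_centralizer.mp (le_bot_iff.mp h4)
    have hTY : ¬ T ≤ Y := by
      intro hle
      apply hne
      rw [← hsupT]
      exact (sup_eq_left.mpr hle).symm
    have hNne : T ⊓ Y ≠ T := by
      intro he
      apply hTY
      rw [← he]; exact inf_le_right
    have hTN : T ≤ Subgroup.normalizer ((T ⊓ Y : Subgroup G) : Set G) := by
      apply p3c_le_normalizer_of_conj_mem
      intro a ha k hk
      exact Subgroup.mem_inf.mpr ⟨T.mul_mem (T.mul_mem ha hk.1) (T.inv_mem ha),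
        (Subgroup.mem_normalizer_iff.mp (hXY (hTX ha)) k).mp hk.2⟩
    obtain ⟨t, htT, htN, ht2⟩ := exists_sq_mem_of_ne (T ⊓ Y) T (hX.to_le hTX) inf_le_left hNne hTN
    have htY : t ∉ Y := fun hh => htN (Subgroup.mem_inf.mpr ⟨htT, hh⟩)
    have ht2Y : t ^ 2 ∈ Y := ht2.2
    have htX : t ∈ X := hTX htT
    have htH : ∀ a ∈ H, a * t = t * a := by
      intro a ha
      exact Subgroup.mem_centralizer_iff.mp (hTH htT) a ha
    have htc : t ∈ Subgroup.centralizer (Y : Set G) := by
      rw [hTdef] at htT; exact htT.2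
    have hX₁ : Y ⊔ Subgroup.zpowers t = X := by
      apply hmin'
      · exact sup_le hYle (by rw [Subgroup.zpowers_le]; exact htX)
      · exact p3a_le_normalizer_sup H Y _ hHY (p3a_le_normalizer_zpowers H t htH)
      · exact not_small_of_na8_of_mem Y _ hN le_sup_left t
          ((le_sup_right : Subgroup.zpowers t ≤ Y ⊔ Subgroup.zpowers t) (Subgroup.mem_zpowers t))
          htc htY ht2Y
    have hcard := card_sup_zpowers_of_sq_mem Y t (hXY htX) htY ht2Y
    rw [hX₁, hN.1] at hcard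
    have h3 := Subgroup.relIndex_mul_relIndex (⊥ : Subgroup G) Y X bot_le hYle
    rw [Subgroup.relIndex_bot_left, Subgroup.relIndex_bot_left, hN.1, hcard] at h3
    omega

end Cfsg.Agent.Lib.Helper8.SmTwo
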