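import Mathlib
import Cfsg.Prelude.Def_RootSubgroups
import Cfsg.Agent.Lib.Helper8.St4
import Cfsg.Agent.Lib.Helper8.RY1
import Cfsg.Agent.Lib.Helper9.SpecialRankOne2

set_option autoImplicit false
set_option linter.unusedSimpArgs false
set_option linter.unusedVariables false
set_option linter.unusedSectionVars false

/-!
# Special rank one groups: `⟨a, b(a)⟩` is an image of `SL₂(p)` when `a` has prime order
-/

namespace Cfsg.Agent.Lib.Helper8.St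

open Cfsg.Agent.H9SR Cfsg.Agent.Lib.Helper8

variable {X : Type*} [Group X] {p : ℕ} [Fact p.Prime]

/-- `g ^ t` for `t : ZMod p` -/
def zp (g : X) (t : ZMod p) : X := g ^ t.val

theorem pow_eq_of_cast_eq {g : X} (hg : g ^ p = 1) {m n : ℕ}
    (h : (m : ZMod p) = (n : ZMod p)) : g ^ m = g ^ n := by
  rw [ZMod.natCast_eq_natCast_iff'] at h
  rw [pow_eq_pow_mod m hg, pow_eq_pow_mod n hg, h]

theorem zp_natCast {g : X} (hg : g ^ p = 1) (n : ℕ) : zp g (n : ZMod p) = g ^ n :=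
  pow_eq_of_cast_eq hg (ZMod.natCast_zmod_val _)

theorem zp_one {g : X} (hg : g ^ p = 1) : zp g (1 : ZMod p) = g := by
  have := zp_natCast hg 1
  rwa [Nat.cast_one, pow_one] at this

theorem zp_add {g : X} (hg : g ^ p = 1) (s t : ZMod p) : zp g (s + t) = zp g s * zp g t := by
  unfold zp
  rw [← pow_add]
  apply pow_eq_of_cast_eq hg
  rw [Nat.cast_add, ZMod.natCast_zmod_val, ZMod.natCast_zmod_val, ZMod.natCast_zmod_val]

theorem zp_mul {g : X} (hg : g ^ p = 1) (s t : ZMod p) : zp (zp g s) t = zp g (s * t) := by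
  unfold zp
  rw [← pow_mul]
  apply pow_eq_of_cast_eq hg
  rw [Nat.cast_mul, ZMod.natCast_zmod_val, ZMod.natCast_zmod_val, ZMod.natCast_zmod_val]

theorem zp_pow_p {g : X} (hg : g ^ p = 1) (s : ZMod p) : (zp g s) ^ p = 1 := by
  unfold zp
  rw [← pow_mul, mul_comm, pow_mul, hg, one_pow]

theorem zp_zero (g : X) : zp g (0 : ZMod p) = 1 := by
  unfold zp
  rw [ZMod.val_zero, pow_zero]

theorem zp_neg {g : X} (hg : g ^ p = 1) (s : ZMod p) : zp g (-s) = (zp g s)⁻¹ := by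
  have h := zp_add hg s (-s)
  rw [add_neg_cancel, zp_zero] at h
  exact (inv_eq_of_mul_eq_one_right h.symm).symm

theorem zp_eq_one {g : X} (hg : g ^ p = 1) (hg1 : g ≠ 1) {t : ZMod p} (h : zp g t = 1) :
    t = 0 := by
  have ho : orderOf g = p := orderOf_eq_prime hg hg1
  have hd : orderOf g ∣ t.val := orderOf_dvd_of_pow_eq_one h
  rw [ho] at hd
  have hlt : t.val < p := ZMod.val_lt t
  have h0 : t.val = 0 := Nat.eq_zero_of_dvd_of_lt hd hlt
  exact (ZMod.val_eq_zero t).mp h0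

theorem zp_mem {H : Subgroup X} {g : X} (hg : g ∈ H) (t : ZMod p) : zp g t ∈ H :=
  H.pow_mem hg _

section RankOne

variable {A B : Subgroup X} (S : SpecAb A B) (hA : ∀ c ∈ A, c ^ p = 1)
include S hA

theorem exp_right {a b : X} (h : Chi A B a b) : ∀ c ∈ B, c ^ p = 1 := by
  intro c hc
  have hB : B = ra A (b * a⁻¹) := by
    rw [← ra_ra, h.2.2.2.2, ra_ra, mul_inv_cancel, ra_one]
  rw [hB, mem_ra] at hc
  have h1 := hA _ hc
  rw [conj_pow] at h1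
  have h2 : c ^ p = (b * a⁻¹)⁻¹ * ((b * a⁻¹) * c ^ p * (b * a⁻¹)⁻¹) * (b * a⁻¹) := by group
  rw [h2, h1]
  group

theorem chi_zp {a b : X} (h : Chi A B a b) {t : ZMod p} (ht : t ≠ 0) :
    Chi A B (zp a t) (zp b t⁻¹) := by
  have hp : p.Prime := Fact.out
  have hap : a ^ p = 1 := hA a h.1
  have hB := exp_right S hA h
  have hbp : b ^ p = 1 := hB b h.2.2.1
  have hm1 : 1 ≤ t.val := by
    rw [Nat.one_le_iff_ne_zero]
    intro h0
    exact ht ((ZMod.val_eq_zero t).mp h0)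
  have hmp : t.val < p := ZMod.val_lt t
  have hα1 : zp a t ≠ 1 := fun h0 => ht (zp_eq_one hap h.2.1 h0)
  obtain ⟨β, hβ⟩ := S.exists_chi (zp_mem h.1 t) hα1
  have hsm : Smooth t.val a := by
    intro j hj hpr h1
    have ho : orderOf a = p := orderOf_eq_prime hap h.2.1
    have hd : p ∣ j := by
      rw [← ho]
      exact orderOf_dvd_of_pow_eq_one h1
    have := hpr p hp hd
    omega
  have hpow : β ^ t.val = b := S.chi_pow t.val hm1 a b β hsm h hβ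
  have hβp : β ^ p = 1 := hB β hβ.2.2.1
  have e : zp b t⁻¹ = β := by
    unfold zp
    rw [← hpow, ← pow_mul]
    have : β = β ^ 1 := (pow_one β).symm
    conv_rhs => rw [this]
    apply pow_eq_of_cast_eq hβp
    rw [Nat.cast_mul, ZMod.natCast_zmod_val, ZMod.natCast_zmod_val, Nat.cast_one,
      mul_inv_cancel₀ ht]
  rw [e]
  exact hβ

theorem rel_zp {a b : X} (h : Chi A B a b) (t u : ZMod p) (ht : t ≠ 0) :
    (zp a t * zp b (-t⁻¹) * zp a t) * zp a u * (zp a t * zp b (-t⁻¹) * zp a t)⁻¹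
      = zp b (-(t⁻¹ * t⁻¹ * u)) := by
  have hap : a ^ p = 1 := hA a h.1
  have hB := exp_right S hA h
  have hbp : b ^ p = 1 := hB b h.2.2.1
  have hchi := chi_zp S hA h ht
  set α := zp a t with hα
  set β := zp b t⁻¹ with hβ
  have e1 : zp b (-t⁻¹) = β⁻¹ := zp_neg hbp _
  rw [e1]
  have hn := RY.conj_n S (S.chi_inv hchi)
  rw [inv_inv] at hn
  -- hn : (α⁻¹ * β * α⁻¹)⁻¹ * α⁻¹ * (α⁻¹ * β * α⁻¹) = β
  have hn2 : (α * β⁻¹ * α) * α * (α * β⁻¹ * α)⁻¹ = β⁻¹ := by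
    have e : (α⁻¹ * β * α⁻¹)⁻¹ = α * β⁻¹ * α := by group
    rw [e] at hn
    have e' : α⁻¹ * β * α⁻¹ = (α * β⁻¹ * α)⁻¹ := by group
    rw [e'] at hn
    calc (α * β⁻¹ * α) * α * (α * β⁻¹ * α)⁻¹
        = ((α * β⁻¹ * α) * α⁻¹ * (α * β⁻¹ * α)⁻¹)⁻¹ := by group
      _ = β⁻¹ := by rw [hn]
  have e2 : zp a u = α ^ (u * t⁻¹).val := by
    show zp a u = zp α (u * t⁻¹)
    rw [hα, zp_mul hap]
    congr 1
    field_simp
  have e3 : zp b (-(t⁻¹ * t⁻¹ * u)) = (β⁻¹) ^ (u * t⁻¹).val := by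
    rw [inv_pow]
    show _ = (zp β (u * t⁻¹))⁻¹
    rw [hβ, zp_mul hbp, ← zp_neg hbp]
    congr 1
    ring
  rw [e2, e3, ← conj_pow, hn2]

/-- the Steinberg data attached to `a` and `b = χ(a)` -/
def DX {a b : X} (h : Chi A B a b) : Data (ZMod p) X where
  x := zp a
  y := zp b
  x_add := zp_add (hA a h.1)
  y_add := zp_add (exp_right S hA h b h.2.2.1)
  rel := fun t u ht => rel_zp S hA h t u ht

theorem DX_x {a b : X} (h : Chi A B a b) (t : ZMod p) : (DX S hA h).x t = zp a t := rfl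

theorem DX_y {a b : X} (h : Chi A B a b) (t : ZMod p) : (DX S hA h).y t = zp b t := rfl

theorem DX_mult {a b : X} (h : Chi A B a b) : (DX S hA h).Mult :=
  fun t u ht hu => (DX S hA h).h_mul t u ht hu

theorem DX_K1 {a b : X} (h : Chi A B a b) (u : ZMod p) (hu : (DX S hA h).x u = 1) : u = 0 :=
  zp_eq_one (hA a h.1) h.2.1 hu

theorem DX_K2 {a b : X} (h : Chi A B a b) (i t j : ZMod p) (ht : t ≠ 0) :
    (DX S hA h).x i * (DX S hA h).h t * (DX S hA h).w 1 * (DX S hA h).x j ≠ 1 := by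
  set D := DX S hA h with hD
  intro h1
  have hb1 := h.2.2.2.1
  have hbp : b ^ p = 1 := exp_right S hA h b h.2.2.1
  -- w 1 = (h t)⁻¹ * x (-i + -j)
  have hw : D.w 1 = (D.h t)⁻¹ * D.x (-i + -j) := by
    rw [D.x_add, D.x_neg, D.x_neg]
    have : D.w 1 = (D.h t)⁻¹ * (D.x i)⁻¹ * (D.x i * D.h t * D.w 1 * D.x j) * (D.x j)⁻¹ := by group
    rw [this, h1]
    group
  have h2 := D.w_x 1 1 one_ne_zero
  have e : -((1 : ZMod p)⁻¹ * 1⁻¹ * 1) = -1 := by simp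
  rw [e, D.w_neg 1, hw] at h2
  have hcomm : D.x (-i + -j) * D.x 1 = D.x 1 * D.x (-i + -j) := by
    rw [← D.x_add, ← D.x_add, add_comm]
  have h3 : (D.h t)⁻¹ * D.x (-i + -j) * D.x 1 * ((D.h t)⁻¹ * D.x (-i + -j))⁻¹
      = D.x (t⁻¹ * t⁻¹ * 1) := by
    calc (D.h t)⁻¹ * D.x (-i + -j) * D.x 1 * ((D.h t)⁻¹ * D.x (-i + -j))⁻¹
        = (D.h t)⁻¹ * (D.x (-i + -j) * D.x 1) * (D.x (-i + -j))⁻¹ * D.h t := by group
      _ = (D.h t)⁻¹ * (D.x 1 * D.x (-i + -j)) * (D.x (-i + -j))⁻¹ * D.h t := by rw [hcomm]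
      _ = ((D.h t)⁻¹ * D.x 1) * D.h t := by group
      _ = D.x (t⁻¹ * t⁻¹ * 1) := by rw [D.hinv_x t 1 ht]; group
  rw [h3] at h2
  -- h2 : x (t⁻¹ * t⁻¹ * 1) = y (-1)
  have hmemA : D.y (-1) ∈ A := by
    rw [← h2]
    exact zp_mem h.1 _
  have hmemB : D.y (-1) ∈ B := zp_mem h.2.2.1 _
  have hbot : D.y (-1) ∈ A ⊓ B := ⟨hmemA, hmemB⟩
  rw [rankOnePair_inf S.pair, Subgroup.mem_bot] at hbot
  have : (-1 : ZMod p) = 0 := zp_eq_one hbp hb1 hbot
  simp at this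

theorem DX_K3 {a b : X} (h : Chi A B a b) (i t : ZMod p) (ht : t ≠ 0)
    (h1 : (DX S hA h).x i * (DX S hA h).h t = 1) : i = 0 := by
  set D := DX S hA h with hD
  by_contra hi
  have hap : a ^ p = 1 := hA a h.1
  have hb1 := h.2.2.2.1
  have hbp : b ^ p = 1 := exp_right S hA h b h.2.2.1
  have hc1 : zp a i ≠ 1 := fun h0 => hi (zp_eq_one hap h.2.1 h0)
  have hcA : zp a i ∈ A := zp_mem h.1 i
  obtain ⟨b'', hb''⟩ := S.exists_chi hcA hc1
  have hh : D.h t = (D.x i)⁻¹ := eq_inv_of_mul_eq_one_right h1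
  have h2 := D.h_y t 1 ht
  rw [hh, inv_inv] at h2
  -- h2 : (x i)⁻¹ * y 1 * x i = y (t⁻¹ * t⁻¹ * 1)
  have hmem1 : D.y (t⁻¹ * t⁻¹ * 1) ∈ ra B (zp a i) := by
    rw [← h2]
    exact conj_mem_ra (zp_mem h.2.2.1 _)
  rw [← hb''.2.2.2.2, mem_ra] at hmem1
  have hyB : D.y (t⁻¹ * t⁻¹ * 1) ∈ B := zp_mem h.2.2.1 _
  have hmem2 : b'' * D.y (t⁻¹ * t⁻¹ * 1) * b''⁻¹ ∈ B :=
    B.mul_mem (B.mul_mem hb''.2.2.1 hyB) (B.inv_mem hb''.2.2.1)
  have hbot : b'' * D.y (t⁻¹ * t⁻¹ * 1) * b''⁻¹ ∈ A ⊓ B := ⟨hmem1, hmem2⟩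
  rw [rankOnePair_inf S.pair, Subgroup.mem_bot] at hbot
  have hy1 : D.y (t⁻¹ * t⁻¹ * 1) = 1 := by
    have : D.y (t⁻¹ * t⁻¹ * 1) = b''⁻¹ * (b'' * D.y (t⁻¹ * t⁻¹ * 1) * b''⁻¹) * b'' := by group
    rw [this, hbot]
    group
  have : t⁻¹ * t⁻¹ * 1 = 0 := zp_eq_one hbp hb1 hy1
  have ht' : t⁻¹ ≠ 0 := inv_ne_zero ht
  simp [ht] at this

theorem closure_DX {a b : X} (h : Chi A B a b) :
    Subgroup.closure (Set.range (DX S hA h).x ∪ Set.range (DX S hA h).y)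
      = Subgroup.closure ({a, b} : Set X) := by
  have hap : a ^ p = 1 := hA a h.1
  have hbp : b ^ p = 1 := exp_right S hA h b h.2.2.1
  apply le_antisymm
  · rw [Subgroup.closure_le]
    rintro z (⟨t, rfl⟩ | ⟨t, rfl⟩)
    · exact zp_mem (Subgroup.subset_closure (by simp)) t
    · exact zp_mem (Subgroup.subset_closure (by simp)) t
  · rw [Subgroup.closure_le]
    rintro z (rfl | hz)
    · exact Subgroup.subset_closure (Or.inl ⟨1, zp_one hap⟩)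
    · rw [Set.mem_singleton_iff] at hz
      rw [hz]
      exact Subgroup.subset_closure (Or.inr ⟨1, zp_one hbp⟩)

end RankOne

end Cfsg.Agent.Lib.Helper8.St
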