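import Mathlib
import Cfsg.Prelude.Def_Blocks
import Cfsg.Agent.Lib.Helper8.InducedOmega2
import Cfsg.Agent.Lib.Helper4.Characters

/-!
# Block parts and complex conjugation
-/

set_option autoImplicit false

namespace Cfsg.Agent.Lib.Helper8

open Cfsg
open scoped ComplexConjugate
open Cfsg.Agent.Lib.Helper1 Cfsg.Agent.Lib.Helper4

universe u

section

variable {H : Type u} [Group H] [Fintype H]

/-- The block part of `c ↦ conj (θ c⁻¹)` at `s⁻¹` is the conjugate of the block part of `θ` at
`s`. -/
theorem blockPart_star (e : Set (IrrCharacter H)) (θ : H → ℂ) (s : H) :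
    blockPart e (fun c => conj (θ c⁻¹)) s⁻¹ = conj (blockPart e θ s) := by
  classical
  have : Fintype (IrrCharacter H) := Fintype.ofFinite _
  rw [blockPart_eq_sum, blockPart_eq_sum, map_sum]
  refine Finset.sum_congr rfl fun ψ _ => ?_
  rw [map_mul, map_mul, isCharacter_inv (isCharacter_of_irr ψ.2) s]
  have h1 : classInner (fun c => conj (θ c⁻¹)) (ψ : H → ℂ) = conj (classInner θ (ψ : H → ℂ)) := by
    rw [classInner_def, classInner_def, map_mul, map_inv₀, Complex.conj_natCast, map_sum]
    congr 1
    rw [← Equiv.sum_comp (Equiv.inv H)]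
    refine Finset.sum_congr rfl fun c _ => ?_
    rw [Equiv.inv_apply, inv_inv, map_mul, Complex.conj_conj,
      isCharacter_inv (isCharacter_of_irr ψ.2) c, Complex.conj_conj]
  rw [h1]
  congr 1
  split_ifs <;> simp

end

end Cfsg.Agent.Lib.Helper8
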