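import Mathlib

set_option autoImplicit false

namespace Cfsg.Agent.Lib.Helper8.SylSchur

open Nat Finset

/-- All prime divisors of `C(n,k)` are `≤ k`. -/
def Bad (n k : ℕ) : Prop := ∀ p : ℕ, p.Prime → p ∣ n.choose k → p ≤ k

theorem bad_factorization_eq_zero {n k p : ℕ} (h : Bad n k) (hp : k < p) :
    (n.choose k).factorization p = 0 := by
  by_cases hpp : p.Prime
  · by_contra h0
    have hd : p ∣ n.choose k := Nat.dvd_of_factorization_pos h0
    exact absurd (h p hpp hd) (by omega)
  · exact Nat.factorization_eq_zero_of_not_prime _ hpp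

theorem choose_eq_prod_primes {n k : ℕ} (h : Bad n k) (hkn : k ≤ n) :
    n.choose k = ∏ p ∈ (range (k + 1)).filter Nat.Prime, p ^ (n.choose k).factorization p := by
  refine (Nat.prod_pow_factorization_choose n k hkn).symm.trans ?_
  symm
  apply Finset.prod_subset
  · intro x hx
    rw [mem_filter, mem_range] at hx
    rw [mem_range]; omega
  · intro x hx hx'
    rw [mem_range] at hx
    rw [mem_filter, mem_range] at hx'
    by_cases hxp : x.Prime
    · have hkx : k < x := by
        by_contra hc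
        exact hx' ⟨by omega, hxp⟩
      rw [bad_factorization_eq_zero h hkx, pow_zero]
    · rw [Nat.factorization_eq_zero_of_not_prime _ hxp, pow_zero]

/-- A1 -/
theorem bad_le_pow_primeCounting {n k : ℕ} (h : Bad n k) (hkn : k ≤ n) (hn : 0 < n) :
    n.choose k ≤ n ^ (Nat.primeCounting k) := by
  rw [choose_eq_prod_primes h hkn]
  have hcard : ((range (k + 1)).filter Nat.Prime).card = Nat.primeCounting k := by
    rw [Nat.primeCounting, Nat.primeCounting', Nat.count_eq_card_filter_range]
  rw [← hcard, ← Finset.prod_const]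
  apply Finset.prod_le_prod'
  intro p _
  exact Nat.pow_factorization_choose_le hn


/-- A2 -/
theorem bad_le_sqrt_bound {n k : ℕ} (h : Bad n k) (hk2 : 2 * k ≤ n) (hn : 4 ≤ n) :
    n.choose k ≤ n ^ (Nat.primeCounting (Nat.sqrt n)) * 4 ^ (min k (n / 3)) := by
  have hkn : k ≤ n := by omega
  rw [choose_eq_prod_primes h hkn]
  set S := (range (k + 1)).filter Nat.Prime with hS
  set f : ℕ → ℕ := fun p => p ^ (n.choose k).factorization p with hf
  rw [← Finset.prod_filter_mul_prod_filter_not S (· ≤ Nat.sqrt n)]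
  apply Nat.mul_le_mul
  · -- small primes
    have hcard : (S.filter (· ≤ Nat.sqrt n)).card ≤ Nat.primeCounting (Nat.sqrt n) := by
      rw [Nat.primeCounting, Nat.primeCounting', Nat.count_eq_card_filter_range]
      apply Finset.card_le_card
      intro x hx
      rw [mem_filter, hS, mem_filter, mem_range] at hx
      rw [mem_filter, mem_range]
      exact ⟨by omega, hx.1.2⟩
    calc ∏ p ∈ S.filter (· ≤ Nat.sqrt n), f p ≤ ∏ p ∈ S.filter (· ≤ Nat.sqrt n), n :=
          Finset.prod_le_prod' (fun p _ => Nat.pow_factorization_choose_le (by omega))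
      _ = n ^ (S.filter (· ≤ Nat.sqrt n)).card := Finset.prod_const n
      _ ≤ n ^ Nat.primeCounting (Nat.sqrt n) := Nat.pow_le_pow_right (by omega) hcard
  · -- large primes
    refine le_trans ?_ (primorial_le_four_pow (min k (n / 3)))
    have hle : ∀ p ∈ S.filter (fun p => ¬ p ≤ Nat.sqrt n), f p ≤ (if p ≤ n / 3 then p else 1) := by
      intro p hp
      rw [mem_filter, hS, mem_filter, mem_range] at hp
      obtain ⟨⟨hpk, hpp⟩, hps⟩ := hp
      have hlt : n < p ^ 2 := Nat.sqrt_lt'.mp (not_le.mp hps)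
      split_ifs with h3
      · calc f p ≤ p ^ 1 := Nat.pow_le_pow_right hpp.pos (Nat.factorization_choose_le_one hlt)
          _ = p := pow_one p
      · have hp2 : p ≠ 2 := by
          rintro rfl
          norm_num at hlt; omega
        have h0 : (n.choose k).factorization p = 0 :=
          Nat.factorization_choose_of_lt_three_mul hp2 (by omega) (by omega) (by omega)
        simp [hf, h0]
    calc ∏ p ∈ S.filter (fun p => ¬ p ≤ Nat.sqrt n), f p
        ≤ ∏ p ∈ S.filter (fun p => ¬ p ≤ Nat.sqrt n), (if p ≤ n / 3 then p else 1) :=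
          Finset.prod_le_prod' hle
      _ ≤ primorial (min k (n / 3)) := by
          rw [← Finset.prod_filter]
          unfold primorial
          apply Finset.prod_le_prod_of_subset_of_one_le'
          · intro x hx
            rw [mem_filter, mem_filter, hS, mem_filter, mem_range] at hx
            rw [mem_filter, mem_range]
            refine ⟨?_, hx.1.1.2⟩
            have := hx.2
            have := hx.1.1.1
            rw [Nat.lt_succ_iff, le_min_iff]
            omega
          · intro p hp _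
            rw [mem_filter] at hp
            exact hp.2.one_le


/-- LB0 : `n^k ≤ C(n,k) k^k`. -/
theorem pow_le_choose_mul_pow (k : ℕ) : ∀ n : ℕ, k ≤ n → n ^ k ≤ n.choose k * k ^ k := by
  induction k with
  | zero => intro n _; simp
  | succ k ih =>
    intro n hn
    obtain ⟨n, rfl⟩ : ∃ n', n = n' + 1 := ⟨n - 1, by omega⟩
    have hkn : k ≤ n := by omega
    have h1 := ih n hkn
    have h2 : (n + 1) * n.choose k = (n + 1).choose (k + 1) * (k + 1) := Nat.add_one_mul_choose_eq n k
    have h3 : ((n + 1) * k) ^ k ≤ (n * (k + 1)) ^ k := Nat.pow_le_pow_left (by nlinarith) k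
    rw [mul_pow, mul_pow] at h3
    -- (n+1)^k * k^k ≤ n^k * (k+1)^k ≤ C(n,k) k^k (k+1)^k
    have h4 : (n + 1) ^ k * k ^ k ≤ n.choose k * (k + 1) ^ k * k ^ k := by
      calc (n + 1) ^ k * k ^ k ≤ n ^ k * (k + 1) ^ k := h3
        _ ≤ (n.choose k * k ^ k) * (k + 1) ^ k := Nat.mul_le_mul_right _ h1
        _ = n.choose k * (k + 1) ^ k * k ^ k := by ring
    have h5 : (n + 1) ^ k ≤ n.choose k * (k + 1) ^ k := by
      rcases Nat.eq_zero_or_pos k with rfl | hk
      · simp
      · exact Nat.le_of_mul_le_mul_right h4 (pow_pos hk k)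
    calc (n + 1) ^ (k + 1) = (n + 1) ^ k * (n + 1) := pow_succ _ _
      _ ≤ (n.choose k * (k + 1) ^ k) * (n + 1) := Nat.mul_le_mul_right _ h5
      _ = ((n + 1) * n.choose k) * (k + 1) ^ k := by ring
      _ = ((n + 1).choose (k + 1) * (k + 1)) * (k + 1) ^ k := by rw [h2]
      _ = (n + 1).choose (k + 1) * (k + 1) ^ (k + 1) := by ring

/-- ratio step: `(c+1) C(N,k) ≤ c C(N+1,k)` when `N + 1 ≤ (c+1) k`. -/
theorem ratio_step (c N k : ℕ) (hkN : k ≤ N) (h : N + 1 ≤ (c + 1) * k) :
    (c + 1) * N.choose k ≤ c * (N + 1).choose k := by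
  have h1 : N.choose k * (N + 1) = (N + 1).choose k * (N + 1 - k) := Nat.choose_mul_succ_eq N k
  have hpos : 0 < N + 1 - k := by omega
  apply Nat.le_of_mul_le_mul_right _ hpos
  have h2 : (c + 1) * (N + 1 - k) ≤ c * (N + 1) := by
    have : (c + 1) * (N + 1 - k) + (c + 1) * k = (c + 1) * (N + 1) := by
      rw [← mul_add]; congr 1; omega
    nlinarith
  calc (c + 1) * N.choose k * (N + 1 - k) = N.choose k * ((c + 1) * (N + 1 - k)) := by ring
    _ ≤ N.choose k * (c * (N + 1)) := Nat.mul_le_mul_left _ h2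
    _ = c * (N.choose k * (N + 1)) := by ring
    _ = c * ((N + 1).choose k * (N + 1 - k)) := by rw [h1]
    _ = c * (N + 1).choose k * (N + 1 - k) := by ring

theorem ratio_pow (c k : ℕ) (hc : 1 ≤ c) : ∀ d : ℕ, d ≤ k →
    (c + 1) ^ d * (c * k).choose k ≤ c ^ d * (c * k + d).choose k := by
  intro d
  induction d with
  | zero => intro _; simp
  | succ d ih =>
    intro hd
    have h1 := ih (by omega)
    have hk1 : k ≤ c * k + d := by nlinarith
    have h2 := ratio_step c (c * k + d) k hk1 (by nlinarith)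
    calc (c + 1) ^ (d + 1) * (c * k).choose k = (c + 1) * ((c + 1) ^ d * (c * k).choose k) := by ring
      _ ≤ (c + 1) * (c ^ d * (c * k + d).choose k) := Nat.mul_le_mul_left _ h1
      _ = c ^ d * ((c + 1) * (c * k + d).choose k) := by ring
      _ ≤ c ^ d * (c * (c * k + d + 1).choose k) := Nat.mul_le_mul_left _ h2
      _ = c ^ (d + 1) * (c * k + (d + 1)).choose k := by rw [pow_succ, ← add_assoc]; ring

/-- `(2c)^k ≤ 2k C(ck,k)` for `c ≥ 2`. -/
theorem choose_lower_mul (k : ℕ) (hk : 1 ≤ k) : ∀ c : ℕ, 2 ≤ c → (2 * c) ^ k ≤ 2 * k * (c * k).choose k := by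
  intro c hc
  induction c, hc using Nat.le_induction with
  | base =>
    have := Nat.four_pow_le_two_mul_self_mul_centralBinom k (by omega)
    rw [Nat.centralBinom_eq_two_mul_choose] at this
    simpa using this
  | succ c hc ih =>
    have h1 := ratio_pow c k (by omega) k le_rfl
    have e : c * k + k = (c + 1) * k := by ring
    rw [e] at h1
    have hcpos : 0 < c ^ k := pow_pos (by omega) k
    apply Nat.le_of_mul_le_mul_right _ hcpos
    calc (2 * (c + 1)) ^ k * c ^ k = (2 * c) ^ k * (c + 1) ^ k := by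
          rw [mul_pow, mul_pow]; ring
      _ ≤ (2 * k * (c * k).choose k) * (c + 1) ^ k := Nat.mul_le_mul_right _ ih
      _ = 2 * k * ((c + 1) ^ k * (c * k).choose k) := by ring
      _ ≤ 2 * k * (c ^ k * ((c + 1) * k).choose k) := Nat.mul_le_mul_left _ h1
      _ = 2 * k * ((c + 1) * k).choose k * c ^ k := by ring

theorem choose_lower (c k n : ℕ) (hk : 1 ≤ k) (hc : 2 ≤ c) (hn : c * k ≤ n) :
    (2 * c) ^ k ≤ 2 * k * n.choose k :=
  (choose_lower_mul k hk c hc).trans (Nat.mul_le_mul_left _ (Nat.choose_le_choose k hn))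

/-- `3^d ≥ 2^(d + d/2)`. -/
theorem three_pow_ge (d : ℕ) : 2 ^ (d + d / 2) ≤ 3 ^ d := by
  obtain ⟨e, rfl | rfl⟩ : ∃ e, d = 2 * e ∨ d = 2 * e + 1 := ⟨d / 2, by omega⟩
  · have : 2 * e + 2 * e / 2 = 3 * e := by omega
    rw [this, pow_mul, pow_mul]
    exact Nat.pow_le_pow_left (by norm_num) e
  · have : 2 * e + 1 + (2 * e + 1) / 2 = 3 * e + 1 := by omega
    rw [this, pow_succ, pow_succ, pow_mul, pow_mul]
    exact Nat.mul_le_mul (Nat.pow_le_pow_left (by norm_num) e) (by norm_num)

end Cfsg.Agent.Lib.Helper8.SylSchur
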