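import Mathlib
import Cfsg.Agent.Lib.Helper8.SylSchur1

set_option autoImplicit false

namespace Cfsg.Agent.Lib.Helper8.SylSchur

open Nat Finset

/-- Regime 2, the arithmetic core. -/
theorem regime2_core {n k w A : ℕ} (hC : n.choose k ≤ A * 4 ^ (min k (n / 3)))
    (hA : 2 * n * A < 2 ^ w) (hw1 : 8 * (w + 2) ≤ n) (hw2 : w ^ 3 ≤ 8 * n ^ 2)
    (hk : 1 ≤ k) (h2k : 2 * k ≤ n) (hcube : n ^ 2 < k ^ 3) : False := by
  have hApos : 0 < A := by
    rcases Nat.eq_zero_or_pos A with rfl | h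
    · simp at hC
      have : 0 < n.choose k := Nat.choose_pos (by omega)
      omega
    · exact h
  -- 2k A ≤ n A < 2^w
  have hkA : 2 * k * A < 2 ^ w := lt_of_le_of_lt (Nat.mul_le_mul_right A h2k) (by nlinarith)
  rcases le_or_gt (3 * k) n with h3 | h3
  · -- min = k
    have hmin : min k (n / 3) = k := by
      apply min_eq_left; omega
    rw [hmin] at hC
    have hup : 2 * k * n.choose k < 2 ^ w * 4 ^ k := by
      calc 2 * k * n.choose k ≤ 2 * k * (A * 4 ^ k) := Nat.mul_le_mul_left _ hC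
        _ = (2 * k * A) * 4 ^ k := by ring
        _ < 2 ^ w * 4 ^ k := Nat.mul_lt_mul_of_pos_right hkA (by positivity)
    rcases le_or_gt (8 * k) n with h8 | h8
    · have hl := choose_lower 8 k n hk (by norm_num) h8
      have h1 : (2 * 8) ^ k = 4 ^ k * 4 ^ k := by rw [← mul_pow]; norm_num
      have h2 : 4 ^ k < 2 ^ w := by
        have : 4 ^ k * 4 ^ k < 2 ^ w * 4 ^ k := by rw [← h1]; exact lt_of_le_of_lt hl hup
        exact Nat.lt_of_mul_lt_mul_right this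
      have h3 : 2 * k < w := by
        have : (4 : ℕ) ^ k = 2 ^ (2 * k) := by rw [pow_mul]; norm_num
        rw [this] at h2
        exact (Nat.pow_lt_pow_iff_right (by norm_num)).mp h2
      have h4 : (2 * k) ^ 3 < w ^ 3 := Nat.pow_lt_pow_left h3 (by norm_num)
      nlinarith
    · rcases le_or_gt (4 * k) n with h4 | h4
      · have hl := choose_lower 4 k n hk (by norm_num) h4
        have h1 : (2 * 4) ^ k = 2 ^ k * 4 ^ k := by rw [← mul_pow]
        have h2 : 2 ^ k < 2 ^ w := by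
          have : 2 ^ k * 4 ^ k < 2 ^ w * 4 ^ k := by rw [← h1]; exact lt_of_le_of_lt hl hup
          exact Nat.lt_of_mul_lt_mul_right this
        have h3 : k < w := (Nat.pow_lt_pow_iff_right (by norm_num)).mp h2
        omega
      · have hl := choose_lower 3 k n hk (by norm_num) h3
        -- 6^k = 2^k 3^k ≥ 2^k 2^(k + k/2)
        have h1 : (2 * 3) ^ k = 2 ^ k * 3 ^ k := by rw [mul_pow]
        have h2 : 2 ^ k * 2 ^ (k + k / 2) < 2 ^ w * 4 ^ k := by
          calc 2 ^ k * 2 ^ (k + k / 2) ≤ 2 ^ k * 3 ^ k := Nat.mul_le_mul_left _ (three_pow_ge k)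
            _ = (2 * 3) ^ k := h1.symm
            _ ≤ 2 * k * n.choose k := hl
            _ < 2 ^ w * 4 ^ k := hup
        have h4k : (4 : ℕ) ^ k = 2 ^ (2 * k) := by rw [pow_mul]; norm_num
        rw [h4k, ← pow_add, ← pow_add] at h2
        have := (Nat.pow_lt_pow_iff_right (by norm_num)).mp h2
        omega
  · -- 2k ≤ n < 3k
    have hmin : min k (n / 3) = n / 3 := by
      apply min_eq_right; omega
    rw [hmin] at hC
    obtain ⟨d, rfl⟩ : ∃ d, n = 2 * k + d := ⟨n - 2 * k, by omega⟩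
    have hd : d ≤ k := by omega
    have hr := ratio_pow 2 k (by norm_num) d hd
    have hb := Nat.four_pow_le_two_mul_self_mul_centralBinom k (by omega)
    rw [Nat.centralBinom_eq_two_mul_choose] at hb
    -- 3^d 4^k ≤ 2k 3^d C(2k,k) ≤ 2k 2^d C(n,k)
    have h1 : 3 ^ d * 4 ^ k ≤ 2 * k * (2 ^ d * (2 * k + d).choose k) := by
      calc 3 ^ d * 4 ^ k ≤ 3 ^ d * (2 * k * (2 * k).choose k) := Nat.mul_le_mul_left _ hb
        _ = 2 * k * ((2 + 1) ^ d * (2 * k).choose k) := by ring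
        _ ≤ 2 * k * (2 ^ d * (2 * k + d).choose k) := Nat.mul_le_mul_left _ hr
    have h2 : 2 * k * (2 ^ d * (2 * k + d).choose k) < 2 ^ w * (2 ^ d * 4 ^ ((2 * k + d) / 3)) := by
      calc 2 * k * (2 ^ d * (2 * k + d).choose k)
          ≤ 2 * k * (2 ^ d * (A * 4 ^ ((2 * k + d) / 3))) :=
            Nat.mul_le_mul_left _ (Nat.mul_le_mul_left _ hC)
        _ = (2 * k * A) * (2 ^ d * 4 ^ ((2 * k + d) / 3)) := by ring
        _ < 2 ^ w * (2 ^ d * 4 ^ ((2 * k + d) / 3)) := Nat.mul_lt_mul_of_pos_right hkA (by positivity)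
    have h3 : 2 ^ (d + d / 2) * 4 ^ k < 2 ^ w * (2 ^ d * 4 ^ ((2 * k + d) / 3)) :=
      lt_of_le_of_lt (Nat.mul_le_mul_right _ (three_pow_ge d)) (lt_of_le_of_lt h1 h2)
    have e1 : (4 : ℕ) ^ k = 2 ^ (2 * k) := by rw [pow_mul]; norm_num
    have e2 : (4 : ℕ) ^ ((2 * k + d) / 3) = 2 ^ (2 * ((2 * k + d) / 3)) := by rw [pow_mul]; norm_num
    rw [e1, e2, ← pow_add, ← pow_add, ← pow_add] at h3
    have := (Nat.pow_lt_pow_iff_right (by norm_num)).mp h3
    omega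

/-- Regime 1 : `k ≥ 37`, `k^3 ≤ n^2`. -/
theorem regime1 {n k : ℕ} (h : Bad n k) (h2k : 2 * k ≤ n) (hk : 1 ≤ k) (hcube : k ^ 3 ≤ n ^ 2)
    (hpi : 3 * Nat.primeCounting k < k) : False := by
  have hkn : k ≤ n := by omega
  have hn : 2 ≤ n := by omega
  have h1 := bad_le_pow_primeCounting h hkn (by omega)
  have h2 := pow_le_choose_mul_pow k n hkn
  -- n^(3k) ≤ C^3 k^(3k) ≤ C^3 n^(2k)
  have h3 : (n ^ k) ^ 3 ≤ (n.choose k) ^ 3 * (k ^ 3) ^ k := by
    calc (n ^ k) ^ 3 ≤ (n.choose k * k ^ k) ^ 3 := Nat.pow_le_pow_left h2 3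
      _ = (n.choose k) ^ 3 * (k ^ 3) ^ k := by rw [mul_pow, ← pow_mul, ← pow_mul, mul_comm k 3]
  have h4 : (k ^ 3) ^ k ≤ (n ^ 2) ^ k := Nat.pow_le_pow_left hcube k
  have h5 : n ^ k * (n ^ 2) ^ k ≤ (n.choose k) ^ 3 * (n ^ 2) ^ k := by
    calc n ^ k * (n ^ 2) ^ k = (n ^ k) ^ 3 := by rw [← pow_mul, ← pow_mul, ← pow_add]; congr 1; ring
      _ ≤ (n.choose k) ^ 3 * (k ^ 3) ^ k := h3
      _ ≤ (n.choose k) ^ 3 * (n ^ 2) ^ k := Nat.mul_le_mul_left _ h4
  have h6 : n ^ k ≤ (n.choose k) ^ 3 := Nat.le_of_mul_le_mul_right h5 (by positivity)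
  have h7 : (n.choose k) ^ 3 ≤ n ^ (3 * Nat.primeCounting k) := by
    calc (n.choose k) ^ 3 ≤ (n ^ Nat.primeCounting k) ^ 3 := Nat.pow_le_pow_left h1 3
      _ = n ^ (3 * Nat.primeCounting k) := by rw [← pow_mul, mul_comm]
  have h8 : n ^ k ≤ n ^ (3 * Nat.primeCounting k) := h6.trans h7
  have := (Nat.pow_le_pow_iff_right (by omega)).mp h8
  omega

end Cfsg.Agent.Lib.Helper8.SylSchur
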