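import Mathlib

set_option autoImplicit false

namespace Cfsg.Agent.Lib.Helper8.SylSchur

open Nat Finset

theorem primeCounting_le (s : ℕ) : Nat.primeCounting s ≤ s / 3 + 3 := by
  rcases lt_or_ge s 6 with h | h
  · interval_cases s <;> decide
  · obtain ⟨x, rfl⟩ : ∃ x, s = 6 + x := ⟨s - 6, by omega⟩
    have := Nat.primeCounting_add_le (a := 6) (k := 6) (by norm_num) le_rfl x
    have h6 : Nat.primeCounting 6 = 3 := by decide
    have ht : Nat.totient 6 = 2 := by decide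
    rw [h6, ht] at this
    omega

theorem key_aux : ∀ t : ℕ, (16 + 2 * t + 1) ^ 3 ≤ 23 * 2 ^ ((16 + 2 * t) / 2) ∧
    (17 + 2 * t + 1) ^ 3 ≤ 23 * 2 ^ ((17 + 2 * t) / 2) := by
  intro t
  induction t with
  | zero => norm_num
  | succ t ih =>
    obtain ⟨h1, h2⟩ := ih
    have e1 : (16 + 2 * (t + 1)) / 2 = (16 + 2 * t) / 2 + 1 := by omega
    have e2 : (17 + 2 * (t + 1)) / 2 = (17 + 2 * t) / 2 + 1 := by omega
    rw [e1, e2, pow_succ, pow_succ]
    constructor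
    · have e : 2 * (16 + 2 * t + 1) ^ 3 = (16 + 2 * (t + 1) + 1) ^ 3
          + (2967 + 1302 * t + 180 * t ^ 2 + 8 * t ^ 3) := by ring
      have h : (16 + 2 * (t + 1) + 1) ^ 3 ≤ 2 * (16 + 2 * t + 1) ^ 3 := by
        rw [e]; exact Nat.le_add_right _ _
      calc (16 + 2 * (t + 1) + 1) ^ 3 ≤ 2 * (16 + 2 * t + 1) ^ 3 := h
        _ ≤ 2 * (23 * 2 ^ ((16 + 2 * t) / 2)) := Nat.mul_le_mul_left _ h1
        _ = 23 * (2 ^ ((16 + 2 * t) / 2) * 2) := by ring
    · have e : 2 * (17 + 2 * t + 1) ^ 3 = (17 + 2 * (t + 1) + 1) ^ 3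
          + (3664 + 1488 * t + 192 * t ^ 2 + 8 * t ^ 3) := by ring
      have h : (17 + 2 * (t + 1) + 1) ^ 3 ≤ 2 * (17 + 2 * t + 1) ^ 3 := by
        rw [e]; exact Nat.le_add_right _ _
      calc (17 + 2 * (t + 1) + 1) ^ 3 ≤ 2 * (17 + 2 * t + 1) ^ 3 := h
        _ ≤ 2 * (23 * 2 ^ ((17 + 2 * t) / 2)) := Nat.mul_le_mul_left _ h2
        _ = 23 * (2 ^ ((17 + 2 * t) / 2) * 2) := by ring

theorem key (j : ℕ) (hj : 16 ≤ j) : (j + 1) ^ 3 ≤ 23 * 2 ^ (j / 2) := by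
  obtain ⟨t, rfl | rfl⟩ : ∃ t, j = 16 + 2 * t ∨ j = 17 + 2 * t := ⟨(j - 16) / 2, by omega⟩
  · exact (key_aux t).1
  · exact (key_aux t).2

theorem numeric {n : ℕ} (hn : 2 ^ 16 ≤ n) :
    ∃ w, 2 * n * n ^ (Nat.primeCounting (Nat.sqrt n)) < 2 ^ w ∧ 8 * (w + 2) ≤ n ∧ w ^ 3 ≤ 8 * n ^ 2 := by
  set s := Nat.sqrt n with hs
  set j := Nat.log 2 n with hj
  have hn0 : n ≠ 0 := by
    have : 0 < 2 ^ 16 := by norm_num
    omega
  have hj16 : 16 ≤ j := Nat.le_log_of_pow_le (by norm_num) hn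
  have hlt : n < 2 ^ (j + 1) := Nat.lt_pow_succ_log_self (by norm_num) n
  have hle : 2 ^ j ≤ n := Nat.pow_log_le_self 2 hn0
  have hss : s * s ≤ n := Nat.sqrt_le n
  have hs2 : 2 ^ (j / 2) ≤ s := by
    rw [hs, Nat.le_sqrt, ← pow_add]
    refine le_trans (Nat.pow_le_pow_right (by norm_num) ?_) hle
    omega
  have hs256 : 256 ≤ s := by
    have : 2 ^ 8 ≤ 2 ^ (j / 2) := Nat.pow_le_pow_right (by norm_num) (by omega)
    norm_num at this
    omega
  have hkey : (j + 1) ^ 3 ≤ 23 * s := (key j hj16).trans (Nat.mul_le_mul_left _ hs2)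
  set L := j + 1 with hL
  have hL17 : 17 ≤ L := by omega
  set q := s / 3 + 4 with hq
  have h3q : 3 * q ≤ s + 12 := by omega
  have h2q : 2 * q ≤ s := by omega
  have hpi : Nat.primeCounting s + 1 ≤ q := by
    have := primeCounting_le s
    omega
  refine ⟨L * q + 1, ?_, ?_, ?_⟩
  · -- 2 n n^π < 2^(Lq+1)
    have h1 : n * n ^ Nat.primeCounting s ≤ n ^ q := by
      rw [← pow_succ']
      exact Nat.pow_le_pow_right (by omega) hpi
    have h2 : n ^ q < (2 ^ L) ^ q := Nat.pow_lt_pow_left hlt (by omega)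
    rw [← pow_mul] at h2
    calc 2 * n * n ^ Nat.primeCounting s = 2 * (n * n ^ Nat.primeCounting s) := by ring
      _ ≤ 2 * n ^ q := Nat.mul_le_mul_left _ h1
      _ < 2 * 2 ^ (L * q) := Nat.mul_lt_mul_of_pos_left h2 (by norm_num)
      _ = 2 ^ (L * q + 1) := by rw [pow_succ]; ring
  · -- 8 (w + 2) ≤ n
    have h12 : 12 * L ≤ s := by
      have h289 : 17 * 17 ≤ L * L := Nat.mul_le_mul hL17 hL17
      have : 289 * L ≤ L ^ 3 := by
        calc 289 * L = (17 * 17) * L := by norm_num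
          _ ≤ (L * L) * L := Nat.mul_le_mul_right _ h289
          _ = L ^ 3 := by ring
      omega
    have h2w : 2 * (L * q) ≤ L * s := by nlinarith
    nlinarith
  · -- w^3 ≤ 8 n^2
    have h2w : 2 * (L * q) ≤ L * s := by nlinarith
    have hLs : 16 ≤ L * s := by nlinarith
    have h16 : 16 * (L * q + 1) ≤ 9 * (L * s) := by nlinarith
    have h1 : (16 * (L * q + 1)) ^ 3 ≤ (9 * (L * s)) ^ 3 := Nat.pow_le_pow_left h16 3
    have h2 : (9 * (L * s)) ^ 3 = 729 * (L ^ 3 * s ^ 3) := by ring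
    have h3 : L ^ 3 * s ^ 3 ≤ 23 * s * s ^ 3 := Nat.mul_le_mul_right _ hkey
    have h4 : s ^ 4 ≤ n ^ 2 := by
      have : (s * s) ^ 2 ≤ n ^ 2 := Nat.pow_le_pow_left hss 2
      calc s ^ 4 = (s * s) ^ 2 := by ring
        _ ≤ n ^ 2 := this
    have h5 : (16 * (L * q + 1)) ^ 3 = 4096 * (L * q + 1) ^ 3 := by ring
    have h6 : 23 * s * s ^ 3 = 23 * s ^ 4 := by ring
    nlinarith

theorem three_pi_lt_small : ∀ k < 150, 37 ≤ k → 3 * Nat.primeCounting k < k := by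
  decide +kernel

theorem three_pi_lt (k : ℕ) (hk : 37 ≤ k) : 3 * Nat.primeCounting k < k := by
  rcases lt_or_ge k 150 with h | h
  · exact three_pi_lt_small k h hk
  · obtain ⟨x, rfl⟩ : ∃ x, k = 150 + x := ⟨k - 150, by omega⟩
    have := Nat.primeCounting_add_le (a := 30) (k := 150) (by norm_num) (by norm_num) x
    have h6 : Nat.primeCounting 150 = 35 := by decide +kernel
    have ht : Nat.totient 30 = 8 := by decide +kernel
    rw [h6, ht] at this
    omega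

end Cfsg.Agent.Lib.Helper8.SylSchur
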