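import Mathlib

set_option autoImplicit false

namespace Cfsg.Agent.Lib.Helper8.SylSchur

open Nat Finset

/-- one link of a prime chain: every `n ∈ [a, b)` has `n - a < 37` or `(n - a)^3 ≤ a^2`. -/
def linkOK (a b : ℕ) : Bool :=
  decide (a < b) && (decide (b - 1 - a < 37) || decide ((b - 1 - a) ^ 3 ≤ a ^ 2))

def chainOK : List ℕ → Bool
  | a :: b :: t => linkOK a b && chainOK (b :: t)
  | _ => true

theorem chain_cover : ∀ (l : List ℕ) (a : ℕ), chainOK (a :: l) = true → ∀ n, a ≤ n →
    n < (a :: l).getLast (List.cons_ne_nil a l) →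
    ∃ p ∈ a :: l, p ≤ n ∧ (n - p < 37 ∨ (n - p) ^ 3 ≤ p ^ 2) := by
  intro l
  induction l with
  | nil =>
    intro a _ n han hn
    simp at hn
    omega
  | cons b t ih =>
    intro a hok n han hn
    simp only [chainOK, Bool.and_eq_true] at hok
    obtain ⟨hlink, hrest⟩ := hok
    rcases lt_or_ge n b with hnb | hnb
    · refine ⟨a, List.mem_cons_self, han, ?_⟩
      simp only [linkOK, Bool.and_eq_true, Bool.or_eq_true, decide_eq_true_eq] at hlink
      rcases hlink.2 with h | h
      · left; omega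
      · right
        exact le_trans (Nat.pow_le_pow_left (by omega) 3) h
    · have hn' : n < (b :: t).getLast (List.cons_ne_nil b t) := by
        rw [List.getLast_cons (List.cons_ne_nil b t)] at hn
        exact hn
      obtain ⟨p, hp, hpn, hc⟩ := ih b hrest n hnb hn'
      exact ⟨p, List.mem_cons_of_mem a hp, hpn, hc⟩

def chain : List ℕ := [73, 109, 139, 173, 199, 233, 271, 313, 359, 409, 463, 523, 587, 653, 727, 797, 883, 971, 1069, 1171, 1283, 1399, 1523, 1637, 1759, 1901, 2053, 2213, 2383, 2557, 2741, 2927, 3121, 3331, 3547, 3779, 4021, 4273, 4523, 4793, 5077, 5351, 5657, 5953, 6277, 6607, 6959, 7321, 7699, 8089, 8467, 8867, 9293, 9733, 10181, 10651, 11131, 11621, 12119, 12647, 13187, 13729, 14303, 14891, 15497, 16111, 16747, 17401, 18061, 18749, 19447, 20161, 20899, 21649, 22409, 23203, 24007, 24821, 25667, 26513, 27397, 28297, 29221, 30169, 31139, 32119, 33119, 34147, 35171, 36241, 37337, 38453, 39581, 40739, 41911, 43117, 44293, 45541, 46817, 48109, 49429, 50773, 52127, 53507,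 54919, 56359, 57829, 59281, 60793, 62327, 63863, 65449, 65537]

theorem chain_ok : chainOK chain = true := by decide +kernel

theorem chain_prime : ∀ p ∈ chain, Nat.Prime p := by
  simp only [chain, List.forall_mem_cons]
  norm_num

theorem chain_last : chain.getLast (by decide) = 65537 := by decide +kernel

/-- primes in short intervals below `2^16`. -/
theorem exists_prime_interval {n k : ℕ} (hk : 37 ≤ k) (h2k : 2 * k ≤ n) (hcube : n ^ 2 < k ^ 3)
    (hn : n < 2 ^ 16) : ∃ p, p.Prime ∧ n - k < p ∧ p ≤ n := by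
  have hok := chain_ok
  have hlast := chain_last
  unfold chain at hok hlast
  obtain ⟨p, hp, hpn, hc⟩ := chain_cover _ 73 hok n (by omega) (by
    rw [hlast]; norm_num at hn; omega)
  refine ⟨p, chain_prime p hp, ?_, hpn⟩
  rcases hc with h | h
  · omega
  · have h1 : p ^ 2 ≤ n ^ 2 := Nat.pow_le_pow_left hpn 2
    have h2 : (n - p) ^ 3 < k ^ 3 := lt_of_le_of_lt (h.trans h1) hcube
    have h3 : n - p < k := lt_of_pow_lt_pow_left₀ 3 (Nat.zero_le k) h2
    omega

def ps223 : List ℕ := [2, 3, 5, 7, 11, 13, 17, 19, 23, 29, 31, 37, 41, 43, 47, 53, 59, 61, 67, 71, 73, 79, 83, 89, 97, 101, 103, 107, 109, 113, 127, 131, 137, 139, 149, 151, 157, 163, 167, 173, 179, 181, 191, 193, 197, 199, 211, 223]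

theorem ps223_prime : ∀ p ∈ ps223, Nat.Prime p := by decide +kernel

theorem small_k_check : ∀ k < 37, ∀ n < 220, 1 ≤ k → 2 * k ≤ n →
    ∃ p ∈ ps223, k < p ∧ p ∣ n.descFactorial k / k.factorial := by decide +kernel

theorem small_k_pow : ∀ k < 37, 1 ≤ k → Nat.primeCounting k ≤ k ∧ k ^ k < 220 ^ (k - Nat.primeCounting k) := by
  decide +kernel

end Cfsg.Agent.Lib.Helper8.SylSchur
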