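import Mathlib
import Cfsg.Agent.Lib.Helper8.SylSchur1
import Cfsg.Agent.Lib.Helper8.SylSchur2
import Cfsg.Agent.Lib.Helper8.SylSchur3
import Cfsg.Agent.Lib.Helper8.SylSchur4

set_option autoImplicit false

namespace Cfsg.Agent.Lib.Helper8.SylSchur

open Nat Finset

/-- **Sylvester–Schur** (Erdős' proof): for `n ≥ 2k ≥ 2`, the binomial coefficient `C(n,k)` has a
prime divisor `> k`. -/
theorem sylvester_schur (n k : ℕ) (hk : 1 ≤ k) (hn : 2 * k ≤ n) :
    ∃ p, p.Prime ∧ k < p ∧ p ∣ n.choose k := by
  by_contra hcon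
  push Not at hcon
  have hbad : Bad n k := by
    intro p hp hd
    by_contra hlt
    exact hcon p hp (by omega) hd
  have hkn : k ≤ n := by omega
  rcases lt_or_ge k 37 with hk37 | hk37
  · have hn220 : n < 220 := by
      by_contra hge
      push Not at hge
      obtain ⟨hpi, hpow⟩ := small_k_pow k hk37 hk
      have h1 := bad_le_pow_primeCounting hbad hkn (by omega)
      have h2 := pow_le_choose_mul_pow k n hkn
      have h3 : n ^ k ≤ n ^ (Nat.primeCounting k) * k ^ k := h2.trans (Nat.mul_le_mul_right _ h1)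
      have h4 : n ^ k = n ^ (Nat.primeCounting k) * n ^ (k - Nat.primeCounting k) := by
        rw [← pow_add]; congr 1; omega
      rw [h4] at h3
      have h5 : n ^ (k - Nat.primeCounting k) ≤ k ^ k :=
        Nat.le_of_mul_le_mul_left h3 (pow_pos (by omega) _)
      have h6 : 220 ^ (k - Nat.primeCounting k) ≤ n ^ (k - Nat.primeCounting k) :=
        Nat.pow_le_pow_left hge _
      omega
    obtain ⟨p, hp, hkp, hd⟩ := small_k_check k hk37 n hn220 hk hn
    rw [← Nat.choose_eq_descFactorial_div_factorial] at hd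
    exact hcon p (ps223_prime p hp) hkp hd
  · rcases le_or_gt (k ^ 3) (n ^ 2) with hc | hc
    · exact regime1 hbad hn hk hc (three_pi_lt k hk37)
    · rcases lt_or_ge n (2 ^ 16) with hs | hs
      · obtain ⟨p, hp, h1, h2⟩ := exists_prime_interval hk37 hn hc hs
        exact hcon p hp (by omega) (hp.dvd_choose (by omega) h1 h2)
      · obtain ⟨w, hw0, hw1, hw2⟩ := numeric hs
        have h4 : 4 ≤ n := by
          have : (2 : ℕ) ^ 16 = 65536 := by norm_num
          omega
        have hC := bad_le_sqrt_bound hbad hn h4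
        exact regime2_core hC hw0 hw1 hw2 hk hn hc

end Cfsg.Agent.Lib.Helper8.SylSchur
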