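import Mathlib

set_option autoImplicit false

namespace Cfsg.Agent.Lib.Helper8

open scoped Pointwise

section

variable {G : Type*} [Group G] {p : ℕ} [Fact p.Prime]

/-- A Sylow `p`-subgroup normalizing another Sylow `p`-subgroup equals it. -/
theorem sylow_eq_of_le_normalizer (P Q : Sylow p G)
    (h : (Q : Subgroup G) ≤ Subgroup.normalizer ((P : Subgroup G) : Set G)) : Q = P := by
  have hsup : IsPGroup p ((Q : Subgroup G) ⊔ (P : Subgroup G) : Subgroup G) :=
    IsPGroup.to_sup_of_normal_right' Q.isPGroup' P.isPGroup' h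
  have h1 : ((Q : Subgroup G) ⊔ (P : Subgroup G) : Subgroup G) = P :=
    P.is_maximal' hsup le_sup_right
  have h2 : (Q : Subgroup G) ≤ P := by
    rw [← h1]; exact le_sup_left
  have h3 := Q.is_maximal' P.isPGroup' h2
  exact Sylow.ext h3.symm

/-- A surjective homomorphism with central kernel induces a bijection on Sylow subgroups. -/
theorem mapSurjective_bijective_of_ker_le_center [Finite G] {G' : Type*} [Group G']
    {f : G →* G'} (hf : Function.Surjective f) (hker : f.ker ≤ Subgroup.center G) :
    Function.Bijective (Sylow.mapSurjective hf : Sylow p G → Sylow p G') := by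
  refine ⟨?_, Sylow.mapSurjective_surjective hf p⟩
  intro P Q hPQ
  have h1 : (P : Subgroup G).map f = (Q : Subgroup G).map f := by
    have := congrArg (fun S : Sylow p G' => (S : Subgroup G')) hPQ
    simpa using this
  have h2 : (P : Subgroup G) ⊔ f.ker = (Q : Subgroup G) ⊔ f.ker := by
    rw [← Subgroup.comap_map_eq, ← Subgroup.comap_map_eq, h1]
  have h3 : (P : Subgroup G) ≤ Subgroup.normalizer ((Q : Subgroup G) : Set G) := by
    have hle : (P : Subgroup G) ≤ (Q : Subgroup G) ⊔ f.ker := by
      rw [← h2]; exact le_sup_left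
    refine hle.trans (sup_le Subgroup.le_normalizer ?_)
    refine (hker.trans ?_)
    exact (Subgroup.center_le_centralizer _).trans (Subgroup.centralizer_le_normalizer _)
  exact sylow_eq_of_le_normalizer Q P h3

/-- For a normal subgroup `H` of index prime to `p`, `H` and `G` have the same number of Sylow
`p`-subgroups. -/
theorem card_sylow_eq_of_normal_of_not_dvd_index [Finite G] (H : Subgroup G) [H.Normal]
    (hp : ¬ p ∣ H.index) : Nat.card (Sylow p H) = Nat.card (Sylow p G) := by
  -- the map `P ↦ P.map H.subtype`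
  have hidx : ∀ P : Sylow p H, ¬ p ∣ ((P : Subgroup H).map H.subtype).index := by
    intro P
    rw [Subgroup.index_map_subtype]
    exact Nat.Prime.not_dvd_mul Fact.out P.not_dvd_index hp
  let Φ : Sylow p H → Sylow p G := fun P => (P.isPGroup'.map H.subtype).toSylow (hidx P)
  have hΦ : ∀ P : Sylow p H, ((Φ P : Sylow p G) : Subgroup G) = (P : Subgroup H).map H.subtype :=
    fun P => rfl
  have hle : ∀ Q : Sylow p G, (Q : Subgroup G) ≤ H := by
    intro Q
    obtain ⟨P₀⟩ : Nonempty (Sylow p H) := inferInstance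
    obtain ⟨g, hg⟩ := MulAction.exists_smul_eq G (Φ P₀) Q
    rw [← hg]
    intro y hy
    rw [Sylow.coe_subgroup_smul, Subgroup.mem_pointwise_smul_iff_inv_smul_mem] at hy
    simp only [MulAut.smul_def, MulAut.inv_apply, MulAut.conj_symm_apply] at hy
    rw [hΦ] at hy
    have h1 : g⁻¹ * y * g ∈ H := Subgroup.map_subtype_le _ hy
    have h2 : y = g * (g⁻¹ * y * g) * g⁻¹ := by group
    rw [h2]
    exact (inferInstance : H.Normal).conj_mem _ h1 g
  apply Nat.card_congr
  refine Equiv.ofBijective Φ ⟨?_, ?_⟩
  · intro P Q hPQ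
    have h1 : (P : Subgroup H).map H.subtype = (Q : Subgroup H).map H.subtype := by
      rw [← hΦ, ← hΦ, hPQ]
    exact Sylow.ext (Subgroup.map_injective H.subtype_injective h1)
  · intro Q
    refine ⟨Q.subtype (hle Q), ?_⟩
    apply Sylow.ext
    rw [hΦ, Sylow.coe_subtype]
    exact Subgroup.map_subgroupOf_eq_of_le (hle Q)

end

end Cfsg.Agent.Lib.Helper8
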