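import Mathlib
import Cfsg.Agent.Lib.Helper8.SylowIndex

set_option autoImplicit false

namespace Cfsg.Agent.Lib.Helper8

open scoped Pointwise

section

variable {G : Type*} [Group G]

/-- `n_p(G) = n_p(G/K) · n_p(PK)` for `K` normal and `P` a Sylow `p`-subgroup. -/
theorem card_sylow_eq_quotient_mul_sup [Finite G] (p : ℕ) [Fact p.Prime] (K : Subgroup G)
    [K.Normal] (P : Sylow p G) :
    Nat.card (Sylow p G) =
      Nat.card (Sylow p (G ⧸ K)) * Nat.card (Sylow p ((P : Subgroup G) ⊔ K : Subgroup G)) := by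
  obtain ⟨Pg, hPg⟩ : ∃ Pg : Subgroup G, Pg = (P : Subgroup G) := ⟨_, rfl⟩
  have hPp : IsPGroup p Pg := hPg ▸ P.isPGroup'
  have hPidx : ¬ p ∣ Pg.index := hPg ▸ P.not_dvd_index
  obtain ⟨B, hB⟩ : ∃ B, B = Subgroup.normalizer (Pg : Set G) := ⟨_, rfl⟩
  obtain ⟨H, hH⟩ : ∃ H, H = Pg ⊔ K := ⟨_, rfl⟩
  obtain ⟨A, hA⟩ : ∃ A, A = Subgroup.normalizer (H : Set G) := ⟨_, rfl⟩
  have hKn : ∀ X : Subgroup G, X ≤ Subgroup.normalizer (K : Set G) := fun X => by
    rw [Subgroup.normalizer_eq_top]; exact le_top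
  have hBA : B ≤ A := by
    rw [hA, hH]; exact le_normalizer_sup (hB ▸ le_rfl) (hKn B)
  have hPH : Pg ≤ H := hH ▸ le_sup_left
  have hHA : H ≤ A := hA ▸ Subgroup.le_normalizer
  have hidx_of_le : ∀ X : Subgroup G, Pg ≤ X → ¬ p ∣ Pg.relIndex X := fun X hX hdvd =>
    hPidx (hdvd.trans (Subgroup.relIndex_dvd_index_of_le hX))
  have s1 : Nat.card (Sylow p G) = B.index := by
    rw [Sylow.card_eq_index_normalizer P, hB, hPg]; rfl
  have s2 : B.relIndex A * A.index = B.index := Subgroup.relIndex_mul_index hBA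
  have s3 : Nat.card (Sylow p (G ⧸ K)) = A.index := by
    rw [card_sylow_quotient_eq_index p K P, hA, hH, hPg]
  have hAeq : A = H ⊔ B := by
    apply le_antisymm
    · have := frattini_rel H A Pg hPH hPp (hidx_of_le H hPH) hHA (hA ▸ le_rfl)
      rw [← hB, inf_eq_right.mpr hBA] at this
      exact this
    · exact sup_le hHA hBA
  have s4 : B.relIndex A = B.relIndex H := by
    rw [hAeq]; exact relIndex_sup_of_le_normalizer B H (hA ▸ hBA)
  have s6 : Nat.card (Sylow p H) = B.relIndex H := by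
    rw [hB]; exact card_sylow_subgroup_eq_relIndex H Pg hPH hPp (hidx_of_le H hPH)
  rw [← hPg, ← hH, s1, ← s2, s3, s4, s6]
  ring

/-- `n_p(PK)` divides `|K|` for `K` normal. -/
theorem card_sylow_sup_dvd_card [Finite G] (p : ℕ) [Fact p.Prime] (K : Subgroup G)
    [K.Normal] (P : Sylow p G) :
    Nat.card (Sylow p ((P : Subgroup G) ⊔ K : Subgroup G)) ∣ Nat.card K := by
  obtain ⟨Pg, hPg⟩ : ∃ Pg : Subgroup G, Pg = (P : Subgroup G) := ⟨_, rfl⟩
  have hPp : IsPGroup p Pg := hPg ▸ P.isPGroup'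
  have hPidx : ¬ p ∣ Pg.index := hPg ▸ P.not_dvd_index
  obtain ⟨H, hH⟩ : ∃ H, H = Pg ⊔ K := ⟨_, rfl⟩
  have hPH : Pg ≤ H := hH ▸ le_sup_left
  have hKn : ∀ X : Subgroup G, X ≤ Subgroup.normalizer (K : Set G) := fun X => by
    rw [Subgroup.normalizer_eq_top]; exact le_top
  have hidx : ¬ p ∣ Pg.relIndex H := fun hdvd =>
    hPidx (hdvd.trans (Subgroup.relIndex_dvd_index_of_le hPH))
  rw [← hPg, ← hH]
  let P' : Sylow p H := (hPp.comap_subtype (K := H)).toSylow hidx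
  have h1 : Nat.card (Sylow p H) ∣ (P' : Subgroup H).index := Sylow.card_dvd_index P'
  have h2 : (P' : Subgroup H).index = Pg.relIndex H := rfl
  have h3 : Pg.relIndex H = Pg.relIndex K := by
    rw [hH, sup_comm]; exact relIndex_sup_of_le_normalizer Pg K (hKn Pg)
  rw [h2, h3] at h1
  exact h1.trans (Subgroup.relIndex_dvd_card Pg K)

end

end Cfsg.Agent.Lib.Helper8
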