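import Mathlib
import Cfsg.Prelude.Def_Characters
import Cfsg.Prelude.Def_Blocks
import Cfsg.Agent.Lib.Helper8.Deflation
import Cfsg.Agent.Lib.Helper8.ClassAlgebra2

set_option autoImplicit false

namespace Cfsg.Agent.Lib.Helper8

open Cfsg.Agent.Lib.Helper1 Cfsg.Agent.Lib.Helper4

/-- In a group of order `p * d` with `0 < d < p` the Sylow `p`-subgroup is normal of order `p`. -/
theorem exists_normal_sylow_of_card_eq_prime_mul {Q : Type*} [Group Q] [Finite Q] (p d : ℕ)
    [Fact p.Prime] (hd : 0 < d) (hdp : d < p) (hcard : Nat.card Q = p * d) :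
    ∃ P : Sylow p Q, Nat.card (P : Subgroup Q) = p ∧ (P : Subgroup Q).Normal ∧
      (P : Subgroup Q).index = d := by
  have hp : p.Prime := Fact.out
  obtain ⟨P⟩ : Nonempty (Sylow p Q) := inferInstance
  have hpd : ¬ p ∣ d := fun h => absurd (Nat.le_of_dvd hd h) (not_le.mpr hdp)
  have hPcard : Nat.card (P : Subgroup Q) = p := by
    rw [Sylow.card_eq_multiplicity, hcard, Nat.factorization_mul hp.ne_zero hd.ne',
      Finsupp.add_apply, hp.factorization_self, Nat.factorization_eq_zero_of_not_dvd hpd]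
    simp
  have hidx : (P : Subgroup Q).index = d := by
    have h := (P : Subgroup Q).card_mul_index
    rw [hPcard, hcard] at h
    exact Nat.eq_of_mul_eq_mul_left hp.pos h
  have hone : Nat.card (Sylow p Q) = 1 := by
    have h1 : Nat.card (Sylow p Q) ∣ d := hidx ▸ P.card_dvd_index
    have h2 : Nat.card (Sylow p Q) ≡ 1 [MOD p] := card_sylow_modEq_one p Q
    have h3 : Nat.card (Sylow p Q) ≤ d := Nat.le_of_dvd hd h1
    have h4 : Nat.card (Sylow p Q) < p := lt_of_le_of_lt h3 hdp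
    unfold Nat.ModEq at h2
    rw [Nat.mod_eq_of_lt h4, Nat.mod_eq_of_lt hp.one_lt] at h2
    exact h2
  haveI : Subsingleton (Sylow p Q) := (Nat.card_eq_one_iff_unique.mp hone).1
  exact ⟨P, hPcard, Sylow.normal_of_subsingleton P, hidx⟩

/-- The square of the degree of an irreducible character is at most the group order. -/
theorem charDegree_sq_le_card {G : Type*} [Group G] [Finite G] {χ : G → ℂ}
    (hχ : Cfsg.IsIrrCharacter G χ) :
    Cfsg.charDegree χ * Cfsg.charDegree χ ≤ Nat.card G := by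
  classical
  haveI : Fintype G := Fintype.ofFinite _
  haveI : Fintype (Cfsg.IrrCharacter G) := Fintype.ofFinite _
  have h := sum_irr_one_mul (G := G) 1
  rw [if_pos rfl] at h
  have h1 : ∀ ψ' : Cfsg.IrrCharacter G, (ψ' : G → ℂ) 1 * (ψ' : G → ℂ) 1
      = ((Cfsg.charDegree (ψ' : G → ℂ) * Cfsg.charDegree (ψ' : G → ℂ) : ℕ) : ℂ) := by
    intro ψ'
    rw [(irr_apply_one_eq_charDegree ψ'.2).1]
    push_cast
    ring
  simp only [h1] at h
  have h2 : ∑ ψ' : Cfsg.IrrCharacter G,
      Cfsg.charDegree (ψ' : G → ℂ) * Cfsg.charDegree (ψ' : G → ℂ) = Fintype.card G := by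
    exact_mod_cast h
  rw [Nat.card_eq_fintype_card, ← h2]
  exact Finset.single_le_sum (f := fun ψ' : Cfsg.IrrCharacter G =>
    Cfsg.charDegree (ψ' : G → ℂ) * Cfsg.charDegree (ψ' : G → ℂ))
    (fun _ _ => Nat.zero_le _) (Finset.mem_univ (⟨χ, hχ⟩ : Cfsg.IrrCharacter G))

end Cfsg.Agent.Lib.Helper8
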