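import Mathlib
import Cfsg.Prelude.Def_Solvable
import Cfsg.Prelude.Def_Transfer
import Cfsg.Agent.Lib.Helper4.HU3
import Cfsg.Agent.Lib.Helper6.PPrimeCore
import Cfsg.Agent.S0081

set_option autoImplicit false
set_option linter.unusedSectionVars false

namespace Cfsg.Agent.Lib.Helper8.TG

open scoped commutatorElement

variable {G : Type*} [Group G] [Finite G] {p : ℕ} [hp : Fact p.Prime]

/-- The Frattini subgroup of a Sylow subgroup, as a subgroup of the group. -/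
def PhiOf (P : Sylow p G) : Subgroup G :=
  (frattini ↥(P : Subgroup G)).map (P : Subgroup G).subtype

theorem PhiOf_le (P : Sylow p G) : PhiOf P ≤ (P : Subgroup G) := by
  unfold PhiOf
  exact Subgroup.map_subtype_le _

/-- A normal subgroup of a two-generated `p`-group outside the Frattini subgroup has cyclic
quotient. -/
theorem exists_gen (P : Sylow p G) (hgen : (frattini ↥(P : Subgroup G)).index = p ^ 2)
    (A : Subgroup G) (hAP : A ≤ (P : Subgroup G)) (hnorm : (P : Subgroup G) ≤ Subgroup.normalizer (A : Set G))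
    (hA : ¬ A ≤ PhiOf P) :
    ∃ y ∈ (P : Subgroup G), ∀ u ∈ (P : Subgroup G), ∃ a ∈ A, ∃ k : ℤ, u = a * y ^ k := by
  obtain ⟨a, haA, haΦ⟩ := SetLike.not_le_iff_exists.1 hA
  let w : ↥(P : Subgroup G) := ⟨a, hAP haA⟩
  have hw : w ∉ frattini ↥(P : Subgroup G) := by
    intro h
    apply haΦ
    exact ⟨w, h, rfl⟩
  obtain ⟨y, hy⟩ := Cfsg.Agent.Lib.Helper4.HU.exists_second_gen (p := p) P.2 hgen w hw
  refine ⟨y, y.2, ?_⟩
  intro u hu
  have hmem : (⟨u, hu⟩ : ↥(P : Subgroup G)) ∈ Subgroup.closure {w, y} := by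
    rw [hy]
    trivial
  have key : ∀ v : ↥(P : Subgroup G), v ∈ Subgroup.closure {w, y} →
      ∃ a' ∈ A, ∃ k : ℤ, (v : G) = a' * (y : G) ^ k := by
    intro v hv
    induction hv using Subgroup.closure_induction with
    | mem x hx =>
      rcases hx with rfl | hx
      · exact ⟨a, haA, 0, by simp [w]⟩
      · rw [Set.mem_singleton_iff] at hx
        subst hx
        exact ⟨1, A.one_mem, 1, by simp⟩
    | one => exact ⟨1, A.one_mem, 0, by simp⟩
    | mul x z _ _ hx hz =>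
      obtain ⟨a₁, ha₁, k₁, h₁⟩ := hx
      obtain ⟨a₂, ha₂, k₂, h₂⟩ := hz
      have hyk : (y : G) ^ k₁ ∈ Subgroup.normalizer (A : Set G) := hnorm (Subgroup.zpow_mem _ y.2 k₁)
      have h3 : (y : G) ^ k₁ * a₂ * ((y : G) ^ k₁)⁻¹ ∈ A :=
        (Subgroup.mem_normalizer_iff.1 hyk a₂).1 ha₂
      refine ⟨a₁ * ((y : G) ^ k₁ * a₂ * ((y : G) ^ k₁)⁻¹), A.mul_mem ha₁ h3, k₁ + k₂, ?_⟩
      rw [Subgroup.coe_mul, h₁, h₂, zpow_add]
      group
    | inv x _ hx =>
      obtain ⟨a₁, ha₁, k₁, h₁⟩ := hx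
      have hyk : (y : G) ^ (-k₁) ∈ Subgroup.normalizer (A : Set G) := hnorm (Subgroup.zpow_mem _ y.2 (-k₁))
      have h3 : (y : G) ^ (-k₁) * a₁⁻¹ * ((y : G) ^ (-k₁))⁻¹ ∈ A :=
        (Subgroup.mem_normalizer_iff.1 hyk a₁⁻¹).1 (A.inv_mem ha₁)
      refine ⟨(y : G) ^ (-k₁) * a₁⁻¹ * ((y : G) ^ (-k₁))⁻¹, h3, -k₁, ?_⟩
      rw [Subgroup.coe_inv, h₁]
      group
  exact key ⟨u, hu⟩ hmem

/-- The derived subgroup lies in such a normal subgroup. -/
theorem commutator_mem (P : Sylow p G) (hgen : (frattini ↥(P : Subgroup G)).index = p ^ 2)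
    (A : Subgroup G) (hAP : A ≤ (P : Subgroup G)) (hnorm : (P : Subgroup G) ≤ Subgroup.normalizer (A : Set G))
    (hA : ¬ A ≤ PhiOf P) (u v : G) (hu : u ∈ (P : Subgroup G)) (hv : v ∈ (P : Subgroup G)) :
    ⁅u, v⁆ ∈ A := by
  obtain ⟨y, hyP, hy⟩ := exists_gen P hgen A hAP hnorm hA
  obtain ⟨a, ha, k, rfl⟩ := hy u hu
  obtain ⟨b, hb, l, rfl⟩ := hy v hv
  have h1 : ⁅a * y ^ k, b * y ^ l⁆
      = a * (y ^ k * b * (y ^ k)⁻¹) * (y ^ l * a⁻¹ * (y ^ l)⁻¹) * b⁻¹ := by
    rw [commutatorElement_def]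
    group
  rw [h1]
  have hyk : y ^ k ∈ Subgroup.normalizer (A : Set G) := hnorm (Subgroup.zpow_mem _ hyP k)
  have hyl : y ^ l ∈ Subgroup.normalizer (A : Set G) := hnorm (Subgroup.zpow_mem _ hyP l)
  have h2 : y ^ k * b * (y ^ k)⁻¹ ∈ A := (Subgroup.mem_normalizer_iff.1 hyk b).1 hb
  have h3 : y ^ l * a⁻¹ * (y ^ l)⁻¹ ∈ A :=
    (Subgroup.mem_normalizer_iff.1 hyl a⁻¹).1 (A.inv_mem ha)
  exact A.mul_mem (A.mul_mem (A.mul_mem ha h2) h3) (A.inv_mem hb)

/-- Two disjoint normal subgroups outside the Frattini subgroup force commutativity. -/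
theorem comm_of_two (P : Sylow p G) (hgen : (frattini ↥(P : Subgroup G)).index = p ^ 2)
    (A B : Subgroup G) (hAP : A ≤ (P : Subgroup G)) (hBP : B ≤ (P : Subgroup G))
    (hnA : (P : Subgroup G) ≤ Subgroup.normalizer (A : Set G)) (hnB : (P : Subgroup G) ≤ Subgroup.normalizer (B : Set G))
    (hAB : A ⊓ B = ⊥) (hA : ¬ A ≤ PhiOf P) (hB : ¬ B ≤ PhiOf P) :
    IsMulCommutative ↥(P : Subgroup G) := by
  refine ⟨⟨fun u v => ?_⟩⟩
  apply Subtype.ext
  have h1 := commutator_mem P hgen A hAP hnA hA u v u.2 v.2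
  have h2 := commutator_mem P hgen B hBP hnB hB u v u.2 v.2
  have h3 : ⁅(u : G), (v : G)⁆ ∈ A ⊓ B := ⟨h1, h2⟩
  rw [hAB, Subgroup.mem_bot] at h3
  exact (commutatorElement_eq_one_iff_mul_comm.1 h3)

/-- A normal subgroup with a normal `p`-complement is a `p`-group if `O_{p'}(G) = 1`. -/
theorem isPGroup_of_npc (hcore : Cfsg.pPrimeCore p G = ⊥) (N : Subgroup G) [hN : N.Normal]
    (h : Cfsg.HasNormalPComplement p ↥N) : IsPGroup p ↥N := by
  obtain ⟨Q, M, hMn, hc⟩ := h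
  have hcard := hc.card_mul_card
  have hQ := Q.card_eq_multiplicity
  have hN0 : Nat.card ↥N ≠ 0 := Nat.card_pos.ne'
  have hMcop : (Nat.card ↥M).Coprime p := by
    have h1 : Nat.card ↥M = Nat.card ↥N / p ^ (Nat.card ↥N).factorization p := by
      rw [hQ] at hcard
      exact (Nat.div_eq_of_eq_mul_left (pow_pos hp.out.pos _) hcard.symm).symm
    rw [h1]
    exact (Nat.coprime_ordCompl hp.out hN0).symm
  -- characterization of `M`
  have hchar : ∀ n : ↥N, n ∈ M ↔ (orderOf n).Coprime p := by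
    intro n
    constructor
    · intro hn
      have h1 : orderOf (⟨n, hn⟩ : ↥M) ∣ Nat.card ↥M := orderOf_dvd_natCard _
      have h2 : orderOf (⟨n, hn⟩ : ↥M) = orderOf n := Subgroup.orderOf_mk n hn
      rw [h2] at h1
      exact Nat.Coprime.coprime_dvd_left h1 hMcop
    · intro hn
      rw [← QuotientGroup.eq_one_iff]
      have h1 : orderOf (QuotientGroup.mk n : ↥N ⧸ M) ∣ orderOf n :=
        orderOf_dvd_of_pow_eq_one (by rw [← QuotientGroup.mk_pow, pow_orderOf_eq_one]; rfl)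
      have h2 : orderOf (QuotientGroup.mk n : ↥N ⧸ M) ∣ Nat.card (↥N ⧸ M) := orderOf_dvd_natCard _
      have h3 : Nat.card (↥N ⧸ M) = p ^ (Nat.card ↥N).factorization p := by
        have h4 := Subgroup.card_eq_card_quotient_mul_card_subgroup M
        have h5 : Nat.card (↥N ⧸ M) * Nat.card ↥M = p ^ (Nat.card ↥N).factorization p * Nat.card ↥M := by
          rw [← h4, ← hQ, mul_comm, hcard]
        exact Nat.eq_of_mul_eq_mul_right Nat.card_pos h5
      rw [h3] at h2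
      have h5 : (orderOf (QuotientGroup.mk n : ↥N ⧸ M)).Coprime p :=
        Nat.Coprime.coprime_dvd_left h1 hn
      have h6 : orderOf (QuotientGroup.mk n : ↥N ⧸ M) = 1 := by
        have := Nat.Coprime.eq_one_of_dvd (Nat.Coprime.pow_right _ h5) h2
        exact this
      exact orderOf_eq_one_iff.1 h6
  -- `M` is normal in `G`
  have hMG : (M.map N.subtype).Normal := by
    constructor
    rintro _ ⟨m, hm, rfl⟩ g
    have hmem : g * (m : G) * g⁻¹ ∈ N := hN.conj_mem _ m.2 g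
    refine ⟨⟨g * (m : G) * g⁻¹, hmem⟩, ?_, rfl⟩
    refine (hchar _).2 ?_
    have h1 : orderOf (⟨g * (m : G) * g⁻¹, hmem⟩ : ↥N) = orderOf (g * (m : G) * g⁻¹) :=
      Subgroup.orderOf_mk _ _
    have h2 : orderOf (g * (m : G) * g⁻¹) = orderOf (m : G) := by
      have := orderOf_injective (MulAut.conj g).toMonoidHom (MulAut.conj g).injective (m : G)
      simpa using this
    have h3 : orderOf (m : G) = orderOf m := Subgroup.orderOf_coe m
    rw [h1, h2, h3]
    exact (hchar m).1 hm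
  have hMcard : (Nat.card ↥(M.map N.subtype)).Coprime p := by
    rw [Subgroup.card_map_of_injective N.subtype_injective]
    exact hMcop
  have hMbot := Cfsg.Agent.Lib.Helper6.le_pPrimeCore hMG hMcard
  rw [hcore, le_bot_iff] at hMbot
  have hM1 : Nat.card ↥M = 1 := by
    have := congrArg (fun K : Subgroup G => Nat.card ↥K) hMbot
    simp only [Subgroup.card_bot] at this
    rw [Subgroup.card_map_of_injective N.subtype_injective] at this
    exact this
  rw [hM1, one_mul] at hcard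
  rw [IsPGroup.iff_card]
  exact ⟨_, hcard.symm.trans hQ⟩

/-- Tate's theorem and the hypotheses: a nontrivial normal subgroup does not meet the Sylow
subgroup inside its Frattini subgroup. -/
theorem not_inf_le_PhiOf (P : Sylow p G) (hcore : Cfsg.pPrimeCore p G = ⊥)
    (hfrat : (PhiOf P).normalCore = ⊥) (N : Subgroup G) [hN : N.Normal] (hN1 : N ≠ ⊥) :
    ¬ N ⊓ (P : Subgroup G) ≤ PhiOf P := by
  intro h
  have h1 := Cfsg.Agent.S0081.result P N h
  have h2 := isPGroup_of_npc hcore N h1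
  have h3 : N ≤ (P : Subgroup G) := h2.le_sylow_of_normal P
  have h4 : N ≤ PhiOf P := by
    have : N ⊓ (P : Subgroup G) = N := inf_eq_left.2 h3
    rw [this] at h
    exact h
  have h5 : N ≤ (PhiOf P).normalCore := (Subgroup.normal_le_normalCore).2 h4
  rw [hfrat, le_bot_iff] at h5
  exact hN1 h5

/-- Any two nontrivial normal subgroups intersect nontrivially. -/
theorem inf_ne_bot (P : Sylow p G) (hna : ¬ IsMulCommutative ↥(P : Subgroup G))
    (hgen : (frattini ↥(P : Subgroup G)).index = p ^ 2)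
    (hcore : Cfsg.pPrimeCore p G = ⊥) (hfrat : (PhiOf P).normalCore = ⊥)
    (N₁ N₂ : Subgroup G) [hN₁ : N₁.Normal] [hN₂ : N₂.Normal] (h₁ : N₁ ≠ ⊥) (h₂ : N₂ ≠ ⊥) :
    N₁ ⊓ N₂ ≠ ⊥ := by
  intro h
  apply hna
  have hn : ∀ N : Subgroup G, N.Normal → (P : Subgroup G) ≤ Subgroup.normalizer ((N ⊓ (P : Subgroup G) : Subgroup G) : Set G) := by
    intro N hN x hx
    rw [Subgroup.mem_normalizer_iff]
    intro z
    constructor
    · rintro ⟨hz1, hz2⟩
      exact ⟨hN.conj_mem z hz1 x, (P : Subgroup G).mul_mem ((P : Subgroup G).mul_mem hx hz2)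
        ((P : Subgroup G).inv_mem hx)⟩
    · rintro ⟨hz1, hz2⟩
      constructor
      · have := hN.conj_mem _ hz1 x⁻¹
        simpa [mul_assoc] using this
      · have h9 := (P : Subgroup G).mul_mem ((P : Subgroup G).mul_mem ((P : Subgroup G).inv_mem hx) hz2) hx
        have h10 : x⁻¹ * (x * z * x⁻¹) * x = z := by group
        rw [h10] at h9
        exact h9
  refine comm_of_two P hgen (N₁ ⊓ (P : Subgroup G)) (N₂ ⊓ (P : Subgroup G)) inf_le_right
    inf_le_right (hn N₁ hN₁) (hn N₂ hN₂) ?_ (not_inf_le_PhiOf P hcore hfrat N₁ h₁)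
    (not_inf_le_PhiOf P hcore hfrat N₂ h₂)
  rw [eq_bot_iff]
  intro z hz
  have : z ∈ N₁ ⊓ N₂ := ⟨hz.1.1, hz.2.1⟩
  rw [h] at this
  exact this

/-- The monolith. -/
theorem exists_monolith (P : Sylow p G) (hna : ¬ IsMulCommutative ↥(P : Subgroup G))
    (hgen : (frattini ↥(P : Subgroup G)).index = p ^ 2)
    (hcore : Cfsg.pPrimeCore p G = ⊥) (hfrat : (PhiOf P).normalCore = ⊥) :
    ∃ N : Subgroup G, N.Normal ∧ N ≠ ⊥ ∧ ∀ K : Subgroup G, K.Normal → K ≠ ⊥ → N ≤ K := by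
  have htop : (⊤ : Subgroup G) ≠ ⊥ := by
    intro h
    apply hna
    refine ⟨⟨fun u v => ?_⟩⟩
    have h1 : ∀ g : G, g = 1 := by
      intro g
      have : g ∈ (⊤ : Subgroup G) := trivial
      rw [h] at this
      exact this
    apply Subtype.ext
    rw [Subgroup.coe_mul, Subgroup.coe_mul, h1 (u : G), h1 (v : G)]
  let 𝒮 : Set (Subgroup G) := {K | K.Normal ∧ K ≠ ⊥}
  obtain ⟨N, hN𝒮, hmin⟩ := Set.exists_min_image 𝒮 (fun K : Subgroup G => Nat.card ↥K)
    (Set.toFinite 𝒮) ⟨⊤, inferInstance, htop⟩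
  refine ⟨N, hN𝒮.1, hN𝒮.2, ?_⟩
  intro K hK hK1
  have hNn := hN𝒮.1
  have h1 : N ⊓ K ≠ ⊥ := inf_ne_bot P hna hgen hcore hfrat N K hN𝒮.2 hK1
  have h2 : (N ⊓ K).Normal := inferInstance
  have h3 := hmin (N ⊓ K) ⟨h2, h1⟩
  have h4 : N ⊓ K = N := Subgroup.eq_of_le_of_card_ge inf_le_left h3
  exact inf_eq_left.1 h4

end Cfsg.Agent.Lib.Helper8.TG
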