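import Mathlib
import Cfsg.Prelude.Def_Solvable

set_option autoImplicit false
set_option linter.unusedSectionVars false
set_option linter.style.haveILetI false

namespace Cfsg.Agent.Lib.Helper8.TG

open scoped commutatorElement

/-- In a perfect group with a commutative Sylow subgroup, central elements of the Sylow subgroup
are trivial (transfer). -/
theorem central_eq_one_of_perfect {X : Type*} [Group X] [Finite X] {p : ℕ} [hp : Fact p.Prime]
    (hperf : commutator X = ⊤) (S : Sylow p X)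
    (hS : ∀ a ∈ (S : Subgroup X), ∀ b ∈ (S : Subgroup X), a * b = b * a)
    (z : X) (hzS : z ∈ (S : Subgroup X)) (hzZ : z ∈ Subgroup.center X) : z = 1 := by
  letI : CommGroup ↥(S : Subgroup X) :=
    { (inferInstance : Group ↥(S : Subgroup X)) with
      mul_comm := fun a b => Subtype.ext (hS a a.2 b b.2) }
  let ϕ : ↥(S : Subgroup X) →* ↥(S : Subgroup X) := MonoidHom.id _
  have key : ∀ (k : ℕ) (g₀ : X), g₀⁻¹ * z ^ k * g₀ ∈ (S : Subgroup X) →
      g₀⁻¹ * z ^ k * g₀ = z ^ k := by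
    intro k g₀ _
    have h1 : z ^ k ∈ Subgroup.center X := Subgroup.pow_mem _ hzZ k
    have h2 := Subgroup.mem_center_iff.1 h1 g₀
    rw [mul_assoc, ← h2, inv_mul_cancel_left]
  have h1 := MonoidHom.transfer_eq_pow (H := (S : Subgroup X)) ϕ z key
  have h2 : MonoidHom.transfer ϕ z = 1 := by
    have h3 : commutator X ≤ (MonoidHom.transfer ϕ).ker :=
      Abelianization.commutator_subset_ker _
    rw [hperf] at h3
    exact h3 (Subgroup.mem_top z)
  rw [h2] at h1
  have h4 : z ^ (S : Subgroup X).index = 1 := by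
    have := congrArg (fun w : ↥(S : Subgroup X) => (w : X)) h1
    simpa [ϕ] using this.symm
  obtain ⟨k, hk⟩ := S.2 ⟨z, hzS⟩
  have h5 : z ^ p ^ k = 1 := by
    have := congrArg (fun w : ↥(S : Subgroup X) => (w : X)) hk
    simpa using this
  have h6 : orderOf z ∣ (S : Subgroup X).index := orderOf_dvd_of_pow_eq_one h4
  have h7 : orderOf z ∣ p ^ k := orderOf_dvd_of_pow_eq_one h5
  have h8 : ((S : Subgroup X).index).Coprime (p ^ k) := by
    apply Nat.Coprime.pow_right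
    exact ((Nat.Prime.coprime_iff_not_dvd hp.out).2 S.not_dvd_index).symm
  have h9 : orderOf z = 1 := Nat.eq_one_of_dvd_coprimes h8 h6 h7
  exact orderOf_eq_one_iff.1 h9

/-- Data for the relative Maschke argument. -/
structure RMData (G : Type*) [Group G] where
  P : Subgroup G
  R : Subgroup G
  N : Subgroup G
  Y : Subgroup G
  hR : R.Normal
  hN : N.Normal
  hcomm : ∀ a ∈ R, ∀ b ∈ R, a * b = b * a
  hNR : N ≤ R
  hYR : Y ≤ R
  hY : ∀ x ∈ P, ∀ b ∈ Y, x * b * x⁻¹ ∈ Y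
  hdisj : N ⊓ Y = ⊥
  hsup : ∀ r ∈ R, ∃ a ∈ N, ∃ b ∈ Y, r = a * b

attribute [instance] RMData.hR RMData.hN

namespace RMData

variable {G : Type*} [Group G] (D : RMData G)

theorem exists_proj (r : ↥D.R) : ∃ a : ↥D.N, (a : G)⁻¹ * (r : G) ∈ D.Y := by
  obtain ⟨a, ha, b, hb, h⟩ := D.hsup r r.2
  refine ⟨⟨a, ha⟩, ?_⟩
  rw [h]
  simpa using hb

noncomputable def proj (r : ↥D.R) : ↥D.N := Classical.choose (D.exists_proj r)

theorem proj_spec (r : ↥D.R) : ((D.proj r : ↥D.N) : G)⁻¹ * (r : G) ∈ D.Y :=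
  Classical.choose_spec (D.exists_proj r)

theorem proj_unique (r : ↥D.R) (a : G) (ha : a ∈ D.N) (h : a⁻¹ * (r : G) ∈ D.Y) :
    ((D.proj r : ↥D.N) : G) = a := by
  have h0 := D.proj_spec r
  have h1 : a⁻¹ * ((D.proj r : ↥D.N) : G) ∈ D.Y := by
    have := D.Y.mul_mem h (D.Y.inv_mem h0)
    have e : a⁻¹ * (r : G) * (((D.proj r : ↥D.N) : G)⁻¹ * (r : G))⁻¹
        = a⁻¹ * ((D.proj r : ↥D.N) : G) := by group
    rw [e] at this
    exact this
  have h2 : a⁻¹ * ((D.proj r : ↥D.N) : G) ∈ D.N := D.N.mul_mem (D.N.inv_mem ha) (D.proj r).2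
  have h3 : a⁻¹ * ((D.proj r : ↥D.N) : G) ∈ D.N ⊓ D.Y := ⟨h2, h1⟩
  rw [D.hdisj, Subgroup.mem_bot] at h3
  have := inv_mul_eq_one.1 h3
  exact this.symm

theorem proj_mul (r s : ↥D.R) : D.proj (r * s) = D.proj r * D.proj s := by
  apply Subtype.ext
  rw [Subgroup.coe_mul]
  apply D.proj_unique (r * s) _ (D.N.mul_mem (D.proj r).2 (D.proj s).2)
  have h1 := D.proj_spec r
  have h2 := D.proj_spec s
  have hb : ((D.proj s : ↥D.N) : G)⁻¹ ∈ D.R := D.R.inv_mem (D.hNR (D.proj s).2)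
  have hc := D.hcomm _ hb _ (D.hYR h1)
  have e : (((D.proj r : ↥D.N) : G) * ((D.proj s : ↥D.N) : G))⁻¹ * ((r * s : ↥D.R) : G)
      = (((D.proj r : ↥D.N) : G)⁻¹ * (r : G)) * (((D.proj s : ↥D.N) : G)⁻¹ * (s : G)) := by
    rw [Subgroup.coe_mul, mul_inv_rev, mul_assoc, ← mul_assoc _ (r : G) (s : G), ← mul_assoc, hc]
    group
  rw [e]
  exact D.Y.mul_mem h1 h2

noncomputable def projHom : ↥D.R →* ↥D.N := MonoidHom.mk' D.proj D.proj_mul

theorem projHom_apply (r : ↥D.R) : D.projHom r = D.proj r := rfl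

theorem proj_of_mem (r : ↥D.R) (hr : (r : G) ∈ D.N) : ((D.proj r : ↥D.N) : G) = r := by
  apply D.proj_unique r _ hr
  rw [inv_mul_cancel]
  exact D.Y.one_mem

theorem proj_conj (x : G) (hx : x ∈ D.P) (r : ↥D.R) :
    D.proj (MulAut.conjNormal x r) = MulAut.conjNormal x (D.proj r) := by
  apply Subtype.ext
  apply D.proj_unique _ _ (MulAut.conjNormal x (D.proj r)).2
  rw [MulAut.conjNormal_apply, MulAut.conjNormal_apply]
  have h1 := D.hY x hx _ (D.proj_spec r)
  have e : (x * ((D.proj r : ↥D.N) : G) * x⁻¹)⁻¹ * (x * (r : G) * x⁻¹)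
      = x * (((D.proj r : ↥D.N) : G)⁻¹ * (r : G)) * x⁻¹ := by group
  rw [e]
  exact h1

/-- The twisted projections. -/
noncomputable def F (t : G) : ↥D.R →* ↥D.N :=
  (MulAut.conjNormal t : MulAut ↥D.N).toMonoidHom.comp
    (D.projHom.comp (MulAut.conjNormal t⁻¹ : MulAut ↥D.R).toMonoidHom)

theorem F_apply (t : G) (r : ↥D.R) :
    D.F t r = MulAut.conjNormal t (D.proj (MulAut.conjNormal t⁻¹ r)) := rfl

theorem F_mul_right (t x : G) (hx : x ∈ D.P) : D.F (t * x) = D.F t := by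
  ext r
  rw [F_apply, F_apply, mul_inv_rev, map_mul, map_mul, MulAut.mul_apply, MulAut.mul_apply,
    D.proj_conj x⁻¹ (D.P.inv_mem hx)]
  have e : (MulAut.conjNormal x : MulAut ↥D.N) ((MulAut.conjNormal x⁻¹ : MulAut ↥D.N)
      (D.proj ((MulAut.conjNormal t⁻¹) r))) = D.proj ((MulAut.conjNormal t⁻¹) r) := by
    rw [← MulAut.mul_apply, ← map_mul, mul_inv_cancel, map_one, MulAut.one_apply]
  rw [e]

theorem F_of_mem (t : G) (r : ↥D.R) (hr : (r : G) ∈ D.N) : ((D.F t r : ↥D.N) : G) = r := by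
  rw [F_apply, MulAut.conjNormal_apply]
  have h1 : ((MulAut.conjNormal t⁻¹ r : ↥D.R) : G) ∈ D.N := by
    rw [MulAut.conjNormal_apply]
    exact D.hN.conj_mem _ hr _
  rw [D.proj_of_mem _ h1, MulAut.conjNormal_apply]
  group

theorem conj_F (g t : G) (r : ↥D.R) :
    MulAut.conjNormal g (D.F t (MulAut.conjNormal g⁻¹ r)) = D.F (g * t) r := by
  rw [F_apply, F_apply, mul_inv_rev, map_mul, map_mul, MulAut.mul_apply, MulAut.mul_apply]

section avg

variable [Finite G]

/-- The commutative group structure on `N`. -/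
@[reducible] noncomputable def commN : CommGroup ↥D.N :=
  { (inferInstance : Group ↥D.N) with
    mul_comm := fun a b => Subtype.ext (D.hcomm a (D.hNR a.2) b (D.hNR b.2)) }

attribute [local instance] RMData.commN

noncomputable instance fintypeQuot : Fintype (G ⧸ D.P) := Fintype.ofFinite _

/-- The averaged projection. -/
noncomputable def avg : ↥D.R →* ↥D.N := ∏ q : G ⧸ D.P, D.F (Quotient.out q)

theorem avg_apply (r : ↥D.R) : D.avg r = ∏ q : G ⧸ D.P, D.F (Quotient.out q) r := by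
  unfold avg
  exact MonoidHom.finsetProd_apply _ _ _

theorem conj_avg (g : G) (r : ↥D.R) :
    MulAut.conjNormal g (D.avg (MulAut.conjNormal g⁻¹ r)) = D.avg r := by
  rw [avg_apply, avg_apply]
  have h0 : (MulAut.conjNormal g : MulAut ↥D.N) (∏ q : G ⧸ D.P, D.F (Quotient.out q)
      (MulAut.conjNormal g⁻¹ r)) = ∏ q : G ⧸ D.P, (MulAut.conjNormal g : MulAut ↥D.N)
        (D.F (Quotient.out q) (MulAut.conjNormal g⁻¹ r)) := by
    exact map_prod ((MulAut.conjNormal g : MulAut ↥D.N).toMonoidHom) _ _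
  rw [h0]
  have h : ∀ q : G ⧸ D.P, D.F (g * Quotient.out q) = D.F (Quotient.out (g • q)) := by
    intro q
    have h1 : g • q = QuotientGroup.mk (g * Quotient.out q) := by
      conv_lhs => rw [← QuotientGroup.out_eq' q]
      rfl
    obtain ⟨x, hx⟩ := QuotientGroup.mk_out_eq_mul D.P (g * Quotient.out q)
    rw [h1, hx, D.F_mul_right _ _ x.2]
  have h2 : ∀ q : G ⧸ D.P, (MulAut.conjNormal g : MulAut ↥D.N)
        (D.F (Quotient.out q) (MulAut.conjNormal g⁻¹ r)) = D.F (Quotient.out (g • q)) r := by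
    intro q
    rw [← h q]
    exact D.conj_F g _ r
  rw [Finset.prod_congr rfl (fun q _ => h2 q)]
  exact Equiv.prod_comp (MulAction.toPerm g) (fun q : G ⧸ D.P => D.F (Quotient.out q) r)

theorem avg_of_mem (r : ↥D.R) (hr : (r : G) ∈ D.N) :
    ((D.avg r : ↥D.N) : G) = (r : G) ^ D.P.index := by
  have h1 : ∀ q : G ⧸ D.P, D.F (Quotient.out q) r = ⟨r, hr⟩ := by
    intro q
    apply Subtype.ext
    exact D.F_of_mem _ r hr
  rw [avg_apply]
  simp_rw [h1]
  rw [Finset.prod_const, Finset.card_univ, ← Nat.card_eq_fintype_card, ← Subgroup.index_eq_card]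
  rfl

theorem exists_normal_compl {p : ℕ} [Fact p.Prime] (hNp : IsPGroup p ↥D.N)
    (hidx : (D.P.index).Coprime p) :
    ∃ C : Subgroup G, C.Normal ∧ C ≤ D.R ∧ D.N ⊓ C = ⊥ ∧ (D.N ≠ D.R → C ≠ ⊥) := by
  refine ⟨D.avg.ker.map D.R.subtype, ?_, Subgroup.map_subtype_le _, ?_, ?_⟩
  · constructor
    rintro _ ⟨c, hc, rfl⟩ g
    refine ⟨MulAut.conjNormal g c, ?_, ?_⟩
    · rw [SetLike.mem_coe, MonoidHom.mem_ker] at hc ⊢
      have h1 := D.conj_avg g (MulAut.conjNormal g c)
      have h2 : (MulAut.conjNormal g⁻¹ : MulAut ↥D.R) (MulAut.conjNormal g c) = c := by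
        rw [← MulAut.mul_apply, ← map_mul, inv_mul_cancel, map_one, MulAut.one_apply]
      rw [h2, hc, map_one] at h1
      exact h1.symm
    · rw [Subgroup.coe_subtype, MulAut.conjNormal_apply]
  · rw [eq_bot_iff]
    rintro z ⟨hzN, c, hc, rfl⟩
    rw [SetLike.mem_coe, MonoidHom.mem_ker] at hc
    rw [Subgroup.coe_subtype] at hzN ⊢
    have h1 := D.avg_of_mem c hzN
    rw [hc, Subgroup.coe_one] at h1
    obtain ⟨k, hk⟩ := hNp ⟨c, hzN⟩
    have h5 : (c : G) ^ p ^ k = 1 := by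
      have := congrArg (fun w : ↥D.N => (w : G)) hk
      simpa using this
    have h6 : orderOf (c : G) ∣ D.P.index := orderOf_dvd_of_pow_eq_one h1.symm
    have h7 : orderOf (c : G) ∣ p ^ k := orderOf_dvd_of_pow_eq_one h5
    have h8 : (D.P.index).Coprime (p ^ k) := Nat.Coprime.pow_right _ hidx
    have h9 : orderOf (c : G) = 1 := Nat.eq_one_of_dvd_coprimes h8 h6 h7
    rw [Subgroup.mem_bot]
    exact orderOf_eq_one_iff.1 h9
  · intro hne hC
    apply hne
    rw [Subgroup.map_eq_bot_iff_of_injective _ D.R.subtype_injective] at hC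
    have hinj : Function.Injective D.avg := (MonoidHom.ker_eq_bot_iff _).1 hC
    have hcard : Nat.card ↥D.R ≤ Nat.card ↥D.N := Nat.card_le_card_of_injective _ hinj
    exact Subgroup.eq_of_le_of_card_ge D.hNR hcard

end avg

end RMData

end Cfsg.Agent.Lib.Helper8.TG
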