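import Mathlib
import Cfsg.Agent.Lib.Helper8.TG1
import Cfsg.Agent.Lib.Helper8.TG2
import Cfsg.Agent.Lib.Helper3.Components7
import Cfsg.Agent.Lib.Helper3.PComp2
import Cfsg.Agent.Lib.Helper4.LBal1
import Cfsg.Agent.Lib.Helper4.FStarQuot3
import Cfsg.Agent.Lib.Helper2.FrattiniSocle
import Cfsg.Agent.Lib.Lead.Frattini

set_option autoImplicit false
set_option linter.unusedSectionVars false
set_option linter.style.haveILetI false

namespace Cfsg.Agent.Lib.Helper8.TG

open scoped commutatorElement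
open Cfsg.Agent.Lib.Helper3

variable {G : Type*} [Group G] [Finite G] {p : ℕ} [hp : Fact p.Prime]

theorem le_normalizer_inf (P : Sylow p G) (N : Subgroup G) [hN : N.Normal] :
    (P : Subgroup G) ≤ Subgroup.normalizer ((N ⊓ (P : Subgroup G) : Subgroup G) : Set G) := by
  intro x hx
  rw [Subgroup.mem_normalizer_iff]
  intro z
  constructor
  · rintro ⟨hz1, hz2⟩
    exact ⟨hN.conj_mem z hz1 x, (P : Subgroup G).mul_mem ((P : Subgroup G).mul_mem hx hz2)
      ((P : Subgroup G).inv_mem hx)⟩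
  · rintro ⟨hz1, hz2⟩
    constructor
    · have := hN.conj_mem _ hz1 x⁻¹
      simpa [mul_assoc] using this
    · have h9 := (P : Subgroup G).mul_mem ((P : Subgroup G).mul_mem ((P : Subgroup G).inv_mem hx) hz2) hx
      have h10 : x⁻¹ * (x * z * x⁻¹) * x = z := by group
      rw [h10] at h9
      exact h9

/-- The hypotheses together with a monolith. -/
structure Mono (P : Sylow p G) (N : Subgroup G) : Prop where
  hna : ¬ IsMulCommutative ↥(P : Subgroup G)
  hgen : (frattini ↥(P : Subgroup G)).index = p ^ 2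
  hcore : Cfsg.pPrimeCore p G = ⊥
  hfrat : (PhiOf P).normalCore = ⊥
  hNn : N.Normal
  hN1 : N ≠ ⊥
  hmin : ∀ K : Subgroup G, K.Normal → K ≠ ⊥ → N ≤ K

namespace Mono

variable {P : Sylow p G} {N : Subgroup G}

theorem exists_gen' (h : Mono P N) :
    ∃ y ∈ (P : Subgroup G), ∀ u ∈ (P : Subgroup G), ∃ a ∈ N ⊓ (P : Subgroup G), ∃ k : ℤ,
      u = a * y ^ k := by
  haveI := h.hNn
  exact exists_gen P h.hgen (N ⊓ (P : Subgroup G)) inf_le_right (le_normalizer_inf P N)
    (not_inf_le_PhiOf P h.hcore h.hfrat N h.hN1)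

theorem top_ne_bot (h : Mono P N) : (⊤ : Subgroup G) ≠ ⊥ := by
  intro ht
  apply h.hN1
  rw [eq_bot_iff, ← ht]
  exact le_top

/-- A monolith inside a solvable subgroup is commutative. -/
theorem comm_of_le_solvable (h : Mono P N) (H : Subgroup G) (hNH : N ≤ H)
    (hH : Group.IsSolvable ↥H) : ∀ a ∈ N, ∀ b ∈ N, a * b = b * a := by
  haveI := h.hNn
  have hNs : Group.IsSolvable ↥N :=
    Group.isSolvable_of_isSolvable_injective (Subgroup.inclusion_injective hNH)
  have hn : (⁅N, N⁆ : Subgroup G).Normal := inferInstance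
  have hle : ⁅N, N⁆ ≤ N := Subgroup.commutator_le_left N N
  by_cases hb : ⁅N, N⁆ = ⊥
  · intro a ha b hb'
    have h1 : ⁅a, b⁆ ∈ ⁅N, N⁆ := Subgroup.commutator_mem_commutator ha hb'
    rw [hb, Subgroup.mem_bot] at h1
    exact commutatorElement_eq_one_iff_mul_comm.1 h1
  · exfalso
    have h1 : N ≤ ⁅N, N⁆ := h.hmin _ hn hb
    have h2 : ⁅N, N⁆ = N := le_antisymm hle h1
    have h3 : commutator ↥N = ⊤ := by
      apply Subgroup.map_injective N.subtype_injective
      rw [Subgroup.map_subtype_commutator, h2, ← MonoidHom.range_eq_map, Subgroup.range_subtype]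
    have hnt : Nontrivial ↥N := (Subgroup.nontrivial_iff_ne_bot N).2 h.hN1
    have h4 := Group.IsSolvable.commutator_lt_top_of_nontrivial ↥N
    rw [h3] at h4
    exact lt_irrefl _ h4

/-! ### The noncommutative case -/

theorem fitting_eq_bot (h : Mono P N) (hnc : ¬ ∀ a ∈ N, ∀ b ∈ N, a * b = b * a) :
    Cfsg.fittingSubgroup G = ⊥ := by
  by_contra hF
  have hFn : (Cfsg.fittingSubgroup G).Normal := Cfsg.Agent.Lib.Lead.fittingSubgroup_normal
  have h1 := h.hmin _ hFn hF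
  exact hnc (h.comm_of_le_solvable _ h1 isSolvable_fittingSubgroup)

theorem component_le (h : Mono P N) (hnc : ¬ ∀ a ∈ N, ∀ b ∈ N, a * b = b * a)
    {K : Subgroup G} (hK : Cfsg.IsComponent K) : K ≤ N := by
  haveI := h.hNn
  rcases IsComponent.le_or_commutator_eq_bot_of_isSubnormal hK
    (Subgroup.Normal.isSubnormal (H := N) inferInstance) with h1 | h1
  · exact h1
  · exfalso
    have hCn : (Subgroup.centralizer (N : Set G)).Normal := inferInstance
    have hKC : K ≤ Subgroup.centralizer (N : Set G) :=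
      Subgroup.commutator_eq_bot_iff_le_centralizer.1 h1
    have hC1 : Subgroup.centralizer (N : Set G) ≠ ⊥ := by
      intro hb
      rw [hb, le_bot_iff] at hKC
      exact IsQuasisimple.ne_bot hK.2 hKC
    have h2 := h.hmin _ hCn hC1
    apply hnc
    intro a ha b hb
    exact (Subgroup.mem_centralizer_iff.1 (h2 hb) a ha)

theorem gfs_eq_of_not_comm (h : Mono P N) (hnc : ¬ ∀ a ∈ N, ∀ b ∈ N, a * b = b * a)
    (hFn : (Cfsg.generalizedFittingSubgroup G).Normal) :
    Cfsg.generalizedFittingSubgroup G = N := by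
  apply le_antisymm
  · unfold Cfsg.generalizedFittingSubgroup
    rw [h.fitting_eq_bot hnc, sup_bot_eq, layer_le_iff]
    exact fun K hK => h.component_le hnc hK
  · apply h.hmin _ hFn
    intro hb
    have h1 := centralizer_generalizedFittingSubgroup_le (G := G)
    rw [hb] at h1
    apply h.top_ne_bot
    rw [eq_bot_iff]
    intro z _
    apply h1
    rw [Subgroup.mem_centralizer_iff]
    intro w hw
    rw [SetLike.mem_coe, Subgroup.mem_bot] at hw
    rw [hw, one_mul, mul_one]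

/-! ### The commutative case -/

theorem fitting_le_sylow (P : Sylow p G) (hcore : Cfsg.pPrimeCore p G = ⊥) :
    Cfsg.fittingSubgroup G ≤ (P : Subgroup G) := by
  haveI : (Cfsg.pCore p G).Normal := Cfsg.Agent.Lib.Lead.pCore_normal p
  exact (Cfsg.Agent.Lib.Helper4.LBal.fittingSubgroup_le_pCore hcore).trans
    ((Cfsg.Agent.Lib.Lead.pCore_isPGroup p).le_sylow_of_normal P)

theorem le_fitting (h : Mono P N) (hc : ∀ a ∈ N, ∀ b ∈ N, a * b = b * a) :
    N ≤ Cfsg.fittingSubgroup G := by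
  apply Cfsg.Agent.Lib.Lead.le_fittingSubgroup h.hNn
  apply isNilpotent_of_le_centralizer
  intro a ha
  rw [Subgroup.mem_centralizer_iff]
  intro b hb
  exact hc b hb a ha

theorem layer_eq_bot (h : Mono P N) (hc : ∀ a ∈ N, ∀ b ∈ N, a * b = b * a) :
    Cfsg.layer G = ⊥ := by
  by_contra hE
  haveI := h.hNn
  obtain ⟨E, hEdef⟩ : ∃ E : Subgroup G, E = Cfsg.layer G := ⟨_, rfl⟩
  rw [← hEdef] at hE
  have hEn : E.Normal := by rw [hEdef]; infer_instance
  have hNE : N ≤ E := h.hmin _ hEn hE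
  have hNF : N ≤ Cfsg.fittingSubgroup G := h.le_fitting hc
  have hNP : N ≤ (P : Subgroup G) := hNF.trans (fitting_le_sylow P h.hcore)
  have hcent : ∀ a ∈ N, ∀ e ∈ E, a * e = e * a := by
    intro a ha e he
    have h1 : ⁅e, a⁆ ∈ ⁅E, Cfsg.fittingSubgroup G⁆ :=
      Subgroup.commutator_mem_commutator he (hNF ha)
    rw [hEdef, commutator_layer_fittingSubgroup, Subgroup.mem_bot] at h1
    exact (commutatorElement_eq_one_iff_mul_comm.1 h1).symm
  obtain ⟨y, hyP, hy⟩ := h.exists_gen'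
  obtain ⟨S⟩ : Nonempty (Sylow p ↥E) := inferInstance
  obtain ⟨Q, hQ⟩ := S.exists_comap_subtype_eq
  obtain ⟨g, hg⟩ := MulAction.exists_smul_eq G P Q
  have hSmem : ∀ s : ↥E, s ∈ (S : Subgroup ↥E) →
      ∃ a ∈ N, ∃ k : ℤ, y ^ k ∈ E ∧ (s : G) = g * (a * y ^ k) * g⁻¹ := by
    intro s hs
    rw [← hQ] at hs
    have h1 : (s : G) ∈ (Q : Subgroup G) := hs
    rw [← hg, Sylow.coe_subgroup_smul, Subgroup.mem_pointwise_smul_iff_inv_smul_mem] at h1
    have h2 : g⁻¹ * (s : G) * g ∈ (P : Subgroup G) := by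
      simpa [MulAut.smul_def] using h1
    obtain ⟨a, ha, k, hk⟩ := hy _ h2
    have h3 : g⁻¹ * (s : G) * g ∈ E := by
      have := hEn.conj_mem _ s.2 g⁻¹
      simpa using this
    refine ⟨a, ha.1, k, ?_, ?_⟩
    · have h4 : y ^ k = a⁻¹ * (g⁻¹ * (s : G) * g) := by rw [hk]; group
      rw [h4]
      exact E.mul_mem (E.inv_mem (hNE ha.1)) h3
    · rw [← hk]
      group
  have hScomm : ∀ s₁ ∈ (S : Subgroup ↥E), ∀ s₂ ∈ (S : Subgroup ↥E), s₁ * s₂ = s₂ * s₁ := by
    intro s₁ h₁ s₂ h₂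
    obtain ⟨a, ha, k, hk, e₁⟩ := hSmem s₁ h₁
    obtain ⟨b, hb, l, hl, e₂⟩ := hSmem s₂ h₂
    apply Subtype.ext
    rw [Subgroup.coe_mul, Subgroup.coe_mul, e₁, e₂]
    have c1 : a * y ^ l = y ^ l * a := hcent a ha _ hl
    have c2 : b * y ^ k = y ^ k * b := hcent b hb _ hk
    have c3 : a * b = b * a := hc a ha b hb
    have c4 : y ^ k * y ^ l = y ^ l * y ^ k := by rw [← zpow_add, ← zpow_add, add_comm]
    have c5 : a * y ^ k * (b * y ^ l) = b * y ^ l * (a * y ^ k) := by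
      calc a * y ^ k * (b * y ^ l) = a * (y ^ k * b) * y ^ l := by group
        _ = a * (b * y ^ k) * y ^ l := by rw [c2]
        _ = (a * b) * (y ^ k * y ^ l) := by group
        _ = (b * a) * (y ^ l * y ^ k) := by rw [c3, c4]
        _ = b * (a * y ^ l) * y ^ k := by group
        _ = b * (y ^ l * a) * y ^ k := by rw [c1]
        _ = b * y ^ l * (a * y ^ k) := by group
    calc g * (a * y ^ k) * g⁻¹ * (g * (b * y ^ l) * g⁻¹)
        = g * (a * y ^ k * (b * y ^ l)) * g⁻¹ := by group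
      _ = g * (b * y ^ l * (a * y ^ k)) * g⁻¹ := by rw [c5]
      _ = g * (b * y ^ l) * g⁻¹ * (g * (a * y ^ k) * g⁻¹) := by group
  apply h.hN1
  rw [eq_bot_iff]
  intro z hz
  have hzE : z ∈ E := hNE hz
  have hperf : commutator ↥E = ⊤ := by
    subst hEdef
    exact Cfsg.Agent.Lib.Helper4.FStarQuot.commutator_layer_eq_top
  have h1 : (⟨z, hzE⟩ : ↥E) = 1 := by
    apply central_eq_one_of_perfect hperf S hScomm
    · rw [← hQ]
      show z ∈ (Q : Subgroup G)
      have hNp : IsPGroup p ↥N := P.2.to_le hNP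
      exact (hNp.le_sylow_of_normal Q) hz
    · rw [Subgroup.mem_center_iff]
      intro e
      apply Subtype.ext
      exact (hcent z hz e e.2).symm
  rw [Subgroup.mem_bot]
  exact congrArg Subtype.val h1

/-- The Fitting subgroup is commutative. -/
theorem fitting_comm (P : Sylow p G) (hcore : Cfsg.pPrimeCore p G = ⊥)
    (hfrat : (PhiOf P).normalCore = ⊥) :
    ∀ a ∈ Cfsg.fittingSubgroup G, ∀ b ∈ Cfsg.fittingSubgroup G, a * b = b * a := by
  obtain ⟨R, hRdef⟩ : ∃ R : Subgroup G, R = Cfsg.fittingSubgroup G := ⟨_, rfl⟩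
  rw [← hRdef]
  have hRn : R.Normal := by rw [hRdef]; exact Cfsg.Agent.Lib.Lead.fittingSubgroup_normal
  have hRP : R ≤ (P : Subgroup G) := by rw [hRdef]; exact fitting_le_sylow P hcore
  have hn : (⁅R, R⁆ : Subgroup G).Normal := inferInstance
  have h1 : ⁅R, R⁆ ≤ PhiOf P := by
    refine (Subgroup.commutator_mono hRP hRP).trans ?_
    rw [← Subgroup.map_subtype_commutator]
    unfold PhiOf
    apply Subgroup.map_mono
    haveI : Group.IsNilpotent ↥(P : Subgroup G) := P.2.isNilpotent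
    exact Cfsg.Agent.Lib.Helper2.FrattiniSocle.commutator_le_frattini_of_nilpotent
  have h2 : ⁅R, R⁆ ≤ (PhiOf P).normalCore := Subgroup.normal_le_normalCore.2 h1
  rw [hfrat, le_bot_iff] at h2
  intro a ha b hb
  have h3 : ⁅a, b⁆ ∈ ⁅R, R⁆ := Subgroup.commutator_mem_commutator ha hb
  rw [h2, Subgroup.mem_bot] at h3
  exact commutatorElement_eq_one_iff_mul_comm.1 h3

/-- The Fitting subgroup has exponent `p`. -/
theorem fitting_pow (P : Sylow p G) (hcore : Cfsg.pPrimeCore p G = ⊥)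
    (hfrat : (PhiOf P).normalCore = ⊥) :
    ∀ r ∈ Cfsg.fittingSubgroup G, r ^ p = 1 := by
  have hcomm := fitting_comm P hcore hfrat
  obtain ⟨R, hRdef⟩ : ∃ R : Subgroup G, R = Cfsg.fittingSubgroup G := ⟨_, rfl⟩
  rw [← hRdef] at hcomm ⊢
  have hRn : R.Normal := by rw [hRdef]; exact Cfsg.Agent.Lib.Lead.fittingSubgroup_normal
  have hRP : R ≤ (P : Subgroup G) := by rw [hRdef]; exact fitting_le_sylow P hcore
  let Rp : Subgroup G :=
    { carrier := {z | ∃ r ∈ R, r ^ p = z}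
      one_mem' := ⟨1, R.one_mem, one_pow _⟩
      mul_mem' := by
        rintro _ _ ⟨r, hr, rfl⟩ ⟨s, hs, rfl⟩
        exact ⟨r * s, R.mul_mem hr hs, (Commute.mul_pow (hcomm r hr s hs) p)⟩
      inv_mem' := by
        rintro _ ⟨r, hr, rfl⟩
        exact ⟨r⁻¹, R.inv_mem hr, inv_pow r p⟩ }
  have hRpn : Rp.Normal := by
    constructor
    rintro _ ⟨r, hr, rfl⟩ g
    refine ⟨g * r * g⁻¹, hRn.conj_mem r hr g, ?_⟩
    rw [conj_pow]
  have h1 : Rp ≤ PhiOf P := by
    rintro _ ⟨r, hr, rfl⟩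
    have h2 := Cfsg.Agent.Lib.Lead.pow_mem_frattini_of_isPGroup (p := p) P.2
      (⟨r, hRP hr⟩ : ↥(P : Subgroup G))
    exact ⟨_, h2, rfl⟩
  have h2 : Rp ≤ (PhiOf P).normalCore := Subgroup.normal_le_normalCore.2 h1
  rw [hfrat, le_bot_iff] at h2
  intro r hr
  have h3 : r ^ p ∈ Rp := ⟨r, hr, rfl⟩
  rw [h2, Subgroup.mem_bot] at h3
  exact h3

theorem fitting_eq (h : Mono P N) (hc : ∀ a ∈ N, ∀ b ∈ N, a * b = b * a) :
    Cfsg.fittingSubgroup G = N := by
  by_contra hne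
  haveI := h.hNn
  have hcomm := fitting_comm P h.hcore h.hfrat
  have hpow := fitting_pow P h.hcore h.hfrat
  have hNR := h.le_fitting hc
  obtain ⟨R, hRdef⟩ : ∃ R : Subgroup G, R = Cfsg.fittingSubgroup G := ⟨_, rfl⟩
  rw [← hRdef] at hcomm hpow hNR hne
  have hRn : R.Normal := by rw [hRdef]; exact Cfsg.Agent.Lib.Lead.fittingSubgroup_normal
  have hRP : R ≤ (P : Subgroup G) := by rw [hRdef]; exact fitting_le_sylow P h.hcore
  have hNP : N ≤ (P : Subgroup G) := hNR.trans hRP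
  obtain ⟨y, hyP, hy⟩ := h.exists_gen'
  obtain ⟨Y, hYdef⟩ : ∃ Y : Subgroup G, Y = R ⊓ Subgroup.zpowers y := ⟨_, rfl⟩
  have hYR : Y ≤ R := by rw [hYdef]; exact inf_le_left
  have hsup : ∀ r ∈ R, ∃ a ∈ N, ∃ b ∈ Y, r = a * b := by
    intro r hr
    obtain ⟨a, ha, k, hk⟩ := hy r (hRP hr)
    refine ⟨a, ha.1, y ^ k, ?_, hk⟩
    rw [hYdef]
    refine ⟨?_, Subgroup.zpow_mem_zpowers y k⟩
    have e : y ^ k = a⁻¹ * r := by rw [hk]; group
    rw [e]
    exact R.mul_mem (R.inv_mem (hNR ha.1)) hr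
  have hY : ∀ x ∈ (P : Subgroup G), ∀ b ∈ Y, x * b * x⁻¹ ∈ Y := by
    intro x hx b hb
    have hb' := hb
    rw [hYdef] at hb'
    obtain ⟨hbR, l, hl⟩ := hb'
    obtain ⟨a, ha, k, hk⟩ := hy x hx
    have c1 : a * b = b * a := hcomm a (hNR ha.1) b hbR
    have c2 : y ^ k * b = b * y ^ k := by
      rw [← hl]
      show y ^ k * y ^ l = y ^ l * y ^ k
      rw [← zpow_add, ← zpow_add, add_comm]
    have e : x * b * x⁻¹ = b := by
      rw [hk]
      calc a * y ^ k * b * (a * y ^ k)⁻¹ = a * (y ^ k * b) * (y ^ k)⁻¹ * a⁻¹ := by group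
        _ = a * (b * y ^ k) * (y ^ k)⁻¹ * a⁻¹ := by rw [c2]
        _ = (a * b) * a⁻¹ := by group
        _ = b := by rw [c1]; group
    rw [e]
    exact hb
  have hYcard : Nat.card ↥Y ∣ p := by
    haveI : IsCyclic ↥Y := by
      have hle : Y ≤ Subgroup.zpowers y := by rw [hYdef]; exact inf_le_right
      exact Subgroup.isCyclic_of_le hle
    rw [← IsCyclic.exponent_eq_card]
    apply Monoid.exponent_dvd_of_forall_pow_eq_one
    intro b
    apply Subtype.ext
    rw [Subgroup.coe_pow, Subgroup.coe_one]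
    exact hpow _ (hYR b.2)
  have hdisj : N ⊓ Y = ⊥ := by
    by_contra hd
    have h1 : Nat.card ↥(N ⊓ Y : Subgroup G) ∣ Nat.card ↥Y :=
      Subgroup.card_dvd_of_le inf_le_right
    have h2 : Nat.card ↥(N ⊓ Y : Subgroup G) ≠ 1 := by
      intro h3
      exact hd (Subgroup.card_eq_one.1 h3)
    have h3 : Nat.card ↥(N ⊓ Y : Subgroup G) = p :=
      ((Nat.dvd_prime hp.out).1 (h1.trans hYcard)).resolve_left h2
    have h4 : Nat.card ↥Y = p := by
      rcases (Nat.dvd_prime hp.out).1 hYcard with h5 | h5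
      · exfalso
        rw [h5] at h1
        exact h2 (Nat.dvd_one.1 h1)
      · exact h5
    have h5 : N ⊓ Y = Y := Subgroup.eq_of_le_of_card_ge inf_le_right (by rw [h3, h4])
    have h6 : Y ≤ N := inf_eq_right.1 h5
    apply hne
    apply le_antisymm _ hNR
    intro r hr
    obtain ⟨a, ha, b, hb, rfl⟩ := hsup r hr
    exact N.mul_mem ha (h6 hb)
  let D : RMData G :=
    { P := P, R := R, N := N, Y := Y, hR := hRn, hN := h.hNn, hcomm := hcomm, hNR := hNR,
      hYR := hYR, hY := hY, hdisj := hdisj, hsup := hsup }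
  have hNp : IsPGroup p ↥N := P.2.to_le hNP
  have hidx : (P : Subgroup G).index.Coprime p :=
    ((Nat.Prime.coprime_iff_not_dvd hp.out).2 P.not_dvd_index).symm
  obtain ⟨C, hCn, hCR, hNC, hC⟩ := D.exists_normal_compl hNp hidx
  have hC1 : C ≠ ⊥ := hC (fun e => hne e.symm)
  have h1 : N ≤ C := h.hmin C hCn hC1
  apply h.hN1
  have h2 : N ⊓ C = N := inf_eq_left.2 h1
  rw [← h2]
  exact hNC

theorem gfs_eq_of_comm (h : Mono P N) (hc : ∀ a ∈ N, ∀ b ∈ N, a * b = b * a) :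
    Cfsg.generalizedFittingSubgroup G = N := by
  unfold Cfsg.generalizedFittingSubgroup
  rw [h.layer_eq_bot hc, h.fitting_eq hc, bot_sup_eq]

theorem isCyclic_map (h : Mono P N) (M : Subgroup G) [M.Normal] (hNM : N ≤ M) :
    IsCyclic ↥((P : Subgroup G).map (QuotientGroup.mk' M)) := by
  obtain ⟨y, hyP, hy⟩ := h.exists_gen'
  refine ⟨⟨⟨QuotientGroup.mk' M y, Subgroup.mem_map_of_mem _ hyP⟩, ?_⟩⟩
  rintro ⟨w, u, hu, rfl⟩
  obtain ⟨a, ha, k, hk⟩ := hy u hu
  refine ⟨k, ?_⟩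
  apply Subtype.ext
  simp only [Subgroup.coe_zpow]
  rw [hk, map_mul, map_zpow]
  have e : QuotientGroup.mk' M a = 1 := (QuotientGroup.eq_one_iff a).2 (hNM ha.1)
  rw [e, one_mul]

end Mono

end Cfsg.Agent.Lib.Helper8.TG
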