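import Mathlib
import Cfsg.Agent.Lib.Helper8.TG3
import Cfsg.Agent.Lib.Helper9.ExtraTransport

set_option autoImplicit false
set_option linter.unusedSectionVars false
set_option linter.style.haveILetI false

namespace Cfsg.Agent.Lib.Helper8.TG

open scoped commutatorElement
open Cfsg.Agent.Lib.Helper3

/-- A homomorphism from a perfect group to a solvable group is trivial. -/
theorem hom_eq_one_of_perfect {A B : Type*} [Group A] [Group B] (hA : commutator A = ⊤)
    [hB : Group.IsSolvable B] (φ : A →* B) (a : A) : φ a = 1 := by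
  obtain ⟨n, hn⟩ := hB.solvable
  have key : ∀ n, φ.range ≤ derivedSeries B n := by
    intro n
    induction n with
    | zero => exact le_top
    | succ n ih =>
      rw [derivedSeries_succ]
      have h1 : φ.range = ⁅φ.range, φ.range⁆ := by
        conv_lhs =>
          rw [MonoidHom.range_eq_map, ← hA, commutator_def, Subgroup.map_commutator,
            ← MonoidHom.range_eq_map]
      rw [h1]
      exact Subgroup.commutator_mono ih ih
  have h2 := key n ⟨a, rfl⟩
  rw [hn, Subgroup.mem_bot] at h2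
  exact h2

variable {p : ℕ} [hp : Fact p.Prime]

/-- The normal `p`-complement has order prime to `p` and `p`-power index. -/
theorem exists_normal_coprime_of_npc {X : Type*} [Group X] [Finite X]
    (h : Cfsg.HasNormalPComplement p X) :
    ∃ T : Subgroup X, T.Normal ∧ (Nat.card ↥T).Coprime p ∧ ∃ v : ℕ, Nat.card (X ⧸ T) = p ^ v := by
  obtain ⟨Q, M, hMn, hc⟩ := h
  have hcard := hc.card_mul_card
  have hQ := Q.card_eq_multiplicity
  have hN0 : Nat.card X ≠ 0 := Nat.card_pos.ne'
  refine ⟨M, hMn, ?_, (Nat.card X).factorization p, ?_⟩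
  · have h1 : Nat.card ↥M = Nat.card X / p ^ (Nat.card X).factorization p := by
      rw [hQ] at hcard
      exact (Nat.div_eq_of_eq_mul_left (pow_pos hp.out.pos _) hcard.symm).symm
    rw [h1]
    exact (Nat.coprime_ordCompl hp.out hN0).symm
  · have h4 := Subgroup.card_eq_card_quotient_mul_card_subgroup M
    have h5 : Nat.card (X ⧸ M) * Nat.card ↥M = p ^ (Nat.card X).factorization p * Nat.card ↥M := by
      rw [← h4, ← hQ, mul_comm, hcard]
    exact Nat.eq_of_mul_eq_mul_right Nat.card_pos h5

variable {G : Type*} [Group G] [Finite G]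

/-- Tate's theorem in a normalizer: a subgroup normalized by the Sylow subgroup and meeting it
inside the Frattini subgroup contains no component. -/
theorem relative_tate_false (P : Sylow p G) (hcore : Cfsg.pPrimeCore p G = ⊥) (M : Subgroup G)
    (hPM : (P : Subgroup G) ≤ Subgroup.normalizer (M : Set G))
    (hMP : M ⊓ (P : Subgroup G) ≤ PhiOf P)
    (K : Subgroup G) (hK : Cfsg.IsComponent K) (hKM : K ≤ M) : False := by
  obtain ⟨H, hHdef⟩ : ∃ H : Subgroup G, H = Subgroup.normalizer (M : Set G) := ⟨_, rfl⟩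
  rw [← hHdef] at hPM
  have hMH : M ≤ H := by rw [hHdef]; exact Subgroup.le_normalizer
  haveI hMn : (M.subgroupOf H).Normal := by rw [hHdef]; exact Subgroup.normal_in_normalizer
  let P' : Sylow p ↥H := P.subtype hPM
  have hT : Cfsg.HasNormalPComplement p ↥(M.subgroupOf H) := by
    apply Cfsg.Agent.S0081.result P' (M.subgroupOf H)
    intro z hz
    obtain ⟨hz1, hz2⟩ := hz
    have hzM : (z : G) ∈ M := hz1
    have hzP : (z : G) ∈ (P : Subgroup G) := hz2
    obtain ⟨w, hw, hwz⟩ := hMP ⟨hzM, hzP⟩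
    let e : ↥((P : Subgroup G).subgroupOf H) ≃* ↥(P : Subgroup G) :=
      Subgroup.subgroupOfEquivOfLe hPM
    have hfr := Cfsg.Agent.Lib.Helper9.frattini_map_mulEquiv e
    rw [← hfr] at hw
    obtain ⟨w', hw', hww⟩ := hw
    refine ⟨w', hw', ?_⟩
    apply Subtype.ext
    have h1 : ((e w' : ↥(P : Subgroup G)) : G) = ((w' : ↥H) : G) := rfl
    have h2 : ((w : ↥(P : Subgroup G)) : G) = (z : G) := hwz
    have h3 : e w' = w := hww
    rw [← h2, ← h3, h1]
    rfl
  obtain ⟨T, hTn, hTc, v, hTv⟩ := exists_normal_coprime_of_npc hT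
  -- the inclusion of `K`
  let ι : ↥K →* ↥(M.subgroupOf H) :=
    { toFun := fun k => ⟨⟨(k : G), hMH (hKM k.2)⟩, hKM k.2⟩
      map_one' := rfl
      map_mul' := fun _ _ => rfl }
  have hι : Function.Injective ι := by
    intro a b hab
    apply Subtype.ext
    have := congrArg (fun w : ↥(M.subgroupOf H) => ((w : ↥H) : G)) hab
    exact this
  haveI hsol : Group.IsSolvable (↥(M.subgroupOf H) ⧸ T) := by
    have hpg : IsPGroup p (↥(M.subgroupOf H) ⧸ T) := IsPGroup.of_card hTv
    haveI := hpg.isNilpotent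
    infer_instance
  have hperf : commutator ↥K = ⊤ := IsQuasisimple.commutator_eq_top hK.2
  have hιT : ∀ k : ↥K, ι k ∈ T := by
    intro k
    have := hom_eq_one_of_perfect hperf ((QuotientGroup.mk' T).comp ι) k
    rw [MonoidHom.comp_apply, QuotientGroup.mk'_apply, QuotientGroup.eq_one_iff] at this
    exact this
  let f : ↥K →* ↥T := ι.codRestrict T hιT
  have hf : Function.Injective f := by
    intro a b hab
    apply hι
    have := congrArg (fun w : ↥T => (w : ↥(M.subgroupOf H))) hab
    exact this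
  have h1 : Nat.card ↥K ∣ Nat.card ↥T := Subgroup.card_dvd_of_injective f hf
  have h2 : p ∣ Nat.card ↥K := IsComponent.dvd_card hcore hK
  have h3 : p ∣ Nat.card ↥T := h2.trans h1
  have h4 := Nat.Coprime.eq_one_of_dvd hTc.symm h3
  exact hp.out.one_lt.ne' h4

theorem map_conj_map_conj (a b : G) (U : Subgroup G) :
    (U.map (MulAut.conj b).toMonoidHom).map (MulAut.conj a).toMonoidHom
      = U.map (MulAut.conj (a * b)).toMonoidHom := by
  rw [Subgroup.map_map]
  congr 1
  ext z
  simp [mul_assoc]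

theorem map_conj_one (U : Subgroup G) : U.map (MulAut.conj (1 : G)).toMonoidHom = U := by
  ext z
  simp

/-- The join of the conjugates of `K` under `P`. -/
def orb (P : Sylow p G) (K : Subgroup G) : Subgroup G :=
  ⨆ x : ↥(P : Subgroup G), K.map (MulAut.conj (x : G)).toMonoidHom

theorem map_le_orb (P : Sylow p G) (K : Subgroup G) (x : G) (hx : x ∈ (P : Subgroup G)) :
    K.map (MulAut.conj x).toMonoidHom ≤ orb P K :=
  le_iSup (fun x : ↥(P : Subgroup G) => K.map (MulAut.conj (x : G)).toMonoidHom) ⟨x, hx⟩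

theorem le_orb (P : Sylow p G) (K : Subgroup G) : K ≤ orb P K := by
  have := map_le_orb P K 1 (P : Subgroup G).one_mem
  rwa [map_conj_one] at this

theorem orb_le (P : Sylow p G) (K : Subgroup G) (S : Subgroup G)
    (h : ∀ x ∈ (P : Subgroup G), K.map (MulAut.conj x).toMonoidHom ≤ S) : orb P K ≤ S :=
  iSup_le fun x => h x x.2

theorem map_orb_le (P : Sylow p G) (K : Subgroup G) (z : G) (hz : z ∈ (P : Subgroup G)) :
    (orb P K).map (MulAut.conj z).toMonoidHom ≤ orb P K := by
  unfold orb
  rw [Subgroup.map_iSup]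
  apply iSup_le
  intro x
  rw [map_conj_map_conj]
  exact map_le_orb P K (z * x) ((P : Subgroup G).mul_mem hz x.2)

theorem le_normalizer_orb (P : Sylow p G) (K : Subgroup G) :
    (P : Subgroup G) ≤ Subgroup.normalizer ((orb P K : Subgroup G) : Set G) := by
  intro z hz
  rw [Subgroup.mem_normalizer_iff]
  intro w
  constructor
  · intro hw
    apply map_orb_le P K z hz
    exact ⟨w, hw, rfl⟩
  · intro hw
    have h1 := map_orb_le P K z⁻¹ ((P : Subgroup G).inv_mem hz)
    have h2 : (MulAut.conj z⁻¹).toMonoidHom (z * w * z⁻¹) ∈ orb P K := h1 ⟨_, hw, rfl⟩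
    have h3 : (MulAut.conj z⁻¹).toMonoidHom (z * w * z⁻¹) = w := by
      simp [mul_assoc]
    rw [h3] at h2
    exact h2

theorem le_normalizer_inf' (P : Sylow p G) (M : Subgroup G)
    (hPM : (P : Subgroup G) ≤ Subgroup.normalizer (M : Set G)) :
    (P : Subgroup G) ≤ Subgroup.normalizer ((M ⊓ (P : Subgroup G) : Subgroup G) : Set G) := by
  intro x hx
  have hxM := hPM hx
  rw [Subgroup.mem_normalizer_iff] at hxM ⊢
  intro z
  constructor
  · rintro ⟨hz1, hz2⟩
    exact ⟨(hxM z).1 hz1, (P : Subgroup G).mul_mem ((P : Subgroup G).mul_mem hx hz2)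
      ((P : Subgroup G).inv_mem hx)⟩
  · rintro ⟨hz1, hz2⟩
    constructor
    · exact (hxM z).2 hz1
    · have h9 := (P : Subgroup G).mul_mem ((P : Subgroup G).mul_mem ((P : Subgroup G).inv_mem hx) hz2) hx
      have h10 : x⁻¹ * (x * z * x⁻¹) * x = z := by group
      rw [h10] at h9
      exact h9

theorem Mono.transitive {P : Sylow p G} {N : Subgroup G} (h : Mono P N)
    (hnc : ¬ ∀ a ∈ N, ∀ b ∈ N, a * b = b * a) (K L : Subgroup G)
    (hK : Cfsg.IsComponent K) (hL : Cfsg.IsComponent L) :
    ∃ x ∈ (P : Subgroup G), L = K.map (MulAut.conj x).toMonoidHom := by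
  by_contra hcon
  push Not at hcon
  -- conjugates of `K` and `L` are distinct
  have hne : ∀ x ∈ (P : Subgroup G), ∀ x' ∈ (P : Subgroup G),
      K.map (MulAut.conj x).toMonoidHom ≠ L.map (MulAut.conj x').toMonoidHom := by
    intro x hx x' hx' heq
    apply hcon (x'⁻¹ * x) ((P : Subgroup G).mul_mem ((P : Subgroup G).inv_mem hx') hx)
    rw [← map_conj_map_conj, heq, map_conj_map_conj, inv_mul_cancel, map_conj_one]
  have hcomm : ∀ x ∈ (P : Subgroup G), ∀ x' ∈ (P : Subgroup G),
      K.map (MulAut.conj x).toMonoidHom ≤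
        Subgroup.centralizer ((L.map (MulAut.conj x').toMonoidHom : Subgroup G) : Set G) := by
    intro x hx x' hx'
    rw [← Subgroup.commutator_eq_bot_iff_le_centralizer]
    exact IsComponent.commutator_eq_bot_of_ne (IsComponent.map_conj hK x) (IsComponent.map_conj hL x') (hne x hx x' hx')
  obtain ⟨M₁, hM₁⟩ : ∃ M₁ : Subgroup G, M₁ = orb P K := ⟨_, rfl⟩
  obtain ⟨M₂, hM₂⟩ : ∃ M₂ : Subgroup G, M₂ = orb P L := ⟨_, rfl⟩
  have h12 : M₁ ≤ Subgroup.centralizer (M₂ : Set G) := by
    rw [hM₁]
    apply orb_le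
    intro x hx
    rw [Subgroup.le_centralizer_iff, hM₂]
    apply orb_le
    intro x' hx'
    rw [Subgroup.le_centralizer_iff]
    exact hcomm x hx x' hx'
  -- the intersection is trivial
  have hfit := h.fitting_eq_bot hnc
  obtain ⟨E, hEdef⟩ : ∃ E : Subgroup G, E = Cfsg.layer G := ⟨_, rfl⟩
  have hEn : E.Normal := by rw [hEdef]; infer_instance
  have hM₁E : M₁ ≤ E := by
    rw [hM₁]
    apply orb_le
    intro x _
    rw [hEdef]
    exact IsComponent.le_layer (IsComponent.map_conj hK x)
  have hT : M₁ ⊓ M₂ = ⊥ := by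
    have hTE : E ≤ Subgroup.centralizer ((M₁ ⊓ M₂ : Subgroup G) : Set G) := by
      rw [hEdef, layer_le_iff]
      intro J hJ
      by_cases hJK : ∃ x ∈ (P : Subgroup G), J = K.map (MulAut.conj x).toMonoidHom
      · obtain ⟨x, hx, rfl⟩ := hJK
        have h1 : K.map (MulAut.conj x).toMonoidHom ≤ M₁ := by
          rw [hM₁]; exact map_le_orb P K x hx
        exact (h1.trans h12).trans (Subgroup.centralizer_le (fun z hz => hz.2))
      · push Not at hJK
        have h1 : M₁ ≤ Subgroup.centralizer (J : Set G) := by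
          rw [hM₁]
          apply orb_le
          intro x hx
          rw [← Subgroup.commutator_eq_bot_iff_le_centralizer]
          exact IsComponent.commutator_eq_bot_of_ne (IsComponent.map_conj hK x) hJ (fun e => hJK x hx e.symm)
        rw [Subgroup.le_centralizer_iff] at h1
        exact h1.trans (Subgroup.centralizer_le (fun z hz => hz.1))
    obtain ⟨Z, hZdef⟩ : ∃ Z : Subgroup G, Z = E ⊓ Subgroup.centralizer (E : Set G) := ⟨_, rfl⟩
    have hZn : Z.Normal := by rw [hZdef]; infer_instance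
    have hTZ : M₁ ⊓ M₂ ≤ Z := by
      rw [hZdef]
      exact le_inf (inf_le_left.trans hM₁E) (Subgroup.le_centralizer_iff.1 hTE)
    have hZnil : Group.IsNilpotent ↥Z := by
      apply isNilpotent_of_le_centralizer
      rw [hZdef]
      exact inf_le_right.trans (Subgroup.centralizer_le (fun z hz => hz.1))
    have hZF := Cfsg.Agent.Lib.Lead.le_fittingSubgroup hZn hZnil
    rw [hfit, le_bot_iff] at hZF
    rw [hZF, le_bot_iff] at hTZ
    exact hTZ
  have hn₁ : (P : Subgroup G) ≤ Subgroup.normalizer (M₁ : Set G) := by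
    rw [hM₁]; exact le_normalizer_orb P K
  have hn₂ : (P : Subgroup G) ≤ Subgroup.normalizer (M₂ : Set G) := by
    rw [hM₂]; exact le_normalizer_orb P L
  have hKM : K ≤ M₁ := by rw [hM₁]; exact le_orb P K
  have hLM : L ≤ M₂ := by rw [hM₂]; exact le_orb P L
  by_cases hA : M₁ ⊓ (P : Subgroup G) ≤ PhiOf P
  · exact relative_tate_false P h.hcore M₁ hn₁ hA K hK hKM
  · by_cases hB : M₂ ⊓ (P : Subgroup G) ≤ PhiOf P
    · exact relative_tate_false P h.hcore M₂ hn₂ hB L hL hLM
    · apply h.hna
      refine comm_of_two P h.hgen (M₁ ⊓ (P : Subgroup G)) (M₂ ⊓ (P : Subgroup G)) inf_le_right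
        inf_le_right (le_normalizer_inf' P M₁ hn₁) (le_normalizer_inf' P M₂ hn₂) ?_ hA hB
      rw [eq_bot_iff, ← hT]
      exact le_inf (inf_le_left.trans inf_le_left) (inf_le_right.trans inf_le_left)

end Cfsg.Agent.Lib.Helper8.TG
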