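import Mathlib
import Cfsg.Prelude.Def_Local
import Cfsg.Agent.Lib.Helper7.GYen4
import Cfsg.Agent.Lib.Lead.HHDual
import Cfsg.Agent.Lib.Lead.SolvPSolv
import Cfsg.Agent.Lib.Helper8.KZ7
import Cfsg.Agent.Lib.Helper7.PSolvable

set_option autoImplicit false
set_option linter.unusedVariables false
set_option linter.unusedSectionVars false

/-! # S3797, package TOP: `O_2(X)` is a Sylow 2-subgroup of the reduced group (assembly of GY, TE, CORE) -/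

namespace Cfsg.Agent.Lib.Helper8.TITOP

open Cfsg Cfsg.Agent.Lib.Lead

universe u

variable {X : Type u} [Group X] [Finite X]

/-- conjugacy of all involutions gives transitivity of `Aut X` on the subgroups of order `2` -/
theorem autTrans_of_conj
    (hconj : ∀ x y : X, x ≠ 1 → x ^ 2 = 1 → y ≠ 1 → y ^ 2 = 1 → IsConj x y) :
    Cfsg.Agent.Lib.Helper7.GYen.AutTrans 2 X := by
  intro U V hU hV
  have hex : ∀ W : Subgroup X, Nat.card W = 2 →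
      ∃ w : X, w ≠ 1 ∧ w ^ 2 = 1 ∧ Subgroup.zpowers w = W := by
    intro W hW
    have : Nontrivial ↥W := by
      rw [← Finite.one_lt_card_iff_nontrivial, hW]; norm_num
    obtain ⟨w, hw⟩ := exists_ne (1 : ↥W)
    have hw2 : w ^ 2 = 1 := by
      have := pow_card_eq_one' (G := ↥W) (x := w)
      rwa [hW] at this
    have hwo : orderOf (w : X) = 2 := by
      rw [Subgroup.orderOf_coe]; exact orderOf_eq_prime hw2 hw
    refine ⟨(w : X), ?_, ?_, ?_⟩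
    · intro h; apply hw; exact Subtype.ext h
    · have := congrArg Subtype.val hw2; simpa using this
    · apply Subgroup.eq_of_le_of_card_ge
      · rw [Subgroup.zpowers_le]; exact w.2
      · rw [hW, Nat.card_zpowers, hwo]
  obtain ⟨u, hu1, hu2, hUz⟩ := hex U hU
  obtain ⟨v, hv1, hv2, hVz⟩ := hex V hV
  obtain ⟨g, hg⟩ := isConj_iff.mp (hconj u v hu1 hu2 hv1 hv2)
  refine ⟨MulAut.conj g, ?_⟩
  rw [← hUz, ← hVz, MonoidHom.map_zpowers]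
  congr 1

/-- the subgroup of all elements of square `1`, when they commute pairwise -/
def invSub (hc : ∀ a b : X, a ^ 2 = 1 → b ^ 2 = 1 → a * b = b * a) : Subgroup X where
  carrier := {g | g ^ 2 = 1}
  one_mem' := by simp
  mul_mem' := by
    intro a b ha hb
    have hab : Commute a b := hc a b ha hb
    show (a * b) ^ 2 = 1
    rw [hab.mul_pow, show a ^ 2 = 1 from ha, show b ^ 2 = 1 from hb, one_mul]
  inv_mem' := by
    intro a ha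
    show a⁻¹ ^ 2 = 1
    rw [inv_pow, show a ^ 2 = 1 from ha, inv_one]

theorem mem_invSub (hc : ∀ a b : X, a ^ 2 = 1 → b ^ 2 = 1 → a * b = b * a) (g : X) :
    g ∈ invSub hc ↔ g ^ 2 = 1 := Iff.rfl

/-- one-sided normalisation suffices in a finite group -/
theorem mem_normalizer_of_conj_mem (K : Subgroup X) (n : X) (h : ∀ k ∈ K, n * k * n⁻¹ ∈ K) :
    n ∈ Subgroup.normalizer (K : Set X) := by
  rw [Subgroup.mem_normalizer_iff_map_conj_eq]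
  apply Subgroup.eq_of_le_of_card_ge
  · rintro _ ⟨k, hk, rfl⟩
    simpa [MulAut.conj_apply] using h k hk
  · rw [Nat.card_congr (Subgroup.equivMapOfInjective K _ (MulAut.conj n).injective).symm.toEquiv]


/-- conjugation by an element normalising `M`, as an automorphism of `M` -/
def conjOn (M : Subgroup X) (n : X) (h1 : ∀ m ∈ M, n * m * n⁻¹ ∈ M)
    (h2 : ∀ m ∈ M, n⁻¹ * m * n ∈ M) : MulAut ↥M where
  toFun := fun y => ⟨n * (y : X) * n⁻¹, h1 y y.2⟩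
  invFun := fun y => ⟨n⁻¹ * (y : X) * n, h2 y y.2⟩
  left_inv := fun y => by ext; simp [mul_assoc]
  right_inv := fun y => by ext; simp [mul_assoc]
  map_mul' := fun y z => by ext; simp [mul_assoc]

/-- Frattini argument inside `M`: an element normalising `M` can be corrected by an element of `M`
so as to normalise a given Sylow 2-subgroup of `M` -/
theorem frattini_in (M : Subgroup X) (P : Sylow 2 ↥M) (n : X)
    (h1 : ∀ m ∈ M, n * m * n⁻¹ ∈ M) (h2 : ∀ m ∈ M, n⁻¹ * m * n ∈ M) :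
    ∃ m ∈ M, ∀ t : ↥M, t ∈ P →
      ∃ t' : ↥M, t' ∈ P ∧ (t' : X) = (m * n) * (t : X) * (m * n)⁻¹ := by
  obtain ⟨m, hm⟩ := MulAction.exists_smul_eq ↥M (conjOn M n h1 h2 • P) P
  refine ⟨(m : X), m.2, fun t ht => ?_⟩
  have h3 : conjOn M n h1 h2 t ∈ ((conjOn M n h1 h2 • P : Sylow 2 ↥M) : Subgroup ↥M) := by
    rw [Sylow.pointwise_smul_def]
    exact Subgroup.smul_mem_pointwise_smul t (conjOn M n h1 h2) _ ht
  have h4 : MulAut.conj m (conjOn M n h1 h2 t) ∈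
      ((m • (conjOn M n h1 h2 • P : Sylow 2 ↥M) : Sylow 2 ↥M) : Subgroup ↥M) := by
    rw [Sylow.smul_def, Sylow.pointwise_smul_def]
    exact Subgroup.smul_mem_pointwise_smul _ (MulAut.conj m) _ h3
  rw [hm] at h4
  refine ⟨_, h4, ?_⟩
  simp [conjOn, MulAut.conj_apply, mul_assoc]


open Cfsg.Agent.Lib.Helper7.GYen in
/-- **TOP**, modulo the packages GY, TE and CORE (given as hypotheses for this `X`) -/
theorem index_pCore_odd_of
    (hGY : IsPSolvable 2 X → pPrimeCore 2 X = ⊥ →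
      (∀ x y : X, x ≠ 1 → x ^ 2 = 1 → y ≠ 1 → y ^ 2 = 1 → IsConj x y) →
      ¬ ((pCore 2 X).index).Coprime 2 →
      ∀ x : X, x ^ 2 = 1 → ∀ k ∈ Cfsg.Agent.Lib.Helper7.GYen.Kgrp 2 X, Commute x k)
    (hTE : IsPSolvable 2 X → pPrimeCore 2 X = ⊥ →
      (∀ x y : X, x ≠ 1 → x ^ 2 = 1 → y ≠ 1 → y ^ 2 = 1 → IsConj x y) →
      (∃ x y : X, x ≠ y ∧ x ≠ 1 ∧ x ^ 2 = 1 ∧ y ≠ 1 ∧ y ^ 2 = 1) →
      ¬ ((pCore 2 X).index).Coprime 2 →
      (∀ x : X, x ^ 2 = 1 → ∀ k ∈ Cfsg.Agent.Lib.Helper7.GYen.Kgrp 2 X, Commute x k) →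
      ∃ c : X, c ∉ pCore 2 X ∧ (∃ a : ℕ, orderOf c = 2 ^ a) ∧ ∀ x : X, x ^ 2 = 1 → Commute c x)
    (hCORE : ∀ (V Q N K₀ T : Subgroup X),
      (∀ g : X, g ^ 2 = 1 → g ∈ V) → (∀ v ∈ V, v ^ 2 = 1) → V ≤ Q →
      IsPGroup 2 Q → (∀ n ∈ N, ∀ g ∈ Q, n * g * n⁻¹ ∈ Q) →
      (∃ v ∈ V, ∃ w ∈ V, v ≠ 1 ∧ w ≠ 1 ∧ v ≠ w) →
      K₀ ≤ N → (∀ n ∈ N, ∀ k ∈ K₀, n * k * n⁻¹ ∈ K₀) →
      Odd (Nat.card K₀) → (∀ k ∈ K₀, ∀ v ∈ V, k * v = v * k) →
      T ≤ N → IsPGroup 2 T → (∀ t ∈ T, ∀ v ∈ V, t * v = v * t) →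
      (∀ v ∈ V, ∀ w ∈ V, v ≠ 1 → w ≠ 1 →
        ∃ n ∈ N, (∀ t ∈ T, n * t * n⁻¹ ∈ T) ∧ n * v * n⁻¹ = w) →
      (∃ l ∈ K₀ ⊓ Subgroup.closure {g : X | ∃ n ∈ N, ∃ t ∈ T, g = n * t * n⁻¹},
        ∃ g ∈ Q, l * g ≠ g * l) → False)
    (hX : IsPSolvable 2 X) (hO : pPrimeCore 2 X = ⊥)
    (hconj : ∀ x y : X, x ≠ 1 → x ^ 2 = 1 → y ≠ 1 → y ^ 2 = 1 → IsConj x y)
    (htwo : ∃ x y : X, x ≠ y ∧ x ≠ 1 ∧ x ^ 2 = 1 ∧ y ≠ 1 ∧ y ^ 2 = 1) :
    ((pCore 2 X).index).Coprime 2 := by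
  classical
  by_contra hnot
  have hK := hGY hX hO hconj hnot
  obtain ⟨c, hcQ, ⟨a, hca⟩, hcV⟩ := hTE hX hO hconj htwo hnot hK
  haveI hPn := pCore_normal (G := X) 2
  have hPp : IsPGroup 2 ↥(pCore 2 X) := pCore_isPGroup 2
  have hCP : Subgroup.centralizer ((pCore 2 X : Subgroup X) : Set X) ≤ pCore 2 X :=
    Cfsg.Agent.Lib.Helper4.centralizer_pCore_le_of_isPSolvable hX hO
  obtain ⟨x₀, y₀, hxy, hx1, hx2, hy1, hy2⟩ := htwo
  have hPne : pCore 2 X ≠ ⊥ := by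
    intro h
    have h1 : Subgroup.centralizer ((pCore 2 X : Subgroup X) : Set X) = ⊤ := by
      rw [h]; simp
    rw [h1, h] at hCP
    exact hx1 (Subgroup.mem_bot.mp (hCP (Subgroup.mem_top x₀)))
  have htr := autTrans_of_conj hconj
  have hcen : ∀ g : X, g ^ 2 = 1 → g ∈ pCore 2 X ∧ ∀ y ∈ pCore 2 X, g * y = y * g := by
    intro g hg
    by_cases hg1 : g = 1
    · subst hg1; exact ⟨Subgroup.one_mem _, fun y _ => by simp⟩
    · exact order_p_central htr hPne (orderOf_eq_prime hg hg1)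
  have hc : ∀ a b : X, a ^ 2 = 1 → b ^ 2 = 1 → a * b = b * a :=
    fun a b ha hb => (hcen a ha).2 b (hcen b hb).1
  obtain ⟨V, hVdef⟩ : ∃ V : Subgroup X, V = invSub hc := ⟨_, rfl⟩
  have hVmem : ∀ g : X, g ∈ V ↔ g ^ 2 = 1 := by intro g; rw [hVdef]; exact Iff.rfl
  obtain ⟨Q, hQdef⟩ : ∃ Q : Subgroup X, Q = pCore 2 X := ⟨_, rfl⟩
  rw [← hQdef] at hcQ hPp hCP hPne hcen
  haveI hQn : Q.Normal := by rw [hQdef]; exact hPn
  obtain ⟨K₀, hK₀K, hK₀cop, hPK₀, hKdec, hfrat⟩ := exists_compl (X := X) (p := 2)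
  rw [← hQdef] at hPK₀ hKdec hfrat
  obtain ⟨N, hNdef⟩ : ∃ N : Subgroup X, N = Subgroup.normalizer (K₀ : Set X) := ⟨_, rfl⟩
  have hVQ : V ≤ Q := fun g hg => (hcen g ((hVmem g).mp hg)).1
  have hVcen : ∀ u ∈ Q, ∀ v ∈ V, u * v = v * u :=
    fun u hu v hv => ((hcen v ((hVmem v).mp hv)).2 u hu).symm
  have hVnorm : ∀ g : X, ∀ v ∈ V, g * v * g⁻¹ ∈ V := by
    intro g v hv
    rw [hVmem] at hv ⊢
    rw [conj_pow, hv]; simp
  have hQN : ∀ g : X, ∃ u ∈ Q, u⁻¹ * g ∈ N := by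
    intro g
    obtain ⟨u, hu, hn⟩ := hfrat g
    exact ⟨u, hu, by rw [hNdef]; exact mem_normalizer_of_conj_mem K₀ _ hn⟩
  have hNtrans : ∀ v ∈ V, ∀ w ∈ V, v ≠ 1 → w ≠ 1 → ∃ n ∈ N, n * v * n⁻¹ = w := by
    intro v hv w hw hv1 hw1
    obtain ⟨g, hg⟩ := isConj_iff.mp (hconj v w hv1 ((hVmem v).mp hv) hw1 ((hVmem w).mp hw))
    obtain ⟨u, hu, hn⟩ := hQN g
    refine ⟨u⁻¹ * g, hn, ?_⟩
    have e : (u⁻¹ * g) * v * (u⁻¹ * g)⁻¹ = u⁻¹ * (g * v * g⁻¹) * u := by simp [mul_assoc]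
    rw [e, hg, hVcen u⁻¹ (Q.inv_mem hu) w hw]; simp
  obtain ⟨C, hCdef⟩ : ∃ C : Subgroup X, C = Subgroup.centralizer (V : Set X) := ⟨_, rfl⟩
  have hCmem : ∀ g : X, g ∈ C ↔ ∀ v ∈ V, v * g = g * v := by
    intro g; rw [hCdef, Subgroup.mem_centralizer_iff]; rfl
  obtain ⟨M, hMdef⟩ : ∃ M : Subgroup X, M = N ⊓ C := ⟨_, rfl⟩
  have hMN : M ≤ N := by rw [hMdef]; exact inf_le_left
  have hMC : M ≤ C := by rw [hMdef]; exact inf_le_right
  have hMnorm1 : ∀ n ∈ N, ∀ m ∈ M, n * m * n⁻¹ ∈ M := by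
    intro n hn m hm
    rw [hMdef]
    refine ⟨N.mul_mem (N.mul_mem hn (hMN hm)) (N.inv_mem hn), (hCmem _).mpr ?_⟩
    intro v hv
    have hv' : n⁻¹ * v * n ∈ V := by simpa using hVnorm n⁻¹ v hv
    have h1 := (hCmem m).mp (hMC hm) (n⁻¹ * v * n) hv'
    calc v * (n * m * n⁻¹) = n * ((n⁻¹ * v * n) * m) * n⁻¹ := by simp [mul_assoc]
      _ = n * (m * (n⁻¹ * v * n)) * n⁻¹ := by rw [h1]
      _ = n * m * n⁻¹ * v := by simp [mul_assoc]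
  have hMnorm2 : ∀ n ∈ N, ∀ m ∈ M, n⁻¹ * m * n ∈ M := by
    intro n hn m hm
    have := hMnorm1 n⁻¹ (N.inv_mem hn) m hm
    simpa using this
  -- the element `c' ∈ M ∖ Q`
  obtain ⟨u, hu, hc'N⟩ := hQN c
  obtain ⟨c', hc'⟩ : ∃ c' : X, c' = u⁻¹ * c := ⟨_, rfl⟩
  rw [← hc'] at hc'N
  have hc'C : c' ∈ C := by
    rw [hCmem]
    intro v hv
    have h1 : u⁻¹ * v = v * u⁻¹ := hVcen u⁻¹ (Q.inv_mem hu) v hv
    have h2 : c * v = v * c := (hcV v ((hVmem v).mp hv)).eq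
    rw [hc']
    calc v * (u⁻¹ * c) = (v * u⁻¹) * c := by rw [mul_assoc]
      _ = (u⁻¹ * v) * c := by rw [h1]
      _ = u⁻¹ * (v * c) := by rw [mul_assoc]
      _ = u⁻¹ * (c * v) := by rw [h2]
      _ = u⁻¹ * c * v := by rw [mul_assoc]
  have hc'M : c' ∈ M := by rw [hMdef]; exact ⟨hc'N, hc'C⟩
  have hmkc : QuotientGroup.mk' Q c' = QuotientGroup.mk' Q c := by
    have hu1 : QuotientGroup.mk' Q u = 1 := (QuotientGroup.eq_one_iff u).mpr hu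
    rw [hc', map_mul, map_inv, hu1, inv_one, one_mul]
  have hc'pow : (QuotientGroup.mk' Q c') ^ (2 ^ a) = 1 := by
    rw [hmkc, ← map_pow, ← hca, pow_orderOf_eq_one, map_one]
  have hc'Q : QuotientGroup.mk' Q c' ≠ 1 := by
    rw [hmkc]
    intro h
    exact hcQ ((QuotientGroup.eq_one_iff c).mp h)
  -- its 2-part
  obtain ⟨b, d, hd, hbd⟩ := Nat.exists_eq_two_pow_mul_odd (orderOf_pos c').ne'
  obtain ⟨t₀, ht₀⟩ : ∃ t₀ : X, t₀ = c' ^ d := ⟨_, rfl⟩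
  have ht₀M : t₀ ∈ M := by rw [ht₀]; exact M.pow_mem hc'M d
  have ht₀pow : t₀ ^ (2 ^ b) = 1 := by
    rw [ht₀, ← pow_mul, mul_comm, ← hbd, pow_orderOf_eq_one]
  have hcop : Nat.Coprime (2 ^ a) d := Nat.Coprime.pow_left a (Nat.coprime_two_left.mpr hd)
  have ht₀Q : QuotientGroup.mk' Q t₀ ≠ 1 := by
    intro h
    apply hc'Q
    have h2 : (QuotientGroup.mk' Q c') ^ d = 1 := by rw [← map_pow, ← ht₀]; exact h
    have h3 : orderOf (QuotientGroup.mk' Q c') ∣ Nat.gcd (2 ^ a) d :=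
      Nat.dvd_gcd (orderOf_dvd_of_pow_eq_one hc'pow) (orderOf_dvd_of_pow_eq_one h2)
    rw [hcop, Nat.dvd_one, orderOf_eq_one_iff] at h3
    exact h3
  -- a Sylow 2-subgroup of `M` containing `t₀`
  have hzp : IsPGroup 2 ↥(Subgroup.zpowers (⟨t₀, ht₀M⟩ : ↥M)) := by
    intro g
    obtain ⟨j, hj⟩ := Subgroup.mem_zpowers_iff.mp g.2
    refine ⟨b, Subtype.ext ?_⟩
    have h1 : (⟨t₀, ht₀M⟩ : ↥M) ^ (2 ^ b) = 1 := Subtype.ext (by simpa using ht₀pow)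
    have h2 : (g : ↥M) ^ (2 ^ b) = 1 := by
      rw [← hj, ← zpow_natCast, ← zpow_mul, mul_comm, zpow_mul, zpow_natCast, h1, one_zpow]
    simpa using h2
  obtain ⟨P, hP⟩ := hzp.exists_le_sylow
  obtain ⟨T, hTdef⟩ : ∃ T : Subgroup X, T = (P : Subgroup ↥M).map M.subtype := ⟨_, rfl⟩
  have hTmem : ∀ t : X, t ∈ T ↔ ∃ t' : ↥M, t' ∈ P ∧ (t' : X) = t := by
    intro t; rw [hTdef]; rfl
  have ht₀T : t₀ ∈ T := (hTmem t₀).mpr ⟨⟨t₀, ht₀M⟩, hP (Subgroup.mem_zpowers _), rfl⟩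
  have hTM : T ≤ M := by rw [hTdef]; exact Subgroup.map_subtype_le _
  have hT2 : IsPGroup 2 ↥T := by rw [hTdef]; exact P.isPGroup'.map M.subtype
  -- `t₀` does not centralise `K₀`
  have hnc : ∃ k ∈ K₀, t₀ * k ≠ k * t₀ := by
    by_contra hall
    push Not at hall
    apply ht₀Q
    subst hQdef
    have hqs : IsPSolvable 2 (X ⧸ pCore 2 X) :=
      Cfsg.Agent.Lib.Helper7.isPSolvable_quotient hX _
    have hq2 : pCore 2 (X ⧸ pCore 2 X) = ⊥ :=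
      Cfsg.Agent.Lib.Helper8.KZ.pCore_quotient_pCore_eq_bot 2
    have hdual := Cfsg.Agent.Lib.Lead.centralizer_pPrimeCore_le_of_isPSolvable hqs hq2
    have hmem : QuotientGroup.mk' (pCore 2 X) t₀ ∈ pPrimeCore 2 (X ⧸ pCore 2 X) := by
      apply hdual
      rw [Subgroup.mem_centralizer_iff]
      intro qb hqb
      obtain ⟨g, rfl⟩ := QuotientGroup.mk'_surjective (pCore 2 X) qb
      have hg : g ∈ Kgrp 2 X := mem_Kgrp_iff.mpr hqb
      obtain ⟨u', hu', h, hh, rfl⟩ := hKdec g hg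
      have hu1 : QuotientGroup.mk' (pCore 2 X) u' = 1 := (QuotientGroup.eq_one_iff u').mpr hu'
      rw [map_mul, hu1, one_mul, ← map_mul, ← map_mul, hall h hh]
    have hg : t₀ ∈ Kgrp 2 X := mem_Kgrp_iff.mpr hmem
    obtain ⟨u', hu', h, hh, e⟩ := hKdec t₀ hg
    have hu1 : QuotientGroup.mk' (pCore 2 X) u' = 1 := (QuotientGroup.eq_one_iff u').mpr hu'
    have e1 : QuotientGroup.mk' (pCore 2 X) t₀ = QuotientGroup.mk' (pCore 2 X) h := by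
      rw [e, map_mul, hu1, one_mul]
    have h1 : orderOf (QuotientGroup.mk' (pCore 2 X) t₀) ∣ 2 ^ b := by
      apply orderOf_dvd_of_pow_eq_one
      rw [← map_pow, ht₀pow, map_one]
    have h2 : orderOf (QuotientGroup.mk' (pCore 2 X) t₀) ∣ Nat.card K₀ := by
      rw [e1]
      have h3 : orderOf (QuotientGroup.mk' (pCore 2 X) h) ∣ orderOf h := orderOf_map_dvd _ h
      have h4 : orderOf h ∣ Nat.card K₀ := by
        have := orderOf_dvd_natCard (⟨h, hh⟩ : ↥K₀)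
        rwa [Subgroup.orderOf_mk] at this
      exact h3.trans h4
    have h5 : Nat.Coprime (2 ^ b) (Nat.card K₀) := Nat.Coprime.pow_left b hK₀cop.symm
    have h6 := Nat.dvd_gcd h1 h2
    rw [h5, Nat.dvd_one, orderOf_eq_one_iff] at h6
    exact h6
  obtain ⟨k, hk, hkt⟩ := hnc
  have ht₀N : t₀ ∈ N := hMN ht₀M
  have hNK₀ : ∀ n ∈ N, ∀ k ∈ K₀, n * k * n⁻¹ ∈ K₀ := by
    intro n hn k hk
    rw [hNdef] at hn
    exact (Subgroup.mem_normalizer_iff.mp hn k).mp hk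
  have hK₀N : K₀ ≤ N := by rw [hNdef]; exact Subgroup.le_normalizer
  apply hCORE V Q N K₀ T
  · exact fun g hg => (hVmem g).mpr hg
  · exact fun v hv => (hVmem v).mp hv
  · exact hVQ
  · exact hPp
  · exact fun n _ g hg => hQn.conj_mem g hg n
  · exact ⟨x₀, (hVmem x₀).mpr hx2, y₀, (hVmem y₀).mpr hy2, hx1, hy1, hxy⟩
  · exact hK₀N
  · exact hNK₀
  · exact Nat.coprime_two_right.mp hK₀cop
  · exact fun k hk v hv => ((hK v ((hVmem v).mp hv) k (hK₀K hk)).eq).symm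
  · exact hTM.trans hMN
  · exact hT2
  · exact fun t ht v hv => ((hCmem t).mp (hMC (hTM ht)) v hv).symm
  · intro v hv w hw hv1 hw1
    obtain ⟨n₀, hn₀, hn₀v⟩ := hNtrans v hv w hw hv1 hw1
    obtain ⟨m, hmM, hmt⟩ := frattini_in M P n₀ (hMnorm1 n₀ hn₀) (hMnorm2 n₀ hn₀)
    refine ⟨m * n₀, N.mul_mem (hMN hmM) hn₀, ?_, ?_⟩
    · intro t ht
      obtain ⟨t', ht'P, rfl⟩ := (hTmem t).mp ht
      obtain ⟨t'', ht''P, e⟩ := hmt t' ht'P
      exact (hTmem _).mpr ⟨t'', ht''P, e⟩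
    · have e : (m * n₀) * v * (m * n₀)⁻¹ = m * (n₀ * v * n₀⁻¹) * m⁻¹ := by simp [mul_assoc]
      rw [e, hn₀v, ← (hCmem m).mp (hMC hmM) w hw]; simp
  · refine ⟨k⁻¹ * t₀ * k * t₀⁻¹, ⟨?_, ?_⟩, ?_⟩
    · have h1 : t₀ * k * t₀⁻¹ ∈ K₀ := hNK₀ t₀ ht₀N k hk
      have h2 := K₀.mul_mem (K₀.inv_mem hk) h1
      have e : k⁻¹ * (t₀ * k * t₀⁻¹) = k⁻¹ * t₀ * k * t₀⁻¹ := by simp [mul_assoc]
      rwa [e] at h2
    · have h1 : k⁻¹ * t₀ * k ∈ Subgroup.closure {g : X | ∃ n ∈ N, ∃ t ∈ T, g = n * t * n⁻¹} :=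
        Subgroup.subset_closure ⟨k⁻¹, N.inv_mem (hK₀N hk), t₀, ht₀T, by simp⟩
      have h2 : t₀ ∈ Subgroup.closure {g : X | ∃ n ∈ N, ∃ t ∈ T, g = n * t * n⁻¹} :=
        Subgroup.subset_closure ⟨1, N.one_mem, t₀, ht₀T, by simp⟩
      exact Subgroup.mul_mem _ h1 (Subgroup.inv_mem _ h2)
    · by_contra hall
      push Not at hall
      have hl : k⁻¹ * t₀ * k * t₀⁻¹ ∈ Subgroup.centralizer ((Q : Subgroup X) : Set X) := by
        rw [Subgroup.mem_centralizer_iff]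
        intro g hg
        exact (hall g hg).symm
      have hlQ := hCP hl
      have hlK : k⁻¹ * t₀ * k * t₀⁻¹ ∈ K₀ := by
        have h1 : t₀ * k * t₀⁻¹ ∈ K₀ := hNK₀ t₀ ht₀N k hk
        have h2 := K₀.mul_mem (K₀.inv_mem hk) h1
        have e : k⁻¹ * (t₀ * k * t₀⁻¹) = k⁻¹ * t₀ * k * t₀⁻¹ := by simp [mul_assoc]
        rwa [e] at h2
      have h3 : k⁻¹ * t₀ * k * t₀⁻¹ ∈ Q ⊓ K₀ := ⟨hlQ, hlK⟩
      rw [hPK₀, Subgroup.mem_bot] at h3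
      apply hkt
      have h4 := congrArg (fun z => k * z * t₀) h3
      simpa [mul_assoc] using h4

end Cfsg.Agent.Lib.Helper8.TITOP

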