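/-
S3797 package TOP, final form: `index_pCore_odd`, assembled from `index_pCore_odd_of`
(Helper8/TITOP) and the landed packages GY (Helper7/TIGY), TE (Helper7/TITE),
CORE (Helper1/TICore).
-/
import Mathlib
import Cfsg.Prelude.Def_Local
import Cfsg.Agent.Lib.Helper8.TITOP
import Cfsg.Agent.Lib.Helper7.TIGY
import Cfsg.Agent.Lib.Helper7.TITE
import Cfsg.Agent.Lib.Helper1.TICore

universe u

namespace Cfsg.Agent.Lib.Helper8.TITOP

open Cfsg

variable {X : Type u} [Group X] [Finite X]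

/-- (TOP) a finite `2`-soluble group with `O(X) = 1`, at least two involutions and one class
of involutions has `X / O_2(X)` of odd order. -/
theorem index_pCore_odd (hX : IsPSolvable 2 X) (hO : pPrimeCore 2 X = ⊥)
    (hconj : ∀ x y : X, x ≠ 1 → x ^ 2 = 1 → y ≠ 1 → y ^ 2 = 1 → IsConj x y)
    (htwo : ∃ x y : X, x ≠ y ∧ x ≠ 1 ∧ x ^ 2 = 1 ∧ y ≠ 1 ∧ y ^ 2 = 1) :
    ((pCore 2 X).index).Coprime 2 :=
  index_pCore_odd_of
    (fun a b c d => Cfsg.Agent.Lib.Helper7.TIGY.invol_commute_Kgrp a b c d)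
    (fun a b c d e f => Cfsg.Agent.Lib.Helper7.TITE.exists_two_elt a b c d e f)
    (fun V Q N K₀ T h1 h2 h3 h4 h5 h6 h7 h8 h9 h10 h11 h12 h13 h14 h15 =>
      Cfsg.Agent.Lib.Helper1.TICore.core V Q N K₀ T h1 h2 h3 h4 h5 h6 h7 h8 h9 h10 h11 h12 h13 h14 h15)
    hX hO hconj htwo

end Cfsg.Agent.Lib.Helper8.TITOP
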