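/-
S3797 package PL: `index_quot_odd` — pass to `G / O(G)` and apply TOP.
-/
import Mathlib
import Cfsg.Prelude.Def_Local
import Cfsg.Agent.Lib.Helper8.TITOP2
import Cfsg.Agent.Lib.Helper7.GYen4
import Cfsg.Agent.Lib.Lead.SolvPSolv
import Cfsg.Agent.Lib.Helper7.PSolvable
import Cfsg.Agent.Lib.Helper3.PComp1
import Cfsg.Agent.Lib.Helper6.PPrimeCore

set_option autoImplicit false

universe u

namespace Cfsg.Agent.Lib.Helper8.TIPL

open Cfsg

variable {G : Type u} [Group G]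

/-- a `2`-element of a normal subgroup of odd order is trivial -/
theorem eq_one_of_mem_of_pow (N : Subgroup G) (hN : (Nat.card N).Coprime 2) {g : G} (hg : g ∈ N)
    {k : ℕ} (hk : g ^ 2 ^ k = 1) : g = 1 := by
  have h1 : orderOf g ∣ Nat.card N := by
    have := orderOf_dvd_natCard (⟨g, hg⟩ : ↥N)
    rwa [Subgroup.orderOf_mk] at this
  have h2 : orderOf g ∣ 2 ^ k := orderOf_dvd_of_pow_eq_one hk
  have h3 : orderOf g = 1 := Nat.eq_one_of_dvd_coprimes (Nat.Coprime.pow_right k hN) h1 h2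
  exact orderOf_eq_one_iff.mp h3

variable [Finite G]

/-- an involution of `G / N`, `N` normal of odd order, lifts to an involution of `G` -/
theorem exists_lift_invol (N : Subgroup G) [N.Normal] (hN : (Nat.card N).Coprime 2)
    (xbar : G ⧸ N) (h1 : xbar ≠ 1) (h2 : xbar ^ 2 = 1) :
    ∃ x : G, x ≠ 1 ∧ x ^ 2 = 1 ∧ QuotientGroup.mk' N x = xbar := by
  classical
  have : Fact (Nat.Prime 2) := ⟨Nat.prime_two⟩
  have ho : orderOf xbar = 2 := orderOf_eq_prime h2 h1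
  have hU : Nat.card (Subgroup.zpowers xbar) = 2 := by rw [Nat.card_zpowers, ho]
  obtain ⟨U', hU', hUU'⟩ :=
    Cfsg.Agent.Lib.Helper7.GYen.exists_lift_card_p (p := 2) N hN (Subgroup.zpowers xbar) hU
  have hmem : xbar ∈ U'.map (QuotientGroup.mk' N) := by
    rw [hUU']; exact Subgroup.mem_zpowers xbar
  obtain ⟨x, hxU, hx⟩ := hmem
  refine ⟨x, ?_, ?_, hx⟩
  · rintro rfl
    apply h1
    rw [← hx, map_one]
  · have := pow_card_eq_one' (G := ↥U') (x := ⟨x, hxU⟩)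
    rw [hU'] at this
    exact congrArg Subtype.val this

/-- (PL) the quotient `G / O(G)` has `O_2` of odd index. -/
theorem index_quot_odd (hG : Group.IsSolvable G) (S : Sylow 2 G)
    (htwo : ∃ x y : G, x ∈ (S : Subgroup G) ∧ y ∈ (S : Subgroup G) ∧ x ≠ y ∧ x ≠ 1 ∧ x ^ 2 = 1 ∧
      y ≠ 1 ∧ y ^ 2 = 1)
    (hconj : ∀ x y : G, x ≠ 1 → x ^ 2 = 1 → y ≠ 1 → y ^ 2 = 1 → IsConj x y) :
    ((pCore 2 (G ⧸ pPrimeCore 2 G)).index).Coprime 2 := by
  classical
  have : Fact (Nat.Prime 2) := ⟨Nat.prime_two⟩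
  have hcop : (Nat.card (pPrimeCore 2 G)).Coprime 2 :=
    Cfsg.Agent.Lib.Helper6.pPrimeCore_coprime 2
  have hX : IsPSolvable 2 (G ⧸ pPrimeCore 2 G) :=
    Cfsg.Agent.Lib.Helper7.isPSolvable_quotient
      (Cfsg.Agent.Lib.Lead.SolvPSolv.isPSolvable_of_isSolvable' 2 G) _
  have hO : pPrimeCore 2 (G ⧸ pPrimeCore 2 G) = ⊥ :=
    Cfsg.Agent.Lib.Helper3.pPrimeCore_quotient_eq_bot
  apply Cfsg.Agent.Lib.Helper8.TITOP.index_pCore_odd hX hO
  · -- conjugacy of involutions passes to the quotient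
    intro xbar ybar hx1 hx2 hy1 hy2
    obtain ⟨x, hx1', hx2', rfl⟩ := exists_lift_invol (pPrimeCore 2 G) hcop xbar hx1 hx2
    obtain ⟨y, hy1', hy2', rfl⟩ := exists_lift_invol (pPrimeCore 2 G) hcop ybar hy1 hy2
    exact MonoidHom.map_isConj (QuotientGroup.mk' (pPrimeCore 2 G)) (hconj x y hx1' hx2' hy1' hy2')
  · -- two involutions
    obtain ⟨x, y, hxS, hyS, hxy, hx1, hx2, hy1, hy2⟩ := htwo
    refine ⟨QuotientGroup.mk' _ x, QuotientGroup.mk' _ y, ?_, ?_, ?_, ?_, ?_⟩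
    · intro h
      have hmem : x⁻¹ * y ∈ pPrimeCore 2 G := by
        rw [← QuotientGroup.eq_one_iff]
        have : (QuotientGroup.mk' (pPrimeCore 2 G)) (x⁻¹ * y) = 1 := by
          rw [map_mul, map_inv, h, inv_mul_cancel]
        exact this
      have hS : x⁻¹ * y ∈ (S : Subgroup G) := (S : Subgroup G).mul_mem ((S : Subgroup G).inv_mem hxS) hyS
      obtain ⟨k, hk⟩ := S.isPGroup' ⟨x⁻¹ * y, hS⟩
      have hk' : (x⁻¹ * y) ^ 2 ^ k = 1 := congrArg Subtype.val hk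
      have := eq_one_of_mem_of_pow (pPrimeCore 2 G) hcop hmem hk'
      exact hxy (inv_mul_eq_one.mp this)
    · intro h
      have hmem : x ∈ pPrimeCore 2 G := by
        rw [← QuotientGroup.eq_one_iff]; exact h
      exact hx1 (eq_one_of_mem_of_pow (pPrimeCore 2 G) hcop hmem (k := 1) (by simpa using hx2))
    · rw [← map_pow, hx2, map_one]
    · intro h
      have hmem : y ∈ pPrimeCore 2 G := by
        rw [← QuotientGroup.eq_one_iff]; exact h
      exact hy1 (eq_one_of_mem_of_pow (pPrimeCore 2 G) hcop hmem (k := 1) (by simpa using hy2))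
    · rw [← map_pow, hy2, map_one]

end Cfsg.Agent.Lib.Helper8.TIPL
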