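import Mathlib
import Cfsg.Prelude.Def_Blocks
import Cfsg.Prelude.Def_BrauerPairs
import Cfsg.Agent.Lib.Helper8.BlockPairPrincipal
import Cfsg.Agent.Lib.Helper8.BlockCoeff

/-!
# The principal block idempotent against subgroups containing a Sylow subgroup
-/

set_option autoImplicit false
set_option linter.unusedSectionVars false

namespace Cfsg.Agent.Lib.Helper8.TM

open Cfsg
open scoped ComplexConjugate
open Cfsg.Agent.Lib.Helper1 Cfsg.Agent.Lib.Helper4 Cfsg.Agent.Lib.Helper8

universe u

section

variable {G : Type u} [Group G] [Fintype G] {M : Ideal AlgInt} {p : ℕ}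

/-- The degree of the `B`-part of an induced class function. -/
theorem sum_degree_mul_classInner [Fintype (IrrCharacter G)] (Y : Subgroup G) [Fintype Y]
    (B : Set (IrrCharacter G)) (ξ : Y → ℂ) :
    ∑ χ : IrrCharacter G, (by classical exact if χ ∈ B then (1 : ℂ) else 0) * (χ : G → ℂ) 1 *
      classInner ξ (fun y : Y => (χ : G → ℂ) y) =
      (Y.index : ℂ) * ∑ y : Y, blockCoeff B (y : G) * ξ y := by
  classical
  have hG0 : (Nat.card G : ℂ) ≠ 0 := Nat.cast_ne_zero.2 Nat.card_pos.ne'
  have hY0 : (Nat.card Y : ℂ) ≠ 0 := Nat.cast_ne_zero.2 Nat.card_pos.ne'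
  have hidx : (Nat.card G : ℂ) = (Nat.card Y : ℂ) * (Y.index : ℂ) := by
    rw [← Nat.cast_mul, Subgroup.card_mul_index]
  have h1 : ∀ y : Y, blockCoeff B (y : G) * ξ y = (Nat.card G : ℂ)⁻¹ *
      ∑ ψ : IrrCharacter G, (if ψ ∈ B then (1 : ℂ) else 0) * (ψ : G → ℂ) 1 *
        (ξ y * conj ((ψ : G → ℂ) y)) := by
    intro y
    rw [blockCoeff_eq_sum, mul_assoc, Finset.sum_mul]
    congr 1
    refine Finset.sum_congr rfl fun ψ _ => ?_
    ring
  simp_rw [h1]
  rw [← Finset.mul_sum, Finset.sum_comm]
  simp_rw [classInner_def, ← Finset.mul_sum]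
  have hi0 : (Y.index : ℂ) ≠ 0 := by
    intro h
    rw [h, mul_zero] at hidx
    exact hG0 hidx
  have e1 : ∀ χ : IrrCharacter G, (if χ ∈ B then (1 : ℂ) else 0) * (χ : G → ℂ) 1 *
      ((Nat.card Y : ℂ)⁻¹ * ∑ g : Y, ξ g * conj ((χ : G → ℂ) g)) =
      (Nat.card Y : ℂ)⁻¹ * ((if χ ∈ B then (1 : ℂ) else 0) * (χ : G → ℂ) 1 *
        ∑ g : Y, ξ g * conj ((χ : G → ℂ) g)) := fun χ => by ring
  rw [Finset.sum_congr rfl fun χ _ => e1 χ, ← Finset.mul_sum, ← mul_assoc]
  congr 1
  rw [hidx]
  field_simp

/-- Orbit counting: the sum over a subgroup `Y ≥ P` of a class function is congruent to the sum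
over `C_Y(P)`. -/
theorem sum_subgroup_cong (hM : IsPModular p M) (P Y : Subgroup G) (hP : IsPGroup p P)
    (hPY : P ≤ Y) [Fintype Y] [Fintype (Subgroup.centralizer (P : Set G))] {F : G → ℂ}
    (hF : IsClassFunction G F) (hFS : ∀ g, MemLocalRing M (F g)) :
    MemLocalIdeal M (∑ y : Y, F y - ∑ x : Subgroup.centralizer (P : Set G),
      (by classical exact if (x : G) ∈ Y then F x else 0)) := by
  classical
  have hMp := isPModular_isPrime hM
  set F' : G → ℂ := fun g => if g ∈ Y then F g else 0 with hF'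
  have hinv : ∀ u ∈ P, ∀ x : G, F' (u * x * u⁻¹) = F' x := by
    intro u hu x
    have huY : u ∈ Y := hPY hu
    have hiff : u * x * u⁻¹ ∈ Y ↔ x ∈ Y := by
      constructor
      · intro h
        have := Y.mul_mem (Y.mul_mem (Y.inv_mem huY) h) huY
        simpa [mul_assoc] using this
      · intro h
        exact Y.mul_mem (Y.mul_mem huY h) (Y.inv_mem huY)
    simp only [hF']
    rw [hF x u]
    by_cases hx : x ∈ Y
    · rw [if_pos hx, if_pos (hiff.2 hx)]
    · rw [if_neg hx, if_neg (fun h => hx (hiff.1 h))]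
  have hS : ∀ g, MemLocalRing M (F' g) := by
    intro g
    simp only [hF']
    split_ifs
    · exact hFS g
    · exact memLocalRing_zero hMp.ne_top
  have h := memLocalIdeal_sum_sub_sum_centralizer' hM P hP F' hinv hS
  have e1 : ∑ x : G, F' x = ∑ y : Y, F y := by
    rw [← Finset.sum_subtype (Finset.univ.filter (fun x : G => x ∈ Y)) (by simp) F,
      Finset.sum_filter]
  rw [e1] at h
  exact h

/-- **The Brauer map image of the principal block idempotent**, in terms of central
characters of `C_G(P)`. -/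
theorem omega_restrict_principal [Fact p.Prime] (hM : IsPModular p M) (P : Subgroup G)
    (hP : IsPGroup p P) [Fintype (Subgroup.centralizer (P : Set G))]
    (ξ : IrrCharacter (Subgroup.centralizer (P : Set G))) :
    MemLocalIdeal M (omega (ξ : Subgroup.centralizer (P : Set G) → ℂ)
      (fun x : Subgroup.centralizer (P : Set G) => blockCoeff (principalBlock M G) (x : G)) -
      (by classical exact if ξ ∈ principalBlock M (Subgroup.centralizer (P : Set G))
        then (1 : ℂ) else 0)) := by
  classical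
  have hMp := isPModular_isPrime hM
  obtain ⟨hcf, hS, hω⟩ := blockCoeff_spec hMp (isPBlock_principalBlock (M := M) (G := G))
  by_cases hξ : ξ ∈ principalBlock M (Subgroup.centralizer (P : Set G))
  · rw [if_pos hξ]
    have h := (isBrauerPairOf_principal hM P hP).2.2 ξ hξ
    rw [brauerOmega_eq_omega] at h
    exact h
  · rw [if_neg hξ, sub_zero]
    obtain ⟨χ, hχ⟩ := exists_irr_brauerLam hM P (Subgroup.centralizer (P : Set G)) hP le_rfl
      (Subgroup.centralizer_le_normalizer _) ξ.2
    have h1 := hχ (blockCoeff (principalBlock M G)) hcf hS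
    rw [← brauerOmega_eq_brauerLam, brauerOmega_eq_omega, hω χ] at h1
    by_cases hχB : χ ∈ principalBlock M G
    · exfalso
      rw [if_pos hχB] at h1
      apply hξ
      have hpair : IsBrauerPairOf p M (principalBlock M G) P
          (blockOf M (ξ : Subgroup.centralizer (P : Set G) → ℂ)) := by
        refine ⟨⟨hP, ⟨ξ, rfl⟩⟩, isPBlock_principalBlock, ?_⟩
        intro ξ' hξ'
        rw [brauerOmega_eq_omega]
        have h2 := memLocalIdeal_omega_sub hMp ξ'.2 ξ.2 (sameBlock_symm hξ')
          (isClassFunction_restrict (Subgroup.centralizer (P : Set G)) hcf) (fun x => hS _)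
        have h3 := memLocalIdeal_add hMp h2 h1
        have e : ∀ a b : ℂ, a - b + (b - 1) = a - 1 := fun a b => by ring
        rw [e] at h3
        exact h3
      have h4 := (isBrauerPairOf_principal_iff hM P hP _ ⟨ξ, rfl⟩).1 hpair
      rw [← h4]
      exact sameBlock_refl hMp.ne_top _
    · rw [if_neg hχB, sub_zero] at h1
      exact h1

end

end Cfsg.Agent.Lib.Helper8.TM
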