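import Mathlib
import Cfsg.Prelude.Def_Blocks
import Cfsg.Agent.Lib.Helper8.TM1
import Cfsg.Agent.Lib.Helper8.Cover4
import Cfsg.Agent.Lib.Helper1.CharFound3

/-!
# Summing a class function over a normal subgroup, via central characters
-/

set_option autoImplicit false
set_option linter.unusedSectionVars false

namespace Cfsg.Agent.Lib.Helper8.TM

open Cfsg
open scoped ComplexConjugate
open Cfsg.Agent.Lib.Helper1 Cfsg.Agent.Lib.Helper4 Cfsg.Agent.Lib.Helper8

universe u

section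

variable {K : Type u} [Group K] [Fintype K]

/-- The sum of an irreducible character over a normal subgroup. -/
theorem sum_irr_normal (N : Subgroup K) [hN : N.Normal] [Fintype N] (ξ : IrrCharacter K) :
    ∑ n : N, (ξ : K → ℂ) (n : K) = (Nat.card N : ℂ) *
      ((by classical exact if (∀ n ∈ N, (ξ : K → ℂ) n = (ξ : K → ℂ) 1) then (1 : ℂ) else 0) *
        (ξ : K → ℂ) 1) := by
  classical
  have hN0 : (Nat.card N : ℂ) ≠ 0 := Nat.cast_ne_zero.2 Nat.card_pos.ne'
  have h3 : ∑ n : N, (ξ : K → ℂ) (n : K) = (Nat.card N : ℂ) *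
      classInner (fun n : N => (ξ : K → ℂ) n) (fun _ : N => (1 : ℂ)) := by
    rw [classInner_def, ← mul_assoc, mul_inv_cancel₀ hN0, one_mul]
    refine Finset.sum_congr rfl fun n _ => ?_
    rw [map_one, mul_one]
  rw [h3]
  congr 1
  by_cases hk : ∀ n ∈ N, (ξ : K → ℂ) n = (ξ : K → ℂ) 1
  · rw [if_pos hk, one_mul, classInner_def]
    have : ∑ n : N, (fun n : N => (ξ : K → ℂ) n) n * conj ((fun _ : N => (1 : ℂ)) n) =
        (Nat.card N : ℂ) * (ξ : K → ℂ) 1 := by
      rw [Nat.card_eq_fintype_card, ← Finset.card_univ, ← nsmul_eq_mul, ← Finset.sum_const]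
      refine Finset.sum_congr rfl fun n _ => ?_
      show (ξ : K → ℂ) (n : K) * conj (1 : ℂ) = _
      rw [map_one, mul_one, hk n n.2]
    rw [this, ← mul_assoc, inv_mul_cancel₀ hN0, one_mul]
  · rw [if_neg hk, zero_mul]
    have := (constituent_one_iff N ξ.2).not.2 hk
    rw [not_not] at this
    exact this

/-- **Summing a class function over a normal subgroup.** -/
theorem sum_normal_eq [Fintype (IrrCharacter K)] (N : Subgroup K) [hN : N.Normal] [Fintype N]
    {f : K → ℂ} (hf : IsClassFunction K f) :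
    ∑ n : N, f (n : K) = (Nat.card N : ℂ) * (Nat.card K : ℂ)⁻¹ *
      ∑ ξ : IrrCharacter K,
        (by classical exact if (∀ n ∈ N, (ξ : K → ℂ) n = (ξ : K → ℂ) 1) then (1 : ℂ) else 0) *
        ((ξ : K → ℂ) 1 * (ξ : K → ℂ) 1) * omega (ξ : K → ℂ) f := by
  classical
  set ft : K → ℂ := fun x => f x⁻¹ with hft
  have hftc : IsClassFunction K ft := by
    intro g h
    show f (h * g * h⁻¹)⁻¹ = f g⁻¹
    have : (h * g * h⁻¹)⁻¹ = h * g⁻¹ * h⁻¹ := by group
    rw [this, hf]
  have hexp := class_function_expansion ft hftc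
  have hinner : ∀ ξ : IrrCharacter K, classInner ft (ξ : K → ℂ) =
      (Nat.card K : ℂ)⁻¹ * ((ξ : K → ℂ) 1 * omega (ξ : K → ℂ) f) := by
    intro ξ
    have h1 := irr_apply_one_ne_zero ξ.2
    rw [classInner_def]
    congr 1
    unfold omega
    rw [mul_div_cancel₀ _ h1, ← Equiv.sum_comp (Equiv.inv K)]
    refine Finset.sum_congr rfl fun x _ => ?_
    show f (x⁻¹)⁻¹ * conj ((ξ : K → ℂ) x⁻¹) = f x * (ξ : K → ℂ) x
    rw [inv_inv, isCharacter_inv (isCharacter_of_irr ξ.2), Complex.conj_conj]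
  have h2 : ∑ n : N, f (n : K) = ∑ n : N, ft (n : K) := by
    rw [← Equiv.sum_comp (Equiv.inv N)]
    refine Finset.sum_congr rfl fun n _ => ?_
    show f ((n⁻¹ : N) : K) = f ((n : K))⁻¹
    rw [Subgroup.coe_inv]
  rw [h2]
  have h3 : ∀ n : N, ft (n : K) = ∑ ξ : IrrCharacter K,
      classInner ft (ξ : K → ℂ) * (ξ : K → ℂ) (n : K) := by
    intro n
    conv_lhs => rw [hexp]
    rw [Finset.sum_apply]
    rfl
  simp_rw [h3]
  rw [Finset.sum_comm]
  simp_rw [← Finset.mul_sum, sum_irr_normal N, hinner]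
  rw [Finset.mul_sum]
  refine Finset.sum_congr rfl fun ξ _ => ?_
  ring

end

end Cfsg.Agent.Lib.Helper8.TM
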