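import Mathlib
import Cfsg.Prelude.Def_Blocks
import Cfsg.Prelude.Def_Local
import Cfsg.Agent.Lib.Helper8.TM1
import Cfsg.Agent.Lib.Helper8.TM2
import Cfsg.Agent.Lib.Helper8.PB1
import Cfsg.Agent.Lib.Helper8.CharKernel
import Cfsg.Agent.Lib.Lead.CoprimeTools
import Cfsg.Agent.Lib.Lead.PComplement
import Cfsg.Agent.Lib.Lead.FrobNPC5
import Cfsg.Agent.Lib.Helper6.PPrimeCore

/-!
# The principal block idempotent summed over a normal subgroup of `p'`-index of the centralizer
of a Sylow `p`-subgroup
-/

set_option autoImplicit false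
set_option linter.unusedSectionVars false

namespace Cfsg.Agent.Lib.Helper8.TM

open Cfsg
open scoped ComplexConjugate
open Cfsg.Agent.Lib.Helper1 Cfsg.Agent.Lib.Helper4 Cfsg.Agent.Lib.Helper8

universe u

section

variable {G : Type u} [Group G] {p : ℕ} [Fact p.Prime]

/-- The centralizer of a Sylow `p`-subgroup has a normal `p`-complement. -/
theorem index_pPrimeCore_centralizer [Finite G] (P : Sylow p G) :
    ∃ k : ℕ, (pPrimeCore p (Subgroup.centralizer ((P : Subgroup G) : Set G))).index = p ^ k := by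
  have hp : p.Prime := Fact.out
  set C : Subgroup G := Subgroup.centralizer ((P : Subgroup G) : Set G) with hC
  set Z : Subgroup C := (P : Subgroup G).subgroupOf C with hZ
  have hZp : IsPGroup p Z := P.isPGroup'.comap_subtype
  have hCN : C ≤ Subgroup.normalizer ((P : Subgroup G) : Set G) :=
    Subgroup.centralizer_le_normalizer _
  have hZidx : ¬ p ∣ Z.index := by
    have h1 : Z.index = (P : Subgroup G).relIndex (C ⊔ (P : Subgroup G)) :=
      (Cfsg.Agent.Lib.Lead.relIndex_sup_of_le_normalizer C (P : Subgroup G) hCN).symm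
    have h2 : (P : Subgroup G).relIndex (C ⊔ (P : Subgroup G)) *
        (C ⊔ (P : Subgroup G)).index = (P : Subgroup G).index :=
      Subgroup.relIndex_mul_index le_sup_right
    intro hdvd
    apply P.not_dvd_index
    rw [← h2, ← h1]
    exact Dvd.dvd.mul_right hdvd _
  set S : Sylow p C := hZp.toSylow hZidx with hS
  have hSZ : (S : Subgroup C) = Z := IsPGroup.toSylow_coe hZp hZidx
  have hcent : Subgroup.normalizer ((S : Subgroup C) : Set C) ≤
      Subgroup.centralizer ((S : Subgroup C) : Set C) := by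
    intro c _
    rw [Subgroup.mem_centralizer_iff]
    intro z hz
    have hz' : z ∈ Z := by rw [← hSZ]; exact hz
    have hzP : (z : G) ∈ (P : Subgroup G) := Subgroup.mem_subgroupOf.1 hz'
    apply Subtype.ext
    have := (Subgroup.mem_centralizer_iff.1 c.2) (z : G) hzP
    simpa using this
  obtain ⟨T, K, hKn, hc⟩ :=
    Cfsg.Agent.Lib.Lead.hasNormalPComplement_of_normalizer_le_centralizer S hcent
  have hKc := Cfsg.Agent.Lib.Lead.card_coprime_of_isComplement' T K hc
  obtain ⟨k, hk⟩ := Cfsg.Agent.Lib.Lead.index_eq_pow_of_isComplement' T K hc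
  have hle : K ≤ pPrimeCore p C := Cfsg.Agent.Lib.Helper6.le_pPrimeCore hKn hKc
  have hdvd : (pPrimeCore p C).index ∣ p ^ k := hk ▸ Subgroup.index_dvd_of_le hle
  obtain ⟨j, -, hj⟩ := (Nat.dvd_prime_pow hp).1 hdvd
  exact ⟨j, hj⟩

end

section

variable {K : Type u} [Group K] [Fintype K]

/-- An irreducible character that is constant is the trivial character. -/
theorem eq_trivIrr_of_const (ξ : IrrCharacter K) (h : ∀ g : K, (ξ : K → ℂ) g = (ξ : K → ℂ) 1) :
    ξ = trivIrr K := by
  by_contra hne
  have h1 : (ξ : K → ℂ) ≠ (trivIrr K : K → ℂ) := fun h' => hne (Subtype.ext h')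
  have h2 := classInner_irr_ne ξ.2 (trivIrr K).2 h1
  rw [classInner_def] at h2
  have h3 : ∑ g : K, (ξ : K → ℂ) g * (starRingEnd ℂ) ((trivIrr K : K → ℂ) g) =
      (Nat.card K : ℂ) * (ξ : K → ℂ) 1 := by
    rw [Nat.card_eq_fintype_card, ← Finset.card_univ, ← nsmul_eq_mul, ← Finset.sum_const]
    refine Finset.sum_congr rfl fun g _ => ?_
    rw [trivIrr_apply, map_one, mul_one, h g]
  rw [h3, ← mul_assoc, inv_mul_cancel₀ (Nat.cast_ne_zero.2 Nat.card_pos.ne'), one_mul] at h2
  exact irr_apply_one_ne_zero ξ.2 h2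

end

section

variable {G : Type u} [Group G] [Fintype G] {M : Ideal AlgInt} {p : ℕ} [Fact p.Prime]

/-- **The principal block idempotent over `C_G(P)`**: its sum over a normal subgroup `C'` of
`C_G(P)` of index prime to `p` is congruent to `1 / [C_G(P) : C']`. -/
theorem sum_centralizer_normal_cong (hM : IsPModular p M) (P : Sylow p G) (C : Subgroup G)
    (hC : C = Subgroup.centralizer ((P : Subgroup G) : Set G))
    (C' : Subgroup C) [hC'n : C'.Normal]
    (hidx : ¬ p ∣ C'.index) [Fintype C] [Fintype C'] :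
    MemLocalIdeal M (∑ x : C', blockCoeff (principalBlock M G) ((x : C) : G) -
      (C'.index : ℂ)⁻¹) := by
  classical
  have hp : p.Prime := Fact.out
  have hMp := isPModular_isPrime hM
  haveI : Fintype (IrrCharacter C) := Fintype.ofFinite _
  have hcore : ∃ k : ℕ, (pPrimeCore p C).index = p ^ k := by
    subst hC
    exact index_pPrimeCore_centralizer P
  have hom : ∀ ξ : IrrCharacter C, MemLocalIdeal M (omega (ξ : C → ℂ)
      (fun x : C => blockCoeff (principalBlock M G) (x : G)) -
      (if ξ ∈ principalBlock M C then (1 : ℂ) else 0)) := by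
    subst hC
    intro ξ
    exact omega_restrict_principal hM (P : Subgroup G) P.isPGroup' ξ
  obtain ⟨hcf, hS, -⟩ := blockCoeff_spec hMp (isPBlock_principalBlock (M := M) (G := G))
  set f : C → ℂ := fun x => blockCoeff (principalBlock M G) (x : G) with hf
  have hfc : IsClassFunction C f := isClassFunction_restrict C hcf
  have hsum := sum_normal_eq C' hfc
  have hC0 : (Nat.card C : ℂ) ≠ 0 := Nat.cast_ne_zero.2 Nat.card_pos.ne'
  have hC'0 : (Nat.card C' : ℂ) ≠ 0 := Nat.cast_ne_zero.2 Nat.card_pos.ne'
  have hcoef : (Nat.card C' : ℂ) * (Nat.card C : ℂ)⁻¹ = (C'.index : ℂ)⁻¹ := by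
    have : (Nat.card C : ℂ) = (Nat.card C' : ℂ) * (C'.index : ℂ) := by
      rw [← Nat.cast_mul, Subgroup.card_mul_index]
    rw [this, mul_inv, ← mul_assoc, mul_inv_cancel₀ hC'0, one_mul]
  show MemLocalIdeal M (∑ x : C', f (x : C) - (C'.index : ℂ)⁻¹)
  rw [hsum, hcoef]
  set T : IrrCharacter C → ℂ := fun ξ =>
    (if (∀ n ∈ C', (ξ : C → ℂ) n = (ξ : C → ℂ) 1) then (1 : ℂ) else 0) *
      ((ξ : C → ℂ) 1 * (ξ : C → ℂ) 1) with hT
  -- the key congruence
  have hkey : MemLocalIdeal M (∑ ξ : IrrCharacter C, T ξ * omega (ξ : C → ℂ) f - 1) := by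
    have hone : ∑ ξ : IrrCharacter C, T ξ * (if ξ ∈ principalBlock M C then (1 : ℂ) else 0) = 1 := by
      rw [Finset.sum_eq_single (trivIrr C)]
      · rw [if_pos (trivIrr_mem_principalBlock hMp.ne_top)]
        simp only [hT, trivIrr_apply]
        simp
      · intro ξ _ hne
        by_cases h1 : ∀ n ∈ C', (ξ : C → ℂ) n = (ξ : C → ℂ) 1
        · by_cases h2 : ξ ∈ principalBlock M C
          · exfalso
            apply hne
            apply eq_trivIrr_of_const
            obtain ⟨L, -, hL⟩ := exists_normal_ker (isCharacter_of_irr ξ.2)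
            have hL1 : C' ≤ L := fun n hn => (hL n).2 (h1 n hn)
            have hL2 : pPrimeCore p C ≤ L := fun n hn =>
              (hL n).2 (principalBlock_apply_pPrimeCore hM h2 hn)
            obtain ⟨k, hk⟩ := hcore
            have hd1 : L.index ∣ C'.index := Subgroup.index_dvd_of_le hL1
            have hd2 : L.index ∣ p ^ k := hk ▸ Subgroup.index_dvd_of_le hL2
            have hcop : (C'.index).Coprime (p ^ k) :=
              Nat.Coprime.pow_right k ((Nat.Prime.coprime_iff_not_dvd hp).2 hidx).symm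
            have hL3 : L.index = 1 := Nat.eq_one_of_dvd_coprimes hcop hd1 hd2
            have hL4 : L = ⊤ := Subgroup.index_eq_one.1 hL3
            intro g
            exact (hL g).1 (by rw [hL4]; trivial)
          · rw [if_neg h2, mul_zero]
        · simp only [hT]
          rw [if_neg h1, zero_mul, zero_mul]
      · intro h
        exact absurd (Finset.mem_univ _) h
    rw [← hone, ← Finset.sum_sub_distrib]
    apply memLocalIdeal_sum hMp
    intro ξ _
    rw [← mul_sub]
    apply memLocalIdeal_mul_left hMp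
    · simp only [hT]
      obtain ⟨hd, -⟩ := irr_apply_one_eq_charDegree ξ.2
      rw [hd]
      split_ifs
      · rw [one_mul, ← Nat.cast_mul]
        exact memLocalRing_natCast hMp.ne_top _
      · rw [zero_mul]
        exact memLocalRing_zero hMp.ne_top
    · exact hom ξ
  have hinv : MemLocalRing M ((C'.index : ℂ)⁻¹) := memLocalRing_inv_natCast hM hidx
  have := memLocalIdeal_mul_left hMp hinv hkey
  rw [mul_sub, mul_one] at this
  exact this

end

end Cfsg.Agent.Lib.Helper8.TM
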