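import Mathlib
import Cfsg.Prelude.Def_Blocks
import Cfsg.Agent.Lib.Helper8.TM1
import Cfsg.Agent.Lib.Helper8.TM2
import Cfsg.Agent.Lib.Helper8.TM3

/-!
# Characters of `p'`-degree in the principal block over characters of subgroups containing a
Sylow `p`-subgroup
-/

set_option autoImplicit false
set_option linter.unusedSectionVars false

namespace Cfsg.Agent.Lib.Helper8.TM

open Cfsg
open scoped ComplexConjugate
open Cfsg.Agent.Lib.Helper1 Cfsg.Agent.Lib.Helper4 Cfsg.Agent.Lib.Helper8

universe u

section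

variable {G : Type u} [Group G] {p : ℕ} [Fact p.Prime]

/-- The intersection of a Sylow `p`-subgroup with its centralizer has index prime to `p` in the
centralizer. -/
theorem not_dvd_index_subgroupOf_centralizer [Finite G] (P : Sylow p G) :
    ¬ p ∣ ((P : Subgroup G).subgroupOf
      (Subgroup.centralizer ((P : Subgroup G) : Set G))).index := by
  have hCN : Subgroup.centralizer ((P : Subgroup G) : Set G) ≤
      Subgroup.normalizer ((P : Subgroup G) : Set G) := Subgroup.centralizer_le_normalizer _
  have h1 : ((P : Subgroup G).subgroupOf (Subgroup.centralizer ((P : Subgroup G) : Set G))).index =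
      (P : Subgroup G).relIndex (Subgroup.centralizer ((P : Subgroup G) : Set G) ⊔ (P : Subgroup G)) :=
    (Cfsg.Agent.Lib.Lead.relIndex_sup_of_le_normalizer _ (P : Subgroup G) hCN).symm
  have h2 : (P : Subgroup G).relIndex
      (Subgroup.centralizer ((P : Subgroup G) : Set G) ⊔ (P : Subgroup G)) *
      (Subgroup.centralizer ((P : Subgroup G) : Set G) ⊔ (P : Subgroup G)).index =
      (P : Subgroup G).index := Subgroup.relIndex_mul_index le_sup_right
  intro hdvd
  apply P.not_dvd_index
  rw [← h2, ← h1]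
  exact Dvd.dvd.mul_right hdvd _

end

section

variable {G : Type u} [Group G] [Fintype G] {M : Ideal AlgInt} {p : ℕ} [Fact p.Prime]

/-- **Characters of `p'`-degree of the principal block over a subgroup containing a Sylow
subgroup.**  If `P ≤ Y`, `C_G(P)` normalizes `Y`, and `ξ` is an irreducible character of `Y` of
`p'`-degree in the principal block of `Y`, then some irreducible character of `p'`-degree in
the principal block of `G` lies over `ξ`. -/
theorem exists_principal_over (hM : IsPModular p M) (P : Sylow p G) (Y : Subgroup G) [Fintype Y]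
    (hPY : (P : Subgroup G) ≤ Y)
    (hYC : ∀ c ∈ Subgroup.centralizer ((P : Subgroup G) : Set G), ∀ y ∈ Y, c * y * c⁻¹ ∈ Y)
    (ξ : IrrCharacter Y) (hξ : ξ ∈ principalBlock M Y)
    (hdeg : ¬ p ∣ charDegree (ξ : Y → ℂ)) :
    ∃ χ : IrrCharacter G, χ ∈ principalBlock M G ∧ ¬ p ∣ charDegree (χ : G → ℂ) ∧
      classInner (fun y : Y => (χ : G → ℂ) y) (ξ : Y → ℂ) ≠ 0 := by
  classical
  have hp : p.Prime := Fact.out
  have hMp := isPModular_isPrime hM
  haveI : Fintype (IrrCharacter G) := Fintype.ofFinite _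
  haveI : Fintype (Subgroup.centralizer ((P : Subgroup G) : Set G)) := Fintype.ofFinite _
  obtain ⟨hcf, hS, -⟩ := blockCoeff_spec hMp (isPBlock_principalBlock (M := M) (G := G))
  set e : G → ℂ := blockCoeff (principalBlock M G) with he
  -- the subgroup `C' = C_Y(P)` of `C_G(P)`
  set C' : Subgroup (Subgroup.centralizer ((P : Subgroup G) : Set G)) :=
    Y.subgroupOf (Subgroup.centralizer ((P : Subgroup G) : Set G)) with hC'
  haveI : Fintype C' := Fintype.ofFinite _
  haveI hC'n : C'.Normal := by
    constructor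
    intro n hn g
    rw [hC', Subgroup.mem_subgroupOf] at hn ⊢
    exact hYC g g.2 n hn
  have hidx : ¬ p ∣ C'.index := by
    intro hdvd
    apply not_dvd_index_subgroupOf_centralizer P
    have hle : (P : Subgroup G).subgroupOf (Subgroup.centralizer ((P : Subgroup G) : Set G)) ≤ C' := by
      intro x hx
      rw [hC', Subgroup.mem_subgroupOf]
      exact hPY (Subgroup.mem_subgroupOf.1 hx)
    exact hdvd.trans (Subgroup.index_dvd_of_le hle)
  -- the chain of congruences
  have hfY : IsClassFunction Y (fun y : Y => e (y : G)) := isClassFunction_restrict Y hcf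
  have hsb : SameBlock M (ξ : Y → ℂ) (trivIrr Y : Y → ℂ) := by
    have h1 : SameBlock M (fun _ : Y => (1 : ℂ)) (ξ : Y → ℂ) := hξ
    have h2 : (trivIrr Y : Y → ℂ) = fun _ => 1 := by
      funext x
      rw [trivIrr_apply]
    rw [h2]
    exact sameBlock_symm h1
  have c1 := memLocalIdeal_omega_sub hMp ξ.2 (trivIrr Y).2 hsb hfY (fun y => hS _)
  rw [omega_trivIrr] at c1
  have c2 := sum_subgroup_cong hM (P : Subgroup G) Y P.isPGroup' hPY hcf hS
  have c3 : ∑ x : Subgroup.centralizer ((P : Subgroup G) : Set G),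
      (if (x : G) ∈ Y then e x else 0) = ∑ x : C', e ((x : Subgroup.centralizer
        ((P : Subgroup G) : Set G)) : G) := by
    rw [← Finset.sum_subtype (Finset.univ.filter
      (fun x : Subgroup.centralizer ((P : Subgroup G) : Set G) => x ∈ C')) (by simp)
      (fun x => e (x : G)), Finset.sum_filter]
    refine Finset.sum_congr rfl fun x _ => ?_
    by_cases hx : (x : G) ∈ Y
    · rw [if_pos hx, if_pos (show x ∈ C' from hx)]
    · rw [if_neg hx, if_neg (show ¬ x ∈ C' from hx)]
  have c4 := sum_centralizer_normal_cong hM P _ rfl C' hidx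
  rw [c3] at c2
  have c5 : MemLocalIdeal M (omega (ξ : Y → ℂ) (fun y : Y => e (y : G)) - (C'.index : ℂ)⁻¹) := by
    have := memLocalIdeal_add hMp (memLocalIdeal_add hMp c1 c2) c4
    have e' : ∀ a b c d : ℂ, a - b + (b - c) + (c - d) = a - d := fun a b c d => by ring
    rw [e'] at this
    exact this
  -- the multiplicities
  have ha : ∀ χ : IrrCharacter G, ∃ a : ℕ,
      classInner (fun y : Y => (χ : G → ℂ) y) (ξ : Y → ℂ) = a := fun χ =>
    classInner_char_irr_nat
      (Cfsg.Agent.S0148.isCharacter_restrict Y (isCharacter_of_irr χ.2)) ξ.2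
  choose a ha using ha
  have ha' : ∀ χ : IrrCharacter G,
      classInner (ξ : Y → ℂ) (fun y : Y => (χ : G → ℂ) y) = a χ := by
    intro χ
    rw [← classInner_conj_symm, ha χ, Complex.conj_natCast]
  have hsum := sum_degree_mul_classInner Y (principalBlock M G) (ξ : Y → ℂ)
  obtain ⟨hdξ, -⟩ := irr_apply_one_eq_charDegree ξ.2
  have hom : ∑ y : Y, e (y : G) * (ξ : Y → ℂ) y =
      (charDegree (ξ : Y → ℂ) : ℂ) * omega (ξ : Y → ℂ) (fun y : Y => e (y : G)) := by
    unfold omega
    rw [hdξ, mul_div_cancel₀]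
    rw [← hdξ]
    exact irr_apply_one_ne_zero ξ.2
  rw [hom] at hsum
  have hnat : ∑ χ : IrrCharacter G, (if χ ∈ principalBlock M G then (1 : ℂ) else 0) *
      (χ : G → ℂ) 1 * classInner (ξ : Y → ℂ) (fun y : Y => (χ : G → ℂ) y) =
      ((∑ χ : IrrCharacter G, (if χ ∈ principalBlock M G then 1 else 0) *
        charDegree (χ : G → ℂ) * a χ : ℕ) : ℂ) := by
    push_cast
    refine Finset.sum_congr rfl fun χ _ => ?_
    rw [ha' χ, (irr_apply_one_eq_charDegree χ.2).1]
  rw [hnat] at hsum
  set S : ℕ := ∑ χ : IrrCharacter G, (if χ ∈ principalBlock M G then 1 else 0) *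
    charDegree (χ : G → ℂ) * a χ with hSdef
  have hS' : ¬ p ∣ S := by
    intro hdvd
    have h1 : MemLocalIdeal M (S : ℂ) := (memLocalIdeal_natCast_iff hM S).2 hdvd
    rw [hsum] at h1
    have hYidx : ¬ p ∣ Y.index := fun h =>
      P.not_dvd_index (h.trans (Subgroup.index_dvd_of_le hPY))
    have hcop : ¬ p ∣ Y.index * charDegree (ξ : Y → ℂ) := by
      intro h
      rcases (Nat.Prime.dvd_mul hp).1 h with h | h
      · exact hYidx h
      · exact hdeg h
    have hinv := memLocalRing_inv_natCast hM hcop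
    have h2 := memLocalIdeal_mul_left hMp hinv h1
    have h3 : ((Y.index * charDegree (ξ : Y → ℂ) : ℕ) : ℂ)⁻¹ * ((Y.index : ℂ) *
        ((charDegree (ξ : Y → ℂ) : ℂ) * omega (ξ : Y → ℂ) (fun y : Y => e (y : G)))) =
        omega (ξ : Y → ℂ) (fun y : Y => e (y : G)) := by
      have h0 : ((Y.index * charDegree (ξ : Y → ℂ) : ℕ) : ℂ) ≠ 0 := by
        rw [Nat.cast_ne_zero]
        intro h
        apply hcop
        rw [h]
        exact dvd_zero _
      rw [← mul_assoc (Y.index : ℂ), ← Nat.cast_mul, ← mul_assoc, inv_mul_cancel₀ h0, one_mul]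
    rw [h3] at h2
    have h4 := memLocalIdeal_sub hMp h2 c5
    rw [sub_sub_cancel] at h4
    have h5 : MemLocalRing M (C'.index : ℂ) := memLocalRing_natCast hMp.ne_top _
    have h6 := memLocalIdeal_mul_left hMp h5 h4
    have hi0 : (C'.index : ℂ) ≠ 0 := by
      rw [Nat.cast_ne_zero]
      intro h
      apply hidx
      rw [h]
      exact dvd_zero _
    rw [mul_inv_cancel₀ hi0] at h6
    exact not_memLocalIdeal_one hMp h6
  have hex : ∃ χ : IrrCharacter G, ¬ p ∣ (if χ ∈ principalBlock M G then 1 else 0) *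
      charDegree (χ : G → ℂ) * a χ := by
    by_contra hcon
    push Not at hcon
    exact hS' (Finset.dvd_sum fun χ _ => hcon χ)
  obtain ⟨χ, hχ⟩ := hex
  have hχB : χ ∈ principalBlock M G := by
    by_contra h
    apply hχ
    rw [if_neg h, zero_mul, zero_mul]
    exact dvd_zero _
  rw [if_pos hχB, one_mul] at hχ
  refine ⟨χ, hχB, fun h => hχ (Dvd.dvd.mul_right h _), ?_⟩
  rw [ha χ]
  intro h
  apply hχ
  have : a χ = 0 := by exact_mod_cast h
  rw [this, mul_zero]
  exact dvd_zero _

end

end Cfsg.Agent.Lib.Helper8.TM
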