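import Mathlib
import Cfsg.Agent.Lib.Lead.HHDual
import Cfsg.Agent.Lib.Lead.CoprimeSylow3
import Cfsg.Agent.Lib.Lead.CoprimeAction
import Cfsg.Agent.Lib.Lead.CoprimeAction2
import Cfsg.Agent.Lib.Lead.CoprimeAction3
import Cfsg.Agent.Lib.Lead.Coprime
import Cfsg.Agent.Lib.Lead.CoprimeTools
import Cfsg.Agent.Lib.Lead.Core

/-!
# Groups with a non-normal trivial-intersection Sylow `p`-subgroup: a minimal section

For a `p`-solvable group with a TI Sylow `p`-subgroup `P` that is not normal we produce a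
`P`-invariant `q`-subgroup `D` on which `P` acts "freely modulo the centre".
-/

set_option autoImplicit false

namespace Cfsg.Agent.Lib.Helper8.TS

open Cfsg Cfsg.Agent.Lib.Lead
open scoped Pointwise commutatorElement

variable {G : Type*} [Group G] [Finite G] {p : ℕ} [hp : Fact p.Prime]

/-- In a group with a TI Sylow `p`-subgroup `P`, an element of a normal `p'`-subgroup commuting
with a nonidentity element of `P` centralizes `P`. -/
theorem ti_centralizer (P : Sylow p G)
    (hTI : ∀ g : G, g ∉ Subgroup.normalizer ((P : Subgroup G) : Set G) →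
      (P : Subgroup G) ⊓ (MulAut.conj g • (P : Subgroup G)) = ⊥)
    (K : Subgroup G) [hKn : K.Normal] (hK : (Nat.card K).Coprime p)
    {x : G} (hx : x ∈ (P : Subgroup G)) (hx1 : x ≠ 1) {k : G} (hk : k ∈ K) (hkx : x * k = k * x) :
    k ∈ Subgroup.centralizer ((P : Subgroup G) : Set G) := by
  have hkN : k ∈ Subgroup.normalizer ((P : Subgroup G) : Set G) := by
    by_contra hcon
    have h1 := hTI k hcon
    have h2 : x ∈ (P : Subgroup G) ⊓ (MulAut.conj k • (P : Subgroup G)) := by
      refine Subgroup.mem_inf.mpr ⟨hx, ?_⟩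
      rw [mem_conj_smul_iff']
      have : k⁻¹ * x * k = x := by rw [mul_assoc, hkx, ← mul_assoc, inv_mul_cancel, one_mul]
      rw [this]; exact hx
    rw [h1, Subgroup.mem_bot] at h2
    exact hx1 h2
  have hcop : (Nat.card (P : Subgroup G)).Coprime (Nat.card K) := by
    obtain ⟨n, hn⟩ := (IsPGroup.iff_card).mp P.isPGroup'
    rw [hn]
    exact (Nat.Coprime.pow_right n hK).symm
  have hd : (P : Subgroup G) ⊓ K = ⊥ := (Subgroup.disjoint_of_coprime_natCard hcop).eq_bot
  apply mem_centralizer_of_mem_normalizer (P : Subgroup G) K _ hd k hk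
  · intro a ha
    exact (Subgroup.mem_normalizer_iff.mp hkN a).mp ha
  · rw [Subgroup.normalizer_eq_top_iff.mpr hKn]; exact le_top


/-- A subgroup containing a Sylow `q`-subgroup of `D` for every prime `q` is all of `D`. -/
theorem eq_of_sylow_le {D E : Subgroup G} (hED : E ≤ D)
    (h : ∀ (q : ℕ) [Fact q.Prime], ∃ Q : Sylow q D, (Q : Subgroup D).map D.subtype ≤ E) :
    E = D := by
  apply Subgroup.eq_of_le_of_card_ge hED
  apply Nat.le_of_dvd Nat.card_pos
  rw [← Nat.factorization_prime_le_iff_dvd Nat.card_pos.ne' Nat.card_pos.ne']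
  intro q hq
  haveI : Fact q.Prime := ⟨hq⟩
  obtain ⟨Q, hQ⟩ := h q
  obtain ⟨h1, -, -⟩ := sylow_card_facts D q Q
  have h2 := Subgroup.card_dvd_of_le hQ
  rw [h1] at h2
  exact (hq.pow_dvd_iff_le_factorization Nat.card_pos.ne').mp h2

/-- The minimal section: for a `p`-solvable group with a non-normal TI Sylow `p`-subgroup `P`
there is a `P`-invariant `p'`-subgroup `D`, minimal among those not centralized by `P`. -/
theorem exists_section (hsolv : IsPSolvable p G) (P : Sylow p G)
    (hTI : ∀ g : G, g ∉ Subgroup.normalizer ((P : Subgroup G) : Set G) →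
      (P : Subgroup G) ⊓ (MulAut.conj g • (P : Subgroup G)) = ⊥)
    (hn : ¬ (P : Subgroup G).Normal) :
    ∃ D : Subgroup G, D ≠ ⊥ ∧ (P : Subgroup G) ≤ Subgroup.normalizer (D : Set G) ∧
      (Nat.card D).Coprime p ∧
      (∀ x ∈ (P : Subgroup G), x ≠ 1 → ∀ d ∈ D, x * d = d * x →
        d ∈ Subgroup.centralizer ((P : Subgroup G) : Set G)) ∧
      ⁅D, (P : Subgroup G)⁆ = D ∧
      ⁅D, D⁆ ≤ Subgroup.centralizer (D : Set G) ∧
      ⁅D, D⁆ ≤ Subgroup.centralizer ((P : Subgroup G) : Set G) ∧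
      D ⊓ Subgroup.centralizer ((P : Subgroup G) : Set G) ≤ Subgroup.centralizer (D : Set G) ∧
      (∀ E : Subgroup G, E ≤ D → E ≠ D → (P : Subgroup G) ≤ Subgroup.normalizer (E : Set G) →
        E ≤ Subgroup.centralizer ((P : Subgroup G) : Set G)) := by
  classical
  obtain ⟨A, hA⟩ : ∃ A : Subgroup G, A = (P : Subgroup G) := ⟨_, rfl⟩
  rw [← hA] at hn hTI ⊢
  have hAp : IsPGroup p A := by rw [hA]; exact P.isPGroup'
  haveI hAnil : Group.IsNilpotent A := hAp.isNilpotent
  have hAsolv : Group.IsSolvable A := inferInstance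
  -- an element outside the normalizer
  have hNtop : Subgroup.normalizer (A : Set G) ≠ ⊤ :=
    fun h => hn (Subgroup.normalizer_eq_top_iff.mp h)
  obtain ⟨g, hg⟩ : ∃ g, g ∉ Subgroup.normalizer (A : Set G) := by
    by_contra hcon
    push Not at hcon
    exact hNtop (eq_top_iff.mpr fun x _ => hcon x)
  have hcore : Cfsg.pCore p G = ⊥ := by
    rw [eq_bot_iff, ← hTI g hg, pCore_eq_iInf_sylow, hA]
    apply le_inf
    · exact iInf_le _ P
    · have := iInf_le (fun Q : Sylow p G => (Q : Subgroup G)) (MulAut.conj g • P)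
      rwa [Sylow.pointwise_smul_def] at this
  obtain ⟨K, hKdef⟩ : ∃ K : Subgroup G, K = Cfsg.pPrimeCore p G := ⟨_, rfl⟩
  haveI hKn : K.Normal := by
    rw [hKdef]; exact (Cfsg.Agent.Lib.Helper6.pPrimeCore_mem_set p).1
  have hKc : (Nat.card K).Coprime p := by
    rw [hKdef]; exact Cfsg.Agent.Lib.Helper6.pPrimeCore_coprime p
  have hCK : Subgroup.centralizer (K : Set G) ≤ K := by
    rw [hKdef]; exact centralizer_pPrimeCore_le_of_isPSolvable hsolv hcore
  have hA1 : A ≠ ⊥ := by
    intro h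
    apply hn
    rw [h]
    exact inferInstance
  have hcopK : (Nat.card A).Coprime (Nat.card K) := by
    obtain ⟨n, hn'⟩ := (IsPGroup.iff_card).mp hAp
    rw [hn']
    exact (Nat.Coprime.pow_right n hKc).symm
  have hdAK : A ⊓ K = ⊥ := (Subgroup.disjoint_of_coprime_natCard hcopK).eq_bot
  have hKA : ¬ K ≤ Subgroup.centralizer (A : Set G) := by
    intro h
    have h1 : A ≤ Subgroup.centralizer (K : Set G) := Subgroup.le_centralizer_iff.mp h
    have h2 : A ≤ A ⊓ K := le_inf le_rfl (h1.trans hCK)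
    rw [hdAK] at h2
    exact hA1 (eq_bot_iff.mpr h2)
  -- the minimal member of the family
  have hfin : {D : Subgroup G | D ≤ K ∧ A ≤ Subgroup.normalizer (D : Set G) ∧
      ¬ D ≤ Subgroup.centralizer (A : Set G)}.Finite := Set.toFinite _
  obtain ⟨D, ⟨hDK, hAD, hDA⟩, hmin⟩ := hfin.exists_minimal
    ⟨K, le_rfl, by rw [Subgroup.normalizer_eq_top_iff.mpr hKn]; exact le_top, hKA⟩
  have hmin' : ∀ E : Subgroup G, E ≤ D → E ≠ D → A ≤ Subgroup.normalizer (E : Set G) →
      E ≤ Subgroup.centralizer (A : Set G) := by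
    intro E hED hne hAE
    by_contra hcon
    exact hne (le_antisymm hED (hmin ⟨hED.trans hDK, hAE, hcon⟩ hED))
  have hDc : (Nat.card D).Coprime p :=
    Nat.Coprime.coprime_dvd_left (Subgroup.card_dvd_of_le hDK) hKc
  have hcopD : (Nat.card A).Coprime (Nat.card D) :=
    Nat.Coprime.coprime_dvd_right (Subgroup.card_dvd_of_le hDK) hcopK
  have hD1 : D ≠ ⊥ := by
    intro h
    apply hDA
    rw [h]
    exact bot_le
  -- `[D, A] = D`
  have hDAc : ⁅D, A⁆ = D := by
    by_contra hne
    have h1 : ⁅D, A⁆ ≤ D := commutator_le_left_of_le_normalizer D A hAD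
    have h2 := hmin' ⁅D, A⁆ h1 hne (le_normalizer_commutator_right D A hAD)
    have h3 : ⁅⁅D, A⁆, A⁆ = ⊥ := by
      rw [Subgroup.commutator_eq_bot_iff_le_centralizer]; exact h2
    rw [coprime_commutator_stable A D hAD hcopD (Or.inl hAsolv)] at h3
    apply hDA
    rw [← Subgroup.commutator_eq_bot_iff_le_centralizer]
    exact h3
  -- `D` is a `q`-group
  have hq : ∃ q : ℕ, q.Prime ∧ IsPGroup q D := by
    by_contra hcon
    push Not at hcon
    apply hDA
    have hE : D ⊓ Subgroup.centralizer (A : Set G) = D := by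
      apply eq_of_sylow_le inf_le_left
      intro q hqF
      obtain ⟨Q, hQ⟩ := coprime_invariant_sylow_exists A D hAD hcopD (Or.inl hAsolv) q
      refine ⟨Q, le_inf (Subgroup.map_subtype_le _) ?_⟩
      by_contra hQA
      have hQD : (Q : Subgroup D).map D.subtype = D := by
        by_contra hne
        exact hQA (hmin' _ (Subgroup.map_subtype_le _) hne hQ)
      apply hcon q hqF.out
      have h1 : IsPGroup q ((Q : Subgroup D).map D.subtype) := Q.isPGroup'.map D.subtype
      exact h1.to_le hQD.ge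
    rw [← hE]
    exact inf_le_right
  obtain ⟨q, hqp, hDq⟩ := hq
  haveI : Fact q.Prime := ⟨hqp⟩
  -- the derived subgroup
  have hDcD : ⁅D, D⁆ ≤ D := by
    rw [Subgroup.commutator_le]
    intro a ha b hb
    exact D.mul_mem (D.mul_mem (D.mul_mem ha hb) (D.inv_mem ha)) (D.inv_mem hb)
  have hDcne : ⁅D, D⁆ ≠ D := by
    intro h
    haveI : Nontrivial D := by
      rw [Subgroup.nontrivial_iff_ne_bot]; exact hD1
    haveI : Group.IsNilpotent D := hDq.isNilpotent
    have h1 : commutator D < ⊤ := Group.IsSolvable.commutator_lt_top_of_nontrivial D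
    have h2 : (commutator D).map D.subtype = ⁅D, D⁆ := Subgroup.map_subtype_commutator D
    apply h1.ne
    apply Subgroup.map_injective D.subtype_injective
    rw [h2, h, ← MonoidHom.range_eq_map, Subgroup.range_subtype]
  have hADc : A ≤ Subgroup.normalizer ((⁅D, D⁆ : Subgroup G) : Set G) :=
    (le_inf hAD hAD).trans (normalizer_inf_le_normalizer_commutator D D)
  have hDcA : ⁅D, D⁆ ≤ Subgroup.centralizer (A : Set G) := hmin' _ hDcD hDcne hADc
  have hDcA' : ⁅⁅D, D⁆, A⁆ = ⊥ := by
    rw [Subgroup.commutator_eq_bot_iff_le_centralizer]; exact hDcA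
  -- three subgroups lemma, twice
  have hDcZ : ⁅D, D⁆ ≤ Subgroup.centralizer (D : Set G) := by
    have h1 : ⁅⁅A, ⁅D, D⁆⁆, D⁆ = ⊥ := by
      rw [Subgroup.commutator_comm A, hDcA', Subgroup.commutator_bot_left]
    have h2 : ⁅⁅⁅D, D⁆, D⁆, A⁆ = ⊥ := by
      rw [Subgroup.commutator_eq_bot_iff_le_centralizer]
      exact (Subgroup.commutator_mono hDcD le_rfl).trans hDcA
    have h3 := Subgroup.commutator_commutator_eq_bot_of_rotate h1 h2
    rw [hDAc, Subgroup.commutator_eq_bot_iff_le_centralizer] at h3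
    exact Subgroup.le_centralizer_iff.mp h3
  have hD0Z : D ⊓ Subgroup.centralizer (A : Set G) ≤ Subgroup.centralizer (D : Set G) := by
    have h0 : ⁅D ⊓ Subgroup.centralizer (A : Set G), A⁆ = ⊥ := by
      rw [Subgroup.commutator_eq_bot_iff_le_centralizer]; exact inf_le_right
    have h1 : ⁅⁅A, D ⊓ Subgroup.centralizer (A : Set G)⁆, D⁆ = ⊥ := by
      rw [Subgroup.commutator_comm A, h0, Subgroup.commutator_bot_left]
    have h2 : ⁅⁅D ⊓ Subgroup.centralizer (A : Set G), D⁆, A⁆ = ⊥ := by
      rw [Subgroup.commutator_eq_bot_iff_le_centralizer]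
      exact (Subgroup.commutator_mono inf_le_left le_rfl).trans hDcA
    have h3 := Subgroup.commutator_commutator_eq_bot_of_rotate h1 h2
    rw [hDAc, Subgroup.commutator_eq_bot_iff_le_centralizer] at h3
    exact Subgroup.le_centralizer_iff.mp h3
  refine ⟨D, hD1, hAD, hDc, ?_, hDAc, hDcZ, hDcA, hD0Z, hmin'⟩
  intro x hx hx1 d hd hxd
  have hxP : x ∈ (P : Subgroup G) := by rw [← hA]; exact hx
  have := ti_centralizer P (by rw [← hA]; exact hTI) K hKc hxP hx1 (hDK hd) hxd
  rw [hA]; exact this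

end Cfsg.Agent.Lib.Helper8.TS
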