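import Mathlib
import Cfsg.Prelude.Def_Characters
import Cfsg.Agent.Lib.Helper8.PK2
import Cfsg.Agent.Lib.Helper8.GL13
import Cfsg.Agent.Lib.Helper1.LinearChar
import Cfsg.Agent.S0187
import Cfsg.Agent.Lib.Helper4.GC1

/-!
# Degree bounds for faithful characters under a free group of operators

`A` acts on `H` by automorphisms, fixing the character `ψ`.
* abelian case: if every nonidentity operator fixes only the identity, a character that is
  nontrivial somewhere has degree at least `|A|`.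
-/

set_option autoImplicit false
set_option linter.unusedSectionVars false

namespace Cfsg.Agent.Lib.Helper8.TS

open Cfsg
open scoped ComplexConjugate commutatorElement
open Cfsg.Agent.Lib.Helper1 Cfsg.Agent.Lib.Helper4 Cfsg.Agent.Lib.Helper8

universe u

section

variable {H : Type u} [Group H] [Fintype H]

/-- Abelian case. -/
theorem card_le_of_abelian (hcomm : ∀ a b : H, a * b = b * a)
    {ψ : H → ℂ} (hψ : IsCharacter H ψ) (h₀ : H) (hfaith : ψ h₀ ≠ ψ 1)
    {A : Type*} [Group A] [Fintype A] (σ : A →* MulAut H)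
    (hinv : ∀ a h, ψ (σ a h) = ψ h)
    (hfree : ∀ a : A, a ≠ 1 → ∀ h : H, σ a h = h → h = 1)
    (d : ℕ) (hd : ψ 1 = d) : Nat.card A ≤ d := by
  classical
  haveI : Fintype (IrrCharacter H) := Fintype.ofFinite _
  have ha : ∀ ζ : IrrCharacter H, ∃ m : ℕ, classInner ψ (ζ : H → ℂ) = m :=
    fun ζ => classInner_char_irr_nat hψ ζ.2
  choose m hm using ha
  have hlin : ∀ ζ : IrrCharacter H, (ζ : H → ℂ) 1 = 1 := (Cfsg.Agent.S0187.result).1 hcomm
  have hexp := class_function_expansion ψ (isClassFunction_of_isCharacter hψ)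
  have hval : ∀ h : H, ψ h = ∑ ζ : IrrCharacter H, (m ζ : ℂ) * (ζ : H → ℂ) h := by
    intro h
    conv_lhs => rw [hexp]
    rw [Finset.sum_apply]
    refine Finset.sum_congr rfl fun ζ _ => ?_
    rw [Pi.smul_apply, smul_eq_mul, hm ζ]
  have h1 : (d : ℂ) = ((∑ ζ : IrrCharacter H, m ζ : ℕ) : ℂ) := by
    rw [← hd, hval 1]
    push_cast
    refine Finset.sum_congr rfl fun ζ _ => ?_
    rw [hlin ζ, mul_one]
  have h2 : d = ∑ ζ : IrrCharacter H, m ζ := by exact_mod_cast h1
  -- a constituent nontrivial at `h₀`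
  obtain ⟨ζ₀, hζ₀m, hζ₀h⟩ : ∃ ζ₀ : IrrCharacter H, m ζ₀ ≠ 0 ∧ (ζ₀ : H → ℂ) h₀ ≠ 1 := by
    by_contra hcon
    push Not at hcon
    apply hfaith
    rw [hval h₀, hval 1]
    refine Finset.sum_congr rfl fun ζ _ => ?_
    by_cases h0 : m ζ = 0
    · rw [h0]; simp
    · rw [hcon ζ h0, hlin ζ]
  obtain ⟨φ, hφ⟩ := exists_hom_of_isIrrCharacter ζ₀.2 (hlin ζ₀)
  have hφv : ∀ h : H, (ζ₀ : H → ℂ) h = (φ h : ℂ) := fun h => congrFun hφ h
  -- the conjugates
  let f : A → IrrCharacter H := fun a =>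
    ⟨fun h => (ζ₀ : H → ℂ) (σ a h), isIrrCharacter_comp_mulEquiv ζ₀.2 (σ a)⟩
  have hfm : ∀ a : A, m (f a) = m ζ₀ := by
    intro a
    have h3 : classInner ψ ((f a : IrrCharacter H) : H → ℂ) = classInner ψ (ζ₀ : H → ℂ) := by
      have h4 := classInner_mulEquiv (σ a) ψ (ζ₀ : H → ℂ)
      have h5 : (fun h => ψ (σ a h)) = ψ := funext fun h => hinv a h
      rw [h5] at h4
      exact h4
    rw [hm, hm] at h3
    exact_mod_cast h3
  have hfinj : Function.Injective f := by
    intro a b hab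
    by_contra hne
    have hc : b * a⁻¹ ≠ 1 := by
      intro h
      apply hne
      have : b = a := by
        calc b = b * a⁻¹ * a := by group
          _ = a := by rw [h, one_mul]
      exact this.symm
    have hfix : ∀ h : H, (ζ₀ : H → ℂ) (σ (b * a⁻¹) h) = (ζ₀ : H → ℂ) h := by
      intro h
      have h6 := congrFun (congrArg Subtype.val hab) (σ a⁻¹ h)
      simp only [f] at h6
      have h7 : σ a (σ a⁻¹ h) = h := by
        rw [← MulAut.mul_apply, ← map_mul, mul_inv_cancel, map_one, MulAut.one_apply]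
      have h8 : σ b (σ a⁻¹ h) = σ (b * a⁻¹) h := by
        rw [← MulAut.mul_apply, ← map_mul]
      rw [h7, h8] at h6
      exact h6.symm
    -- the map `h ↦ σ c h * h⁻¹` is a bijection
    have hinj : Function.Injective (fun h : H => σ (b * a⁻¹) h * h⁻¹) := by
      intro x y hxy
      simp only at hxy
      have h9 : σ (b * a⁻¹) (y⁻¹ * x) = y⁻¹ * x := by
        rw [map_mul, map_inv]
        have : σ (b * a⁻¹) x = σ (b * a⁻¹) y * y⁻¹ * x := by
          rw [← hxy]; group
        rw [this]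
        group
      have h10 := hfree _ hc _ h9
      calc x = y * (y⁻¹ * x) := by group
        _ = y := by rw [h10, mul_one]
    have hsurj := (Finite.injective_iff_surjective.mp hinj)
    obtain ⟨h, hh⟩ := hsurj h₀
    simp only at hh
    apply hζ₀h
    rw [← hh, hφv, map_mul, Units.val_mul, ← hφv, ← hφv, hfix h, hφv, hφv, map_inv]
    simp
  -- count
  have h3 : ∑ a : A, m (f a) ≤ ∑ ζ : IrrCharacter H, m ζ := by
    rw [← Finset.sum_image (f := fun ζ => m ζ) (s := Finset.univ) (g := f)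
      (fun a _ b _ hab => hfinj hab)]
    exact Finset.sum_le_sum_of_subset (Finset.subset_univ _)
  have h4 : ∑ a : A, m (f a) = Fintype.card A * m ζ₀ := by
    rw [Finset.sum_congr rfl (fun a _ => hfm a), Finset.sum_const, Finset.card_univ, smul_eq_mul]
  rw [Nat.card_eq_fintype_card, h2]
  calc Fintype.card A ≤ Fintype.card A * m ζ₀ :=
        Nat.le_mul_of_pos_right _ (Nat.pos_of_ne_zero hζ₀m)
    _ = ∑ a : A, m (f a) := h4.symm
    _ ≤ _ := h3


theorem mem_center_of_apply (e : MulAut H) {h : H} (hh : e h ∈ Subgroup.center H) :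
    h ∈ Subgroup.center H := by
  rw [Subgroup.mem_center_iff] at hh ⊢
  intro g
  have := hh (e g)
  rw [← map_mul, ← map_mul] at this
  exact e.injective this

theorem apply_mem_center (e : MulAut H) {h : H} (hh : h ∈ Subgroup.center H) :
    e h ∈ Subgroup.center H := by
  apply mem_center_of_apply e⁻¹
  rw [MulAut.inv_apply_self]
  exact hh

/-- Class two case: the operators centralize the derived subgroup, act freely modulo the centre,
and every proper invariant subgroup is central.  Then a character nontrivial somewhere on the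
derived subgroup has degree `d` with `|A| < d²`. -/
theorem card_lt_sq_of_class_two
    (hZ : commutator H ≤ Subgroup.center H)
    {ψ : H → ℂ} (hψ : IsCharacter H ψ) (z₀ : H) (hz₀ : z₀ ∈ commutator H) (hfaith : ψ z₀ ≠ ψ 1)
    {A : Type*} [Group A] [Fintype A] (σ : A →* MulAut H)
    (hAc : ∀ a : A, ∀ c ∈ commutator H, σ a c = c)
    (hmin : ∀ E : Subgroup H, E ≠ ⊤ → (∀ a : A, ∀ x ∈ E, σ a x ∈ E) → E ≤ Subgroup.center H)
    (hfree : ∀ a : A, a ≠ 1 → ∀ h : H, σ a h = h → h ∈ Subgroup.center H)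
    (hcop : (Nat.card A).Coprime (Nat.card H))
    (d : ℕ) (hd : ψ 1 = d) : Nat.card A < d ^ 2 := by
  classical
  haveI : Fintype (IrrCharacter H) := Fintype.ofFinite _
  have ha : ∀ ζ : IrrCharacter H, ∃ m : ℕ, classInner ψ (ζ : H → ℂ) = m :=
    fun ζ => classInner_char_irr_nat hψ ζ.2
  choose m hm using ha
  have he : ∀ ζ : IrrCharacter H, ∃ n : ℕ, 0 < n ∧ (ζ : H → ℂ) 1 = n :=
    fun ζ => irr_apply_one_pos ζ.2
  choose e he0 he using he
  have hexp := class_function_expansion ψ (isClassFunction_of_isCharacter hψ)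
  have hval : ∀ h : H, ψ h = ∑ ζ : IrrCharacter H, (m ζ : ℂ) * (ζ : H → ℂ) h := by
    intro h
    conv_lhs => rw [hexp]
    rw [Finset.sum_apply]
    refine Finset.sum_congr rfl fun ζ _ => ?_
    rw [Pi.smul_apply, smul_eq_mul, hm ζ]
  have h1 : (d : ℂ) = ((∑ ζ : IrrCharacter H, m ζ * e ζ : ℕ) : ℂ) := by
    rw [← hd, hval 1]
    push_cast
    refine Finset.sum_congr rfl fun ζ _ => ?_
    rw [he ζ]
  have h2 : d = ∑ ζ : IrrCharacter H, m ζ * e ζ := by exact_mod_cast h1
  obtain ⟨θ, hθm, hθz⟩ : ∃ θ : IrrCharacter H, m θ ≠ 0 ∧ (θ : H → ℂ) z₀ ≠ (θ : H → ℂ) 1 := by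
    by_contra hcon
    push Not at hcon
    apply hfaith
    rw [hval z₀, hval 1]
    refine Finset.sum_congr rfl fun ζ _ => ?_
    by_cases h0 : m ζ = 0
    · rw [h0]; simp
    · rw [hcon ζ h0]
  have hed : e θ ≤ d := by
    rw [h2]
    calc e θ ≤ m θ * e θ := Nat.le_mul_of_pos_left _ (Nat.pos_of_ne_zero hθm)
      _ ≤ _ := Finset.single_le_sum (f := fun ζ => m ζ * e ζ) (fun ζ _ => Nat.zero_le _)
          (Finset.mem_univ θ)
  have hθ : IsIrrCharacter H (θ : H → ℂ) := θ.2
  obtain ⟨L, hLn, hL⟩ := Cfsg.Agent.Lib.Helper4.TD.exists_kernel hθ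
  -- the preimage of the centre of `H / L`
  let Zt : Subgroup H :=
    { carrier := {g | ∀ h : H, ⁅g, h⁆ ∈ L}
      one_mem' := by
        intro h
        rw [commutatorElement_def]
        simp [L.one_mem]
      mul_mem' := by
        intro g₁ g₂ hg₁ hg₂ h
        have : ⁅g₁ * g₂, h⁆ = g₁ * ⁅g₂, h⁆ * g₁⁻¹ * ⁅g₁, h⁆ := by
          rw [commutatorElement_def, commutatorElement_def, commutatorElement_def]; group
        rw [this]
        exact L.mul_mem (hLn.conj_mem _ (hg₂ h) g₁) (hg₁ h)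
      inv_mem' := by
        intro g hg h
        have : ⁅g⁻¹, h⁆ = g⁻¹ * (⁅g, h⁆)⁻¹ * g⁻¹⁻¹ := by
          rw [commutatorElement_def, commutatorElement_def]; group
        rw [this]
        exact hLn.conj_mem _ (L.inv_mem (hg h)) g⁻¹ }
  have hZt_mem : ∀ g : H, g ∈ Zt ↔ ∀ h : H, ⁅g, h⁆ ∈ L := fun g => Iff.rfl
  have hcomm_mem : ∀ g h : H, ⁅g, h⁆ ∈ commutator H := by
    intro g h
    rw [commutator_def]
    exact Subgroup.commutator_mem_commutator (Subgroup.mem_top g) (Subgroup.mem_top h)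
  have hZt_inv : ∀ a : A, ∀ x ∈ Zt, σ a x ∈ Zt := by
    intro a x hx
    rw [hZt_mem] at hx ⊢
    intro h
    have h3 : ⁅σ a x, h⁆ = σ a ⁅x, (σ a)⁻¹ h⁆ := by
      rw [commutatorElement_def, commutatorElement_def]
      simp only [map_mul, map_inv, MulAut.apply_inv_self]
    rw [h3, hAc a _ (hcomm_mem _ _)]
    exact hx _
  have hZt_ne : Zt ≠ ⊤ := by
    intro h
    apply hθz
    rw [← hL]
    have h4 : commutator H ≤ L := by
      rw [commutator_def, Subgroup.commutator_le]
      intro g _ k _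
      have : g ∈ Zt := by rw [h]; exact Subgroup.mem_top g
      exact (hZt_mem g).1 this k
    exact h4 hz₀
  have hZt_le : Zt ≤ Subgroup.center H := hmin Zt hZt_ne hZt_inv
  obtain ⟨f, hf⟩ := Cfsg.Agent.Lib.Helper4.GC.exists_centralHom hθ
  have hcl := isClassFunction_of_isCharacter (isCharacter_of_irr hθ)
  -- vanishing off the centre
  have hvan : ∀ g : H, g ∉ Subgroup.center H → (θ : H → ℂ) g = 0 := by
    intro g hg
    by_contra hne
    apply hg
    apply hZt_le
    rw [hZt_mem]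
    intro h
    have hc : ⁅g, h⁆ ∈ Subgroup.center H := hZ (hcomm_mem g h)
    have hci : (⁅g, h⁆)⁻¹ ∈ Subgroup.center H := (Subgroup.center H).inv_mem hc
    have h5 : h * g * h⁻¹ = (⁅g, h⁆)⁻¹ * g := by
      rw [commutatorElement_def]; group
    have h6 : (θ : H → ℂ) (h * g * h⁻¹) = (θ : H → ℂ) g := hcl g h
    rw [h5] at h6
    have h7 := hf ⟨(⁅g, h⁆)⁻¹, hci⟩ g
    simp only at h7
    rw [h7] at h6
    have h8 : f ⟨(⁅g, h⁆)⁻¹, hci⟩ = 1 := by
      have : (f ⟨(⁅g, h⁆)⁻¹, hci⟩ - 1) * (θ : H → ℂ) g = 0 := by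
        rw [sub_mul, h6, one_mul, sub_self]
      rcases mul_eq_zero.1 this with h9 | h9
      · exact sub_eq_zero.1 h9
      · exact absurd h9 hne
    have h10 := hf ⟨(⁅g, h⁆)⁻¹, hci⟩ 1
    simp only [mul_one] at h10
    rw [h8, one_mul] at h10
    have h11 : (⁅g, h⁆)⁻¹ ∈ L := (hL _).2 h10
    have := L.inv_mem h11
    rwa [inv_inv] at this
  have hnorm : ∀ z ∈ Subgroup.center H, ‖(θ : H → ℂ) z‖ = e θ := by
    intro z hz
    have h12 : ‖(θ : H → ℂ) z‖ = ‖(θ : H → ℂ) 1‖ := by
      apply norm_eq_of_central_mod_ker hθ z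
      intro c
      have := (Subgroup.mem_center_iff.1 hz) c
      have h13 : z * c * z⁻¹ * c⁻¹ = 1 := by
        rw [← this]; group
      rw [h13]
    rw [h12, he θ]
    simp
  obtain ⟨hcard, -⟩ := Cfsg.Agent.Lib.Helper4.TD.index_of_ramified (e θ) (Subgroup.center H) (θ : H → ℂ) hθ hvan hnorm
  -- the free action on the noncentral elements
  let S := {h : H // h ∉ Subgroup.center H}
  letI : MulAction A S :=
    { smul := fun a s => ⟨σ a s.1, fun hc => s.2 (mem_center_of_apply (σ a) hc)⟩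
      one_smul := by
        intro s
        apply Subtype.ext
        change σ 1 s.1 = s.1
        rw [map_one, MulAut.one_apply]
      mul_smul := by
        intro a b s
        apply Subtype.ext
        change σ (a * b) s.1 = σ a (σ b s.1)
        rw [map_mul, MulAut.mul_apply] }
  have hstab : ∀ s : S, MulAction.stabilizer A s = ⊥ := by
    intro s
    rw [eq_bot_iff]
    intro a ha
    rw [Subgroup.mem_bot]
    by_contra hne
    rw [MulAction.mem_stabilizer_iff] at ha
    have h14 : σ a s.1 = s.1 := congrArg Subtype.val ha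
    exact s.2 (hfree a hne s.1 h14)
  have hdvd : Nat.card A ∣ Nat.card S := by
    rw [Nat.card_congr (MulAction.selfEquivOrbitsQuotientProd hstab), Nat.card_prod]
    exact Dvd.intro_left _ rfl
  have hS : Nat.card S + Nat.card (Subgroup.center H) = Nat.card H := by
    have := Nat.card_congr (Equiv.sumCompl (fun h : H => h ∈ Subgroup.center H))
    rw [Nat.card_sum] at this
    rw [← this, add_comm]
  -- arithmetic
  have hZpos : 0 < Nat.card (Subgroup.center H) := Nat.card_pos
  have hS' : Nat.card S = (e θ ^ 2 - 1) * Nat.card (Subgroup.center H) := by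
    have h15 : Nat.card S = e θ ^ 2 * Nat.card (Subgroup.center H) - Nat.card (Subgroup.center H) := by
      rw [← hcard, ← hS]; simp
    rw [h15, Nat.sub_mul, one_mul]
  have hcopZ : (Nat.card A).Coprime (Nat.card (Subgroup.center H)) :=
    Nat.Coprime.coprime_dvd_right (Subgroup.card_subgroup_dvd_card _) hcop
  rw [hS'] at hdvd
  have hdvd' : Nat.card A ∣ e θ ^ 2 - 1 := hcopZ.dvd_of_dvd_mul_right hdvd
  have hne1 : e θ ^ 2 - 1 ≠ 0 := by
    intro h0
    -- then `S` is empty, so `H` is abelian and `z₀ = 1`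
    have h16 : Nat.card S = 0 := by rw [hS', h0, zero_mul]
    have h17 : ∀ h : H, h ∈ Subgroup.center H := by
      intro h
      by_contra hh
      haveI : Nonempty S := ⟨⟨h, hh⟩⟩
      exact (Nat.card_pos (α := S)).ne' h16
    apply hZt_ne
    rw [eq_top_iff]
    intro g _
    rw [hZt_mem]
    intro h
    have h18 : ⁅g, h⁆ = 1 := by
      rw [commutatorElement_def]
      have := (Subgroup.mem_center_iff.1 (h17 g)) h
      rw [← this]; group
    rw [h18]; exact L.one_mem
  have h19 : Nat.card A ≤ e θ ^ 2 - 1 := Nat.le_of_dvd (Nat.pos_of_ne_zero hne1) hdvd'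
  have h20 : e θ ^ 2 ≤ d ^ 2 := Nat.pow_le_pow_left hed 2
  omega

end

end Cfsg.Agent.Lib.Helper8.TS
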