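import Mathlib
import Cfsg.Agent.Lib.Helper8.TS1
import Cfsg.Agent.Lib.Helper8.TS2
import Cfsg.Agent.S0148

/-!
# A `p`-solvable group with a TI Sylow `p`-subgroup and a faithful character of small degree
-/

set_option autoImplicit false
set_option linter.unusedSectionVars false

namespace Cfsg.Agent.Lib.Helper8.TS

open Cfsg Cfsg.Agent.Lib.Lead
open scoped Pointwise commutatorElement

universe u

noncomputable local instance subFtTS3 {G : Type u} [Group G] [Finite G] (H : Subgroup G) :
    Fintype H := Fintype.ofFinite H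

variable {G : Type u} [Group G]

/-- Conjugation by the elements of a subgroup `A` normalizing `D`, as automorphisms of `D`. -/
def conjAct (D A : Subgroup G) (hAD : A ≤ Subgroup.normalizer (D : Set G)) : A →* MulAut D where
  toFun a :=
    { toFun := fun d => ⟨(a : G) * d * (a : G)⁻¹,
        (Subgroup.mem_normalizer_iff.mp (hAD a.2) d).mp d.2⟩
      invFun := fun d => ⟨(a : G)⁻¹ * d * (a : G), by
        apply (Subgroup.mem_normalizer_iff.mp (hAD a.2) ((a : G)⁻¹ * d * (a : G))).mpr
        have : (a : G) * ((a : G)⁻¹ * d * (a : G)) * (a : G)⁻¹ = d := by group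
        rw [this]; exact d.2⟩
      left_inv := fun d => by
        apply Subtype.ext
        simp only
        group
      right_inv := fun d => by
        apply Subtype.ext
        simp only
        group
      map_mul' := fun x y => by
        apply Subtype.ext
        simp only [Subgroup.coe_mul]
        group }
  map_one' := by
    apply MulEquiv.ext
    intro d
    apply Subtype.ext
    simp
  map_mul' := fun a b => by
    apply MulEquiv.ext
    intro d
    apply Subtype.ext
    simp [mul_assoc]

theorem conjAct_apply (D A : Subgroup G) (hAD : A ≤ Subgroup.normalizer (D : Set G)) (a : A)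
    (d : D) : ((conjAct D A hAD a d : D) : G) = (a : G) * d * (a : G)⁻¹ := rfl

variable [Finite G] {p : ℕ} [hp : Fact p.Prime]

theorem normal_of_ti (hsolv : IsPSolvable p G) (P : Sylow p G)
    (hTI : ∀ g : G, g ∉ Subgroup.normalizer ((P : Subgroup G) : Set G) →
      (P : Subgroup G) ⊓ (MulAut.conj g • (P : Subgroup G)) = ⊥)
    (χ : G → ℂ) (hχ : IsCharacter G χ) (hfaith : ∀ g : G, χ g = χ 1 → g = 1)
    (d : ℕ) (hd : χ 1 = d) (hdeg : d ^ 2 ≤ Nat.card (P : Subgroup G)) :
    (P : Subgroup G).Normal := by
  classical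
  by_contra hn
  obtain ⟨D, hD1, hAD, hDc, hTIc, hDAc, hDcZ, hDcA, hD0Z, hmin⟩ := exists_section hsolv P hTI hn
  obtain ⟨A, hA⟩ : ∃ A : Subgroup G, A = (P : Subgroup G) := ⟨_, rfl⟩
  rw [← hA] at hAD hTIc hDAc hDcA hD0Z hmin hdeg hn
  have hAp : IsPGroup p A := by rw [hA]; exact P.isPGroup'
  have hcop : (Nat.card A).Coprime (Nat.card D) := by
    obtain ⟨n, hn'⟩ := (IsPGroup.iff_card).mp hAp
    rw [hn']
    exact (Nat.Coprime.pow_right n hDc).symm
  have hA1 : A ≠ ⊥ := by
    intro h
    apply hn
    rw [h]
    exact inferInstance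
  have hψ : IsCharacter D (fun x : D => χ x) := Cfsg.Agent.S0148.isCharacter_restrict D hχ
  have hψ1 : (fun x : D => χ x) 1 = d := by
    simp only [Subgroup.coe_one]; exact hd
  -- the action
  obtain ⟨σ, hσ⟩ : ∃ σ : A →* MulAut D, ∀ (a : A) (x : D), ((σ a x : D) : G) = (a : G) * x * (a : G)⁻¹ :=
    ⟨conjAct D A hAD, fun a x => conjAct_apply D A hAD a x⟩
  have hcl := Cfsg.Agent.Lib.Helper4.isClassFunction_of_isCharacter hχ
  have hinv : ∀ (a : A) (x : D), (fun x : D => χ x) (σ a x) = (fun x : D => χ x) x := by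
    intro a x
    simp only
    rw [hσ]
    exact hcl _ _
  have hfix : ∀ (a : A), a ≠ 1 → ∀ x : D, σ a x = x →
      (x : G) ∈ D ⊓ Subgroup.centralizer (A : Set G) := by
    intro a ha x hx
    refine ⟨x.2, hTIc a a.2 ?_ x x.2 ?_⟩
    · intro h
      apply ha
      exact Subtype.ext h
    · have h1 := congrArg Subtype.val hx
      rw [hσ] at h1
      calc (a : G) * x = ((a : G) * x * (a : G)⁻¹) * a := by group
        _ = x * a := by rw [h1]
  by_cases hab : ⁅D, D⁆ = ⊥
  · -- abelian case
    have hcomm : ∀ a b : D, a * b = b * a := by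
      intro a b
      apply Subtype.ext
      rw [Subgroup.commutator_eq_bot_iff_le_centralizer] at hab
      have := Subgroup.mem_centralizer_iff.mp (hab a.2) b b.2
      simp only [Subgroup.coe_mul]
      exact this.symm
    haveI : IsMulCommutative D := ⟨⟨hcomm⟩⟩
    obtain ⟨hdec, -⟩ := coprime_abelian_decomp A D hAD hcop
    rw [hDAc] at hdec
    have hD0 : D ⊓ Subgroup.centralizer (A : Set G) = ⊥ := by
      rw [eq_bot_iff, ← hdec]
      exact le_inf le_rfl inf_le_left
    obtain ⟨x₀, hx₀D, hx₀1⟩ : ∃ x₀ ∈ D, x₀ ≠ (1 : G) := by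
      by_contra hcon
      push Not at hcon
      apply hD1
      rw [eq_bot_iff]
      intro x hx
      rw [Subgroup.mem_bot]
      exact hcon x hx
    have hne : (fun x : D => χ x) ⟨x₀, hx₀D⟩ ≠ (fun x : D => χ x) 1 := by
      simp only [Subgroup.coe_one]
      intro h
      exact hx₀1 (hfaith x₀ h)
    have hfree : ∀ a : A, a ≠ 1 → ∀ x : D, σ a x = x → x = 1 := by
      intro a ha x hx
      have := hfix a ha x hx
      rw [hD0, Subgroup.mem_bot] at this
      exact Subtype.ext this
    have hle := card_le_of_abelian hcomm hψ ⟨x₀, hx₀D⟩ hne σ hinv hfree d hψ1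
    have h2 : 2 ≤ Nat.card A := by
      by_contra hlt
      push Not at hlt
      apply hA1
      rw [← Subgroup.card_eq_one]
      have := Nat.card_pos (α := A)
      omega
    nlinarith
  · -- class two case
    have hmap : (commutator D).map D.subtype = ⁅D, D⁆ := Subgroup.map_subtype_commutator D
    have hcG : ∀ c : D, c ∈ commutator D → (c : G) ∈ ⁅D, D⁆ := by
      intro c hc
      rw [← hmap]
      exact ⟨c, hc, rfl⟩
    have hcen : ∀ x : D, (x : G) ∈ Subgroup.centralizer (D : Set G) → x ∈ Subgroup.center D := by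
      intro x hx
      rw [Subgroup.mem_center_iff]
      intro y
      apply Subtype.ext
      simp only [Subgroup.coe_mul]
      exact Subgroup.mem_centralizer_iff.mp hx y y.2
    have hZ : commutator D ≤ Subgroup.center D := fun c hc => hcen c (hDcZ (hcG c hc))
    obtain ⟨z₀, hz₀c, hz₀1⟩ : ∃ z₀ : D, z₀ ∈ commutator D ∧ z₀ ≠ 1 := by
      by_contra hcon
      push Not at hcon
      apply hab
      rw [← hmap]
      have : commutator D = ⊥ := by
        rw [eq_bot_iff]
        intro c hc
        rw [Subgroup.mem_bot]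
        exact hcon c hc
      rw [this, Subgroup.map_bot]
    have hne : (fun x : D => χ x) z₀ ≠ (fun x : D => χ x) 1 := by
      simp only [Subgroup.coe_one]
      intro h
      apply hz₀1
      exact Subtype.ext (hfaith _ h)
    have hAc : ∀ a : A, ∀ c ∈ commutator D, σ a c = c := by
      intro a c hc
      apply Subtype.ext
      rw [hσ]
      have := Subgroup.mem_centralizer_iff.mp (hDcA (hcG c hc)) a a.2
      rw [this]
      group
    have hminD : ∀ E : Subgroup D, E ≠ ⊤ → (∀ a : A, ∀ x ∈ E, σ a x ∈ E) →
        E ≤ Subgroup.center D := by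
      intro E hE hEinv
      have h1 : E.map D.subtype ≤ D := Subgroup.map_subtype_le E
      have h2 : E.map D.subtype ≠ D := by
        intro h
        apply hE
        apply Subgroup.map_injective D.subtype_injective
        rw [h, ← MonoidHom.range_eq_map, Subgroup.range_subtype]
      have h3 : A ≤ Subgroup.normalizer ((E.map D.subtype : Subgroup G) : Set G) := by
        intro a ha
        have key : ∀ b ∈ A, ∀ y ∈ E.map D.subtype, b * y * b⁻¹ ∈ E.map D.subtype := by
          rintro b hb _ ⟨x, hx, rfl⟩
          refine ⟨σ ⟨b, hb⟩ x, hEinv ⟨b, hb⟩ x hx, ?_⟩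
          exact hσ ⟨b, hb⟩ x
        rw [Subgroup.mem_normalizer_iff]
        intro y
        constructor
        · exact key a ha y
        · intro hy
          have := key a⁻¹ (A.inv_mem ha) _ hy
          have h4 : a⁻¹ * (a * y * a⁻¹) * a⁻¹⁻¹ = y := by group
          rwa [h4] at this
      have h5 := hmin _ h1 h2 h3
      intro x hx
      apply hcen
      apply hD0Z
      exact ⟨x.2, h5 ⟨x, hx, rfl⟩⟩
    have hfree : ∀ a : A, a ≠ 1 → ∀ x : D, σ a x = x → x ∈ Subgroup.center D := by
      intro a ha x hx
      exact hcen x (hD0Z (hfix a ha x hx))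
    have hlt := card_lt_sq_of_class_two hZ hψ z₀ hz₀c hne σ hAc hminD hfree hcop d hψ1
    omega

end Cfsg.Agent.Lib.Helper8.TS
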