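import Mathlib
import Cfsg.Prelude.Def_CaseTheorems
import Cfsg.Agent.Lib.Helper8.TetDefs
import Cfsg.Agent.Lib.Helper5.TetBasic

/-!
# S2928: auxiliary finset lemmas for packages P3, P6 (notes/S2928_paper_helper8.md)
-/

set_option autoImplicit false
set_option linter.unusedSectionVars false

namespace Cfsg.Agent.Lib.Helper8.Tet

open Equiv Equiv.Perm Subgroup

variable {Ω : Type*} [Fintype Ω] [DecidableEq Ω]

theorem exists_fourth {Q : Finset Ω} (hQ : Q.card = 4) {p a a' : Ω} (hp : p ∈ Q) (ha : a ∈ Q)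
    (ha' : a' ∈ Q) (h1 : p ≠ a) (h2 : p ≠ a') (h3 : a ≠ a') :
    ∃ a'' : Ω, a'' ≠ p ∧ a'' ≠ a ∧ a'' ≠ a' ∧ Q = {p, a, a', a''} := by
  have hsub : ({p, a, a'} : Finset Ω) ⊆ Q := by
    intro y hy
    simp only [Finset.mem_insert, Finset.mem_singleton] at hy
    rcases hy with rfl | rfl | rfl <;> assumption
  have hc3 : ({p, a, a'} : Finset Ω).card = 3 := by
    rw [Finset.card_insert_of_notMem, Finset.card_insert_of_notMem, Finset.card_singleton]
    · simpa using h3
    · simp [h1, h2]
  have hc1 : (Q \ {p, a, a'}).card = 1 := by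
    rw [Finset.card_sdiff_of_subset hsub, hQ, hc3]
  obtain ⟨a'', ha''⟩ := Finset.card_eq_one.mp hc1
  have hmem : a'' ∈ Q \ {p, a, a'} := by rw [ha'']; exact Finset.mem_singleton_self _
  rw [Finset.mem_sdiff] at hmem
  simp only [Finset.mem_insert, Finset.mem_singleton, not_or] at hmem
  refine ⟨a'', hmem.2.1, hmem.2.2.1, hmem.2.2.2, ?_⟩
  ext y
  simp only [Finset.mem_insert, Finset.mem_singleton]
  constructor
  · intro hy
    by_cases h : y ∈ ({p, a, a'} : Finset Ω)
    · simp only [Finset.mem_insert, Finset.mem_singleton] at h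
      rcases h with h | h | h
      · exact Or.inl h
      · exact Or.inr (Or.inl h)
      · exact Or.inr (Or.inr (Or.inl h))
    · have : y ∈ Q \ {p, a, a'} := Finset.mem_sdiff.mpr ⟨hy, h⟩
      rw [ha'', Finset.mem_singleton] at this
      exact Or.inr (Or.inr (Or.inr this))
  · rintro (rfl | rfl | rfl | rfl)
    · exact hp
    · exact ha
    · exact ha'
    · exact hmem.1

/-- two distinct tetrads (no 3-cycles) cannot meet in exactly one point. -/
theorem parity_false {H : Subgroup (Perm Ω)} (h3 : NoThree H) {R R' : Finset Ω}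
    (hR : IsTet H R) (hR' : IsTet H R') (y : Ω) (hy : y ∈ R) (hy' : y ∈ R')
    (huniq : ∀ z ∈ R, z ∈ R' → z = y) : False := by
  have hc : (R ∩ R').card = 1 := by
    rw [Finset.card_eq_one]
    refine ⟨y, ?_⟩
    rw [Finset.eq_singleton_iff_unique_mem]
    refine ⟨Finset.mem_inter.mpr ⟨hy, hy'⟩, ?_⟩
    intro z hz
    rw [Finset.mem_inter] at hz
    exact huniq z hz.1 hz.2
  rcases inter_card_of_noThree h3 hR hR' with h | h | h
  · omega
  · omega
  · subst h
    rw [Finset.inter_self, hR.1] at hc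
    omega

/-- two tetrads (no 3-cycles) sharing a point share another point. -/
theorem exists_second {H : Subgroup (Perm Ω)} (h3 : NoThree H) {R R' : Finset Ω}
    (hR : IsTet H R) (hR' : IsTet H R') (y : Ω) (hy : y ∈ R) (hy' : y ∈ R') :
    ∃ z ∈ R, z ∈ R' ∧ z ≠ y := by
  by_contra hno
  push Not at hno
  exact parity_false h3 hR hR' y hy hy' hno

theorem vec8_injective {p a a' a'' w v v' v'' : Ω}
    (h1 : p ≠ a) (h2 : p ≠ a') (h3 : p ≠ a'') (h4 : a ≠ a') (h5 : a ≠ a'') (h6 : a' ≠ a'')
    (k1 : w ≠ v) (k2 : w ≠ v') (k3 : w ≠ v'') (k4 : v ≠ v') (k5 : v ≠ v'') (k6 : v' ≠ v'')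
    (hd : ∀ y ∈ ({p, a, a', a''} : Finset Ω), y ∉ ({w, v, v', v''} : Finset Ω)) :
    Function.Injective (![p, a, a', a'', w, v, v', v''] : Fin 8 → Ω) := by
  have d1 := hd p (by simp)
  have d2 := hd a (by simp)
  have d3 := hd a' (by simp)
  have d4 := hd a'' (by simp)
  simp only [Finset.mem_insert, Finset.mem_singleton, not_or] at d1 d2 d3 d4
  obtain ⟨d11, d12, d13, d14⟩ := d1
  obtain ⟨d21, d22, d23, d24⟩ := d2
  obtain ⟨d31, d32, d33, d34⟩ := d3
  obtain ⟨d41, d42, d43, d44⟩ := d4
  intro i j hij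
  fin_cases i <;> fin_cases j <;> first | rfl | (exfalso; simp at hij; first | exact h1 hij | exact h2 hij | exact h3 hij | exact h4 hij | exact h5 hij | exact h6 hij | exact k1 hij | exact k2 hij | exact k3 hij | exact k4 hij | exact k5 hij | exact k6 hij | exact d11 hij | exact d12 hij | exact d13 hij | exact d14 hij | exact d21 hij | exact d22 hij | exact d23 hij | exact d24 hij | exact d31 hij | exact d32 hij | exact d33 hij | exact d34 hij | exact d41 hij | exact d42 hij | exact d43 hij | exact d44 hij | exact h1 hij.symm | exact h2 hij.symm | exact h3 hij.symm | exact h4 hij.symm | exact h5 hij.symm | exact h6 hij.symm | exact k1 hij.symm | exact k2 hij.symm | exact k3 hij.symm | exact k4 hij.symm | exact k5 hij.symm | exact k6 hij.symm | exact d11 hij.symm | exact d12 hij.symm | exact d13 hij.symm | exact d14 hij.symm | exact d21 hij.symm | exact d22 hij.symm | exact d23 hij.symm | exact d24 hij.symm | exact d31 hij.symm | exact d32 hij.symm | exact d33 hij.symm | exact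 d34 hij.symm | exact d41 hij.symm | exact d42 hij.symm | exact d43 hij.symm | exact d44 hij.symm)


namespace Duad

theorem exists_two_more {R : Finset Ω} (hR : R.card = 4) {p a : Ω} (hp : p ∈ R) (ha : a ∈ R)
    (hpa : p ≠ a) :
    ∃ u v : Ω, u ≠ v ∧ u ≠ p ∧ u ≠ a ∧ v ≠ p ∧ v ≠ a ∧ R = {p, a, u, v} := by
  have hsub : ({p, a} : Finset Ω) ⊆ R := by
    intro y hy
    simp only [Finset.mem_insert, Finset.mem_singleton] at hy
    rcases hy with rfl | rfl <;> assumption
  have hc2 : ({p, a} : Finset Ω).card = 2 := Finset.card_pair hpa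
  have hc : (R \ {p, a}).card = 2 := by
    rw [Finset.card_sdiff_of_subset hsub, hR, hc2]
  obtain ⟨u, v, huv, huvR⟩ := Finset.card_eq_two.mp hc
  have hu : u ∈ R \ {p, a} := by rw [huvR]; simp
  have hv : v ∈ R \ {p, a} := by rw [huvR]; simp
  rw [Finset.mem_sdiff] at hu hv
  simp only [Finset.mem_insert, Finset.mem_singleton, not_or] at hu hv
  refine ⟨u, v, huv, hu.2.1, hu.2.2, hv.2.1, hv.2.2, ?_⟩
  ext y
  simp only [Finset.mem_insert, Finset.mem_singleton]
  constructor
  · intro hy
    by_cases h : y ∈ ({p, a} : Finset Ω)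
    · simp only [Finset.mem_insert, Finset.mem_singleton] at h
      rcases h with h | h
      · exact Or.inl h
      · exact Or.inr (Or.inl h)
    · have : y ∈ R \ {p, a} := Finset.mem_sdiff.mpr ⟨hy, h⟩
      rw [huvR] at this
      simp only [Finset.mem_insert, Finset.mem_singleton] at this
      rcases this with h | h
      · exact Or.inr (Or.inr (Or.inl h))
      · exact Or.inr (Or.inr (Or.inr h))
  · rintro (rfl | rfl | rfl | rfl)
    · exact hp
    · exact ha
    · exact hu.1
    · exact hv.1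

theorem swap_commute_of_ne {x y u v : Ω} (hxy : x ≠ y) (huv : u ≠ v) (h1 : x ≠ u) (h2 : x ≠ v)
    (h3 : y ≠ u) (h4 : y ≠ v) : Commute (swap x y) (swap u v) := by
  apply Equiv.Perm.Disjoint.commute
  apply Equiv.Perm.disjoint_swap_swap
  simp [hxy, huv, h1, h2, h3, h4]

/-- if `Q ∩ R` has two elements and contains `p ≠ a`, membership in `R` of points of `Q`. -/
theorem mem_of_inter {Q R : Finset Ω} (h : (Q ∩ R).card = 2) {p a : Ω} (hp : p ∈ Q) (ha : a ∈ Q)
    (hpR : p ∈ R) (haR : a ∈ R) (hpa : p ≠ a) : ∀ q ∈ Q, q ∈ R → q = p ∨ q = a := by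
  have hsub : ({p, a} : Finset Ω) ⊆ Q ∩ R := by
    intro y hy
    simp only [Finset.mem_insert, Finset.mem_singleton] at hy
    rcases hy with rfl | rfl
    · exact Finset.mem_inter.mpr ⟨hp, hpR⟩
    · exact Finset.mem_inter.mpr ⟨ha, haR⟩
  have heq : ({p, a} : Finset Ω) = Q ∩ R :=
    Finset.eq_of_subset_of_card_le hsub (by rw [h, Finset.card_pair hpa])
  intro q hq hqR
  have : q ∈ Q ∩ R := Finset.mem_inter.mpr ⟨hq, hqR⟩
  rw [← heq] at this
  simpa using this

end Duad

end Cfsg.Agent.Lib.Helper8.Tet
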