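import Mathlib
import Cfsg.Prelude.Def_CaseTheorems
import Cfsg.Agent.Lib.Helper8.TetDefs
import Cfsg.Agent.Lib.Helper5.TetBasic
import Cfsg.Agent.Lib.Helper7.TetGroup
import Cfsg.Agent.Lib.Helper8.TetAux

/-!
# S2928, package P3: every tetrad is of "e-type" (notes/S2928_paper_helper8.md)
-/

set_option autoImplicit false
set_option linter.unusedSectionVars false

namespace Cfsg.Agent.Lib.Helper8.Tet

open Equiv Equiv.Perm Subgroup

variable {Ω : Type*} [Fintype Ω] [DecidableEq Ω]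

namespace Duad

/-- normal form of two crossing duads. -/
theorem cross_normal {H : Subgroup (Perm Ω)} (h3 : NoThree H) {Q R R' : Finset Ω}
    (hR : IsTet H R) (hR' : IsTet H R') {p a a' : Ω} (hp : p ∈ Q) (ha : a ∈ Q)
    (ha' : a' ∈ Q) (h1 : p ≠ a) (h2 : p ≠ a') (h4 : a ≠ a') (hpR : p ∈ R) (haR : a ∈ R)
    (ha'R : a' ∉ R) (hpR' : p ∈ R') (ha'R' : a' ∈ R') (haR' : a ∉ R')
    (hc : (Q ∩ R).card = 2) (hc' : (Q ∩ R').card = 2) :
    ∃ w v v' : Ω, w ∉ Q ∧ v ∉ Q ∧ v' ∉ Q ∧ w ≠ v ∧ w ≠ v' ∧ v ≠ v' ∧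
      IsTet H {p, a, w, v} ∧ IsTet H {p, a', w, v'} := by
  have m := mem_of_inter hc hp ha hpR haR h1
  have m' := mem_of_inter hc' hp ha' hpR' ha'R' h2
  obtain ⟨w, hwR, hwR', hwp⟩ := exists_second h3 hR hR' p hpR hpR'
  have hwQ : w ∉ Q := by
    intro hwQ
    rcases m w hwQ hwR with h | h
    · exact hwp h
    · subst h; exact haR' hwR'
  have hwa : w ≠ a := by rintro rfl; exact hwQ ha
  have hwa' : w ≠ a' := by rintro rfl; exact hwQ ha'
  obtain ⟨v, e1, e2, e3, hReq⟩ := exists_fourth hR.1 hpR haR hwR h1 (Ne.symm hwp) (Ne.symm hwa)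
  obtain ⟨v', f1, f2, f3, hR'eq⟩ :=
    exists_fourth hR'.1 hpR' ha'R' hwR' h2 (Ne.symm hwp) (Ne.symm hwa')
  have hvR : v ∈ R := by rw [hReq]; simp
  have hv'R' : v' ∈ R' := by rw [hR'eq]; simp
  have hvQ : v ∉ Q := by
    intro hvQ
    rcases m v hvQ hvR with h | h
    · exact e1 h
    · exact e2 h
  have hv'Q : v' ∉ Q := by
    intro hvQ
    rcases m' v' hvQ hv'R' with h | h
    · exact f1 h
    · exact f2 h
  have hvv' : v ≠ v' := by
    rintro rfl
    -- three common points p, w, v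
    have hsub : ({p, w, v} : Finset Ω) ⊆ R ∩ R' := by
      intro y hy
      simp only [Finset.mem_insert, Finset.mem_singleton] at hy
      rcases hy with rfl | rfl | rfl
      · exact Finset.mem_inter.mpr ⟨hpR, hpR'⟩
      · exact Finset.mem_inter.mpr ⟨hwR, hwR'⟩
      · exact Finset.mem_inter.mpr ⟨hvR, hv'R'⟩
    have hc3 : ({p, w, v} : Finset Ω).card = 3 := by
      rw [Finset.card_insert_of_notMem, Finset.card_insert_of_notMem, Finset.card_singleton]
      · simpa using (Ne.symm e3)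
      · simp only [Finset.mem_insert, Finset.mem_singleton, not_or]
        exact ⟨Ne.symm hwp, Ne.symm e1⟩
    have hle := Finset.card_le_card hsub
    rcases inter_card_of_noThree h3 hR hR' with h | h | h
    · omega
    · omega
    · subst h; exact haR' haR
  refine ⟨w, v, v', hwQ, hvQ, hv'Q, Ne.symm e3, Ne.symm f3, hvv', ?_, ?_⟩
  · rw [← hReq]; exact hR
  · rw [← hR'eq]; exact hR'


/-- double transpositions with disjoint supports commute. -/
theorem dt_disjoint_commute {a b c d a' b' c' d' : Ω}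
    (hd : ∀ y ∈ ({a, b, c, d} : Finset Ω), y ∉ ({a', b', c', d'} : Finset Ω)) :
    Commute (swap a b * swap c d) (swap a' b' * swap c' d') := by
  apply Equiv.Perm.Disjoint.commute
  intro x
  by_cases hx : x ∈ ({a, b, c, d} : Finset Ω)
  · right
    have := hd x hx
    simp only [Finset.mem_insert, Finset.mem_singleton, not_or] at this
    obtain ⟨h1, h2, h3, h4⟩ := this
    rw [Perm.mul_apply, swap_apply_of_ne_of_ne h3 h4, swap_apply_of_ne_of_ne h1 h2]
  · left
    simp only [Finset.mem_insert, Finset.mem_singleton, not_or] at hx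
    obtain ⟨h1, h2, h3, h4⟩ := hx
    rw [Perm.mul_apply, swap_apply_of_ne_of_ne h3 h4, swap_apply_of_ne_of_ne h1 h2]

/-- `(x y)(c d)` and `(x' y')(e f)` commute when `{x',y'} = {x,y}` and `e,f` are new points. -/
theorem dt_share_commute {x y c d x' y' e f : Ω} (hxy : x ≠ y) (hcd : c ≠ d) (hef : e ≠ f)
    (hxc : x ≠ c) (hxd : x ≠ d) (hyc : y ≠ c) (hyd : y ≠ d)
    (hxe : x ≠ e) (hxf : x ≠ f) (hye : y ≠ e) (hyf : y ≠ f)
    (hce : c ≠ e) (hcf : c ≠ f) (hde : d ≠ e) (hdf : d ≠ f)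
    (hx' : x' = x ∨ x' = y) (hy' : y' = x ∨ y' = y) (hx'y' : x' ≠ y') :
    Commute (swap x y * swap c d) (swap x' y' * swap e f) ∧
    Commute (swap x y * swap c d) (swap e f * swap x' y') ∧
    Commute (swap c d * swap x y) (swap x' y' * swap e f) ∧
    Commute (swap c d * swap x y) (swap e f * swap x' y') := by
  have hs : swap x' y' = swap x y := by
    rcases hx' with rfl | rfl <;> rcases hy' with rfl | rfl
    · exact absurd rfl hx'y'
    · rfl
    · exact swap_comm _ _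
    · exact absurd rfl hx'y'
  rw [hs]
  have c1 : Commute (swap x y) (swap c d) := swap_commute_of_ne hxy hcd hxc hxd hyc hyd
  have c2 : Commute (swap x y) (swap e f) := swap_commute_of_ne hxy hef hxe hxf hye hyf
  have c3 : Commute (swap c d) (swap e f) := swap_commute_of_ne hcd hef hce hcf hde hdf
  have c0 : Commute (swap x y) (swap x y) := Commute.refl _
  refine ⟨?_, ?_, ?_, ?_⟩
  · exact (c0.mul_right c2).mul_left (c1.symm.mul_right c3)
  · exact (c2.mul_right c0).mul_left (c3.mul_right c1.symm)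
  · exact (c1.symm.mul_right c3).mul_left (c0.mul_right c2)
  · exact (c3.mul_right c1.symm).mul_left (c2.mul_right c0)

end Duad

open Duad

theorem exists_duads (H L : Subgroup (Perm Ω)) (hLH : L ≤ H)
    (hN : H ≤ normalizer (L : Set (Perm Ω))) (hQs : Cfsg.IsQuasisimple L)
    (hC : H ⊓ centralizer (L : Set (Perm Ω)) ≤ L) (h3 : NoThree H)
    {Q : Finset Ω} (hQ : IsTet H Q) :
    ∃ p a a' w v v' : Ω, p ∈ Q ∧ a ∈ Q ∧ a' ∈ Q ∧ p ≠ a ∧ p ≠ a' ∧ a ≠ a' ∧
      w ∉ Q ∧ v ∉ Q ∧ v' ∉ Q ∧ w ≠ v ∧ w ≠ v' ∧ v ≠ v' ∧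
      IsTet H {p, a, w, v} ∧ IsTet H {p, a', w, v'} := by
  by_contra hcon
  -- no crossing duads
  have nocross : ∀ R R' : Finset Ω, IsTet H R → IsTet H R' → ∀ p a a' : Ω, p ∈ Q → a ∈ Q →
      a' ∈ Q → p ≠ a → p ≠ a' → a ≠ a' → p ∈ R → a ∈ R → a' ∉ R → p ∈ R' → a' ∈ R' → a ∉ R' →
      (Q ∩ R).card = 2 → (Q ∩ R').card = 2 → False := by
    intro R R' hR hR' p a a' hp ha ha' h1 h2 h4 hpR haR ha'R hpR' ha'R' haR' hc hc'
    obtain ⟨w, v, v', hw, hv, hv', k1, k2, k4, hT, hT'⟩ :=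
      cross_normal h3 hR hR' hp ha ha' h1 h2 h4 hpR haR ha'R hpR' ha'R' haR' hc hc'
    exact hcon ⟨p, a, a', w, v, v', hp, ha, ha', h1, h2, h4, hw, hv, hv', k1, k2, k4, hT, hT'⟩
  -- a good labelling of `Q`
  have hlab : ∃ a b c d : Ω, a ≠ b ∧ a ≠ c ∧ a ≠ d ∧ b ≠ c ∧ b ≠ d ∧ c ≠ d ∧ Q = {a, b, c, d} ∧
      ∀ R : Finset Ω, IsTet H R → (Q ∩ R).card = 2 →
        (a ∈ R ∧ b ∈ R ∧ c ∉ R ∧ d ∉ R) ∨ (a ∉ R ∧ b ∉ R ∧ c ∈ R ∧ d ∈ R) := by
    by_cases hex : ∃ R₀ : Finset Ω, IsTet H R₀ ∧ (Q ∩ R₀).card = 2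
    · obtain ⟨R₀, hR₀, hc₀⟩ := hex
      obtain ⟨a, b, hab, habR⟩ := Finset.card_eq_two.mp hc₀
      have haI : a ∈ Q ∩ R₀ := by rw [habR]; simp
      have hbI : b ∈ Q ∩ R₀ := by rw [habR]; simp
      rw [Finset.mem_inter] at haI hbI
      obtain ⟨c, d, hcd, hca, hcb, hda, hdb, hQeq⟩ := exists_two_more hQ.1 haI.1 hbI.1 hab
      have hcQ : c ∈ Q := by rw [hQeq]; simp
      have hdQ : d ∈ Q := by rw [hQeq]; simp
      have m₀ := mem_of_inter hc₀ haI.1 hbI.1 haI.2 hbI.2 hab
      have hcR₀ : c ∉ R₀ := by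
        intro h
        rcases m₀ c hcQ h with h | h
        · exact hca h
        · exact hcb h
      have hdR₀ : d ∉ R₀ := by
        intro h
        rcases m₀ d hdQ h with h | h
        · exact hda h
        · exact hdb h
      refine ⟨a, b, c, d, hab, Ne.symm hca, Ne.symm hda, Ne.symm hcb, Ne.symm hdb, hcd, hQeq, ?_⟩
      intro R hR hc
      obtain ⟨x, y, hxy, hxyR⟩ := Finset.card_eq_two.mp hc
      have hxI : x ∈ Q ∩ R := by rw [hxyR]; simp
      have hyI : y ∈ Q ∩ R := by rw [hxyR]; simp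
      rw [Finset.mem_inter] at hxI hyI
      have m := mem_of_inter hc hxI.1 hyI.1 hxI.2 hyI.2 hxy
      -- membership pattern
      have hxQ := hxI.1
      have hyQ := hyI.1
      rw [hQeq] at hxQ hyQ
      simp only [Finset.mem_insert, Finset.mem_singleton] at hxQ hyQ
      -- helper: a point q of Q different from x and y is not in R
      have notR : ∀ q ∈ Q, q ≠ x → q ≠ y → q ∉ R := by
        intro q hq h1 h2 hqR
        rcases m q hq hqR with h | h
        · exact h1 h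
        · exact h2 h
      rcases hxQ with rfl | rfl | rfl | rfl <;> rcases hyQ with rfl | rfl | rfl | rfl
      · exact absurd rfl hxy
      · exact Or.inl ⟨hxI.2, hyI.2, notR c hcQ hca hcb, notR d hdQ hda hdb⟩
      · -- {a, c}: crossing at a
        exfalso
        exact nocross R₀ R hR₀ hR x b y haI.1 hbI.1 hcQ hab (Ne.symm hca) (Ne.symm hcb) haI.2 hbI.2
          hcR₀ hxI.2 hyI.2 (notR b hbI.1 (Ne.symm hab) (Ne.symm hcb)) hc₀ hc
      · exfalso
        exact nocross R₀ R hR₀ hR x b y haI.1 hbI.1 hdQ hab (Ne.symm hda) (Ne.symm hdb) haI.2 hbI.2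
          hdR₀ hxI.2 hyI.2 (notR b hbI.1 (Ne.symm hab) (Ne.symm hdb)) hc₀ hc
      · exact Or.inl ⟨hyI.2, hxI.2, notR c hcQ hcb hca, notR d hdQ hdb hda⟩
      · exact absurd rfl hxy
      · exfalso
        exact nocross R₀ R hR₀ hR x a y hbI.1 haI.1 hcQ (Ne.symm hab) (Ne.symm hcb) (Ne.symm hca)
          hbI.2 haI.2 hcR₀ hxI.2 hyI.2 (notR a haI.1 hab (Ne.symm hca)) hc₀ hc
      · exfalso
        exact nocross R₀ R hR₀ hR x a y hbI.1 haI.1 hdQ (Ne.symm hab) (Ne.symm hdb) (Ne.symm hda)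
          hbI.2 haI.2 hdR₀ hxI.2 hyI.2 (notR a haI.1 hab (Ne.symm hda)) hc₀ hc
      · exfalso
        exact nocross R₀ R hR₀ hR y b x haI.1 hbI.1 hcQ hab (Ne.symm hca) (Ne.symm hcb) haI.2 hbI.2
          hcR₀ hyI.2 hxI.2 (notR b hbI.1 (Ne.symm hcb) (Ne.symm hab)) hc₀ hc
      · exfalso
        exact nocross R₀ R hR₀ hR y a x hbI.1 haI.1 hcQ (Ne.symm hab) (Ne.symm hcb) (Ne.symm hca)
          hbI.2 haI.2 hcR₀ hyI.2 hxI.2 (notR a haI.1 (Ne.symm hca) hab) hc₀ hc
      · exact absurd rfl hxy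
      · exact Or.inr ⟨notR a haI.1 (Ne.symm hca) (Ne.symm hda), notR b hbI.1 (Ne.symm hcb) (Ne.symm hdb),
          hxI.2, hyI.2⟩
      · exfalso
        exact nocross R₀ R hR₀ hR y b x haI.1 hbI.1 hdQ hab (Ne.symm hda) (Ne.symm hdb) haI.2 hbI.2
          hdR₀ hyI.2 hxI.2 (notR b hbI.1 (Ne.symm hdb) (Ne.symm hab)) hc₀ hc
      · exfalso
        exact nocross R₀ R hR₀ hR y a x hbI.1 haI.1 hdQ (Ne.symm hab) (Ne.symm hdb) (Ne.symm hda)
          hbI.2 haI.2 hdR₀ hyI.2 hxI.2 (notR a haI.1 (Ne.symm hda) hab) hc₀ hc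
      · exact Or.inr ⟨notR a haI.1 (Ne.symm hda) (Ne.symm hca), notR b hbI.1 (Ne.symm hdb) (Ne.symm hcb),
          hyI.2, hxI.2⟩
      · exact absurd rfl hxy
    · obtain ⟨a, b, c, d, h1, h2, h3', h4, h5, h6, hQeq⟩ := hQ.exists_eq
      refine ⟨a, b, c, d, h1, h2, h3', h4, h5, h6, hQeq, ?_⟩
      intro R hR hc
      exact absurd ⟨R, hR, hc⟩ hex
  obtain ⟨a, b, c, d, hab, hac, had, hbc, hbd, hcd, hQeq, hL⟩ := hlab
  have haQ : a ∈ Q := by rw [hQeq]; simp
  have hbQ : b ∈ Q := by rw [hQeq]; simp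
  have hcQ : c ∈ Q := by rw [hQeq]; simp
  have hdQ : d ∈ Q := by rw [hQeq]; simp
  have hzH : swap a b * swap c d ∈ H := hQ.2 a haQ b hbQ c hcQ d hdQ hab hac had hbc hbd hcd
  -- all conjugates of z commute with z
  have hcomm : ∀ h ∈ H, Commute (swap a b * swap c d) (h * (swap a b * swap c d) * h⁻¹) := by
    intro h hh
    have hconj : h * (swap a b * swap c d) * h⁻¹ = swap (h a) (h b) * swap (h c) (h d) := by
      rw [swap_apply_apply, swap_apply_apply]; group
    rw [hconj]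
    have hQ' : IsTet H (Q.image h) := hQ.image hh
    have himg : Q.image h = {h a, h b, h c, h d} := by
      rw [hQeq]; simp [Finset.image_insert]
    have hinj := h.injective
    rcases inter_card_of_noThree h3 hQ hQ' with h0 | h2 | heq
    · -- disjoint
      apply dt_disjoint_commute
      intro y hy hy'
      rw [← hQeq] at hy
      rw [← himg] at hy'
      have : y ∈ Q ∩ Q.image h := Finset.mem_inter.mpr ⟨hy, hy'⟩
      rw [Finset.card_eq_zero] at h0
      rw [h0] at this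
      exact absurd this (Finset.notMem_empty _)
    · -- two common points
      have hQinv : IsTet H (Q.image (h⁻¹ : Perm Ω)) := hQ.image (H.inv_mem hh)
      have hcinv : (Q ∩ Q.image (h⁻¹ : Perm Ω)).card = 2 := by
        have : (Q ∩ Q.image (h⁻¹ : Perm Ω)).image h = Q ∩ Q.image h := by
          ext y
          simp only [Finset.mem_image, Finset.mem_inter]
          constructor
          · rintro ⟨x, ⟨hx1, ⟨q, hq, rfl⟩⟩, rfl⟩
            refine ⟨?_, h⁻¹ q, hx1, rfl⟩
            simpa using hq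
          · rintro ⟨hy, ⟨q, hq, rfl⟩⟩
            refine ⟨q, ⟨hq, ⟨h q, hy, ?_⟩⟩, rfl⟩
            simp
        rw [← h2, ← this, Finset.card_image_of_injective _ hinj]
      have memimg : ∀ q : Ω, q ∈ Q.image (h⁻¹ : Perm Ω) ↔ h q ∈ Q := by
        intro q
        rw [Finset.mem_image]
        constructor
        · rintro ⟨x, hx, rfl⟩
          simpa using hx
        · intro hq
          exact ⟨h q, hq, by simp⟩
      have memimg' : ∀ q ∈ Q, h q ∈ Q.image h := fun q hq => Finset.mem_image_of_mem _ hq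
      -- points of Q ∩ hQ
      have m := fun (p q : Ω) (hp : p ∈ Q) (hq : q ∈ Q) (hpR : p ∈ Q.image h) (hqR : q ∈ Q.image h)
        (hpq : p ≠ q) => mem_of_inter h2 hp hq hpR hqR hpq
      have hane : h a ≠ h b := fun e => hab (hinj e)
      have hcne : h c ≠ h d := fun e => hcd (hinj e)
      have hacne : h a ≠ h c := fun e => hac (hinj e)
      have hadne : h a ≠ h d := fun e => had (hinj e)
      have hbcne : h b ≠ h c := fun e => hbc (hinj e)
      have hbdne : h b ≠ h d := fun e => hbd (hinj e)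
      rcases hL _ hQ' h2 with ⟨ha', hb', hc', hd'⟩ | ⟨ha', hb', hc', hd'⟩ <;>
        rcases hL _ hQinv hcinv with ⟨ha'', hb'', hc'', hd''⟩ | ⟨ha'', hb'', hc'', hd''⟩
      · -- Q ∩ hQ = {a,b} = {ha,hb}
        rw [memimg] at ha'' hb'' hc'' hd''
        have mm := m a b haQ hbQ ha' hb' hab
        have e1 := mm (h a) ha'' (memimg' a haQ)
        have e2 := mm (h b) hb'' (memimg' b hbQ)
        have nQ : ∀ q, q ∈ Q → h c ≠ q ∧ h d ≠ q := fun q hq =>
          ⟨fun e => hc'' (e ▸ hq), fun e => hd'' (e ▸ hq)⟩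
        exact (dt_share_commute hab hcd hcne hac had hbc hbd (nQ a haQ).1.symm (nQ a haQ).2.symm
          (nQ b hbQ).1.symm (nQ b hbQ).2.symm (nQ c hcQ).1.symm (nQ c hcQ).2.symm
          (nQ d hdQ).1.symm (nQ d hdQ).2.symm e1 e2 hane).1
      · -- Q ∩ hQ = {a,b} = {hc,hd}
        rw [memimg] at ha'' hb'' hc'' hd''
        have mm := m a b haQ hbQ ha' hb' hab
        have e1 := mm (h c) hc'' (memimg' c hcQ)
        have e2 := mm (h d) hd'' (memimg' d hdQ)
        have nQ : ∀ q, q ∈ Q → h a ≠ q ∧ h b ≠ q := fun q hq =>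
          ⟨fun e => ha'' (e ▸ hq), fun e => hb'' (e ▸ hq)⟩
        exact (dt_share_commute hab hcd hane hac had hbc hbd (nQ a haQ).1.symm (nQ a haQ).2.symm
          (nQ b hbQ).1.symm (nQ b hbQ).2.symm (nQ c hcQ).1.symm (nQ c hcQ).2.symm
          (nQ d hdQ).1.symm (nQ d hdQ).2.symm e1 e2 hcne).2.1
      · -- Q ∩ hQ = {c,d} = {ha,hb}
        rw [memimg] at ha'' hb'' hc'' hd''
        have mm := m c d hcQ hdQ hc' hd' hcd
        have e1 := mm (h a) ha'' (memimg' a haQ)
        have e2 := mm (h b) hb'' (memimg' b hbQ)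
        have nQ : ∀ q, q ∈ Q → h c ≠ q ∧ h d ≠ q := fun q hq =>
          ⟨fun e => hc'' (e ▸ hq), fun e => hd'' (e ▸ hq)⟩
        exact (dt_share_commute hcd hab hcne hac.symm hbc.symm had.symm hbd.symm
          (nQ c hcQ).1.symm (nQ c hcQ).2.symm (nQ d hdQ).1.symm (nQ d hdQ).2.symm
          (nQ a haQ).1.symm (nQ a haQ).2.symm (nQ b hbQ).1.symm (nQ b hbQ).2.symm e1 e2 hane).2.2.1
      · -- Q ∩ hQ = {c,d} = {hc,hd}
        rw [memimg] at ha'' hb'' hc'' hd''
        have mm := m c d hcQ hdQ hc' hd' hcd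
        have e1 := mm (h c) hc'' (memimg' c hcQ)
        have e2 := mm (h d) hd'' (memimg' d hdQ)
        have nQ : ∀ q, q ∈ Q → h a ≠ q ∧ h b ≠ q := fun q hq =>
          ⟨fun e => ha'' (e ▸ hq), fun e => hb'' (e ▸ hq)⟩
        exact (dt_share_commute hcd hab hane hac.symm hbc.symm had.symm hbd.symm
          (nQ c hcQ).1.symm (nQ c hcQ).2.symm (nQ d hdQ).1.symm (nQ d hdQ).2.symm
          (nQ a haQ).1.symm (nQ a haQ).2.symm (nQ b hbQ).1.symm (nQ b hbQ).2.symm e1 e2 hcne).2.2.2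
    · -- same tetrad
      have mem : ∀ q ∈ Q, h q ∈ ({a, b, c, d} : Finset Ω) := by
        intro q hq
        rw [← hQeq, heq]
        exact Finset.mem_image_of_mem _ hq
      have hane : h a ≠ h b := fun e => hab (hinj e)
      have hcne : h c ≠ h d := fun e => hcd (hinj e)
      have hacne : h a ≠ h c := fun e => hac (hinj e)
      have hadne : h a ≠ h d := fun e => had (hinj e)
      have hbcne : h b ≠ h c := fun e => hbc (hinj e)
      have hbdne : h b ≠ h d := fun e => hbd (hinj e)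
      obtain ⟨k1, k2, -⟩ := dt_commute hab hac had hbc hbd hcd
      rcases dt_eq_of_mem (mem a haQ) (mem b hbQ) (mem c hcQ) (mem d hdQ) hane hacne hadne hbcne
        hbdne hcne with e | e | e
      · rw [e]
      · rw [e]; exact k1
      · rw [e]; exact k2
  -- L centralizes z
  have hLz := commute_of_conj_commute H L hLH hN hQs {swap a b * swap c d}
    (by intro z hz; rw [Set.mem_singleton_iff] at hz; rw [hz]; exact hzH)
    (by
      intro z hz z' hz' h hh
      rw [Set.mem_singleton_iff] at hz hz'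
      rw [hz, hz']
      exact hcomm h hh) (swap a b * swap c d) (Set.mem_singleton _)
  -- z moves exactly the points of Q
  have hzmove : ∀ y, (swap a b * swap c d) y ≠ y → y ∈ Q := by
    intro y hy
    by_contra hyQ
    rw [hQeq] at hyQ
    simp only [Finset.mem_insert, Finset.mem_singleton, not_or] at hyQ
    obtain ⟨h1, h2, h3', h4⟩ := hyQ
    apply hy
    rw [Perm.mul_apply, swap_apply_of_ne_of_ne h3' h4, swap_apply_of_ne_of_ne h1 h2]
  have hzne : ∀ y ∈ Q, (swap a b * swap c d) y ≠ y := by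
    intro y hy
    rw [hQeq] at hy
    simp only [Finset.mem_insert, Finset.mem_singleton] at hy
    rcases hy with rfl | rfl | rfl | rfl
    · rw [Perm.mul_apply, swap_apply_of_ne_of_ne hac had, swap_apply_left]; exact hab.symm
    · rw [Perm.mul_apply, swap_apply_of_ne_of_ne hbc hbd, swap_apply_right]; exact hab
    · rw [Perm.mul_apply, swap_apply_left, swap_apply_of_ne_of_ne had.symm hbd.symm]; exact hcd.symm
    · rw [Perm.mul_apply, swap_apply_right, swap_apply_of_ne_of_ne hac.symm hbc.symm]; exact hcd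
  have hinv : ∀ l ∈ L, ∀ y ∈ Q, l y ∈ Q := by
    intro l hl y hy
    apply hzmove
    have hcom := hLz l hl
    have h1 : (swap a b * swap c d) (l y) = l ((swap a b * swap c d) y) := by
      have := congrArg (fun f : Perm Ω => f y) hcom.eq
      simp only [Perm.mul_apply] at this ⊢
      exact this.symm
    rw [h1]
    intro e
    exact hzne y hy (l.injective e)
  exact not_fix_tet H L hC hQ
    (fix_of_invariant_of_card_le_four L hQs.1 Q (by rw [hQ.1]) hinv)

end Cfsg.Agent.Lib.Helper8.Tet
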