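import Mathlib
import Cfsg.Prelude.Def_CaseTheorems
import Cfsg.Agent.Lib.Helper8.TetDefs
import Cfsg.Agent.Lib.Helper5.TetBasic
import Cfsg.Agent.Lib.Helper7.TetGroup
import Cfsg.Agent.Lib.Helper9.TetE8a

/-!
# S2928, package P5: the AG(3,2) configuration is contradictory (notes/S2928_paper_helper8.md)
-/

set_option autoImplicit false
set_option linter.unusedSectionVars false

namespace Cfsg.Agent.Lib.Helper8.Tet

open Equiv Equiv.Perm Subgroup

namespace E8

/-- `w` maps every plane to itself or to its complement. -/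
def Theta (w : Perm (Fin 8)) : Prop := ∀ T ∈ planes, T.image w = T ∨ T.image w = Tᶜ

set_option maxRecDepth 100000 in
set_option maxHeartbeats 1000000 in
theorem theta_tr1 : Theta tr1 := by unfold Theta; decide

set_option maxRecDepth 100000 in
set_option maxHeartbeats 1000000 in
theorem theta_tr2 : Theta tr2 := by unfold Theta; decide

set_option maxRecDepth 100000 in
set_option maxHeartbeats 1000000 in
theorem theta_tr4 : Theta tr4 := by unfold Theta; decide

set_option maxRecDepth 100000 in
theorem compl_mem_planes : ∀ T ∈ planes, Tᶜ ∈ planes := by decide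

set_option maxRecDepth 100000 in
theorem point_inter : ∀ i k : Fin 8, (∀ T ∈ planes, i ∈ T → k ∈ T) → k = i := by decide

theorem image_compl (w : Perm (Fin 8)) (T : Finset (Fin 8)) : Tᶜ.image w = (T.image w)ᶜ := by
  ext y
  simp only [Finset.mem_image, Finset.mem_compl]
  constructor
  · rintro ⟨z, hz, rfl⟩
    rintro ⟨z', hz', h⟩
    exact hz (w.injective h ▸ hz')
  · intro h
    refine ⟨w⁻¹ y, ?_, by simp⟩
    intro hz
    exact h ⟨w⁻¹ y, hz, by simp⟩

theorem image_mul (u v : Perm (Fin 8)) (T : Finset (Fin 8)) :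
    T.image (u * v) = (T.image v).image u := by
  rw [Finset.image_image]
  rfl

/-- an injective self-map of `planes` is surjective. -/
theorem exists_preimage (σ : Perm (Fin 8)) (hσ : ∀ T ∈ planes, T.image σ ∈ planes) :
    ∀ T ∈ planes, ∃ T' ∈ planes, T'.image σ = T := by
  have hinj : Function.Injective (fun T : Finset (Fin 8) => T.image σ) :=
    Finset.image_injective σ.injective
  have hsub : planes.image (fun T : Finset (Fin 8) => T.image σ) ⊆ planes := by
    intro T hT
    rw [Finset.mem_image] at hT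
    obtain ⟨T', hT', rfl⟩ := hT
    exact hσ T' hT'
  have heq : planes.image (fun T : Finset (Fin 8) => T.image σ) = planes :=
    Finset.eq_of_subset_of_card_le hsub (by rw [Finset.card_image_of_injective _ hinj])
  intro T hT
  rw [← heq, Finset.mem_image] at hT
  obtain ⟨T', hT', h⟩ := hT
  exact ⟨T', hT', h⟩

theorem theta_conj (σ : Perm (Fin 8)) (hσ : ∀ T ∈ planes, T.image σ ∈ planes)
    {v : Perm (Fin 8)} (hv : Theta v) : Theta (σ * v * σ⁻¹) := by
  intro T hT
  obtain ⟨T', hT', rfl⟩ := exists_preimage σ hσ T hT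
  have h1 : (T'.image σ).image (σ⁻¹ : Perm (Fin 8)) = T' := by
    rw [← image_mul]; simp
  rw [image_mul, image_mul, h1]
  rcases hv T' hT' with h | h
  · left; rw [h]
  · right; rw [h, image_compl]

theorem theta_commute {u v : Perm (Fin 8)} (hu : Theta u) (hv : Theta v) : Commute u v := by
  have key : ∀ T ∈ planes, T.image (u * v) = T.image (v * u) := by
    intro T hT
    rw [image_mul, image_mul]
    rcases hu T hT with h1 | h1 <;> rcases hv T hT with h2 | h2 <;>
      simp only [h1, h2, image_compl, compl_compl]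
  show u * v = v * u
  ext i : 1
  have h : ((v * u)⁻¹ * (u * v)) i = i := by
    apply point_inter
    intro T hT hi
    have : (u * v) i ∈ T.image (v * u) := by
      rw [← key T hT]
      exact Finset.mem_image_of_mem _ hi
    rw [Finset.mem_image] at this
    obtain ⟨z, hz, hz'⟩ := this
    have : ((v * u)⁻¹ * (u * v)) i = z := by
      rw [Perm.mul_apply, ← hz']
      simp
    rw [this]; exact hz
  have := congrArg (v * u) h
  simpa [Perm.mul_apply] using this

end E8

open E8

/-- automorphisms of the plane system conjugate translations to perms commuting with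
translations. -/
theorem tr_commute_conj (σ : Perm (Fin 8)) (hσ : ∀ T ∈ planes, T.image σ ∈ planes)
    (u v : Perm (Fin 8)) (hu : u = tr1 ∨ u = tr2 ∨ u = tr4) (hv : v = tr1 ∨ v = tr2 ∨ v = tr4) :
    Commute u (σ * v * σ⁻¹) := by
  have h1 : Theta u := by
    rcases hu with rfl | rfl | rfl
    · exact theta_tr1
    · exact theta_tr2
    · exact theta_tr4
  have h2 : Theta v := by
    rcases hv with rfl | rfl | rfl
    · exact theta_tr1
    · exact theta_tr2
    · exact theta_tr4
  exact theta_commute h1 (theta_conj σ hσ h2)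


variable {Ω : Type*} [Fintype Ω] [DecidableEq Ω]

namespace E8

/-- transport of a permutation of `Fin 8` to `Ω` along an injective `x`. -/
noncomputable def lift (x : Fin 8 → Ω) (hx : Function.Injective x) (u : Perm (Fin 8)) : Perm Ω :=
  u.viaEmbedding ⟨x, hx⟩

theorem lift_apply (x : Fin 8 → Ω) (hx : Function.Injective x) (u : Perm (Fin 8)) (i : Fin 8) :
    lift x hx u (x i) = x (u i) :=
  Equiv.Perm.viaEmbedding_apply u ⟨x, hx⟩ i

theorem lift_apply_of_notMem (x : Fin 8 → Ω) (hx : Function.Injective x) (u : Perm (Fin 8))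
    (y : Ω) (hy : ∀ i, x i ≠ y) : lift x hx u y = y := by
  apply Equiv.Perm.viaEmbedding_apply_of_notMem
  rintro ⟨i, hi⟩
  exact hy i hi

theorem lift_mul (x : Fin 8 → Ω) (hx : Function.Injective x) (u v : Perm (Fin 8)) :
    lift x hx (u * v) = lift x hx u * lift x hx v := by
  unfold lift
  rw [← Equiv.Perm.viaEmbeddingHom_apply, ← Equiv.Perm.viaEmbeddingHom_apply,
    ← Equiv.Perm.viaEmbeddingHom_apply, map_mul]

theorem lift_swap (x : Fin 8 → Ω) (hx : Function.Injective x) (i j : Fin 8) :
    lift x hx (swap i j) = swap (x i) (x j) := by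
  ext y
  by_cases hy : ∃ k, x k = y
  · obtain ⟨k, rfl⟩ := hy
    rw [lift_apply]
    by_cases h1 : k = i
    · subst h1; simp
    · by_cases h2 : k = j
      · subst h2; simp
      · rw [swap_apply_of_ne_of_ne h1 h2,
          swap_apply_of_ne_of_ne (fun e => h1 (hx e)) (fun e => h2 (hx e))]
  · push Not at hy
    rw [lift_apply_of_notMem x hx _ y hy,
      swap_apply_of_ne_of_ne (fun e => hy i e.symm) (fun e => hy j e.symm)]

theorem lift_commute (x : Fin 8 → Ω) (hx : Function.Injective x) {u v : Perm (Fin 8)}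
    (h : Commute u v) : Commute (lift x hx u) (lift x hx v) := by
  show lift x hx u * lift x hx v = lift x hx v * lift x hx u
  rw [← lift_mul, ← lift_mul, h.eq]

/-- the product of two double transpositions on tetrads lies in `H`. -/
theorem lift_dtdt_mem (H : Subgroup (Perm Ω)) (x : Fin 8 → Ω) (hx : Function.Injective x)
    (hpl : ∀ T ∈ planes, IsTet H (T.image x)) {a b c d a' b' c' d' : Fin 8}
    (hT : ({a, b, c, d} : Finset (Fin 8)) ∈ planes)
    (hT' : ({a', b', c', d'} : Finset (Fin 8)) ∈ planes)
    (hab : a ≠ b) (hac : a ≠ c) (had : a ≠ d) (hbc : b ≠ c) (hbd : b ≠ d) (hcd : c ≠ d)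
    (hab' : a' ≠ b') (hac' : a' ≠ c') (had' : a' ≠ d') (hbc' : b' ≠ c') (hbd' : b' ≠ d')
    (hcd' : c' ≠ d') :
    lift x hx (swap a b * swap c d * swap a' b' * swap c' d') ∈ H := by
  rw [mul_assoc (swap a b * swap c d), lift_mul, lift_mul, lift_mul, lift_swap, lift_swap,
    lift_swap, lift_swap]
  have m : ∀ (T : Finset (Fin 8)) (i : Fin 8), i ∈ T → x i ∈ T.image x :=
    fun T i hi => Finset.mem_image_of_mem _ hi
  apply H.mul_mem
  · exact (hpl _ hT).2 (x a) (m _ a (by simp)) (x b) (m _ b (by simp)) (x c) (m _ c (by simp))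
      (x d) (m _ d (by simp)) (fun e => hab (hx e)) (fun e => hac (hx e)) (fun e => had (hx e))
      (fun e => hbc (hx e)) (fun e => hbd (hx e)) (fun e => hcd (hx e))
  · exact (hpl _ hT').2 (x a') (m _ a' (by simp)) (x b') (m _ b' (by simp)) (x c') (m _ c' (by simp))
      (x d') (m _ d' (by simp)) (fun e => hab' (hx e)) (fun e => hac' (hx e))
      (fun e => had' (hx e)) (fun e => hbc' (hx e)) (fun e => hbd' (hx e)) (fun e => hcd' (hx e))

theorem lift_tr_mem (H : Subgroup (Perm Ω)) (x : Fin 8 → Ω) (hx : Function.Injective x)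
    (hpl : ∀ T ∈ planes, IsTet H (T.image x)) :
    lift x hx tr1 ∈ H ∧ lift x hx tr2 ∈ H ∧ lift x hx tr4 ∈ H := by
  refine ⟨?_, ?_, ?_⟩
  · exact lift_dtdt_mem H x hx hpl (a := 0) (b := 1) (c := 2) (d := 3) (a' := 4) (b' := 5)
      (c' := 6) (d' := 7) (by decide) (by decide) (by decide) (by decide) (by decide) (by decide)
      (by decide) (by decide) (by decide) (by decide) (by decide) (by decide) (by decide) (by decide)
  · exact lift_dtdt_mem H x hx hpl (a := 0) (b := 2) (c := 1) (d := 3) (a' := 4) (b' := 6)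
      (c' := 5) (d' := 7) (by decide) (by decide) (by decide) (by decide) (by decide) (by decide)
      (by decide) (by decide) (by decide) (by decide) (by decide) (by decide) (by decide) (by decide)
  · exact lift_dtdt_mem H x hx hpl (a := 0) (b := 4) (c := 1) (d := 5) (a' := 2) (b' := 6)
      (c' := 3) (d' := 7) (by decide) (by decide) (by decide) (by decide) (by decide) (by decide)
      (by decide) (by decide) (by decide) (by decide) (by decide) (by decide) (by decide) (by decide)

/-- conjugating a lift by an element inducing `σ` on the 8 points. -/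
theorem conj_lift (x : Fin 8 → Ω) (hx : Function.Injective x) (h : Perm Ω) (σ : Perm (Fin 8))
    (hσ : ∀ i, h (x i) = x (σ i)) (v : Perm (Fin 8)) :
    h * lift x hx v * h⁻¹ = lift x hx (σ * v * σ⁻¹) := by
  have hinv : ∀ k, h⁻¹ (x k) = x (σ⁻¹ k) := by
    intro k
    rw [Perm.inv_eq_iff_eq, hσ]
    simp
  ext y
  by_cases hy : ∃ k, x k = y
  · obtain ⟨k, rfl⟩ := hy
    rw [Perm.mul_apply, Perm.mul_apply, hinv, lift_apply, hσ, lift_apply]
    simp [Perm.mul_apply]
  · push Not at hy
    have hy' : ∀ k, x k ≠ h⁻¹ y := by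
      intro k e
      have : h (x k) = y := by rw [e]; simp
      rw [hσ] at this
      exact hy _ this
    rw [Perm.mul_apply, Perm.mul_apply, lift_apply_of_notMem x hx _ _ hy',
      lift_apply_of_notMem x hx _ _ hy]
    simp

/-- commuting elements generate an abelian group. -/
theorem closure_commute {G : Type*} [Group G] (S : Set G)
    (hcomm : ∀ a ∈ S, ∀ b ∈ S, Commute a b) :
    ∀ a ∈ closure S, ∀ b ∈ closure S, Commute a b := by
  have h1 : closure S ≤ centralizer (S : Set G) := by
    rw [closure_le]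
    intro a ha
    rw [SetLike.mem_coe, mem_centralizer_iff]
    intro b hb
    exact (hcomm b hb a ha).eq
  have h2 : closure S ≤ centralizer (closure S : Set G) := by
    rw [closure_le]
    intro a ha
    rw [SetLike.mem_coe, mem_centralizer_iff]
    intro b hb
    have := h1 hb
    rw [mem_centralizer_iff] at this
    exact (this a ha).symm
  intro a ha b hb
  have := h2 hb
  rw [mem_centralizer_iff] at this
  exact this a ha

end E8

/-- the e8 configuration is contradictory. -/
theorem false_of_e8 (H L : Subgroup (Perm Ω)) (hLH : L ≤ H)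
    (hN : H ≤ normalizer (L : Set (Perm Ω))) (hQs : Cfsg.IsQuasisimple L)
    (hC : H ⊓ centralizer (L : Set (Perm Ω)) ≤ L) (h3 : NoThree H)
    (x : Fin 8 → Ω) (hx : Function.Injective x)
    (h0123 : IsTet H {x 0, x 1, x 2, x 3}) (h4567 : IsTet H {x 4, x 5, x 6, x 7})
    (h0145 : IsTet H {x 0, x 1, x 4, x 5}) (h0246 : IsTet H {x 0, x 2, x 4, x 6}) : False := by
  have hpl := planes_isTet H x hx h0123 h4567 h0145 h0246
  obtain ⟨m1, m2, m4⟩ := lift_tr_mem H x hx hpl
  set Z : Set (Perm Ω) := {lift x hx tr1, lift x hx tr2, lift x hx tr4} with hZ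
  have hZmem : ∀ z ∈ Z, ∃ u : Perm (Fin 8), (u = tr1 ∨ u = tr2 ∨ u = tr4) ∧ z = lift x hx u := by
    intro z hz
    rw [hZ] at hz
    simp only [Set.mem_insert_iff, Set.mem_singleton_iff] at hz
    rcases hz with rfl | rfl | rfl
    · exact ⟨tr1, Or.inl rfl, rfl⟩
    · exact ⟨tr2, Or.inr (Or.inl rfl), rfl⟩
    · exact ⟨tr4, Or.inr (Or.inr rfl), rfl⟩
  have hZH : ∀ z ∈ Z, z ∈ H := by
    intro z hz
    obtain ⟨u, hu, rfl⟩ := hZmem z hz
    rcases hu with rfl | rfl | rfl <;> assumption
  have hcomm : ∀ z ∈ Z, ∀ z' ∈ Z, ∀ h ∈ H, Commute z (h * z' * h⁻¹) := by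
    intro z hz z' hz' h hh
    obtain ⟨u, hu, rfl⟩ := hZmem z hz
    obtain ⟨v, hv, rfl⟩ := hZmem z' hz'
    by_cases hmeet : ∃ i j, h (x i) = x j
    · obtain ⟨σ, hσ, hσp⟩ := exists_aut_e8 H h3 x hx hpl hh hmeet
      rw [conj_lift x hx h σ hσ v]
      exact lift_commute x hx (tr_commute_conj σ hσp u v hu hv)
    · push Not at hmeet
      apply Equiv.Perm.Disjoint.commute
      intro y
      by_cases hy : ∃ k, x k = y
      · right
        obtain ⟨k, rfl⟩ := hy
        have hy' : ∀ i, x i ≠ h⁻¹ (x k) := by
          intro i e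
          have : h (x i) = x k := by rw [e]; simp
          exact hmeet i k this
        rw [Perm.mul_apply, Perm.mul_apply, lift_apply_of_notMem x hx _ _ hy']
        simp
      · left
        push Not at hy
        exact lift_apply_of_notMem x hx _ _ hy
  have hLZ := commute_of_conj_commute H L hLH hN hQs Z hZH hcomm
  -- the abelian group generated by the translations
  have hZcomm : ∀ a ∈ Z, ∀ b ∈ Z, Commute a b := by
    intro a ha b hb
    have := hcomm a ha b hb 1 H.one_mem
    simpa using this
  have hA := closure_commute Z hZcomm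
  have hLA : ∀ l ∈ L, ∀ a ∈ closure Z, Commute l a := by
    intro l hl a ha
    have hsub : closure Z ≤ centralizer ({l} : Set (Perm Ω)) := by
      rw [closure_le]
      intro z hz
      rw [SetLike.mem_coe, mem_centralizer_singleton_iff]
      exact ((hLZ z hz l hl).eq).symm
    have := hsub ha
    rw [mem_centralizer_singleton_iff] at this
    exact this.symm
  have z1 : lift x hx tr1 ∈ closure Z := subset_closure (by rw [hZ]; simp)
  have z2 : lift x hx tr2 ∈ closure Z := subset_closure (by rw [hZ]; simp)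
  have z4 : lift x hx tr4 ∈ closure Z := subset_closure (by rw [hZ]; simp)
  -- every point x k is a (x 0) with a in the closure
  have horb : ∀ k : Fin 8, ∃ a ∈ closure Z, a (x 0) = x k := by
    intro k
    have key : ∃ u : Perm (Fin 8), lift x hx u ∈ closure Z ∧ u 0 = k := by
      fin_cases k
      · exact ⟨1, by rw [show lift x hx 1 = 1 from by
          ext y; by_cases hy : ∃ k, x k = y
          · obtain ⟨k, rfl⟩ := hy; rw [lift_apply]; simp
          · push Not at hy; rw [lift_apply_of_notMem x hx _ _ hy]; simp]; exact one_mem _, rfl⟩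
      · exact ⟨tr1, z1, by decide⟩
      · exact ⟨tr2, z2, by decide⟩
      · exact ⟨tr1 * tr2, by rw [lift_mul]; exact mul_mem z1 z2, by decide⟩
      · exact ⟨tr4, z4, by decide⟩
      · exact ⟨tr1 * tr4, by rw [lift_mul]; exact mul_mem z1 z4, by decide⟩
      · exact ⟨tr2 * tr4, by rw [lift_mul]; exact mul_mem z2 z4, by decide⟩
      · exact ⟨tr1 * tr2 * tr4, by rw [lift_mul, lift_mul]; exact mul_mem (mul_mem z1 z2) z4,
          by decide⟩
    obtain ⟨u, hu, hu0⟩ := key
    exact ⟨lift x hx u, hu, by rw [lift_apply, hu0]⟩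
  -- L maps x 0 into the 8 points
  have hx0 : ∀ l ∈ L, ∃ a ∈ closure Z, l (x 0) = a (x 0) := by
    intro l hl
    have hc := hLA l hl _ z1
    have hmoved : lift x hx tr1 (l (x 0)) ≠ l (x 0) := by
      have h1 : lift x hx tr1 (l (x 0)) = l (lift x hx tr1 (x 0)) := by
        have := congrArg (fun f : Perm Ω => f (x 0)) hc.eq
        simp only [Perm.mul_apply] at this
        exact this.symm
      rw [h1, lift_apply]
      intro e
      have := hx (l.injective e)
      revert this
      decide
    have : ∃ k, x k = l (x 0) := by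
      by_contra hno
      push Not at hno
      exact hmoved (lift_apply_of_notMem x hx _ _ hno)
    obtain ⟨k, hk⟩ := this
    obtain ⟨a, ha, hak⟩ := horb k
    exact ⟨a, ha, by rw [hak, hk]⟩
  have hfix0 := fix_of_commute_abelian L hQs.1 (closure Z) hA hLA (x 0) hx0
  have hfix : ∀ l ∈ L, ∀ k, l (x k) = x k := by
    intro l hl k
    obtain ⟨a, ha, hak⟩ := horb k
    have hc := hLA l hl a ha
    have h1 : l (a (x 0)) = a (l (x 0)) := by
      have := congrArg (fun f : Perm Ω => f (x 0)) hc.eq
      simpa only [Perm.mul_apply] using this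
    rw [← hak, h1, hfix0 l hl]
  apply not_fix_tet H L hC h0123
  intro l hl y hy
  simp only [Finset.mem_insert, Finset.mem_singleton] at hy
  rcases hy with rfl | rfl | rfl | rfl <;> exact hfix l hl _

end Cfsg.Agent.Lib.Helper8.Tet
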