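import Mathlib
import Cfsg.Prelude.Def_CaseTheorems
import Cfsg.Agent.Lib.Helper8.TetDefs
import Cfsg.Agent.Lib.Helper5.TetBasic
import Cfsg.Agent.Lib.Helper7.TetGroup
import Cfsg.Agent.Lib.Helper8.TetAux
import Cfsg.Agent.Lib.Helper8.TetDuad
import Cfsg.Agent.Lib.Helper8.TetE8b

/-!
# S2928, package P6: a 3-cycle exists (notes/S2928_paper_helper8.md)
-/

set_option autoImplicit false
set_option linter.unusedSectionVars false

namespace Cfsg.Agent.Lib.Helper8.Tet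

open Equiv Equiv.Perm Subgroup

variable {Ω : Type*} [Fintype Ω] [DecidableEq Ω]

section main

variable (H L : Subgroup (Perm Ω)) (hLH : L ≤ H)
    (hN : H ≤ normalizer (L : Set (Perm Ω))) (hQs : Cfsg.IsQuasisimple L)
    (hC : H ⊓ centralizer (L : Set (Perm Ω)) ≤ L) (h3 : NoThree H)

include hLH hN hQs hC h3 in
/-- case (i): the outside point `w` lies in another aligned tetrad. -/
theorem caseI_false {Q Q' : Finset Ω} (hQ : IsTet H Q) (hQ' : IsTet H Q') (hd : Disjoint Q Q')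
    {p a a' w v v' : Ω} (hp : p ∈ Q) (ha : a ∈ Q) (ha' : a' ∈ Q) (h1 : p ≠ a) (h2 : p ≠ a')
    (h4 : a ≠ a') (hw : w ∈ Q') (hv : v ∉ Q) (hv' : v' ∉ Q) (k1 : w ≠ v) (k2 : w ≠ v')
    (k4 : v ≠ v') (hR : IsTet H {p, a, w, v}) (hR' : IsTet H {p, a', w, v'}) : False := by
  have hnot : ∀ y ∈ Q, y ∉ Q' := fun y hy hy' => (Finset.disjoint_left.mp hd) hy hy'
  -- v ∈ Q'
  have hvQ' : v ∈ Q' := by
    obtain ⟨z, hz, hzQ', hzw⟩ := exists_second h3 hR hQ' w (by simp) hw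
    simp only [Finset.mem_insert, Finset.mem_singleton] at hz
    rcases hz with rfl | rfl | rfl | rfl
    · exact absurd hzQ' (hnot _ hp)
    · exact absurd hzQ' (hnot _ ha)
    · exact absurd rfl hzw
    · exact hzQ'
  have hv'Q' : v' ∈ Q' := by
    obtain ⟨z, hz, hzQ', hzw⟩ := exists_second h3 hR' hQ' w (by simp) hw
    simp only [Finset.mem_insert, Finset.mem_singleton] at hz
    rcases hz with rfl | rfl | rfl | rfl
    · exact absurd hzQ' (hnot _ hp)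
    · exact absurd hzQ' (hnot _ ha')
    · exact absurd rfl hzw
    · exact hzQ'
  obtain ⟨a'', e1, e2, e3, hQeq⟩ := exists_fourth hQ.1 hp ha ha' h1 h2 h4
  obtain ⟨v'', f1, f2, f3, hQ'eq⟩ := exists_fourth hQ'.1 hw hvQ' hv'Q' k1 k2 k4
  have hinj : Function.Injective (![p, a, a', a'', w, v, v', v''] : Fin 8 → Ω) := by
    apply vec8_injective h1 h2 (Ne.symm e1) h4 (Ne.symm e2) (Ne.symm e3) k1 k2 (Ne.symm f1) k4
      (Ne.symm f2) (Ne.symm f3)
    intro y hy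
    rw [← hQeq] at hy
    rw [← hQ'eq]
    exact hnot y hy
  refine false_of_e8 H L hLH hN hQs hC h3 (![p, a, a', a'', w, v, v', v''] : Fin 8 → Ω) hinj
    ?_ ?_ ?_ ?_
  · have : ({(![p, a, a', a'', w, v, v', v''] : Fin 8 → Ω) 0, (![p, a, a', a'', w, v, v', v''] : Fin 8 → Ω) 1,
        (![p, a, a', a'', w, v, v', v''] : Fin 8 → Ω) 2, (![p, a, a', a'', w, v, v', v''] : Fin 8 → Ω) 3} : Finset Ω) = Q := by
      rw [hQeq]; rfl
    rw [this]; exact hQ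
  · have : ({(![p, a, a', a'', w, v, v', v''] : Fin 8 → Ω) 4, (![p, a, a', a'', w, v, v', v''] : Fin 8 → Ω) 5,
        (![p, a, a', a'', w, v, v', v''] : Fin 8 → Ω) 6, (![p, a, a', a'', w, v, v', v''] : Fin 8 → Ω) 7} : Finset Ω) = Q' := by
      rw [hQ'eq]; rfl
    rw [this]; exact hQ'
  · exact hR
  · exact hR'


include h3 in
/-- case (ii): if `w` is a leftover point, so is `v`. -/
theorem leftover_of_leftover (𝒜 : Finset (Finset Ω)) (h𝒜 : ∀ Q ∈ 𝒜, IsTet H Q)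
    (hdisj : ∀ Q ∈ 𝒜, ∀ Q' ∈ 𝒜, Q ≠ Q' → Disjoint Q Q') {Q : Finset Ω} (hQA : Q ∈ 𝒜)
    {p a w v : Ω} (hp : p ∈ Q) (ha : a ∈ Q) (hw : w ∉ 𝒜.biUnion id) (hv : v ∉ Q)
    (hR : IsTet H {p, a, w, v}) : v ∉ 𝒜.biUnion id := by
  intro hvU
  rw [Finset.mem_biUnion] at hvU
  obtain ⟨Q'', hQ''A, hvQ''⟩ := hvU
  have hne : Q ≠ Q'' := by
    rintro rfl
    exact hv hvQ''
  have hd := hdisj Q hQA Q'' hQ''A hne
  have hnot : ∀ y ∈ Q, y ∉ Q'' := fun y hy hy' => (Finset.disjoint_left.mp hd) hy hy'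
  refine parity_false h3 hR (h𝒜 Q'' hQ''A) v (by simp) hvQ'' ?_
  intro z hz hzQ''
  simp only [Finset.mem_insert, Finset.mem_singleton] at hz
  rcases hz with rfl | rfl | rfl | rfl
  · exact absurd hzQ'' (hnot _ hp)
  · exact absurd hzQ'' (hnot _ ha)
  · exfalso
    apply hw
    rw [Finset.mem_biUnion]
    exact ⟨Q'', hQ''A, hzQ''⟩
  · rfl

include hLH hN hQs hC in
theorem exists_threeCycle
    (𝒜 : Finset (Finset Ω)) (h𝒜 : ∀ Q ∈ 𝒜, IsTet H Q)
    (hdisj : ∀ Q ∈ 𝒜, ∀ Q' ∈ 𝒜, Q ≠ Q' → Disjoint Q Q') (h2 : 2 ≤ 𝒜.card)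
    (hF : (Finset.univ \ 𝒜.biUnion id).card ≤ 3) : ∃ t ∈ H, t.IsThreeCycle := by
  by_contra hno
  have h3 : NoThree H := fun t ht h3c => hno ⟨t, ht, h3c⟩
  -- data for an aligned tetrad: all three outside points are leftover
  have key : ∀ Q ∈ 𝒜, ∃ p a a' w v v' : Ω, p ∈ Q ∧ a ∈ Q ∧ a' ∈ Q ∧ p ≠ a ∧ p ≠ a' ∧ a ≠ a' ∧
      w ∉ 𝒜.biUnion id ∧ v ∉ 𝒜.biUnion id ∧ v' ∉ 𝒜.biUnion id ∧ w ≠ v ∧ w ≠ v' ∧ v ≠ v' ∧
      IsTet H {p, a, w, v} ∧ IsTet H {p, a', w, v'} := by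
    intro Q hQA
    obtain ⟨p, a, a', w, v, v', hp, ha, ha', h1, h2', h4, hw, hv, hv', k1, k2, k4, hR, hR'⟩ :=
      exists_duads H L hLH hN hQs hC h3 (h𝒜 Q hQA)
    have hwU : w ∉ 𝒜.biUnion id := by
      intro hwU
      rw [Finset.mem_biUnion] at hwU
      obtain ⟨Q', hQ'A, hwQ'⟩ := hwU
      have hne : Q ≠ Q' := by
        rintro rfl
        exact hw hwQ'
      exact caseI_false H L hLH hN hQs hC h3 (h𝒜 Q hQA) (h𝒜 Q' hQ'A) (hdisj Q hQA Q' hQ'A hne)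
        hp ha ha' h1 h2' h4 hwQ' hv hv' k1 k2 k4 hR hR'
    exact ⟨p, a, a', w, v, v', hp, ha, ha', h1, h2', h4, hwU,
      leftover_of_leftover H h3 𝒜 h𝒜 hdisj hQA hp ha hwU hv hR,
      leftover_of_leftover H h3 𝒜 h𝒜 hdisj hQA hp ha' hwU hv' hR', k1, k2, k4, hR, hR'⟩
  obtain ⟨Q₁, hQ₁, Q₂, hQ₂, hne⟩ := Finset.one_lt_card.mp (by omega : 1 < 𝒜.card)
  obtain ⟨p₁, a₁, a₁', w₁, v₁, v₁', hp₁, ha₁, ha₁', -, -, -, hw₁, hv₁, hv₁', k1, k2, k4, hR₁, hR₁'⟩ :=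
    key Q₁ hQ₁
  obtain ⟨p₂, a₂, -, w₂, v₂, -, hp₂, ha₂, -, -, -, -, hw₂, hv₂, -, l1, -, -, hR₂, -⟩ :=
    key Q₂ hQ₂
  -- the leftover set is {w₁, v₁, v₁'}
  have hFeq : Finset.univ \ 𝒜.biUnion id = {w₁, v₁, v₁'} := by
    symm
    apply Finset.eq_of_subset_of_card_le
    · intro y hy
      simp only [Finset.mem_insert, Finset.mem_singleton] at hy
      rw [Finset.mem_sdiff]
      refine ⟨Finset.mem_univ _, ?_⟩
      rcases hy with rfl | rfl | rfl <;> assumption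
    · have : ({w₁, v₁, v₁'} : Finset Ω).card = 3 := by
        rw [Finset.card_insert_of_notMem, Finset.card_insert_of_notMem, Finset.card_singleton]
        · simpa using k4
        · simp [k1, k2]
      omega
  have hmemF : ∀ y, y ∉ 𝒜.biUnion id → y = w₁ ∨ y = v₁ ∨ y = v₁' := by
    intro y hy
    have : y ∈ Finset.univ \ 𝒜.biUnion id := Finset.mem_sdiff.mpr ⟨Finset.mem_univ _, hy⟩
    rw [hFeq] at this
    simpa using this
  have hd := hdisj Q₁ hQ₁ Q₂ hQ₂ hne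
  have hnot : ∀ y ∈ Q₁, y ∉ Q₂ := fun y hy hy' => (Finset.disjoint_left.mp hd) hy hy'
  have inU : ∀ Q ∈ 𝒜, ∀ y ∈ Q, y ∈ 𝒜.biUnion id := fun Q hQ y hy =>
    Finset.mem_biUnion.mpr ⟨Q, hQ, hy⟩
  -- points of `Q₁`, `Q₂` are not leftover
  have np₁ := inU Q₁ hQ₁ p₁ hp₁
  have na₁ := inU Q₁ hQ₁ a₁ ha₁
  have na₁' := inU Q₁ hQ₁ a₁' ha₁'
  have np₂ := inU Q₂ hQ₂ p₂ hp₂
  have na₂ := inU Q₂ hQ₂ a₂ ha₂
  -- a general principle: a point of R₂ lying in R₁ or R₁' is a common leftover point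
  have sep : ∀ z, (z = p₂ ∨ z = a₂ ∨ z = w₂ ∨ z = v₂) → ∀ q ∈ Q₁, z ∈ 𝒜.biUnion id → z ≠ q := by
    intro z hz q hq _ hzq
    subst hzq
    rcases hz with rfl | rfl | rfl | rfl
    · exact hnot _ hq hp₂
    · exact hnot _ hq ha₂
    · exact hw₂ (inU Q₁ hQ₁ _ hq)
    · exact hv₂ (inU Q₁ hQ₁ _ hq)
  -- `R₂ ∩ R₁ ⊆ {w₂,v₂} ∩ {w₁,v₁}` and `R₂ ∩ R₁' ⊆ {w₂,v₂} ∩ {w₁,v₁'}`
  have inter1 : ∀ z ∈ ({p₂, a₂, w₂, v₂} : Finset Ω), z ∈ ({p₁, a₁, w₁, v₁} : Finset Ω) →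
      (z = w₂ ∨ z = v₂) ∧ (z = w₁ ∨ z = v₁) := by
    intro z hz hz'
    simp only [Finset.mem_insert, Finset.mem_singleton] at hz hz'
    have hzF : z ∉ 𝒜.biUnion id := by
      rcases hz' with rfl | rfl | rfl | rfl
      · exfalso; exact sep _ hz _ hp₁ np₁ rfl
      · exfalso; exact sep _ hz _ ha₁ na₁ rfl
      · exact hw₁
      · exact hv₁
    constructor
    · rcases hz with rfl | rfl | h | h
      · exact absurd np₂ hzF
      · exact absurd na₂ hzF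
      · exact Or.inl h
      · exact Or.inr h
    · rcases hz' with rfl | rfl | h | h
      · exact absurd np₁ hzF
      · exact absurd na₁ hzF
      · exact Or.inl h
      · exact Or.inr h
  have inter2 : ∀ z ∈ ({p₂, a₂, w₂, v₂} : Finset Ω), z ∈ ({p₁, a₁', w₁, v₁'} : Finset Ω) →
      (z = w₂ ∨ z = v₂) ∧ (z = w₁ ∨ z = v₁') := by
    intro z hz hz'
    simp only [Finset.mem_insert, Finset.mem_singleton] at hz hz'
    have hzF : z ∉ 𝒜.biUnion id := by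
      rcases hz' with rfl | rfl | rfl | rfl
      · exfalso; exact sep _ hz _ hp₁ np₁ rfl
      · exfalso; exact sep _ hz _ ha₁' na₁' rfl
      · exact hw₁
      · exact hv₁'
    constructor
    · rcases hz with rfl | rfl | h | h
      · exact absurd np₂ hzF
      · exact absurd na₂ hzF
      · exact Or.inl h
      · exact Or.inr h
    · rcases hz' with rfl | rfl | h | h
      · exact absurd np₁ hzF
      · exact absurd na₁' hzF
      · exact Or.inl h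
      · exact Or.inr h
  -- case analysis on the positions of w₂, v₂ in the leftover set
  rcases hmemF w₂ hw₂ with e1 | e1 | e1 <;> rcases hmemF v₂ hv₂ with e2 | e2 | e2
  · exact l1 (e1.trans e2.symm)
  · -- {w₂,v₂} = {w₁,v₁}: R₂ ∩ R₁' = {w₁}
    refine parity_false h3 hR₂ hR₁' w₁ (by simp [e1]) (by simp) ?_
    intro z hz hz'
    obtain ⟨h1, h2'⟩ := inter2 z hz hz'
    rcases h2' with h | h
    · exact h
    · rcases h1 with h1 | h1
      · exact h1.trans e1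
      · exact absurd ((h.symm.trans h1).trans e2) (Ne.symm k4)
  · -- {w₂,v₂} = {w₁,v₁'}: R₂ ∩ R₁ = {w₁}
    refine parity_false h3 hR₂ hR₁ w₁ (by simp [e1]) (by simp) ?_
    intro z hz hz'
    obtain ⟨h1, h2'⟩ := inter1 z hz hz'
    rcases h2' with h | h
    · exact h
    · rcases h1 with h1 | h1
      · exact h1.trans e1
      · exact absurd ((h.symm.trans h1).trans e2) k4
  · -- {w₂,v₂} = {v₁,w₁}: R₂ ∩ R₁' = {w₁}
    refine parity_false h3 hR₂ hR₁' w₁ (by simp [e2]) (by simp) ?_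
    intro z hz hz'
    obtain ⟨h1, h2'⟩ := inter2 z hz hz'
    rcases h2' with h | h
    · exact h
    · rcases h1 with h1 | h1
      · exact absurd ((h.symm.trans h1).trans e1) (Ne.symm k4)
      · exact h1.trans e2
  · exact l1 (e1.trans e2.symm)
  · -- {w₂,v₂} = {v₁,v₁'}: R₂ ∩ R₁ = {v₁}
    refine parity_false h3 hR₂ hR₁ v₁ (by simp [e1]) (by simp) ?_
    intro z hz hz'
    obtain ⟨h1, h2'⟩ := inter1 z hz hz'
    rcases h2' with h | h
    · rcases h1 with h1 | h1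
      · exact absurd ((h.symm.trans h1).trans e1) k1
      · exact absurd ((h.symm.trans h1).trans e2) k2
    · exact h
  · -- {w₂,v₂} = {v₁',w₁}: R₂ ∩ R₁ = {w₁}
    refine parity_false h3 hR₂ hR₁ w₁ (by simp [e2]) (by simp) ?_
    intro z hz hz'
    obtain ⟨h1, h2'⟩ := inter1 z hz hz'
    rcases h2' with h | h
    · exact h
    · rcases h1 with h1 | h1
      · exact absurd ((h.symm.trans h1).trans e1) k4
      · exact h1.trans e2
  · -- {w₂,v₂} = {v₁',v₁}: R₂ ∩ R₁ = {v₁}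
    refine parity_false h3 hR₂ hR₁ v₁ (by simp [e2]) (by simp) ?_
    intro z hz hz'
    obtain ⟨h1, h2'⟩ := inter1 z hz hz'
    rcases h2' with h | h
    · rcases h1 with h1 | h1
      · exact absurd ((h.symm.trans h1).trans e1) k2
      · exact absurd ((h.symm.trans h1).trans e2) k1
    · exact h
  · exact l1 (e1.trans e2.symm)

end main

end Cfsg.Agent.Lib.Helper8.Tet
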