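import Cfsg.Agent.Lib.Helper6.Th24Defs

set_option autoImplicit false

/-! # S1632 PK-ALG: Schur complement algebra for the Gaussian Poisson induction -/

namespace Cfsg.Agent.Lib.Helper6.Theta24

open Matrix Complex Real

namespace PkAlg

variable {n : ℕ}

theorem mulVec_zero_eq (A : Matrix (Fin (n+1)) (Fin (n+1)) ℝ) (x : Fin (n+1) → ℝ) :
    (A *ᵥ x) 0 = A 0 0 * x 0 + brow A ⬝ᵥ Fin.tail x := by
  simp only [mulVec, dotProduct, Fin.sum_univ_succ, brow, Fin.tail]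

theorem mulVec_succ_eq (A : Matrix (Fin (n+1)) (Fin (n+1)) ℝ) (hA : A.IsSymm)
    (x : Fin (n+1) → ℝ) (i : Fin n) :
    (A *ᵥ x) i.succ = brow A i * x 0 + (lower A *ᵥ Fin.tail x) i := by
  simp only [mulVec, dotProduct, Fin.sum_univ_succ, brow, Fin.tail, lower]
  rw [← hA.apply]

theorem qf_succ (A : Matrix (Fin (n+1)) (Fin (n+1)) ℝ) (hA : A.IsSymm) (x : Fin (n+1) → ℝ) :
    qf A x = A 0 0 * x 0 ^ 2 + 2 * x 0 * (brow A ⬝ᵥ Fin.tail x)
      + qf (lower A) (Fin.tail x) := by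
  unfold qf
  rw [dotProduct, Fin.sum_univ_succ, mulVec_zero_eq]
  simp only [mulVec_succ_eq A hA]
  simp only [mul_add, Finset.sum_add_distrib]
  have h1 : ∑ i : Fin n, x i.succ * (brow A i * x 0) = x 0 * (brow A ⬝ᵥ Fin.tail x) := by
    rw [dotProduct, Finset.mul_sum]
    refine Finset.sum_congr rfl fun i _ => ?_
    simp only [Fin.tail]; ring
  rw [h1]
  simp only [dotProduct, Fin.tail]
  ring

theorem schur_mulVec (A : Matrix (Fin (n+1)) (Fin (n+1)) ℝ) (y : Fin n → ℝ) :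
    schur A *ᵥ y = fun i => (lower A *ᵥ y) i - brow A i * (brow A ⬝ᵥ y) / A 0 0 := by
  funext i
  simp only [mulVec, dotProduct, schur, lower, brow, sub_mul, Finset.sum_sub_distrib]
  congr 1
  rw [Finset.mul_sum, Finset.sum_div]
  refine Finset.sum_congr rfl fun j _ => ?_
  ring

theorem qf_schur_eq (A : Matrix (Fin (n+1)) (Fin (n+1)) ℝ) (ha : A 0 0 ≠ 0) (y : Fin n → ℝ) :
    qf (schur A) y = qf (lower A) y - (brow A ⬝ᵥ y) ^ 2 / A 0 0 := by
  unfold qf
  rw [schur_mulVec]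
  simp only [dotProduct, mul_sub, Finset.sum_sub_distrib]
  congr 1
  have : ∀ i, y i * (brow A i * ((∑ j, brow A j * y j) / A 0 0))
      = (brow A i * y i) * ((∑ j, brow A j * y j) / A 0 0) := by
    intro i; ring
  simp only [mul_div_assoc]
  simp only [this]
  rw [← Finset.sum_mul]
  field_simp

theorem qf_schur (A : Matrix (Fin (n+1)) (Fin (n+1)) ℝ) (hA : A.IsSymm) (ha : A 0 0 ≠ 0)
    (x : Fin (n+1) → ℝ) :
    qf A x = A 0 0 * (x 0 + (brow A ⬝ᵥ Fin.tail x) / A 0 0) ^ 2 + qf (schur A) (Fin.tail x) := by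
  rw [qf_succ A hA, qf_schur_eq A ha]
  field_simp
  ring

theorem qf_single (A : Matrix (Fin (n+1)) (Fin (n+1)) ℝ) :
    qf A (Pi.single 0 1) = A 0 0 := by
  unfold qf
  simp

end PkAlg

section alg
variable {n : ℕ} (A A' : Matrix (Fin (n + 1)) (Fin (n + 1)) ℝ)

theorem piv_pos (hpos : PD A) : 0 < piv A := by
  have h := hpos (Pi.single 0 1) (by
    intro h
    have := congrFun h 0
    simp at this)
  rwa [PkAlg.qf_single] at h

theorem schur_symm (hA : A.IsSymm) : (schur A).IsSymm := by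
  ext i j
  simp only [transpose_apply, schur]
  rw [hA.apply j.succ i.succ]; ring

theorem lower_symm (hA' : A'.IsSymm) : (lower A').IsSymm := by
  ext i j
  simp only [transpose_apply, lower]
  rw [hA'.apply]

theorem schur_pd (hA : A.IsSymm) (hpos : PD A) : PD (schur A) := by
  have ha : 0 < A 0 0 := piv_pos A hpos
  intro y hy
  have hx : (Fin.cons (-((brow A ⬝ᵥ y) / A 0 0)) y : Fin (n+1) → ℝ) ≠ 0 := by
    intro h
    apply hy
    funext i
    have := congrFun h i.succ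
    simpa using this
  have := hpos _ hx
  rw [PkAlg.qf_schur A hA ha.ne'] at this
  simpa [Fin.tail_cons] using this

theorem schur_mul_lower (hA : A.IsSymm) (hA' : A'.IsSymm) (hinv : A * A' = 1) (hpos : PD A) :
    schur A * lower A' = 1 := by
  have ha : 0 < A 0 0 := piv_pos A hpos
  ext i k
  have h1 : (A * A') i.succ k.succ = (1 : Matrix (Fin (n+1)) (Fin (n+1)) ℝ) i.succ k.succ := by
    rw [hinv]
  have h2 : (A * A') 0 k.succ = (1 : Matrix (Fin (n+1)) (Fin (n+1)) ℝ) 0 k.succ := by rw [hinv]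
  rw [Matrix.mul_apply, Fin.sum_univ_succ] at h1 h2
  rw [Matrix.one_apply_ne (Fin.succ_ne_zero k).symm] at h2
  have h3 : (1 : Matrix (Fin (n+1)) (Fin (n+1)) ℝ) i.succ k.succ = (1 : Matrix (Fin n) (Fin n) ℝ) i k := by
    simp only [Matrix.one_apply, Fin.succ_inj]
  rw [h3] at h1
  rw [← h1, Matrix.mul_apply]
  simp only [schur, lower, sub_mul, Finset.sum_sub_distrib]
  have h4 : ∑ j : Fin n, A 0 i.succ * A 0 j.succ / A 0 0 * A' j.succ k.succ
      = A 0 i.succ / A 0 0 * ∑ j : Fin n, A 0 j.succ * A' j.succ k.succ := by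
    rw [Finset.mul_sum]
    refine Finset.sum_congr rfl fun j _ => ?_
    ring
  rw [h4]
  have h5 : ∑ j : Fin n, A 0 j.succ * A' j.succ k.succ = - (A 0 0 * A' 0 k.succ) := by
    linarith
  rw [h5, hA.apply i.succ 0]
  field_simp
  ring

theorem qf_cons (hA : A.IsSymm) (hpos : PD A) (x₀ : ℝ) (y : Fin n → ℝ) :
    qf A (Fin.cons x₀ y) =
      piv A * x₀ ^ 2 + 2 * x₀ * (brow A ⬝ᵥ y) + (qf (schur A) y + (brow A ⬝ᵥ y) ^ 2 / piv A) := by
  have ha : 0 < A 0 0 := piv_pos A hpos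
  rw [PkAlg.qf_succ A hA, PkAlg.qf_schur_eq A ha.ne']
  simp only [Fin.cons_zero, Fin.tail_cons, piv]
  ring

theorem qf_inv_cons (hA : A.IsSymm) (hA' : A'.IsSymm) (hinv : A * A' = 1) (hpos : PD A)
    (μ₀ : ℝ) (μ' : Fin n → ℝ) :
    qf A' (Fin.cons μ₀ μ') =
      μ₀ ^ 2 / piv A + qf (lower A') (fun j => μ' j - μ₀ / piv A * brow A j) := by
  have ha : 0 < A 0 0 := piv_pos A hpos
  obtain ⟨v, hv0⟩ : ∃ v : Fin (n+1) → ℝ, v = Fin.cons μ₀ μ' := ⟨_, rfl⟩
  obtain ⟨u, hu⟩ : ∃ u, u = A' *ᵥ v := ⟨_, rfl⟩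
  have hv : v = A *ᵥ u := by
    rw [hu, mulVec_mulVec, hinv, one_mulVec]
  have hμ0 : μ₀ = v 0 := by rw [hv0]; rfl
  have hμ' : μ' = Fin.tail v := by rw [hv0]; rfl
  have h1 : qf A' v = qf A u := by
    unfold qf
    rw [← hu, hv, dotProduct_comm]
  have h2 : (fun j => μ' j - μ₀ / piv A * brow A j) = schur A *ᵥ Fin.tail u := by
    funext i
    rw [PkAlg.schur_mulVec, hμ0, hμ']
    simp only [Fin.tail, hv, PkAlg.mulVec_succ_eq A hA, PkAlg.mulVec_zero_eq, piv]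
    field_simp
    ring
  have hSL : lower A' * schur A = 1 :=
    (mul_eq_one_comm).mp (schur_mul_lower A A' hA hA' hinv hpos)
  have h3 : qf (lower A') (schur A *ᵥ Fin.tail u) = qf (schur A) (Fin.tail u) := by
    unfold qf
    rw [mulVec_mulVec, hSL, one_mulVec, dotProduct_comm]
  rw [← hv0, h1, h2, h3, PkAlg.qf_schur A hA ha.ne', hμ0, hv, PkAlg.mulVec_zero_eq, piv]
  field_simp

end alg

end Cfsg.Agent.Lib.Helper6.Theta24
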