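import Mathlib
import Cfsg.Prelude.Def_Blocks
import Cfsg.Agent.Lib.Helper8.Inf5
import Cfsg.Agent.Lib.Helper8.Rey3
import Cfsg.Agent.Lib.Helper8.CV1
import Cfsg.Agent.Lib.Helper8.GL23
import Cfsg.Agent.Lib.Helper8.GL9
import Cfsg.Agent.S0146
import Cfsg.Agent.S0170

/-!
# A unique character of degree divisible by `p`, with a normal `p`-complement: the quotient is abelian
-/

set_option autoImplicit false

namespace Cfsg.Agent.Lib.Helper8

open Cfsg
open scoped ComplexConjugate
open Cfsg.Agent.Lib.Helper1 Cfsg.Agent.Lib.Helper4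

universe u

section

variable {G : Type u} [Group G] [Finite G]

/-- A nonabelian quotient has a nonlinear irreducible character. -/
theorem exists_irr_nonlinear_quot (N : Subgroup G) [N.Normal] (h : ¬ commutator G ≤ N) :
    ∃ ψ : IrrCharacter (G ⧸ N), charDegree (ψ : G ⧸ N → ℂ) ≠ 1 := by
  classical
  haveI : Fintype (G ⧸ N) := Fintype.ofFinite _
  by_contra hcon
  push Not at hcon
  apply h
  rw [← Subgroup.Normal.quotient_commutative_iff_commutator_le]
  exact ⟨⟨comm_of_charDegree_eq_one (G ⧸ N) hcon⟩⟩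

/-- The linear characters trivial on `N` correspond to the linear characters of `G ⧸ N`. -/
noncomputable def linQuotEquiv (N : Subgroup G) [N.Normal] :
    {φ : G →* ℂˣ // ∀ n : N, φ (n : G) = 1} ≃ ((G ⧸ N) →* ℂˣ) where
  toFun φ := QuotientGroup.lift N φ.1 (fun n hn => φ.2 ⟨n, hn⟩)
  invFun ψ := ⟨ψ.comp (QuotientGroup.mk' N), fun n => by
    rw [MonoidHom.comp_apply, QuotientGroup.mk'_apply, (QuotientGroup.eq_one_iff (n : G)).2 n.2,
      map_one]⟩
  left_inv φ := by
    apply Subtype.ext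
    apply MonoidHom.ext
    intro g
    rfl
  right_inv ψ := by
    apply MonoidHom.ext
    intro q
    obtain ⟨g, rfl⟩ := QuotientGroup.mk_surjective q
    rfl

/-- If `G ⧸ N` is not abelian, there are fewer than `|G : N|` linear characters trivial on `N`. -/
theorem card_lin_lt_index (N : Subgroup G) [N.Normal] (h : ¬ commutator G ≤ N) :
    Nat.card {φ : G →* ℂˣ // ∀ n : N, φ (n : G) = 1} < N.index := by
  rw [Nat.card_congr (linQuotEquiv N),
    Nat.card_congr (Abelianization.lift (G := G ⧸ N) (A := ℂˣ))]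
  have : NeZero (Monoid.exponent (Abelianization (G ⧸ N))) :=
    ⟨Monoid.exponent_ne_zero_of_finite⟩
  rw [CommGroup.card_monoidHom_of_hasEnoughRootsOfUnity (Abelianization (G ⧸ N)) ℂ]
  have h1 : Nat.card (Abelianization (G ⧸ N)) = (commutator (G ⧸ N)).index :=
    (Subgroup.index_eq_card (commutator (G ⧸ N))).symm
  rw [h1, Subgroup.index_eq_card N]
  have h2 := Subgroup.card_mul_index (commutator (G ⧸ N))
  have h3 : commutator (G ⧸ N) ≠ ⊥ := by
    intro h0
    apply h
    rw [← Subgroup.Normal.quotient_commutative_iff_commutator_le]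
    refine ⟨⟨fun a b => ?_⟩⟩
    have h5 := Subgroup.commutator_mem_commutator (H₁ := (⊤ : Subgroup (G ⧸ N))) (H₂ := ⊤)
      (Subgroup.mem_top a) (Subgroup.mem_top b)
    rw [← commutator_def, h0, Subgroup.mem_bot] at h5
    exact commutatorElement_eq_one_iff_mul_comm.mp h5
  have h4 : 1 < Nat.card (commutator (G ⧸ N)) := (Subgroup.one_lt_card_iff_ne_bot _).2 h3
  have h5 : 0 < (commutator (G ⧸ N)).index := Nat.pos_of_ne_zero Subgroup.index_ne_zero_of_finite
  rw [← h2]
  nlinarith

/-- Irreducible characters separate a nonidentity element from the identity. -/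
theorem exists_irr_apply_ne {n₀ : G} (hn₀ : n₀ ≠ 1) :
    ∃ χ : IrrCharacter G, (χ : G → ℂ) n₀ ≠ (χ : G → ℂ) 1 := by
  classical
  haveI : Fintype (IrrCharacter G) := Fintype.ofFinite _
  by_contra hcon
  push Not at hcon
  have h1 := sum_irr_apply_mul_one (G := G) hn₀
  have h2 : ∀ χ : IrrCharacter G, 0 ≤ ((χ : G → ℂ) n₀ * (χ : G → ℂ) 1).re := by
    intro χ
    obtain ⟨d, hd, hd1⟩ := exists_degree χ
    rw [hcon χ, hd1]
    norm_cast
    positivity
  have h3 : (∑ χ : IrrCharacter G, (χ : G → ℂ) n₀ * (χ : G → ℂ) 1).re = 0 := by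
    rw [h1]; simp
  rw [Complex.re_sum] at h3
  have h4 := (Finset.sum_eq_zero_iff_of_nonneg (fun χ _ => h2 χ)).1 h3 (trivIrr G)
    (Finset.mem_univ _)
  rw [trivIrr_apply, trivIrr_apply] at h4
  simp at h4

end

end Cfsg.Agent.Lib.Helper8
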