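import Mathlib
import Cfsg.Prelude.Def_Blocks
import Cfsg.Agent.Lib.Helper8.UP1
import Cfsg.Agent.Lib.Helper1.IndFun

/-!
# A unique character of degree divisible by `p`, with a normal `p`-complement: the quotient is abelian
(main step)
-/

set_option autoImplicit false

namespace Cfsg.Agent.Lib.Helper8

open Cfsg
open scoped ComplexConjugate
open Cfsg.Agent.Lib.Helper1 Cfsg.Agent.Lib.Helper4

universe u

section

variable {G : Type u} [Group G] [Finite G]

/-- The number of irreducible characters lying over an irreducible character `θ` of `N` all of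
which extend `θ` is the index of `N`. -/
theorem card_over_of_all_extend [Fintype G] (N : Subgroup G) [Fintype N]
    [Fintype (IrrCharacter G)] {θ : N → ℂ} (hθ : IsIrrCharacter N θ)
    (hover : ∀ ξ : IrrCharacter G, classInner (fun n : N => (ξ : G → ℂ) n) θ ≠ 0 →
      ∀ n : N, (ξ : G → ℂ) n = θ n) :
    Nat.card {ξ : IrrCharacter G // classInner (fun n : N => (ξ : G → ℂ) n) θ ≠ 0} = N.index := by
  classical
  have hexp := class_function_expansion (indFun N θ) (indFun_isClassFunction N θ)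
  have h1 := congrFun hexp 1
  rw [Finset.sum_apply] at h1
  simp only [Pi.smul_apply, smul_eq_mul] at h1
  have hterm : ∀ ξ : IrrCharacter G, classInner (indFun N θ) (ξ : G → ℂ) * (ξ : G → ℂ) 1
      = if classInner (fun n : N => (ξ : G → ℂ) n) θ ≠ 0 then θ 1 else 0 := by
    intro ξ
    rw [Cfsg.Agent.S0146.result N θ (ξ : G → ℂ) (isClassFunction_irr ξ.2)]
    by_cases hξ : classInner (fun n : N => (ξ : G → ℂ) n) θ ≠ 0
    · rw [if_pos hξ]
      have h2 : (fun n : N => (ξ : G → ℂ) n) = θ := funext (hover ξ hξ)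
      rw [h2, classInner_irr_self hθ, one_mul]
      have := hover ξ hξ 1
      rw [OneMemClass.coe_one] at this
      exact this
    · rw [if_neg hξ]
      push Not at hξ
      rw [classInner_eq_zero_symm hξ, zero_mul]
  rw [Finset.sum_congr rfl (fun ξ _ => hterm ξ), Finset.sum_ite, Finset.sum_const_zero, add_zero,
    Finset.sum_const, nsmul_eq_mul, Cfsg.Agent.S0170.indFun_one] at h1
  have hθ1 : θ 1 ≠ 0 := irr_apply_one_ne_zero hθ
  have hN0 : (Nat.card N : ℂ) ≠ 0 := Nat.cast_ne_zero.2 Nat.card_pos.ne'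
  have hcard : (Nat.card G : ℂ) = (Nat.card N : ℂ) * (N.index : ℂ) := by
    rw [← Nat.cast_mul, Subgroup.card_mul_index]
  rw [hcard] at h1
  have h2 : (N.index : ℂ) = ((Finset.univ.filter
      (fun ξ : IrrCharacter G => classInner (fun n : N => (ξ : G → ℂ) n) θ ≠ 0)).card : ℂ) := by
    apply mul_right_cancel₀ hθ1
    rw [← h1]
    field_simp
  rw [Nat.card_eq_fintype_card, Fintype.card_subtype]
  exact_mod_cast h2.symm

/-- **The quotient by the normal `p`-complement is abelian.** -/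
theorem commutator_le_of_unique (p : ℕ) [Fact p.Prime] (N : Subgroup G) [N.Normal]
    (hidx : ∃ k : ℕ, N.index = p ^ k)
    (hone : Nat.card {χ : IrrCharacter G // p ∣ charDegree (χ : G → ℂ)} = 1) (hN1 : N ≠ ⊥) :
    commutator G ≤ N := by
  classical
  haveI : Fintype G := Fintype.ofFinite _
  haveI : Fintype N := Fintype.ofFinite _
  haveI : Fintype (IrrCharacter G) := Fintype.ofFinite _
  have hp : p.Prime := Fact.out
  obtain ⟨k, hk⟩ := hidx
  by_contra hB
  obtain ⟨ψ₀, hψ₀⟩ := exists_irr_nonlinear_quot N hB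
  obtain ⟨χβ, hχβdef⟩ : ∃ χβ : IrrCharacter G, χβ = inflIrr N ψ₀ := ⟨_, rfl⟩
  have hχβapp : ∀ g : G, (χβ : G → ℂ) g = (ψ₀ : G ⧸ N → ℂ) (QuotientGroup.mk g) := by
    intro g; rw [hχβdef, inflIrr_apply]
  have hdegβ : charDegree (χβ : G → ℂ) = charDegree (ψ₀ : G ⧸ N → ℂ) := by
    unfold charDegree
    rw [hχβapp, QuotientGroup.mk_one]
  have hpβ : p ∣ charDegree (χβ : G → ℂ) := by
    rw [hdegβ]
    have h1 : charDegree (ψ₀ : G ⧸ N → ℂ) ∣ p ^ k := by
      rw [← hk, Subgroup.index_eq_card N]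
      exact charDegree_dvd_card ψ₀.2
    obtain ⟨j, -, hj⟩ := (Nat.dvd_prime_pow hp).1 h1
    rw [hj]
    rcases Nat.eq_zero_or_pos j with h0 | h0
    · exfalso
      rw [h0, pow_zero] at hj
      exact hψ₀ hj
    · exact dvd_pow_self p h0.ne'
  have huniq : ∀ χ : IrrCharacter G, p ∣ charDegree (χ : G → ℂ) → χ = χβ := by
    intro χ hχ
    obtain ⟨hsub, -⟩ := Nat.card_eq_one_iff_unique.1 hone
    have := hsub.elim ⟨χ, hχ⟩ ⟨χβ, hpβ⟩
    exact congrArg Subtype.val this
  obtain ⟨a, ha⟩ := (Subgroup.ne_bot_iff_exists_ne_one).1 hN1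
  have hn₀ : (a : G) ≠ 1 := fun h => ha (Subtype.ext h)
  obtain ⟨χ, hχ⟩ := exists_irr_apply_ne hn₀
  have hχβn : ∀ n : N, (χβ : G → ℂ) n = (χβ : G → ℂ) 1 := by
    intro n
    rw [hχβapp, hχβapp, (QuotientGroup.eq_one_iff (n : G)).2 n.2, QuotientGroup.mk_one]
  have hne : χ ≠ χβ := by
    intro h
    rw [h] at hχ
    exact hχ (hχβn a)
  have hcop_of : ∀ ξ : IrrCharacter G, ξ ≠ χβ → (charDegree (ξ : G → ℂ)).Coprime N.index := by
    intro ξ hξ
    rw [hk]
    apply Nat.Coprime.pow_right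
    rw [Nat.coprime_comm, Nat.Prime.coprime_iff_not_dvd hp]
    exact fun h => hξ (huniq ξ h)
  have hθ := restrict_irr_of_coprime N χ.2 (hcop_of χ hne)
  obtain ⟨θ, hθdef⟩ : ∃ θ : N → ℂ, θ = fun n : N => (χ : G → ℂ) n := ⟨_, rfl⟩
  rw [← hθdef] at hθ
  have hθtriv : (trivIrr N : N → ℂ) ≠ θ := by
    intro h
    have h1 := congrFun h a
    have h2 := congrFun h 1
    rw [trivIrr_apply] at h1 h2
    rw [hθdef] at h1 h2
    have h1' : (χ : G → ℂ) (a : G) = 1 := h1.symm
    have h2' : (χ : G → ℂ) ((1 : N) : G) = 1 := h2.symm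
    rw [OneMemClass.coe_one] at h2'
    apply hχ
    rw [h1', h2']
  have hβover : classInner (fun n : N => (χβ : G → ℂ) n) θ = 0 := by
    have h1 : (fun n : N => (χβ : G → ℂ) n) = ((χβ : G → ℂ) 1) • (trivIrr N : N → ℂ) := by
      funext n
      rw [Pi.smul_apply, trivIrr_apply, smul_eq_mul, mul_one, hχβn n]
    rw [h1, classInner_smul_left, classInner_irr_ne (trivIrr N).2 hθ hθtriv, mul_zero]
  have hover : ∀ ξ : IrrCharacter G, classInner (fun n : N => (ξ : G → ℂ) n) θ ≠ 0 →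
      ∀ n : N, (ξ : G → ℂ) n = θ n := by
    intro ξ hξ
    have hξne : ξ ≠ χβ := by
      intro h
      rw [h] at hξ
      exact hξ hβover
    have hξirr := restrict_irr_of_coprime N ξ.2 (hcop_of ξ hξne)
    rw [classInner_irr hξirr hθ] at hξ
    have h1 : (fun n : N => (ξ : G → ℂ) n) = θ := by
      by_contra h
      rw [if_neg h] at hξ
      exact hξ rfl
    exact fun n => congrFun h1 n
  have hcardS := card_over_of_all_extend N hθ hover
  -- injection into the linear characters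
  have hphi : ∀ ξ : {ξ : IrrCharacter G // classInner (fun n : N => (ξ : G → ℂ) n) θ ≠ 0},
      ∃ φ : {φ : G →* ℂˣ // ∀ n : N, φ (n : G) = 1},
        (ξ.1 : G → ℂ) = fun g => ((φ.1 g : ℂˣ) : ℂ) * (χ : G → ℂ) g := by
    intro ξ
    obtain ⟨φ, hφN, hφ⟩ := exists_hom_mul_of_extend N hθ χ.2 ξ.1.2
      (fun n => by rw [hθdef]) (hover ξ.1 ξ.2)
    exact ⟨⟨φ, hφN⟩, hφ⟩
  choose f hf using hphi
  have hinj : Function.Injective f := by
    intro ξ ξ' h
    apply Subtype.ext
    apply Subtype.ext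
    rw [hf ξ, hf ξ', h]
  have hle := Nat.card_le_card_of_injective f hinj
  have hlt := card_lin_lt_index N hB
  omega

end

end Cfsg.Agent.Lib.Helper8
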