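import Mathlib
import Cfsg.Agent.Lib.Helper1.ConjCount

/-!
# Classes of size prime to `p` and the normalizer of a Sylow `p`-subgroup
-/

set_option autoImplicit false

namespace Cfsg.Agent.Lib.Helper8

universe u

section

variable {G : Type u} [Group G] [Finite G] {p : ℕ} [Fact p.Prime]

open Cfsg.Agent.Lib.Helper1

theorem conjClasses_map_mk {H : Type*} [Group H] (f : H →* G) (a : H) :
    ConjClasses.map f (ConjClasses.mk a) = ConjClasses.mk (f a) := rfl

/-- the size of a class as a set of conjugates -/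
theorem card_carrier_mk (g : G) :
    Nat.card (ConjClasses.mk g).carrier = Nat.card {v : G // IsConj g v} := by
  apply Nat.card_congr
  apply Equiv.subtypeEquivRight
  intro v
  rw [ConjClasses.mem_carrier_iff_mk_eq, ConjClasses.mk_eq_mk_iff_isConj, isConj_comm]

/-- An element centralizing a Sylow `p`-subgroup has class size prime to `p`. -/
theorem not_dvd_class_of_mem_centralizer (P : Sylow p G) {y : G}
    (hy : y ∈ Subgroup.centralizer ((P : Subgroup G) : Set G)) :
    ¬ p ∣ Nat.card {v : G // IsConj y v} := by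
  intro hdvd
  have h1 := card_isConj_mul_card_centralizer y
  have hle : (P : Subgroup G) ≤ Subgroup.centralizer ({y} : Set G) := by
    intro x hx
    rw [Subgroup.mem_centralizer_iff]
    intro z hz
    rw [Set.mem_singleton_iff] at hz
    rw [hz]
    exact (Subgroup.mem_centralizer_iff.1 hy x hx).symm
  have h2 : Nat.card (P : Subgroup G) ∣ Nat.card (Subgroup.centralizer ({y} : Set G)) :=
    Subgroup.card_dvd_of_le hle
  have h3 : p * Nat.card (P : Subgroup G) ∣ Nat.card G := by
    rw [← h1]
    exact Nat.mul_dvd_mul hdvd h2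
  rw [P.card_eq_multiplicity, ← pow_succ'] at h3
  exact Nat.pow_succ_factorization_not_dvd Nat.card_pos.ne' Fact.out h3

/-- A class of size prime to `p` meets the centralizer of a given Sylow `p`-subgroup. -/
theorem exists_conj_mem_centralizer (P : Sylow p G) (g : G)
    (h : ¬ p ∣ Nat.card {v : G // IsConj g v}) :
    ∃ y : G, IsConj g y ∧ y ∈ Subgroup.centralizer ((P : Subgroup G) : Set G) := by
  let act : MulAction (P : Subgroup G) {v : G // IsConj g v} :=
    { smul := fun x v => ⟨(x : G) * v.1 * (x : G)⁻¹,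
        v.2.trans (isConj_iff.2 ⟨(x : G), rfl⟩)⟩
      one_smul := fun v => by
        apply Subtype.ext
        change ((1 : (P : Subgroup G)) : G) * v.1 * ((1 : (P : Subgroup G)) : G)⁻¹ = v.1
        simp
      mul_smul := fun x x' v => by
        apply Subtype.ext
        change ((x * x' : (P : Subgroup G)) : G) * v.1 * ((x * x' : (P : Subgroup G)) : G)⁻¹
          = (x : G) * ((x' : G) * v.1 * (x' : G)⁻¹) * (x : G)⁻¹
        simp only [Subgroup.coe_mul, mul_inv_rev, mul_assoc] }
  obtain ⟨v, hv⟩ := P.isPGroup'.nonempty_fixed_point_of_prime_not_dvd_card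
    {v : G // IsConj g v} h
  refine ⟨v.1, v.2, ?_⟩
  rw [Subgroup.mem_centralizer_iff]
  intro x hx
  have h1 := hv ⟨x, hx⟩
  have h2 : x * v.1 * x⁻¹ = v.1 := congrArg Subtype.val h1
  calc x * v.1 = (x * v.1 * x⁻¹) * x := by group
    _ = v.1 * x := by rw [h2]

/-- **Classes of size prime to `p`** are in bijection with the classes of the normalizer of a
Sylow `p`-subgroup, when this normalizer centralizes the Sylow subgroup. -/
theorem card_pregular_classes (P : Sylow p G)
    (hNC : Subgroup.normalizer ((P : Subgroup G) : Set G)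
      ≤ Subgroup.centralizer ((P : Subgroup G) : Set G)) :
    Nat.card {C : ConjClasses G // ¬ p ∣ Nat.card C.carrier}
      = Nat.card (ConjClasses (Subgroup.normalizer ((P : Subgroup G) : Set G))) := by
  symm
  set Λ := Subgroup.normalizer ((P : Subgroup G) : Set G) with hΛ
  have hCN : Subgroup.centralizer ((P : Subgroup G) : Set G) ≤ Λ :=
    Subgroup.centralizer_le_normalizer _
  have hprop : ∀ κ : ConjClasses Λ,
      ¬ p ∣ Nat.card (ConjClasses.map Λ.subtype κ).carrier := by
    intro κ
    obtain ⟨y, rfl⟩ := ConjClasses.exists_rep κ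
    rw [conjClasses_map_mk, card_carrier_mk]
    exact not_dvd_class_of_mem_centralizer P (hNC y.2)
  apply Nat.card_congr
  refine Equiv.ofBijective (fun κ => ⟨ConjClasses.map Λ.subtype κ, hprop κ⟩) ⟨?_, ?_⟩
  · intro κ κ' h
    have h0 : ConjClasses.map Λ.subtype κ = ConjClasses.map Λ.subtype κ' :=
      congrArg Subtype.val h
    obtain ⟨y, rfl⟩ := ConjClasses.exists_rep κ
    obtain ⟨y', rfl⟩ := ConjClasses.exists_rep κ'
    rw [conjClasses_map_mk, conjClasses_map_mk, ConjClasses.mk_eq_mk_iff_isConj,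
      isConj_iff] at h0
    obtain ⟨c, hc⟩ := h0
    have hc' : c * (y : G) * c⁻¹ = (y' : G) := hc
    obtain ⟨n, hn, hn'⟩ := Sylow.conj_eq_normalizer_conj_of_mem_centralizer P (y : G) c⁻¹
      (hNC y.2) (by rw [inv_inv, hc']; exact hNC y'.2)
    rw [inv_inv, hc'] at hn'
    rw [ConjClasses.mk_eq_mk_iff_isConj, isConj_iff]
    refine ⟨⟨n, hn⟩⁻¹, ?_⟩
    apply Subtype.ext
    simp only [Subgroup.coe_mul, Subgroup.coe_inv, inv_inv]
    exact hn'.symm
  · rintro ⟨C, hC⟩
    obtain ⟨g, rfl⟩ := ConjClasses.exists_rep C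
    rw [card_carrier_mk] at hC
    obtain ⟨y, hgy, hy⟩ := exists_conj_mem_centralizer P g hC
    refine ⟨ConjClasses.mk (⟨y, hCN hy⟩ : Λ), ?_⟩
    apply Subtype.ext
    change ConjClasses.map Λ.subtype (ConjClasses.mk (⟨y, hCN hy⟩ : Λ)) = ConjClasses.mk g
    rw [conjClasses_map_mk, ConjClasses.mk_eq_mk_iff_isConj]
    exact hgy.symm

end

end Cfsg.Agent.Lib.Helper8
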