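import Mathlib
import Cfsg.Prelude.Def_Blocks
import Cfsg.Agent.Lib.Helper8.UP2
import Cfsg.Agent.Lib.Helper8.UP3
import Cfsg.Agent.Lib.Helper8.IM1
import Cfsg.Agent.Lib.Helper1.CharFound4
import Cfsg.Agent.S4452

/-!
# A unique character of degree divisible by `p`, with a normal `p`-complement: a unique class of
size divisible by `p`
-/

set_option autoImplicit false

namespace Cfsg.Agent.Lib.Helper8

open Cfsg
open scoped ComplexConjugate
open Cfsg.Agent.Lib.Helper1 Cfsg.Agent.Lib.Helper4

universe u

theorem card_eq_card_subtype_add {α : Type*} [Finite α] (q : α → Prop) :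
    Nat.card α = Nat.card {a : α // q a} + Nat.card {a : α // ¬ q a} := by
  classical
  rw [← Nat.card_sum]
  exact Nat.card_congr (Equiv.sumCompl q).symm

section

variable {G : Type u} [Group G] [Finite G]

theorem unique_class_of_unique_char (p : ℕ) [Fact p.Prime] (hnil : ¬ Group.IsNilpotent G)
    (N : Subgroup G) [N.Normal] (hN : (Nat.card N).Coprime p) (hidx : ∃ k : ℕ, N.index = p ^ k)
    (hone : Nat.card {χ : IrrCharacter G // p ∣ charDegree (χ : G → ℂ)} = 1) :
    Nat.card {C : ConjClasses G // p ∣ Nat.card C.carrier} = 1 := by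
  classical
  haveI : Fintype G := Fintype.ofFinite _
  have hp : p.Prime := Fact.out
  -- `N` is not trivial
  have hN1 : N ≠ ⊥ := by
    intro h0
    apply hnil
    obtain ⟨k, hk⟩ := hidx
    rw [h0, Subgroup.index_bot] at hk
    exact (IsPGroup.of_card hk).isNilpotent
  have hcomm := commutator_le_of_unique p N hidx hone hN1
  let P : Sylow p G := default
  have hPcard := P.card_eq_multiplicity
  set v := (Nat.card G).factorization p with hv
  have hcop : (Nat.card N).Coprime (Nat.card (P : Subgroup G)) := by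
    rw [hPcard]
    exact Nat.Coprime.pow_right _ hN
  have hinf : N ⊓ (P : Subgroup G) = ⊥ :=
    disjoint_iff.1 (Subgroup.disjoint_of_coprime_natCard hcop)
  have hsup : N ⊔ (P : Subgroup G) = ⊤ := by
    rw [← Subgroup.index_eq_one]
    obtain ⟨k, hk⟩ := hidx
    have h1 : (N ⊔ (P : Subgroup G)).index ∣ p ^ k := by
      rw [← hk]; exact Subgroup.index_dvd_of_le le_sup_left
    have h2 : (N ⊔ (P : Subgroup G)).index ∣ (P : Subgroup G).index :=
      Subgroup.index_dvd_of_le le_sup_right
    obtain ⟨j, -, hj⟩ := (Nat.dvd_prime_pow hp).1 h1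
    rcases Nat.eq_zero_or_pos j with h0 | h0
    · rw [hj, h0, pow_zero]
    · exfalso
      apply P.not_dvd_index
      exact dvd_trans (hj ▸ dvd_pow_self p h0.ne') h2
  -- the normalizer centralizes
  have hNC : Subgroup.normalizer ((P : Subgroup G) : Set G)
      ≤ Subgroup.centralizer ((P : Subgroup G) : Set G) := by
    intro y hy
    rw [Subgroup.mem_centralizer_iff]
    intro x hx
    have h1 : y * x * y⁻¹ ∈ (P : Subgroup G) := (Subgroup.mem_normalizer_iff.1 hy x).1 hx
    have h2 : y * x * y⁻¹ * x⁻¹ ∈ (P : Subgroup G) := mul_mem h1 (inv_mem hx)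
    have h3 : y * x * y⁻¹ * x⁻¹ ∈ N := by
      apply hcomm
      have := Subgroup.commutator_mem_commutator (H₁ := (⊤ : Subgroup G)) (H₂ := ⊤)
        (Subgroup.mem_top y) (Subgroup.mem_top x)
      rw [commutatorElement_def] at this
      exact this
    have h4 : y * x * y⁻¹ * x⁻¹ ∈ N ⊓ (P : Subgroup G) := ⟨h3, h2⟩
    rw [hinf, Subgroup.mem_bot] at h4
    calc x * y = (y * x * y⁻¹ * x⁻¹)⁻¹ * (y * x) := by group
      _ = y * x := by rw [h4, inv_one, one_mul]
  have hPab : ∀ a ∈ (P : Subgroup G), ∀ b ∈ (P : Subgroup G), a * b = b * a := by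
    intro a ha b hb
    exact (Subgroup.mem_centralizer_iff.1 (hNC (Subgroup.le_normalizer hb)) a ha)
  -- `p` divides the order
  have hv1 : 1 ≤ v := by
    obtain ⟨-, ⟨χ₀, hχ₀⟩⟩ := Nat.card_eq_one_iff_unique.1 hone
    have h1 : p ∣ Nat.card G := dvd_trans hχ₀ (charDegree_dvd_card χ₀.2)
    exact (hp.dvd_iff_one_le_factorization Nat.card_pos.ne').1 h1
  have hcopiff : ∀ d : ℕ, d.Coprime (Nat.card (P : Subgroup G)) ↔ ¬ p ∣ d := by
    intro d
    rw [hPcard, Nat.coprime_pow_right_iff (by omega), Nat.coprime_comm,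
      Nat.Prime.coprime_iff_not_dvd hp]
  have hsolv : Group.IsSolvable (P : Subgroup G) := by
    haveI := P.isPGroup'.isNilpotent
    infer_instance
  have hmckay := Cfsg.Agent.S4452.result N (P : Subgroup G) hsup hcop hsolv
  set Λ := Subgroup.normalizer ((P : Subgroup G) : Set G) with hΛ
  -- all characters of the normalizer have degree prime to `p`
  have hall : ∀ η : IrrCharacter Λ, (charDegree (η : Λ → ℂ)).Coprime (Nat.card (P : Subgroup G)) := by
    intro η
    rw [hcopiff]
    haveI : ((P : Subgroup G).subgroupOf Λ).Normal := Subgroup.normal_in_normalizer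
    have h1 := charDegree_dvd_index_of_abelian ((P : Subgroup G).subgroupOf Λ) (by
      intro a ha b hb
      apply Subtype.ext
      exact hPab a ha b hb) η
    intro h2
    have h3 : p ∣ (P : Subgroup G).relIndex Λ := dvd_trans h2 h1
    have h4 := Subgroup.relIndex_mul_index (Subgroup.le_normalizer : (P : Subgroup G) ≤ Λ)
    apply P.not_dvd_index
    rw [← h4]
    exact dvd_mul_of_dvd_left h3 _
  have h1 : Nat.card {η : IrrCharacter Λ //
      (charDegree (η : Λ → ℂ)).Coprime (Nat.card (P : Subgroup G))} = Nat.card (ConjClasses Λ) := by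
    rw [← card_irr_eq_card_conjClasses]
    exact Nat.card_congr (Equiv.subtypeUnivEquiv hall)
  have h2 : Nat.card {χ : IrrCharacter G // ¬ p ∣ charDegree (χ : G → ℂ)}
      = Nat.card (ConjClasses Λ) := by
    rw [← h1, ← hmckay]
    exact Nat.card_congr (Equiv.subtypeEquivRight (fun χ => (hcopiff _).symm))
  have h3 := card_pregular_classes P hNC
  have h4 := card_eq_card_subtype_add (fun χ : IrrCharacter G => p ∣ charDegree (χ : G → ℂ))
  have h5 := card_eq_card_subtype_add (fun C : ConjClasses G => p ∣ Nat.card C.carrier)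
  have h6 := card_irr_eq_card_conjClasses (G := G)
  rw [hone, h2] at h4
  rw [h3, ← hΛ] at h5
  omega

end

end Cfsg.Agent.Lib.Helper8
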