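import Mathlib
import Cfsg.Agent.Lib.Helper8.VLExtract
import Cfsg.Agent.Lib.Helper8.VLStep5

/-!
# S3777 (Vaughan-Lee), Step 4 of helper2's proof: the glue `step4`

`step4` = helper6's counting inequality (`Helper6.VL4.counting_inequality_group`) + the extraction
(`VLX.extraction`), in the exact shape consumed by helper2's assembly (helper6's msg 4805).
-/

namespace Cfsg.Helper8.VLX

open Subgroup

theorem step4 {G : Type*} [Group G] [Finite G] {p : ℕ} [Fact p.Prime]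
    (Φ : Subgroup G) [Φ.Normal] (hcomm : commutator G ≤ Φ) (hpow : ∀ g : G, g ^ p ∈ Φ)
    (M : Subgroup G) (hΦM : Φ ≤ M) (hM : M.index = p)
    (κ : G → Subgroup G) (hk1 : ∀ u, Φ ≤ κ u) (hk2 : ∀ u, u ∈ κ u)
    (hk : ∀ H : Subgroup G, Φ ≤ H → H.index = p → H ≠ M →
      ∃ T : Subgroup G, Φ ≤ T ∧ T ≤ H ∧ T.relIndex H = p ∧ T ≠ H ⊓ M ∧
        ∀ u ∈ H, u ∉ T → κ u ≤ H)
    (d : ℕ) (hd : Φ.index = p ^ d) :
    ∃ (x₁ : G) (S : Finset G), x₁ ∉ M ∧ (∀ s ∈ S, s ∉ M) ∧ S.card = d - 1 ∧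
      Φ ⊔ zpowers x₁ ⊔ closure (S : Set G) = ⊤ ∧ Φ.relIndex (κ x₁) = p ∧
      ∏ s ∈ S, Φ.relIndex (κ s) ≤ p ^ (2 * (d - 1)) := by
  classical
  have hpp : p.Prime := Fact.out
  have hp2 : 2 ≤ p := hpp.two_le
  have : Fintype G := Fintype.ofFinite G
  have hMn : M.Normal := Cfsg.Agent.Lib.Helper9.VL.normal_of_commutator_le M (hcomm.trans hΦM)
  have hMtop : M ≠ ⊤ := by
    intro h
    rw [h, Subgroup.index_top] at hM
    omega
  -- `d ≥ 1`
  have hd1 : 1 ≤ d := by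
    rcases Nat.eq_zero_or_pos d with h | h
    · exfalso
      rw [h, pow_zero] at hd
      have : Φ = ⊤ := Subgroup.index_eq_one.1 hd
      exact hMtop (top_le_iff.1 (this ▸ hΦM))
    · exact h
  rcases Nat.lt_or_ge d 2 with hlt | hd2
  · -- `d = 1`: `Φ = M`
    have hd' : d = 1 := by omega
    subst hd'
    rw [pow_one] at hd
    obtain ⟨x₁, hx₁⟩ : ∃ x₁, x₁ ∉ M := by
      by_contra h; push Not at h
      exact hMtop (eq_top_iff.2 fun x _ => h x)
    have hx₁Φ : x₁ ∉ Φ := fun h => hx₁ (hΦM h)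
    have htop : Φ ⊔ zpowers x₁ = ⊤ :=
      Cfsg.Agent.Lib.Helper9.VL.sup_zpowers_eq_top_of_index_prime Φ hd x₁ hx₁Φ
    have hκ : κ x₁ = ⊤ := by
      rw [eq_top_iff, ← htop, sup_le_iff, zpowers_le]
      exact ⟨hk1 x₁, hk2 x₁⟩
    refine ⟨x₁, ∅, hx₁, by simp, by simp, ?_, ?_, by simp⟩
    · rw [Finset.coe_empty, Subgroup.closure_empty, sup_bot_eq, htop]
    · rw [hκ, Subgroup.relIndex_top_right, hd]
  · have hineq := Cfsg.Agent.Lib.Helper6.VL4.counting_inequality_group Φ hcomm hpow M hΦM hM κ hk1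
      hk d hd
    obtain ⟨x₁, S, h1, h2, h3, h4, h5, h6⟩ :=
      extraction M Φ hM hΦM hcomm hpow d hd hd2 κ hk1 hk2 hineq
    refine ⟨x₁, S, h1, h2, h5, h3, ?_, ?_⟩
    · have e1 := Subgroup.relIndex_mul_index (hk1 x₁)
      rw [hd, ← h4, mul_comm] at e1
      exact Nat.eq_of_mul_eq_mul_left
        (Nat.pos_of_ne_zero Subgroup.index_ne_zero_of_finite) e1
    · have e1 : (∏ s ∈ S, Φ.relIndex (κ s)) * (∏ s ∈ S, (κ s).index) = p ^ (d * (d - 1)) := by
        rw [← Finset.prod_mul_distrib]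
        have : ∀ s ∈ S, Φ.relIndex (κ s) * (κ s).index = p ^ d := by
          intro s _
          rw [Subgroup.relIndex_mul_index (hk1 s), hd]
        rw [Finset.prod_congr rfl this, Finset.prod_const, h5, ← pow_mul]
      have hpos : 0 < ∏ s ∈ S, Φ.relIndex (κ s) := by
        apply Finset.prod_pos
        intro s _
        exact Nat.pos_of_dvd_of_pos (Subgroup.relIndex_dvd_card _ _) Nat.card_pos
      have e2 : (∏ s ∈ S, Φ.relIndex (κ s)) * p ^ ((d - 1) * (d - 2)) ≤ p ^ (d * (d - 1)) := by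
        rw [← e1]
        exact Nat.mul_le_mul_left _ h6
      obtain ⟨-, e3⟩ := Cfsg.Helper8.VL5.le_pow_sub_of_mul_le (by omega : 1 < p) hpos e2
      have e4 : d * (d - 1) - (d - 1) * (d - 2) = 2 * (d - 1) := by
        obtain ⟨a, rfl⟩ : ∃ a, d = a + 2 := ⟨d - 2, by omega⟩
        simp only [Nat.add_sub_cancel]
        have : a + 2 - 1 = a + 1 := by omega
        rw [this]
        have : (a + 2) * (a + 1) = (a + 1) * a + 2 * (a + 1) := by ring
        rw [this, Nat.add_sub_cancel_left]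
      rw [e4] at e3
      exact e3

end Cfsg.Helper8.VLX
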