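import Mathlib
import Cfsg.Agent.Lib.Helper8.VLStep5b

/-!
# S3777 (Vaughan-Lee), Step 5c' in the exact shape of helper2's skeleton (`card_gam_le`)
-/

namespace Cfsg.Helper8.VL5

open Subgroup
open scoped commutatorElement

variable {G : Type*} [Group G]

/-- **Step 5c'** (helper2's signature; the hypothesis `hΩ` is not needed for the proof).
`Φ` normal with `G' ≤ Φ`, `Ω` normal with `[Φ,Φ] ≤ Ω` and `[Φ,⟨x₁⟩] ≤ Ω`, `G = Φ⟨x₁⟩⟨S⟩`.  Then
`|[Φ,G]| ≤ |Ω| * ∏_{s ∈ S} |Φ : C_Φ(s)|`. -/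
theorem card_gam_le [Finite G] (Φ Ω : Subgroup G) [hΦn : Φ.Normal] [hΩn : Ω.Normal]
    (hcomm : _root_.commutator G ≤ Φ) (hΦΩ : ⁅Φ, Φ⁆ ≤ Ω) (_hΩ : Ω ≤ ⁅Φ, (⊤ : Subgroup G)⁆)
    (x₁ : G) (hx₁ : ⁅Φ, zpowers x₁⁆ ≤ Ω) (S : Finset G)
    (hS : Φ ⊔ zpowers x₁ ⊔ closure (S : Set G) = ⊤) :
    Nat.card (⁅Φ, (⊤ : Subgroup G)⁆ : Subgroup G) ≤
      Nat.card Ω * ∏ s ∈ S, (centralizer ({s} : Set G)).relIndex Φ := by
  classical
  set f : G →* G ⧸ Ω := QuotientGroup.mk' Ω with hf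
  have hfs : Function.Surjective f := QuotientGroup.mk'_surjective Ω
  set A : Subgroup (G ⧸ Ω) := Φ.map f with hAdef
  have hAn : A.Normal := hΦn.map f hfs
  have hcommΦ : ∀ q ∈ Φ, ∀ r ∈ Φ, f q * f r = f r * f q := by
    intro q hq r hr
    have h1 : ⁅q, r⁆ ∈ Ω := hΦΩ (Subgroup.commutator_mem_commutator hq hr)
    have h2 : f ⁅q, r⁆ = 1 := (QuotientGroup.eq_one_iff _).mpr h1
    rw [map_commutatorElement, commutatorElement_eq_one_iff_mul_comm] at h2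
    exact h2
  have hcommZ : ∀ q ∈ Φ, ∀ r ∈ zpowers x₁, f q * f r = f r * f q := by
    intro q hq r hr
    have h1 : ⁅q, r⁆ ∈ Ω := hx₁ (Subgroup.commutator_mem_commutator hq hr)
    have h2 : f ⁅q, r⁆ = 1 := (QuotientGroup.eq_one_iff _).mpr h1
    rw [map_commutatorElement, commutatorElement_eq_one_iff_mul_comm] at h2
    exact h2
  have hA : ∀ a ∈ A, ∀ b ∈ A, a * b = b * a := by
    rintro _ ⟨q, hq, rfl⟩ _ ⟨r, hr, rfl⟩
    exact hcommΦ q hq r hr
  have hcomm' : ∀ y t : G ⧸ Ω, ∀ a ∈ A, ⁅y, t⁆ * a = a * ⁅y, t⁆ := by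
    intro y t a ha
    obtain ⟨y', rfl⟩ := hfs y
    obtain ⟨t', rfl⟩ := hfs t
    obtain ⟨q, hq, rfl⟩ := ha
    rw [← map_commutatorElement]
    have h1 : ⁅y', t'⁆ ∈ Φ :=
      hcomm (Subgroup.commutator_mem_commutator (Subgroup.mem_top y') (Subgroup.mem_top t'))
    exact hcommΦ _ h1 q hq
  have hgen' : centralizer (A : Set (G ⧸ Ω)) ⊔ closure ((fun s => f s) '' (S : Set G)) = ⊤ := by
    have h1 : (Φ ⊔ zpowers x₁).map f ≤ centralizer (A : Set (G ⧸ Ω)) := by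
      rw [Subgroup.map_sup, sup_le_iff]
      constructor
      · rintro _ ⟨q, hq, rfl⟩
        rw [Subgroup.mem_centralizer_iff]
        rintro _ ⟨r, hr, rfl⟩
        exact hcommΦ r hr q hq
      · rintro _ ⟨q, hq, rfl⟩
        rw [Subgroup.mem_centralizer_iff]
        rintro _ ⟨r, hr, rfl⟩
        exact hcommZ r hr q hq
    have h2 : (closure (S : Set G)).map f = closure ((fun s => f s) '' (S : Set G)) := by
      rw [MonoidHom.map_closure]
    have h3 : (Φ ⊔ zpowers x₁ ⊔ closure (S : Set G)).map f = ⊤ := by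
      rw [hS]; exact Subgroup.map_top_of_surjective f hfs
    rw [Subgroup.map_sup, h2] at h3
    rw [eq_top_iff, ← h3]
    exact sup_le_sup_right h1 _
  have hmc := module_count A hA hcomm' S (fun s => f s) hgen'
  have hmap : (⁅Φ, (⊤ : Subgroup G)⁆ : Subgroup G).map f = ⁅A, (⊤ : Subgroup (G ⧸ Ω))⁆ := by
    rw [Subgroup.map_commutator, Subgroup.map_top_of_surjective f hfs]
  have h1 := card_le_card_mul_card_map Ω (⁅Φ, (⊤ : Subgroup G)⁆ : Subgroup G)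
  rw [← hf, hmap] at h1
  refine h1.trans (Nat.mul_le_mul_left _ (hmc.trans ?_))
  apply Finset.prod_le_prod'
  intro s _
  exact relIndex_map_le Ω Φ s

/-- Step 5a in terms of my `centMod`-free formulation: for `N := ⁅Φ,⊤⁆` and
`K := {x | ⁅x,u⁆ ∈ N}` given as any subgroup with that membership,
`|Φ : C_Φ(u)| * |G : K| ≤ |G : C_G(u)|`. -/
theorem relIndex_mul_index_K_le' [Finite G] (Φ : Subgroup G) [Φ.Normal] (u : G) (K : Subgroup G)
    (hK : ∀ x, x ∈ K ↔ ⁅x, u⁆ ∈ (⁅Φ, (⊤ : Subgroup G)⁆ : Subgroup G)) :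
    (centralizer ({u} : Set G)).relIndex Φ * K.index ≤ (centralizer ({u} : Set G)).index := by
  apply relIndex_mul_index_le
  rw [sup_le_iff]
  constructor
  · intro x hx
    rw [hK]
    rw [Subgroup.mem_centralizer_singleton_iff] at hx
    have : ⁅x, u⁆ = 1 := by
      rw [commutatorElement_eq_one_iff_mul_comm]; exact hx
    rw [this]; exact Subgroup.one_mem _
  · intro x hx
    rw [hK]
    exact Subgroup.commutator_mem_commutator hx (Subgroup.mem_top u)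

end Cfsg.Helper8.VL5
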