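import Mathlib
import Cfsg.Prelude.Def_Blocks
import Cfsg.Prelude.Def_BlockRank
import Cfsg.Prelude.Def_BlockLocal
import Cfsg.Prelude.Def_BrauerPairs
import Cfsg.Agent.Lib.Helper4.NilB16
import Cfsg.Agent.Lib.Helper8.BPS25
import Cfsg.Agent.Lib.Helper8.PairStabConj
import Cfsg.Agent.Lib.Helper8.NA6
import Cfsg.Agent.Lib.Helper8.VK11
import Cfsg.Agent.Lib.Lead.WAOT
import Cfsg.Agent.Lib.Lead.WAOT2
import Cfsg.Agent.Lib.Helper4.WA1

/-!
# The orbit-trace formula for blocks with abelian defect groups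
-/

set_option autoImplicit false

namespace Cfsg.Agent.Lib.Helper8.WA

open Cfsg Cfsg.Agent.Lib.Helper1 Cfsg.Agent.Lib.Helper4 Cfsg.Agent.Lib.Helper8
  Cfsg.Agent.Lib.Helper8.BPS Cfsg.Agent.Lib.Helper8.BHI Cfsg.Agent.Lib.Helper4.NilB
open scoped ComplexConjugate

universe u

variable {G : Type u} [Group G] [Fintype G] {M : Ideal AlgInt} {p : ℕ} [Fact p.Prime]



/-- **free action**: the sum of the multiplicities `⟨λ * χ, χ⟩` over the block -/
theorem sum_classInner_star_hom (hM : IsPModular p M) {B : Set (IrrCharacter G)}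
    {P : Subgroup G} {e : Set (IrrCharacter ↥(Subgroup.centralizer (P : Set G)))}
    (hmax : IsMaximalBrauerPair p M B P e) (hab : ∀ x ∈ P, ∀ y ∈ P, x * y = y * x)
    [Fintype P] [Fintype (IrrCharacter G)] [DecidablePred (· ∈ B)] (l : P →* ℂˣ)
    (hη : IsStableFun p M P e (chOf l)) :
    ∑ χ : IrrCharacter G, (if χ ∈ B then
        classInner (starFun p M (wOf p M P e (chOf l)) (χ : G → ℂ)) (χ : G → ℂ) else 0) =
      if l = 1 then (Nat.card B : ℂ) else 0 := by
  classical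
  by_cases hl : l = 1
  · subst hl
    rw [if_pos rfl]
    have h1 : ∀ χ : IrrCharacter G, (if χ ∈ B then
        classInner (starFun p M (wOf p M P e (chOf (1 : P →* ℂˣ))) (χ : G → ℂ)) (χ : G → ℂ)
          else 0) = if χ ∈ B then (1 : ℂ) else 0 := by
      intro χ
      by_cases hχ : χ ∈ B
      · rw [if_pos hχ, if_pos hχ]
        have : starFun p M (wOf p M P e (chOf (1 : P →* ℂˣ))) (χ : G → ℂ) = (χ : G → ℂ) := by
          funext g
          rw [chOf_one]
          exact starFun_wOf_one hM hmax hχ g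
        rw [this, classInner_irr_self χ.2]
      · rw [if_neg hχ, if_neg hχ]
    rw [Finset.sum_congr rfl fun χ _ => h1 χ, Finset.sum_ite, Finset.sum_const_zero, add_zero,
      Finset.sum_const, nsmul_eq_mul, mul_one]
    congr 1
    rw [Nat.card_eq_fintype_card, Fintype.card_subtype]
  · rw [if_neg hl]
    apply Finset.sum_eq_zero
    intro χ _
    by_cases hχ : χ ∈ B
    · rw [if_pos hχ]
      obtain ⟨ψ, -, hψ, -⟩ := exists_irr_eq_starFun_of_unit (tstar hM) hM hmax
        ⟨chOf l, isIrrCharacter_chOf l⟩ hη (chOf_unit l) (chOf_map_one l) hχ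
      have hψ' : starFun p M (wOf p M P e (chOf l)) (χ : G → ℂ) = (ψ : G → ℂ) := hψ.symm
      rw [hψ']
      apply classInner_irr_ne ψ.2 χ.2
      intro heq
      apply hl
      apply MonoidHom.ext
      intro v
      have hfix : ∀ g, starFun p M (wOf p M P e (chOf l)) (χ : G → ℂ) g = (χ : G → ℂ) g := by
        intro g
        rw [hψ', heq]
      have h1 := eq_one_of_fixed hM hmax hη (chOf_unit l) hfix v.2
        (yy_pos_of_central hM hmax hχ v.2 (fun d hd => hab d hd v v.2))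
      apply Units.ext
      rw [MonoidHom.one_apply, Units.val_one]
      exact h1
    · rw [if_neg hχ]

/-- **the orbit–trace formula** for a block with abelian defect group -/
theorem orbit_trace (hM : IsPModular p M) {B : Set (IrrCharacter G)}
    {P : Subgroup G} {e : Set (IrrCharacter ↥(Subgroup.centralizer (P : Set G)))}
    (hmax : IsMaximalBrauerPair p M B P e) (hab : ∀ x ∈ P, ∀ y ∈ P, x * y = y * x)
    [Fintype P] (l : P →* ℂˣ)
    (hl : ∀ t ∈ pairStabOf (⟨P, e⟩ : BrauerPairIdx G), ∀ (v : P) (h : t * (v : G) * t⁻¹ ∈ P),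
      l ⟨t * (v : G) * t⁻¹, h⟩ = l v)
    (bv : ∀ v : P, Set (IrrCharacter ↥(cent (v : G))))
    (hbv : ∀ v : P, IsInducedBlockIn M (cent (v : G)) (Subgroup.centralizer (P : Set G)) e (bv v)) :
    ∑ v : P, ((l v : ℂˣ) : ℂ) * (blockRank p (bv v) : ℂ) *
        (Nat.card ↥(pairStabOf (⟨P, e⟩ : BrauerPairIdx G) ⊓ cent (v : G)) : ℂ) =
      if l = 1 then (Nat.card ↥(pairStabOf (⟨P, e⟩ : BrauerPairIdx G)) : ℂ) * (Nat.card B : ℂ)
        else 0 := by
  classical
  have : Fintype (IrrCharacter G) := Fintype.ofFinite _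
  have hη := Cfsg.Agent.Lib.Lead.WAOT.isStableFun_chOf_of_inertial hM hmax hab l hl
  have h1 := Cfsg.Agent.Lib.Helper4.WA.sum_classInner_starFun_self hM hmax hη
  rw [sum_classInner_star_hom hM hmax hab l hη] at h1
  have hT0 : (Nat.card ↥(pairStabOf (⟨P, e⟩ : BrauerPairIdx G)) : ℂ) ≠ 0 :=
    Nat.cast_ne_zero.2 Nat.card_pos.ne'
  have h2 : ∀ v : P, ((l v : ℂˣ) : ℂ) * (blockRank p (bv v) : ℂ) *
      (Nat.card ↥(pairStabOf (⟨P, e⟩ : BrauerPairIdx G) ⊓ cent (v : G)) : ℂ) =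
      (Nat.card ↥(pairStabOf (⟨P, e⟩ : BrauerPairIdx G)) : ℂ) *
        (chOf l v * (blockRank p (subB p M P e (Subgroup.zpowers (v : G))) : ℂ) *
        (Nat.card ↥(cent (v : G)) : ℂ) /
          (Nat.card ↥(carrP p M P e (aOf p M P e (v : G))) : ℂ)) := by
    intro v
    have hsub : subB p M P e (Subgroup.zpowers (v : G)) = bv v :=
      Cfsg.Agent.Lib.Lead.WAOT2.subB_eq_of_inducedIn hM hmax hab (Subgroup.zpowers_le.2 v.2) (hbv v)
    have hcard := Cfsg.Agent.Lib.Lead.WAOT.card_carrP_aOf hM hmax hab v.2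
    have hcard' : (Nat.card ↥(carrP p M P e (aOf p M P e (v : G))) : ℂ) *
        (Nat.card ↥(pairStabOf (⟨P, e⟩ : BrauerPairIdx G) ⊓ cent (v : G)) : ℂ) =
        (Nat.card ↥(pairStabOf (⟨P, e⟩ : BrauerPairIdx G)) : ℂ) * (Nat.card ↥(cent (v : G)) : ℂ) := by
      exact_mod_cast hcard
    have hc0 : (Nat.card ↥(carrP p M P e (aOf p M P e (v : G))) : ℂ) ≠ 0 := by
      intro h0
      rw [h0, zero_mul] at hcard'
      have hC0 : (Nat.card ↥(cent (v : G)) : ℂ) ≠ 0 := Nat.cast_ne_zero.2 Nat.card_pos.ne'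
      exact mul_ne_zero hT0 hC0 hcard'.symm
    rw [hsub, chOf_apply]
    have e1 : (Nat.card ↥(pairStabOf (⟨P, e⟩ : BrauerPairIdx G)) : ℂ) *
        (((l v : ℂˣ) : ℂ) * (blockRank p (bv v) : ℂ) * (Nat.card ↥(cent (v : G)) : ℂ) /
          (Nat.card ↥(carrP p M P e (aOf p M P e (v : G))) : ℂ)) =
        ((l v : ℂˣ) : ℂ) * (blockRank p (bv v) : ℂ) *
          ((Nat.card ↥(pairStabOf (⟨P, e⟩ : BrauerPairIdx G)) : ℂ) *
            (Nat.card ↥(cent (v : G)) : ℂ)) /
          (Nat.card ↥(carrP p M P e (aOf p M P e (v : G))) : ℂ) := by ring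
    rw [e1, ← hcard', eq_div_iff hc0]
    ring
  rw [Finset.sum_congr rfl fun v _ => h2 v, ← Finset.mul_sum, ← h1]
  split_ifs <;> simp

end Cfsg.Agent.Lib.Helper8.WA
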