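import Mathlib
import Cfsg.Prelude.Def_Blocks
import Cfsg.Prelude.Def_BlockRank
import Cfsg.Prelude.Def_BlockLocal
import Cfsg.Prelude.Def_BrauerPairs
import Cfsg.Agent.Lib.Helper8.NA6
import Cfsg.Agent.Lib.Helper8.LP4
import Cfsg.Agent.Lib.Helper8.PairStabConj
import Cfsg.Agent.Lib.Helper8.AF3
import Cfsg.Agent.Lib.Helper8.KF5
import Cfsg.Agent.S4658

/-!
# Transport of relative block induction to a subgroup, and the local maximal pair
-/

set_option autoImplicit false

namespace Cfsg.Agent.Lib.Helper8.WA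

open Cfsg Cfsg.Agent.Lib.Helper1 Cfsg.Agent.Lib.Helper4 Cfsg.Agent.Lib.Helper8
  Cfsg.Agent.Lib.Helper8.AF
open scoped ComplexConjugate

universe u

section

variable {G : Type u} [Group G] {M : Ideal AlgInt}

/-- transport of the relative induced central character to a subgroup `X` -/
theorem inducedCentralCharIn_transport (X : Subgroup G) {H' K' : Subgroup X} {H K : Subgroup G}
    (φH : H' ≃* H) (φK : K' ≃* K)
    (hφH : ∀ h : H', ((φH h : H) : G) = ((h : X) : G))
    (hφK : ∀ k : K', ((φK k : K) : G) = ((k : X) : G))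
    (ξ : K → ℂ) (h' : H') :
    inducedCentralCharIn H' K' (fun k' : K' => ξ (φK k')) ((h' : H') : X) =
      inducedCentralCharIn H K ξ (((h' : H') : X) : G) := by
  unfold inducedCentralCharIn
  have himg : φK '' {k' : K' | ∃ x : H', ((x : H') : X) * ((k' : K') : X) * ((x : H') : X)⁻¹ =
        ((h' : H') : X)} =
      {k : K | ∃ x : H, (x : G) * (k : G) * (x : G)⁻¹ = (((h' : H') : X) : G)} := by
    ext k
    constructor
    · rintro ⟨k', ⟨x, hx⟩, rfl⟩
      refine ⟨φH x, ?_⟩
      rw [hφH, hφK, ← hx]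
      simp
    · rintro ⟨x, hx⟩
      refine ⟨φK.symm k, ⟨φH.symm x, ?_⟩, φK.apply_symm_apply k⟩
      apply Subtype.ext
      have h1 : (((φH.symm x : H') : X) : G) = (x : G) := by
        rw [← hφH, φH.apply_symm_apply]
      have h2 : (((φK.symm k : K') : X) : G) = (k : G) := by
        rw [← hφK, φK.apply_symm_apply]
      simp only [Subgroup.coe_mul, Subgroup.coe_inv]
      rw [h1, h2, hx]
  rw [← himg, finsum_mem_image φK.injective.injOn]
  have h1 : φK 1 = 1 := map_one φK
  simp only [h1]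

/-- **transport of relative block induction to a subgroup** -/
theorem isInducedBlockIn_transport (X : Subgroup G) {H' K' : Subgroup X} {H K : Subgroup G}
    (φH : H' ≃* H) (φK : K' ≃* K)
    (hφH : ∀ h : H', ((φH h : H) : G) = ((h : X) : G))
    (hφK : ∀ k : K', ((φK k : K) : G) = ((k : X) : G))
    {e : Set (IrrCharacter K)} {f : Set (IrrCharacter H)}
    (h : IsInducedBlockIn M H K e f) :
    IsInducedBlockIn M H' K' (irrMap φK.symm '' e) (irrMap φH.symm '' f) := by
  refine ⟨isPBlock_image_irrMap _ h.1, isPBlock_image_irrMap _ h.2.1, ?_⟩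
  rintro _ ⟨ξ, hξ, rfl⟩ _ ⟨χ, hχ, rfl⟩ h'
  have e1 : inducedCentralCharIn H' K' (irrMap φK.symm ξ : K' → ℂ) ((h' : H') : X) =
      inducedCentralCharIn H K (ξ : K → ℂ) (((h' : H') : X) : G) :=
    inducedCentralCharIn_transport X φH φK hφH hφK (ξ : K → ℂ) h'
  have e2 : centralChar (irrMap φH.symm χ : H' → ℂ) h' = centralChar (χ : H → ℂ) (φH h') :=
    centralChar_irrMap' φH.symm χ h'
  rw [e1, e2, ← hφH]
  exact h.2.2 ξ hξ χ hχ (φH h')

end

section

variable {G : Type u} [Group G] [Fintype G] {M : Ideal AlgInt} {p : ℕ} [Fact p.Prime]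

/-- the local pair of `X ≥ P C_G(P)` attached to `(P, e)` -/
noncomputable def locE (P X : Subgroup G) (hPX : P ≤ X)
    (hKX : Subgroup.centralizer (P : Set G) ≤ X)
    (e : Set (IrrCharacter (Subgroup.centralizer (P : Set G)))) :
    Set (IrrCharacter (Subgroup.centralizer ((P.subgroupOf X : Subgroup X) : Set X))) :=
  irrMap (centIso X (P.subgroupOf X) P (centralizer_subgroupOf_map P X hPX hKX)).symm '' e

omit [Fintype G] [Fact p.Prime] in
theorem liftPair_locE (P X : Subgroup G) (hPX : P ≤ X)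
    (hKX : Subgroup.centralizer (P : Set G) ≤ X)
    (e : Set (IrrCharacter (Subgroup.centralizer (P : Set G)))) :
    liftPair X (⟨P.subgroupOf X, locE P X hPX hKX e⟩ : BrauerPairIdx X) = ⟨P, e⟩ := by
  show (⟨(P.subgroupOf X).map X.subtype, liftBlock X (P.subgroupOf X) (locE P X hPX hKX e)⟩ :
    BrauerPairIdx G) = ⟨P, e⟩
  have hmap : (P.subgroupOf X).map X.subtype = P := Subgroup.map_subgroupOf_eq_of_le hPX
  apply pairIdx_mk_ext hmap
  · rintro ξ ⟨ξ', ⟨ξ₀, hξ₀, rfl⟩, h⟩
    refine ⟨ξ₀, hξ₀, ?_⟩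
    intro g hg hg'
    have hgX : g ∈ X := hKX hg'
    have hc : (⟨g, hgX⟩ : X) ∈ Subgroup.centralizer ((P.subgroupOf X : Subgroup X) : Set X) :=
      (mem_centralizer_map_subtype X (P.subgroupOf X) ⟨g, hgX⟩).1 hg
    rw [h ⟨⟨g, hgX⟩, hc⟩ ⟨g, hg⟩ rfl, irrMap_apply]
    rfl
  · intro ξ₀ hξ₀
    have hCX : Subgroup.centralizer (((P.subgroupOf X).map X.subtype : Subgroup G) : Set G) ≤ X := by
      rw [hmap]
      exact hKX
    refine ⟨irrMap (centSub X (P.subgroupOf X) hCX)
      (irrMap (centIso X (P.subgroupOf X) P (centralizer_subgroupOf_map P X hPX hKX)).symm ξ₀),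
      ?_, ?_⟩
    · rw [liftBlock_eq_image X _ hCX]
      exact ⟨_, ⟨ξ₀, hξ₀, rfl⟩, rfl⟩
    · intro g hg hg'
      rw [irrMap_apply, irrMap_apply]
      rfl

/-- **the local maximal pair**: `(P, e)` read inside `X ≥ P C_G(P)` is a maximal Brauer pair of
the block induced by `e` inside `X`. -/
theorem local_maxPair (hM : IsPModular p M) {B : Set (IrrCharacter G)} {P : Subgroup G}
    {e : Set (IrrCharacter (Subgroup.centralizer (P : Set G)))}
    (hmax : IsMaximalBrauerPair p M B P e) (X : Subgroup G) (hPX : P ≤ X)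
    (hKX : Subgroup.centralizer (P : Set G) ≤ X) {f : Set (IrrCharacter X)}
    (hf : IsInducedBlockIn M X (Subgroup.centralizer (P : Set G)) e f) :
    IsMaximalBrauerPair p M f (P.subgroupOf X) (locE P X hPX hKX e) := by
  classical
  have : Fintype X := Fintype.ofFinite _
  refine ⟨local_pair hM P X hmax.1.1.1 hPX hKX hf, ?_⟩
  intro R' g' hR'g' hle
  have hlift := liftPair_locE P X hPX hKX e
  have hCX : Subgroup.centralizer (((liftPair X (⟨P.subgroupOf X, locE P X hPX hKX e⟩ :
      BrauerPairIdx X)).1 : Subgroup G) : Set G) ≤ X := by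
    rw [hlift]
    exact hKX
  have hle' := subpairRel_liftPair (p := p) (M := M) X hle hCX
  rw [hlift] at hle'
  have hCR : Subgroup.centralizer ((R'.map X.subtype : Subgroup G) : Set G) ≤ X := by
    have hPR : P ≤ R'.map X.subtype := subpairLE_le hle'
    exact (Subgroup.centralizer_le (by exact_mod_cast hPR)).trans hKX
  have hRg : IsBrauerPair p M (R'.map X.subtype) (liftBlock X R' g') :=
    (isBrauerPair_lift_iff X R' hCR g').2 hR'g'.1
  have hB2 : IsBrauerPairOf p M B (R'.map X.subtype) (liftBlock X R' g') :=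
    (Cfsg.Agent.S4658.result p M hM _ P _ e hRg hmax.1.1 hle' B hmax.1.2.1).2 hmax.1
  have hRP := hmax.2 _ _ hB2 hle'
  have hmap : (P.subgroupOf X).map X.subtype = P := Subgroup.map_subgroupOf_eq_of_le hPX
  apply Subgroup.map_injective X.subtype_injective
  rw [hRP, hmap]

/-- the inertial group of the local pair is the intersection with `X` -/
theorem mem_pairStabOf_locE_iff (P X : Subgroup G) (hPX : P ≤ X)
    (hKX : Subgroup.centralizer (P : Set G) ≤ X)
    (e : Set (IrrCharacter (Subgroup.centralizer (P : Set G)))) [Fintype X] (x : X) :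
    x ∈ pairStabOf (⟨P.subgroupOf X, locE P X hPX hKX e⟩ : BrauerPairIdx X) ↔
      (x : G) ∈ pairStabOf (⟨P, e⟩ : BrauerPairIdx G) := by
  show (x ∈ Subgroup.normalizer ((P.subgroupOf X : Subgroup X) : Set X) ∧
      StabilizesBlock (Subgroup.centralizer ((P.subgroupOf X : Subgroup X) : Set X))
        (locE P X hPX hKX e) x) ↔
    ((x : G) ∈ Subgroup.normalizer (P : Set G) ∧
      StabilizesBlock (Subgroup.centralizer (P : Set G)) e (x : G))
  have hmap : (P.subgroupOf X).map X.subtype = P := Subgroup.map_subgroupOf_eq_of_le hPX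
  have h1 := mem_normalizer_map_subtype_iff X (P.subgroupOf X) x
  rw [hmap] at h1
  have h2 := stabilizesBlock_centIso_iff X (P.subgroupOf X) P
    (centralizer_subgroupOf_map P X hPX hKX) (locE P X hPX hKX e) x
  unfold locE at h2 ⊢
  rw [irrMap_image_symm_image] at h2
  rw [h1, h2]

end

end Cfsg.Agent.Lib.Helper8.WA
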