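import Mathlib
import Cfsg.Prelude.Def_Blocks
import Cfsg.Prelude.Def_BlockRank
import Cfsg.Prelude.Def_BlockLocal
import Cfsg.Prelude.Def_BrauerPairs
import Cfsg.Agent.Lib.Helper8.WA1
import Cfsg.Agent.Lib.Helper8.WA2

/-!
# The orbit-trace formula inside the centralizer of a subgroup of the defect group
-/

set_option autoImplicit false

namespace Cfsg.Agent.Lib.Helper8.WA

open Cfsg Cfsg.Agent.Lib.Helper1 Cfsg.Agent.Lib.Helper4 Cfsg.Agent.Lib.Helper8
  Cfsg.Agent.Lib.Helper8.BPS Cfsg.Agent.Lib.Helper8.BHI Cfsg.Agent.Lib.Helper4.NilB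
  Cfsg.Agent.Lib.Helper8.AF
open scoped ComplexConjugate

universe u

variable {G : Type u} [Group G] [Fintype G] {M : Ideal AlgInt} {p : ℕ} [Fact p.Prime]

omit [Fintype G] in
theorem card_eq_of_mem_iff (X : Subgroup G) (S' : Subgroup X) (S : Subgroup G) (hSX : S ≤ X)
    (h : ∀ x : X, x ∈ S' ↔ (x : G) ∈ S) : Nat.card S' = Nat.card S :=
  Nat.card_congr
    { toFun := fun s => ⟨((s : X) : G), (h s).1 s.2⟩
      invFun := fun s => ⟨⟨(s : G), hSX s.2⟩, (h _).2 s.2⟩
      left_inv := fun _ => rfl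
      right_inv := fun _ => rfl }

/-- **the orbit–trace formula inside `C_G(Q)`**, `Q ≤ P` -/
theorem local_orbit_trace (hM : IsPModular p M) {B : Set (IrrCharacter G)}
    {P : Subgroup G} {e : Set (IrrCharacter ↥(Subgroup.centralizer (P : Set G)))}
    (hmax : IsMaximalBrauerPair p M B P e) (hab : ∀ x ∈ P, ∀ y ∈ P, x * y = y * x)
    [Fintype P] {Q : Subgroup G} (hQP : Q ≤ P) (l : P →* ℂˣ)
    (hl : ∀ t ∈ pairStabOf (⟨P, e⟩ : BrauerPairIdx G), t ∈ Subgroup.centralizer (Q : Set G) →
      ∀ (v : P) (h : t * (v : G) * t⁻¹ ∈ P), l ⟨t * (v : G) * t⁻¹, h⟩ = l v)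
    {fQ : Set (IrrCharacter ↥(Subgroup.centralizer (Q : Set G)))}
    (hfQ : IsInducedBlockIn M (Subgroup.centralizer (Q : Set G))
      (Subgroup.centralizer (P : Set G)) e fQ)
    (bv : ∀ v : P, Set (IrrCharacter
      ↥(Subgroup.centralizer ((Q ⊔ Subgroup.zpowers (v : G) : Subgroup G) : Set G))))
    (hbv : ∀ v : P, IsInducedBlockIn M
      (Subgroup.centralizer ((Q ⊔ Subgroup.zpowers (v : G) : Subgroup G) : Set G))
      (Subgroup.centralizer (P : Set G)) e (bv v)) :
    ∑ v : P, ((l v : ℂˣ) : ℂ) * (blockRank p (bv v) : ℂ) *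
        (Nat.card ↥(pairStabOf (⟨P, e⟩ : BrauerPairIdx G) ⊓ Subgroup.centralizer (Q : Set G) ⊓
          cent (v : G)) : ℂ) =
      if l = 1 then
        (Nat.card ↥(pairStabOf (⟨P, e⟩ : BrauerPairIdx G) ⊓ Subgroup.centralizer (Q : Set G)) : ℂ) *
          (Nat.card fQ : ℂ)
      else 0 := by
  classical
  have hPX : P ≤ Subgroup.centralizer (Q : Set G) := fun v hv =>
    Subgroup.mem_centralizer_iff.2 (fun q hq => hab q (hQP hq) v hv)
  have hKX : Subgroup.centralizer (P : Set G) ≤ Subgroup.centralizer (Q : Set G) :=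
    Subgroup.centralizer_le (by exact_mod_cast hQP)
  have instX : Fintype ↥(Subgroup.centralizer (Q : Set G)) := Fintype.ofFinite _
  have hmax' := local_maxPair hM hmax (Subgroup.centralizer (Q : Set G)) hPX hKX hfQ
  have hab' : ∀ x ∈ P.subgroupOf (Subgroup.centralizer (Q : Set G)),
      ∀ y ∈ P.subgroupOf (Subgroup.centralizer (Q : Set G)), x * y = y * x := by
    intro x hx y hy
    apply Subtype.ext
    exact hab _ (Subgroup.mem_subgroupOf.1 hx) _ (Subgroup.mem_subgroupOf.1 hy)
  have instP' : Fintype ↥(P.subgroupOf (Subgroup.centralizer (Q : Set G))) := Fintype.ofFinite _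
  let ι : ↥(P.subgroupOf (Subgroup.centralizer (Q : Set G))) ≃* ↥P :=
    Subgroup.subgroupOfEquivOfLe hPX
  have hι : ∀ v', ((ι v' : P) : G) = ((v' : ↥(Subgroup.centralizer (Q : Set G))) : G) :=
    fun _ => rfl
  let l' : ↥(P.subgroupOf (Subgroup.centralizer (Q : Set G))) →* ℂˣ := l.comp ι.toMonoidHom
  have hl' : ∀ t ∈ pairStabOf (⟨P.subgroupOf (Subgroup.centralizer (Q : Set G)),
        locE P (Subgroup.centralizer (Q : Set G)) hPX hKX e⟩ :
        BrauerPairIdx ↥(Subgroup.centralizer (Q : Set G))),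
      ∀ (v : ↥(P.subgroupOf (Subgroup.centralizer (Q : Set G))))
        (h : t * (v : ↥(Subgroup.centralizer (Q : Set G))) * t⁻¹ ∈
          P.subgroupOf (Subgroup.centralizer (Q : Set G))),
        l' ⟨t * (v : ↥(Subgroup.centralizer (Q : Set G))) * t⁻¹, h⟩ = l' v := by
    intro t ht v h
    have ht' := (mem_pairStabOf_locE_iff P _ hPX hKX e t).1 ht
    exact hl (t : G) ht' t.2 (ι v) (Subgroup.mem_subgroupOf.1 h)
  have hU : ∀ v' : ↥(P.subgroupOf (Subgroup.centralizer (Q : Set G))),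
      (Subgroup.centralizer ((Subgroup.zpowers (v' : ↥(Subgroup.centralizer (Q : Set G))) :
        Subgroup ↥(Subgroup.centralizer (Q : Set G))) : Set ↥(Subgroup.centralizer (Q : Set G)))).map
        (Subgroup.centralizer (Q : Set G)).subtype =
      Subgroup.centralizer ((Q ⊔ Subgroup.zpowers ((ι v' : P) : G) : Subgroup G) : Set G) := by
    intro v'
    have h1 := centralizer_sup_map Q
      (Subgroup.zpowers (v' : ↥(Subgroup.centralizer (Q : Set G))))
    rw [MonoidHom.map_zpowers] at h1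
    exact h1
  let bv' : ∀ v' : ↥(P.subgroupOf (Subgroup.centralizer (Q : Set G))),
      Set (IrrCharacter ↥(cent (v' : ↥(Subgroup.centralizer (Q : Set G))))) := fun v' =>
    irrMap (centIso (Subgroup.centralizer (Q : Set G))
      (Subgroup.zpowers (v' : ↥(Subgroup.centralizer (Q : Set G)))) _ (hU v')).symm '' bv (ι v')
  have hbv' : ∀ v' : ↥(P.subgroupOf (Subgroup.centralizer (Q : Set G))),
      IsInducedBlockIn M (cent (v' : ↥(Subgroup.centralizer (Q : Set G))))
        (Subgroup.centralizer ((P.subgroupOf (Subgroup.centralizer (Q : Set G)) :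
          Subgroup ↥(Subgroup.centralizer (Q : Set G))) : Set ↥(Subgroup.centralizer (Q : Set G))))
        (locE P (Subgroup.centralizer (Q : Set G)) hPX hKX e) (bv' v') := by
    intro v'
    exact isInducedBlockIn_transport (Subgroup.centralizer (Q : Set G))
      (centIso (Subgroup.centralizer (Q : Set G))
        (Subgroup.zpowers (v' : ↥(Subgroup.centralizer (Q : Set G)))) _ (hU v'))
      (centIso (Subgroup.centralizer (Q : Set G)) (P.subgroupOf (Subgroup.centralizer (Q : Set G)))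
        P (centralizer_subgroupOf_map P _ hPX hKX))
      (fun _ => rfl) (fun _ => rfl) (hbv (ι v'))
  have key := orbit_trace hM hmax' hab' l' hl' bv' hbv'
  have hl1 : l' = 1 ↔ l = 1 := by
    constructor
    · intro h
      apply MonoidHom.ext
      intro v
      have := congrArg (fun f => f (ι.symm v)) h
      simpa [l'] using this
    · intro h
      apply MonoidHom.ext
      intro v
      show l (ι v) = 1
      rw [h]
      rfl
  have hT : Nat.card ↥(pairStabOf (⟨P.subgroupOf (Subgroup.centralizer (Q : Set G)),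
        locE P (Subgroup.centralizer (Q : Set G)) hPX hKX e⟩ :
        BrauerPairIdx ↥(Subgroup.centralizer (Q : Set G)))) =
      Nat.card ↥(pairStabOf (⟨P, e⟩ : BrauerPairIdx G) ⊓ Subgroup.centralizer (Q : Set G)) := by
    apply card_eq_of_mem_iff _ _ _ inf_le_right
    intro x
    rw [mem_pairStabOf_locE_iff P _ hPX hKX e x, Subgroup.mem_inf]
    exact ⟨fun h => ⟨h, x.2⟩, fun h => h.1⟩
  have hTv : ∀ v' : ↥(P.subgroupOf (Subgroup.centralizer (Q : Set G))),
      Nat.card ↥(pairStabOf (⟨P.subgroupOf (Subgroup.centralizer (Q : Set G)),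
        locE P (Subgroup.centralizer (Q : Set G)) hPX hKX e⟩ :
        BrauerPairIdx ↥(Subgroup.centralizer (Q : Set G))) ⊓
          cent (v' : ↥(Subgroup.centralizer (Q : Set G)))) =
      Nat.card ↥(pairStabOf (⟨P, e⟩ : BrauerPairIdx G) ⊓ Subgroup.centralizer (Q : Set G) ⊓
        cent ((ι v' : P) : G)) := by
    intro v'
    apply card_eq_of_mem_iff _ _ _ (inf_le_left.trans inf_le_right)
    intro x
    rw [Subgroup.mem_inf, Subgroup.mem_inf, Subgroup.mem_inf,
      mem_pairStabOf_locE_iff P _ hPX hKX e x, mem_cent_iff, mem_cent_iff, hι]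
    constructor
    · rintro ⟨h1, h2⟩
      exact ⟨⟨h1, x.2⟩, congrArg Subtype.val h2⟩
    · rintro ⟨⟨h1, -⟩, h2⟩
      exact ⟨h1, Subtype.ext h2⟩
  rw [hT] at key
  simp only [hl1] at key
  rw [← key]
  symm
  apply Fintype.sum_equiv ι.toEquiv
  intro v'
  show ((l (ι v') : ℂˣ) : ℂ) * (blockRank p (bv' v') : ℂ) * _ = _
  rw [hTv v']
  have hr : blockRank p (bv' v') = blockRank p (bv (ι v')) := blockRank_image_irrMap _ _
  rw [hr]
  rfl

end Cfsg.Agent.Lib.Helper8.WA
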