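import Mathlib
import Cfsg.Prelude.Def_Blocks
import Cfsg.Prelude.Def_BlockRank
import Cfsg.Prelude.Def_BlockLocal
import Cfsg.Prelude.Def_BrauerPairs
import Cfsg.Agent.Lib.Helper8.WA3
import Cfsg.Agent.Lib.Lead.WAFO

/-!
# Watanabe's theorem: the induction
-/

set_option autoImplicit false

namespace Cfsg.Agent.Lib.Helper8.WA

open Cfsg Cfsg.Agent.Lib.Helper1 Cfsg.Agent.Lib.Helper4 Cfsg.Agent.Lib.Helper8
  Cfsg.Agent.Lib.Helper8.BPS Cfsg.Agent.Lib.Helper8.BHI Cfsg.Agent.Lib.Helper4.NilB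
  Cfsg.Agent.Lib.Helper8.AF Cfsg.Agent.Lib.Helper8.NA
open scoped ComplexConjugate

universe u

variable {G : Type u} [Group G] [Fintype G] {M : Ideal AlgInt} {p : ℕ} [Fact p.Prime]

open Classical in
/-- the block of `C_G(R)` induced by `e` -/
noncomputable def locB (M : Ideal AlgInt) (P : Subgroup G)
    (e : Set (IrrCharacter ↥(Subgroup.centralizer (P : Set G)))) (R : Subgroup G) :
    Set (IrrCharacter ↥(Subgroup.centralizer (R : Set G))) :=
  if h : ∃ f, IsInducedBlockIn M (Subgroup.centralizer (R : Set G))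
    (Subgroup.centralizer (P : Set G)) e f then h.choose else ∅

/-- the rank of the block of `C_G(R)` induced by `e` -/
noncomputable def Lnum (p : ℕ) (M : Ideal AlgInt) (P : Subgroup G)
    (e : Set (IrrCharacter ↥(Subgroup.centralizer (P : Set G)))) (R : Subgroup G) : ℕ :=
  blockRank p (locB M P e R)

/-- the number of characters of the block of `C_G(R)` induced by `e` -/
noncomputable def Knum (M : Ideal AlgInt) (P : Subgroup G)
    (e : Set (IrrCharacter ↥(Subgroup.centralizer (P : Set G)))) (R : Subgroup G) : ℕ :=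
  Nat.card (locB M P e R)

theorem locB_spec (hM : IsPModular p M) {P : Subgroup G}
    {e : Set (IrrCharacter ↥(Subgroup.centralizer (P : Set G)))} (hPe : IsBrauerPair p M P e)
    (hab : ∀ x ∈ P, ∀ y ∈ P, x * y = y * x) {R : Subgroup G} (hRP : R ≤ P) :
    IsInducedBlockIn M (Subgroup.centralizer (R : Set G)) (Subgroup.centralizer (P : Set G)) e
      (locB M P e R) := by
  classical
  have hPC : P ≤ Subgroup.centralizer (P : Set G) := fun v hv =>
    Subgroup.mem_centralizer_iff.2 (fun q hq => hab q hq v hv)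
  have hKX : Subgroup.centralizer (P : Set G) ≤ Subgroup.centralizer (R : Set G) :=
    Subgroup.centralizer_le (by exact_mod_cast hRP)
  have h := exists_inducedIn hM P (Subgroup.centralizer (R : Set G)) hPe.1 hPC hKX hPe.2
  unfold locB
  rw [dif_pos h]
  exact h.choose_spec

theorem locB_eq (hM : IsPModular p M) {P : Subgroup G}
    {e : Set (IrrCharacter ↥(Subgroup.centralizer (P : Set G)))} (hPe : IsBrauerPair p M P e)
    (hab : ∀ x ∈ P, ∀ y ∈ P, x * y = y * x) {R : Subgroup G} (hRP : R ≤ P)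
    {f : Set (IrrCharacter ↥(Subgroup.centralizer (R : Set G)))}
    (hf : IsInducedBlockIn M (Subgroup.centralizer (R : Set G))
      (Subgroup.centralizer (P : Set G)) e f) : locB M P e R = f :=
  isInducedBlockIn_unique (isPModular_isPrime hM) _ _
    (Subgroup.centralizer_le (by exact_mod_cast hRP)) (locB_spec hM hPe hab hRP) hf

omit [Fintype G] in
theorem mem_centralizer_sup_zpowers_iff (Q : Subgroup G) (u t : G) :
    t ∈ Subgroup.centralizer ((Q ⊔ Subgroup.zpowers u : Subgroup G) : Set G) ↔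
      t ∈ Subgroup.centralizer (Q : Set G) ∧ t * u = u * t := by
  constructor
  · intro h
    refine ⟨Subgroup.centralizer_le (by exact_mod_cast (le_sup_left : Q ≤ Q ⊔ Subgroup.zpowers u)) h,
      ?_⟩
    exact (Subgroup.mem_centralizer_iff.1 h u
      ((le_sup_right : Subgroup.zpowers u ≤ Q ⊔ Subgroup.zpowers u) (Subgroup.mem_zpowers u))).symm
  · rintro ⟨h1, h2⟩
    have hle : Q ⊔ Subgroup.zpowers u ≤ Subgroup.centralizer ({t} : Set G) := by
      apply sup_le
      · intro q hq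
        rw [Subgroup.mem_centralizer_iff]
        intro x hx
        rw [Set.mem_singleton_iff] at hx
        rw [hx]
        exact (Subgroup.mem_centralizer_iff.1 h1 q hq).symm
      · rw [Subgroup.zpowers_le, Subgroup.mem_centralizer_iff]
        intro x hx
        rw [Set.mem_singleton_iff] at hx
        rw [hx]
        exact h2
    rw [Subgroup.mem_centralizer_iff]
    intro y hy
    have := Subgroup.mem_centralizer_iff.1 (hle hy) t (Set.mem_singleton t)
    exact this.symm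

/-- the orbit-trace formula in terms of `Lnum`, `Knum` -/
theorem orbit_trace_num (hM : IsPModular p M) {B : Set (IrrCharacter G)}
    {P : Subgroup G} {e : Set (IrrCharacter ↥(Subgroup.centralizer (P : Set G)))}
    (hmax : IsMaximalBrauerPair p M B P e) (hab : ∀ x ∈ P, ∀ y ∈ P, x * y = y * x)
    [Fintype P] {Q : Subgroup G} (hQP : Q ≤ P) (l : P →* ℂˣ)
    (hl : ∀ t ∈ pairStabOf (⟨P, e⟩ : BrauerPairIdx G), t ∈ Subgroup.centralizer (Q : Set G) →
      ∀ (v : P) (h : t * (v : G) * t⁻¹ ∈ P), l ⟨t * (v : G) * t⁻¹, h⟩ = l v) :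
    ∑ v : P, ((l v : ℂˣ) : ℂ) * (Lnum p M P e (Q ⊔ Subgroup.zpowers (v : G)) : ℂ) *
        (Nat.card ↥(pairStabOf (⟨P, e⟩ : BrauerPairIdx G) ⊓ Subgroup.centralizer (Q : Set G) ⊓
          cent (v : G)) : ℂ) =
      if l = 1 then
        (Nat.card ↥(pairStabOf (⟨P, e⟩ : BrauerPairIdx G) ⊓ Subgroup.centralizer (Q : Set G)) : ℂ) *
          (Knum M P e Q : ℂ)
      else 0 :=
  local_orbit_trace hM hmax hab hQP l hl (locB_spec hM hmax.1.1 hab hQP)
    (fun v => locB M P e (Q ⊔ Subgroup.zpowers (v : G)))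
    (fun v => locB_spec hM hmax.1.1 hab (sup_le hQP (Subgroup.zpowers_le.2 v.2)))

/-- the inertial quotient acting on `P`, cut down to `C_G(Q)`: a `p'`-group -/
theorem coprime_card_range (hM : IsPModular p M) {B : Set (IrrCharacter G)}
    {P : Subgroup G} {e : Set (IrrCharacter ↥(Subgroup.centralizer (P : Set G)))}
    (hmax : IsMaximalBrauerPair p M B P e) (hab : ∀ x ∈ P, ∀ y ∈ P, x * y = y * x)
    (T0 : Subgroup G) (hT0 : T0 ≤ pairStabOf (⟨P, e⟩ : BrauerPairIdx G))
    (hT0N : T0 ≤ Subgroup.normalizer (P : Set G)) :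
    (Nat.card ↥(conjAutHom P T0 hT0N).range).Coprime (Nat.card ↥P) := by
  have hTN : pairStabOf (⟨P, e⟩ : BrauerPairIdx G) ≤ Subgroup.normalizer (P : Set G) :=
    fun t ht => ht.1
  have h6 := Cfsg.Agent.Lib.Lead.WAOT2.not_dvd_relIndex_centralizer_pairStabOf hM hmax hab
  -- the full inertial quotient
  have hle : (conjAutHom P T0 hT0N).range ≤
      (conjAutHom P (pairStabOf (⟨P, e⟩ : BrauerPairIdx G)) hTN).range := by
    rintro _ ⟨t, rfl⟩
    exact ⟨⟨(t : G), hT0 t.2⟩, rfl⟩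
  have h1 : Nat.card ↥(conjAutHom P T0 hT0N).range ∣
      Nat.card ↥(conjAutHom P (pairStabOf (⟨P, e⟩ : BrauerPairIdx G)) hTN).range :=
    Subgroup.card_dvd_of_le hle
  have h2 : Nat.card ↥(conjAutHom P (pairStabOf (⟨P, e⟩ : BrauerPairIdx G)) hTN).range =
      (conjAutHom P (pairStabOf (⟨P, e⟩ : BrauerPairIdx G)) hTN).ker.index :=
    (Subgroup.index_ker _).symm
  have h3 : (conjAutHom P (pairStabOf (⟨P, e⟩ : BrauerPairIdx G)) hTN).ker.index ∣
      (Subgroup.centralizer (P : Set G)).relIndex (pairStabOf (⟨P, e⟩ : BrauerPairIdx G)) := by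
    apply Subgroup.index_dvd_of_le
    intro t ht
    exact mem_ker_conjAutHom P _ hTN (Subgroup.mem_subgroupOf.1 ht)
  have h4 : ¬ p ∣ Nat.card ↥(conjAutHom P T0 hT0N).range := by
    intro hp
    apply h6
    exact (hp.trans h1).trans (h2 ▸ h3)
  obtain ⟨k, hk⟩ := IsPGroup.exists_card_eq hmax.1.1.1
  rw [hk]
  apply Nat.Coprime.pow_right
  exact (Nat.Coprime.symm ((Nat.Prime.coprime_iff_not_dvd Fact.out).2 h4))

/-- **the induction step of Watanabe's theorem** -/
theorem main_step (hM : IsPModular p M) {B : Set (IrrCharacter G)}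
    {P : Subgroup G} {e : Set (IrrCharacter ↥(Subgroup.centralizer (P : Set G)))}
    (hmax : IsMaximalBrauerPair p M B P e) (hab : ∀ x ∈ P, ∀ y ∈ P, x * y = y * x) :
    ∀ n : ℕ, ∀ Q : Subgroup G, Q ≤ P → Nat.card ↥(Subgroup.centralizer (Q : Set G)) = n →
      ∀ u ∈ P, (∀ t ∈ pairStabOf (⟨P, e⟩ : BrauerPairIdx G),
        t ∈ Subgroup.centralizer (Q : Set G) → t * u = u * t) →
      Lnum p M P e Q = Lnum p M P e (Q ⊔ Subgroup.zpowers u) ∧
      Knum M P e Q = Knum M P e (Q ⊔ Subgroup.zpowers u) := by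
  classical
  have instP : Fintype ↥P := Fintype.ofFinite _
  intro n
  induction n using Nat.strong_induction_on with
  | _ n ih =>
  intro Q hQP hn u hu hfix
  have hQ'P : Q ⊔ Subgroup.zpowers u ≤ P := sup_le hQP (Subgroup.zpowers_le.2 hu)
  have hT0' : pairStabOf (⟨P, e⟩ : BrauerPairIdx G) ⊓
      Subgroup.centralizer ((Q ⊔ Subgroup.zpowers u : Subgroup G) : Set G) =
      pairStabOf (⟨P, e⟩ : BrauerPairIdx G) ⊓ Subgroup.centralizer (Q : Set G) := by
    ext t
    rw [Subgroup.mem_inf, Subgroup.mem_inf, mem_centralizer_sup_zpowers_iff]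
    constructor
    · rintro ⟨h1, h2, -⟩
      exact ⟨h1, h2⟩
    · rintro ⟨h1, h2⟩
      exact ⟨h1, h2, hfix t h1 h2⟩
  have hT0N : pairStabOf (⟨P, e⟩ : BrauerPairIdx G) ⊓ Subgroup.centralizer (Q : Set G) ≤
      Subgroup.normalizer (P : Set G) := fun t ht => ht.1.1
  have instE : Fintype ↥(conjAutHom P _ hT0N).range := Fintype.ofFinite _
  have hcop : (Fintype.card ↥(conjAutHom P _ hT0N).range).Coprime (Fintype.card ↥P) := by
    rw [← Nat.card_eq_fintype_card, ← Nat.card_eq_fintype_card]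
    exact coprime_card_range hM hmax hab _ inf_le_left hT0N
  have hEact : ∀ (x : ↥(conjAutHom P _ hT0N).range) (v : ↥P),
      ∃ t ∈ pairStabOf (⟨P, e⟩ : BrauerPairIdx G) ⊓ Subgroup.centralizer (Q : Set G),
        ((x • v : ↥P) : G) = t * (v : G) * t⁻¹ := by
    rintro ⟨_, ⟨t, rfl⟩⟩ v
    exact ⟨(t : G), t.2, rfl⟩
  set c : ↥P → ℂ := fun v => (Nat.card ↥(pairStabOf (⟨P, e⟩ : BrauerPairIdx G) ⊓
    Subgroup.centralizer (Q : Set G) ⊓ cent (v : G)) : ℂ) with hc
  set a : ↥P → ℂ := fun v => ((Lnum p M P e (Q ⊔ Subgroup.zpowers (v : G)) : ℂ) -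
    (Lnum p M P e (Q ⊔ Subgroup.zpowers u ⊔ Subgroup.zpowers (v : G)) : ℂ)) * c v with ha
  set A : ℂ := (Nat.card ↥(pairStabOf (⟨P, e⟩ : BrauerPairIdx G) ⊓
    Subgroup.centralizer (Q : Set G)) : ℂ) *
      ((Knum M P e Q : ℂ) - (Knum M P e (Q ⊔ Subgroup.zpowers u) : ℂ)) with hA
  have hsum : ∀ l : ↥P →* ℂˣ, (∀ (x : ↥(conjAutHom P _ hT0N).range) (v : ↥P), l (x • v) = l v) →
      ∑ v : ↥P, ((l v : ℂˣ) : ℂ) * a v = if l = 1 then A else 0 := by
    intro l hlE
    have hl : ∀ t ∈ pairStabOf (⟨P, e⟩ : BrauerPairIdx G),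
        t ∈ Subgroup.centralizer (Q : Set G) →
        ∀ (v : P) (h : t * (v : G) * t⁻¹ ∈ P), l ⟨t * (v : G) * t⁻¹, h⟩ = l v := by
      intro t ht htQ v h
      exact hlE ⟨conjAutHom P _ hT0N ⟨t, ⟨ht, htQ⟩⟩, ⟨_, rfl⟩⟩ v
    have hl' : ∀ t ∈ pairStabOf (⟨P, e⟩ : BrauerPairIdx G),
        t ∈ Subgroup.centralizer ((Q ⊔ Subgroup.zpowers u : Subgroup G) : Set G) →
        ∀ (v : P) (h : t * (v : G) * t⁻¹ ∈ P), l ⟨t * (v : G) * t⁻¹, h⟩ = l v := by
      intro t ht htQ
      exact hl t ht ((mem_centralizer_sup_zpowers_iff Q u t).1 htQ).1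
    have S1 := orbit_trace_num hM hmax hab hQP l hl
    have S2 := orbit_trace_num hM hmax hab hQ'P l hl'
    rw [hT0'] at S2
    have h3 : ∑ v : ↥P, ((l v : ℂˣ) : ℂ) * a v =
        (∑ v : P, ((l v : ℂˣ) : ℂ) * (Lnum p M P e (Q ⊔ Subgroup.zpowers (v : G)) : ℂ) *
          (Nat.card ↥(pairStabOf (⟨P, e⟩ : BrauerPairIdx G) ⊓ Subgroup.centralizer (Q : Set G) ⊓
            cent (v : G)) : ℂ)) -
        (∑ v : P, ((l v : ℂˣ) : ℂ) *
          (Lnum p M P e (Q ⊔ Subgroup.zpowers u ⊔ Subgroup.zpowers (v : G)) : ℂ) *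
          (Nat.card ↥(pairStabOf (⟨P, e⟩ : BrauerPairIdx G) ⊓ Subgroup.centralizer (Q : Set G) ⊓
            cent (v : G)) : ℂ)) := by
      rw [← Finset.sum_sub_distrib]
      apply Finset.sum_congr rfl
      intro v _
      simp only [ha, hc]
      ring
    rw [h3, S1, S2]
    split_ifs
    · rw [hA]
      ring
    · ring
  have hcase : ∀ v : ↥P, a v = 0 ∨
      (∀ t ∈ pairStabOf (⟨P, e⟩ : BrauerPairIdx G) ⊓ Subgroup.centralizer (Q : Set G),
        t * (v : G) = (v : G) * t) := by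
    intro v
    have hQvP : Q ⊔ Subgroup.zpowers (v : G) ≤ P := sup_le hQP (Subgroup.zpowers_le.2 v.2)
    have hle : Subgroup.centralizer ((Q ⊔ Subgroup.zpowers (v : G) : Subgroup G) : Set G) ≤
        Subgroup.centralizer (Q : Set G) :=
      Subgroup.centralizer_le (by exact_mod_cast (le_sup_left : Q ≤ Q ⊔ Subgroup.zpowers (v : G)))
    by_cases hlt : Nat.card
        ↥(Subgroup.centralizer ((Q ⊔ Subgroup.zpowers (v : G) : Subgroup G) : Set G)) < n
    · left
      have h1 := (ih _ hlt (Q ⊔ Subgroup.zpowers (v : G)) hQvP rfl u hu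
        (fun t ht htQ => hfix t ht (hle htQ))).1
      simp only [ha]
      rw [sup_right_comm Q (Subgroup.zpowers u) (Subgroup.zpowers (v : G)), ← h1, sub_self,
        zero_mul]
    · right
      have heq : Subgroup.centralizer ((Q ⊔ Subgroup.zpowers (v : G) : Subgroup G) : Set G) =
          Subgroup.centralizer (Q : Set G) :=
        Subgroup.eq_of_le_of_card_ge hle (by rw [hn]; exact not_lt.1 hlt)
      intro t ht
      have h2 : t ∈ Subgroup.centralizer ((Q ⊔ Subgroup.zpowers (v : G) : Subgroup G) : Set G) := by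
        rw [heq]
        exact ht.2
      exact ((mem_centralizer_sup_zpowers_iff Q (v : G) t).1 h2).2
  have hfixE : ∀ v : ↥P,
      (∀ t ∈ pairStabOf (⟨P, e⟩ : BrauerPairIdx G) ⊓ Subgroup.centralizer (Q : Set G),
        t * (v : G) = (v : G) * t) → ∀ x : ↥(conjAutHom P _ hT0N).range, x • v = v := by
    intro v hv x
    obtain ⟨t, ht, hx⟩ := hEact x v
    apply Subtype.ext
    rw [hx, hv t ht]
    group
  have hsupp : ∀ v : ↥P, a v ≠ 0 → ∀ x : ↥(conjAutHom P _ hT0N).range, x • v = v :=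
    fun v hv => hfixE v ((hcase v).resolve_left hv)
  have hFO : ∀ u' : ↥P, (∀ x : ↥(conjAutHom P _ hT0N).range, x • u' = u') → a u' = a 1 := by
    intro u' hu'
    let _ : CommGroup ↥P := { (inferInstance : Group ↥P) with
      mul_comm := fun x y => Subtype.ext (hab x x.2 y y.2) }
    exact Cfsg.Agent.Lib.Lead.WAFO.fourier_coprime hcop a A hsum hsupp u' hu'
  have hau : a ⟨u, hu⟩ = 0 := by
    simp only [ha]
    rw [sup_assoc, sup_idem, sub_self, zero_mul]
  have ha1 : a 1 = 0 := by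
    rw [← hFO ⟨u, hu⟩ (hfixE ⟨u, hu⟩ (fun t ht => hfix t ht.1 ht.2))]
    exact hau
  have hc1 : c 1 ≠ 0 := by
    simp only [hc]
    exact Nat.cast_ne_zero.2 Nat.card_pos.ne'
  have hL : Lnum p M P e Q = Lnum p M P e (Q ⊔ Subgroup.zpowers u) := by
    have h1 : ((Lnum p M P e Q : ℂ) - (Lnum p M P e (Q ⊔ Subgroup.zpowers u) : ℂ)) * c 1 = 0 := by
      have h2 := ha1
      simp only [ha] at h2
      rw [Subgroup.coe_one, Subgroup.zpowers_one_eq_bot, sup_bot_eq, sup_bot_eq] at h2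
      exact h2
    have h3 := (mul_eq_zero.1 h1).resolve_right hc1
    exact_mod_cast sub_eq_zero.1 h3
  refine ⟨hL, ?_⟩
  have hall : ∀ v : ↥P, a v = 0 := by
    intro v
    rcases hcase v with h | h
    · exact h
    · rw [hFO v (hfixE v h)]
      exact ha1
  have h1 := hsum 1 (fun _ _ => rfl)
  rw [if_pos rfl, Finset.sum_congr rfl (fun v _ => by rw [hall v, mul_zero]),
    Finset.sum_const_zero] at h1
  have hT0c : (Nat.card ↥(pairStabOf (⟨P, e⟩ : BrauerPairIdx G) ⊓
      Subgroup.centralizer (Q : Set G)) : ℂ) ≠ 0 := Nat.cast_ne_zero.2 Nat.card_pos.ne'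
  have h2 := (mul_eq_zero.1 h1.symm).resolve_left hT0c
  exact_mod_cast sub_eq_zero.1 h2

end Cfsg.Agent.Lib.Helper8.WA
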