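import Mathlib
import Cfsg.Prelude.Def_Blocks
import Cfsg.Prelude.Def_BlockRank
import Cfsg.Prelude.Def_BlockLocal
import Cfsg.Prelude.Def_BrauerPairs
import Cfsg.Agent.Lib.Helper8.WA4

/-!
# Watanabe's theorem: `k(B) = k(b_u)` and `l(B) = l(b_u)` for `u ∈ C_P(T)`, `P` abelian
-/

set_option autoImplicit false

namespace Cfsg.Agent.Lib.Helper8.WA

open Cfsg Cfsg.Agent.Lib.Helper1 Cfsg.Agent.Lib.Helper4 Cfsg.Agent.Lib.Helper8
  Cfsg.Agent.Lib.Helper8.BPS Cfsg.Agent.Lib.Helper8.BHI Cfsg.Agent.Lib.Helper4.NilB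
  Cfsg.Agent.Lib.Helper8.AF Cfsg.Agent.Lib.Helper8.NA
open scoped ComplexConjugate

universe u

variable {G : Type u} [Group G] [Fintype G] {M : Ideal AlgInt} {p : ℕ} [Fact p.Prime]

/-- the whole group as the subgroup `C_G(1)` -/
def botIso : G ≃* ↥(Subgroup.centralizer (((⊥ : Subgroup G) : Subgroup G) : Set G)) where
  toFun g := ⟨g, Subgroup.mem_centralizer_iff.2 (fun h hh => by
    have : h = 1 := Subgroup.mem_bot.1 hh
    rw [this, one_mul, mul_one])⟩
  invFun x := (x : G)
  left_inv _ := rfl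
  right_inv _ := rfl
  map_mul' _ _ := rfl

omit [Fintype G] [Fact p.Prime] in
theorem isInducedBlockIn_bot {K : Subgroup G} {c : Set (IrrCharacter K)}
    {B : Set (IrrCharacter G)} (hc : IsInducedBlock M K c B) :
    IsInducedBlockIn M (Subgroup.centralizer (((⊥ : Subgroup G) : Subgroup G) : Set G)) K c
      (irrMap botIso '' B) := by
  refine ⟨hc.1, isPBlock_image_irrMap _ hc.2.1, ?_⟩
  rintro ξ hξ _ ⟨χ, hχ, rfl⟩ h
  have e1 : inducedCentralCharIn (Subgroup.centralizer (((⊥ : Subgroup G) : Subgroup G) : Set G)) K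
      (ξ : K → ℂ) (h : G) = inducedCentralChar K (ξ : K → ℂ) (h : G) := by
    unfold inducedCentralCharIn inducedCentralChar
    have hset : {k : K | ∃ x : ↥(Subgroup.centralizer (((⊥ : Subgroup G) : Subgroup G) : Set G)),
        (x : G) * (k : G) * (x : G)⁻¹ = (h : G)} = {k : K | IsConj (h : G) (k : G)} := by
      ext k
      rw [Set.mem_ofPred_eq, Set.mem_ofPred_eq, isConj_iff]
      constructor
      · rintro ⟨x, hx⟩
        refine ⟨(x : G)⁻¹, ?_⟩
        rw [← hx]
        group
      · rintro ⟨y, hy⟩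
        refine ⟨botIso y⁻¹, ?_⟩
        show y⁻¹ * (k : G) * y⁻¹⁻¹ = (h : G)
        rw [← hy]
        group
    rw [hset]
  have e2 : centralChar (irrMap botIso χ : _ → ℂ) h = centralChar (χ : G → ℂ) (h : G) :=
    centralChar_irrMap' botIso χ h
  rw [e1, e2]
  exact hc.2.2 ξ hξ χ hχ (h : G)

/-- **Watanabe's theorem** -/
theorem watanabe (hM : IsPModular p M) {B : Set (IrrCharacter G)} {P : Subgroup G}
    (hPD : IsDefectGroup p M B P) (hPab : ∀ x ∈ P, ∀ y ∈ P, x * y = y * x)
    {c : Set (IrrCharacter ↥(Subgroup.centralizer (P : Set G)))}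
    (hc : IsInducedBlock M (Subgroup.centralizer (P : Set G)) c B)
    {u : G} (hu : u ∈ P)
    (huT : ∀ g : G, g ∈ Subgroup.normalizer (P : Set G) →
      StabilizesBlock (Subgroup.centralizer (P : Set G)) c g → g * u * g⁻¹ = u)
    (H : Subgroup G) (hH : H = Subgroup.centralizer ({u} : Set G))
    (f : Set (IrrCharacter H))
    (hf : IsInducedBlockIn M H (Subgroup.centralizer (P : Set G)) c f) :
    blockRank p B = blockRank p f ∧ Nat.card B = Nat.card f := by
  classical
  have hP : IsPGroup p P := isPGroup_of_isDefectGroup hPD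
  have hPC : P ≤ Subgroup.centralizer (P : Set G) := fun v hv =>
    Subgroup.mem_centralizer_iff.2 (fun q hq => hPab q hq v hv)
  have hpair := pair_of_induced hM P hP hPC hc
  have hmax := maxPair_of_defect hM hPD hpair
  have main := main_step hM hmax hPab _ ⊥ bot_le rfl u hu (fun t ht _ => by
    have h1 := huT t ht.1 ht.2
    calc t * u = t * u * t⁻¹ * t := by group
      _ = u * t := by rw [h1])
  rw [bot_sup_eq] at main
  have hB0 := locB_eq hM hmax.1.1 hPab bot_le (isInducedBlockIn_bot hc)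
  have hH' : H = Subgroup.centralizer ((Subgroup.zpowers u : Subgroup G) : Set G) := by
    rw [hH]
    ext t
    rw [mem_cent_iff, Subgroup.mem_centralizer_iff]
    constructor
    · intro h
      exact (h u (Set.mem_singleton u)).symm
    · intro h x hx
      rw [Set.mem_singleton_iff] at hx
      rw [hx]
      exact h.symm
  subst hH'
  have hf0 := locB_eq hM hmax.1.1 hPab (Subgroup.zpowers_le.2 hu) hf
  unfold Lnum Knum at main
  rw [hB0, hf0] at main
  rw [blockRank_image_irrMap, Nat.card_image_of_injective (irrMap_injective botIso)] at main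
  exact main

end Cfsg.Agent.Lib.Helper8.WA
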