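import Mathlib
import Cfsg.Agent.Lib.Helper6.WG_G1
import Cfsg.Agent.Lib.Helper7.BR1

set_option autoImplicit false

namespace Cfsg.Agent.Lib.Helper2.WG

universe u

namespace PkG5

open Cfsg PkG1

open scoped Classical in
/-- the (unnormalised) sum of `ρ` over a subgroup -/
noncomputable def sumOp {Γ : Type*} [Group Γ] [Fintype Γ] {V : Type*} [AddCommGroup V] [Module ℂ V]
    (ρ : Representation ℂ Γ V) (H : Subgroup Γ) : V →ₗ[ℂ] V :=
  ∑ g ∈ Finset.univ.filter (fun g => g ∈ H), ρ g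

section

variable {Γ : Type*} [Group Γ] [Fintype Γ] {V : Type*} [AddCommGroup V] [Module ℂ V]
  [FiniteDimensional ℂ V] (ρ : Representation ℂ Γ V)

open scoped Classical in
theorem sumOp_apply (H : Subgroup Γ) (v : V) :
    sumOp ρ H v = ∑ g ∈ Finset.univ.filter (fun g => g ∈ H), ρ g v := by
  unfold sumOp
  rw [LinearMap.sum_apply]

open scoped Classical in
theorem card_filter_mem (H : Subgroup Γ) :
    (Finset.univ.filter (fun g : Γ => g ∈ H)).card = Nat.card H := by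
  rw [Nat.card_eq_fintype_card, Fintype.card_subtype]

/-- `ρ c ∘ sumOp = sumOp` for `c ∈ H` -/
theorem rho_sumOp (H : Subgroup Γ) {c : Γ} (hc : c ∈ H) (v : V) :
    ρ c (sumOp ρ H v) = sumOp ρ H v := by
  classical
  rw [sumOp_apply, map_sum]
  refine Finset.sum_bij (fun g _ => c * g) ?_ ?_ ?_ ?_
  · intro g hg
    rw [Finset.mem_filter] at hg ⊢
    exact ⟨Finset.mem_univ _, H.mul_mem hc hg.2⟩
  · intro a _ b _ hab
    exact mul_left_cancel hab
  · intro b hb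
    rw [Finset.mem_filter] at hb
    refine ⟨c⁻¹ * b, ?_, by simp⟩
    rw [Finset.mem_filter]
    exact ⟨Finset.mem_univ _, H.mul_mem (H.inv_mem hc) hb.2⟩
  · intro g _
    rw [map_mul, Module.End.mul_apply]

/-- `sumOp ∘ ρ c = sumOp` for `c ∈ H` -/
theorem sumOp_rho (H : Subgroup Γ) {c : Γ} (hc : c ∈ H) (v : V) :
    sumOp ρ H (ρ c v) = sumOp ρ H v := by
  classical
  rw [sumOp_apply, sumOp_apply]
  refine Finset.sum_bij (fun g _ => g * c) ?_ ?_ ?_ ?_
  · intro g hg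
    rw [Finset.mem_filter] at hg ⊢
    exact ⟨Finset.mem_univ _, H.mul_mem hg.2 hc⟩
  · intro a _ b _ hab
    exact mul_right_cancel hab
  · intro b hb
    rw [Finset.mem_filter] at hb
    refine ⟨b * c⁻¹, ?_, by simp⟩
    rw [Finset.mem_filter]
    exact ⟨Finset.mem_univ _, H.mul_mem hb.2 (H.inv_mem hc)⟩
  · intro g _
    rw [map_mul, Module.End.mul_apply]

theorem sumOp_mem_fixInv (H : Subgroup Γ) (v : V) : sumOp ρ H v ∈ fixInv ρ H := by
  rw [mem_fixInv]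
  intro h hh
  exact rho_sumOp ρ H hh v

theorem sumOp_of_mem_fixInv (H : Subgroup Γ) {v : V} (hv : v ∈ fixInv ρ H) :
    sumOp ρ H v = (Nat.card H : ℂ) • v := by
  classical
  rw [mem_fixInv] at hv
  rw [sumOp_apply, Finset.sum_congr rfl (fun g hg => hv g (Finset.mem_filter.1 hg).2),
    Finset.sum_const, card_filter_mem, Nat.cast_smul_eq_nsmul]

/-- conjugation by an element normalising `N` commutes with `sumOp N` -/
theorem rho_sumOp_normal (N : Subgroup Γ) [hN : N.Normal] (c : Γ) (v : V) :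
    ρ c (sumOp ρ N v) = sumOp ρ N (ρ c v) := by
  classical
  rw [sumOp_apply, sumOp_apply, map_sum]
  refine Finset.sum_bij (fun g _ => c * g * c⁻¹) ?_ ?_ ?_ ?_
  · intro g hg
    rw [Finset.mem_filter] at hg ⊢
    exact ⟨Finset.mem_univ _, hN.conj_mem g hg.2 c⟩
  · intro a _ b _ hab
    simpa using hab
  · intro b hb
    rw [Finset.mem_filter] at hb
    refine ⟨c⁻¹ * b * c, ?_, by group⟩
    rw [Finset.mem_filter]
    refine ⟨Finset.mem_univ _, ?_⟩
    have := hN.conj_mem b hb.2 c⁻¹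
    simpa using this
  · intro g _
    rw [← Module.End.mul_apply, ← map_mul, ← Module.End.mul_apply, ← map_mul]
    congr 2
    group

end

section key

variable {Γ : Type*} [Group Γ] [Fintype Γ] {V : Type*} [AddCommGroup V] [Module ℂ V]
  [FiniteDimensional ℂ V] (ρ : Representation ℂ Γ V) (N Z C : Subgroup Γ)

open scoped Classical in
theorem card_filter_notMem (hZN : Z ≤ N) :
    ((Finset.univ.filter (fun g : Γ => g ∈ N)).filter (fun g => g ∉ Z)).card + Nat.card Z =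
      Nat.card N := by
  have hfil : (Finset.univ.filter (fun g : Γ => g ∈ N)).filter (fun g => g ∈ Z) =
      Finset.univ.filter (fun g : Γ => g ∈ Z) := by
    ext g
    simp only [Finset.mem_filter, Finset.mem_univ, true_and]
    exact ⟨fun h => h.2, fun h => ⟨hZN h, h⟩⟩
  rw [← card_filter_mem N, ← card_filter_mem Z, ← hfil, add_comm]
  exact Finset.card_filter_add_card_filter_not (s := Finset.univ.filter (fun g : Γ => g ∈ N))
      (fun g => g ∈ Z)

/-- constancy of `n ↦ T (ρ n u)` on `N ∖ Z` -/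
theorem sumOp_const (hZρ : ∀ z ∈ Z, ρ z = 1)
    (htr : ∀ n ∈ N, n ∉ Z → ∀ n' ∈ N, n' ∉ Z → ∃ c ∈ C, ∃ z ∈ Z, c * n * c⁻¹ = n' * z)
    {u : V} (hu : u ∈ fixInv ρ C) {n n' : Γ} (hn : n ∈ N) (hnZ : n ∉ Z) (hn' : n' ∈ N)
    (hnZ' : n' ∉ Z) : sumOp ρ C (ρ n u) = sumOp ρ C (ρ n' u) := by
  obtain ⟨c, hc, z, hz, h⟩ := htr n hn hnZ n' hn' hnZ'
  have h1 : ρ n' u = ρ (c * n * c⁻¹) u := by
    rw [h, map_mul, hZρ z hz, mul_one]
  rw [h1, map_mul, map_mul, Module.End.mul_apply, Module.End.mul_apply, sumOp_rho ρ C hc]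
  rw [mem_fixInv] at hu
  rw [hu c⁻¹ (C.inv_mem hc)]

/-- the key identity `(★)` -/
theorem star (hZN : Z ≤ N) (hZρ : ∀ z ∈ Z, ρ z = 1)
    (htr : ∀ n ∈ N, n ∉ Z → ∀ n' ∈ N, n' ∉ Z → ∃ c ∈ C, ∃ z ∈ Z, c * n * c⁻¹ = n' * z)
    {u : V} (hu : u ∈ fixInv ρ C) (hS : sumOp ρ N u = 0) {n₀ : Γ} (hn₀ : n₀ ∈ N) (hn₀Z : n₀ ∉ Z) :
    ((Nat.card N : ℂ) - (Nat.card Z : ℂ)) • sumOp ρ C (ρ n₀ u) =
      -(((Nat.card Z : ℂ) * (Nat.card C : ℂ)) • u) := by
  classical
  have h0 : sumOp ρ C (sumOp ρ N u) = 0 := by rw [hS, map_zero]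
  rw [sumOp_apply ρ N u, map_sum,
    ← Finset.sum_filter_add_sum_filter_not _ (fun g => g ∈ Z)] at h0
  have h1 : ∑ g ∈ (Finset.univ.filter (fun g : Γ => g ∈ N)).filter (fun g => g ∈ Z),
      sumOp ρ C (ρ g u) = ((Nat.card Z : ℂ) * (Nat.card C : ℂ)) • u := by
    have hfil : (Finset.univ.filter (fun g : Γ => g ∈ N)).filter (fun g => g ∈ Z) =
        Finset.univ.filter (fun g : Γ => g ∈ Z) := by
      ext g
      simp only [Finset.mem_filter, Finset.mem_univ, true_and]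
      exact ⟨fun h => h.2, fun h => ⟨hZN h, h⟩⟩
    rw [hfil, Finset.sum_congr rfl (g := fun _ => (Nat.card C : ℂ) • u)]
    · rw [Finset.sum_const, card_filter_mem, ← Nat.cast_smul_eq_nsmul ℂ, smul_smul]
    · intro g hg
      rw [hZρ g (Finset.mem_filter.1 hg).2, Module.End.one_apply, sumOp_of_mem_fixInv ρ C hu]
  have h2 : ∑ g ∈ (Finset.univ.filter (fun g : Γ => g ∈ N)).filter (fun g => g ∉ Z),
      sumOp ρ C (ρ g u) = ((Nat.card N : ℂ) - (Nat.card Z : ℂ)) • sumOp ρ C (ρ n₀ u) := by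
    rw [Finset.sum_congr rfl (g := fun _ => sumOp ρ C (ρ n₀ u))]
    · rw [Finset.sum_const, ← Nat.cast_smul_eq_nsmul ℂ]
      congr 1
      rw [← card_filter_notMem N Z hZN]
      push_cast
      ring
    · intro g hg
      rw [Finset.mem_filter, Finset.mem_filter] at hg
      exact sumOp_const ρ N Z C hZρ htr hu hg.1.2 hg.2 hn₀ hn₀Z
  rw [h1, h2] at h0
  exact eq_neg_of_add_eq_zero_right h0

end key

section theta

variable {Γ : Type*} [Group Γ] [Fintype Γ] {V : Type*} [AddCommGroup V] [Module ℂ V]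
  [FiniteDimensional ℂ V] (ρ : Representation ℂ Γ V) (N Z C : Subgroup Γ)

/-- coset representatives of `Z` in `N` -/
noncomputable def rep (q : ↥N ⧸ Z.subgroupOf N) : Γ := ((Quotient.out q : ↥N) : Γ)

theorem rep_mem (q : ↥N ⧸ Z.subgroupOf N) : rep N Z q ∈ N := (Quotient.out q : ↥N).2

theorem rep_inv_mul_mem_iff (b q : ↥N ⧸ Z.subgroupOf N) :
    (rep N Z b)⁻¹ * rep N Z q ∈ Z ↔ b = q := by
  unfold rep
  have h1 : ((Quotient.out b : ↥N) : Γ)⁻¹ * ((Quotient.out q : ↥N) : Γ) ∈ Z ↔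
      (Quotient.out b : ↥N)⁻¹ * (Quotient.out q : ↥N) ∈ Z.subgroupOf N := by
    rw [Subgroup.mem_subgroupOf]
    rfl
  rw [h1, ← QuotientGroup.eq, QuotientGroup.out_eq', QuotientGroup.out_eq']

/-- the part of the `C`-fixed space killed by the sum over `N` -/
noncomputable def U₂ : Submodule ℂ V := fixInv ρ C ⊓ LinearMap.ker (sumOp ρ N)

variable [Fintype (↥N ⧸ Z.subgroupOf N)]

/-- `φ ↦ Σ_q ρ (rep q) (φ q)` -/
noncomputable def Θ : ((↥N ⧸ Z.subgroupOf N) → U₂ ρ N C) →ₗ[ℂ] V :=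
  ∑ q, (ρ (rep N Z q)) ∘ₗ (U₂ ρ N C).subtype ∘ₗ LinearMap.proj q

theorem Θ_apply (φ : (↥N ⧸ Z.subgroupOf N) → U₂ ρ N C) :
    Θ ρ N Z C φ = ∑ q, ρ (rep N Z q) (φ q : V) := by
  unfold Θ
  rw [LinearMap.sum_apply]
  rfl

theorem ker_const (hZN : Z ≤ N) (hZρ : ∀ z ∈ Z, ρ z = 1)
    (htr : ∀ n ∈ N, n ∉ Z → ∀ n' ∈ N, n' ∉ Z → ∃ c ∈ C, ∃ z ∈ Z, c * n * c⁻¹ = n' * z)
    (φ : (↥N ⧸ Z.subgroupOf N) → U₂ ρ N C) (hφ : Θ ρ N Z C φ = 0) (b : ↥N ⧸ Z.subgroupOf N) :
    (Nat.card N : ℂ) • (φ b : V) = (Nat.card Z : ℂ) • ∑ q, (φ q : V) := by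
  classical
  have hU : ∀ q, (φ q : V) ∈ fixInv ρ C := fun q => (Submodule.mem_inf.1 (φ q).2).1
  have hK : ∀ q, sumOp ρ N (φ q : V) = 0 := fun q =>
    LinearMap.mem_ker.1 (Submodule.mem_inf.1 (φ q).2).2
  have hC0 : (Nat.card C : ℂ) ≠ 0 := Nat.cast_ne_zero.mpr Nat.card_pos.ne'
  -- apply `d • T ∘ ρ (rep b)⁻¹`
  have h0 : ((Nat.card N : ℂ) - (Nat.card Z : ℂ)) •
      sumOp ρ C (ρ (rep N Z b)⁻¹ (Θ ρ N Z C φ)) = 0 := by
    rw [hφ, map_zero, map_zero, smul_zero]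
  rw [Θ_apply, map_sum, map_sum, Finset.smul_sum] at h0
  have hterm : ∀ q, ((Nat.card N : ℂ) - (Nat.card Z : ℂ)) •
      sumOp ρ C (ρ (rep N Z b)⁻¹ (ρ (rep N Z q) (φ q : V))) =
      (if q = b then ((Nat.card N : ℂ) * (Nat.card C : ℂ)) • (φ q : V) else 0) -
        ((Nat.card Z : ℂ) * (Nat.card C : ℂ)) • (φ q : V) := by
    intro q
    have hmul : ρ (rep N Z b)⁻¹ (ρ (rep N Z q) (φ q : V)) =
        ρ ((rep N Z b)⁻¹ * rep N Z q) (φ q : V) := by
      rw [map_mul, Module.End.mul_apply]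
    rw [hmul]
    by_cases hqb : q = b
    · subst hqb
      rw [inv_mul_cancel, map_one, Module.End.one_apply, sumOp_of_mem_fixInv ρ C (hU q),
        if_pos rfl, smul_smul, ← sub_smul]
      congr 1
      ring
    · rw [if_neg hqb, zero_sub]
      have hnZ : (rep N Z b)⁻¹ * rep N Z q ∉ Z := by
        rw [rep_inv_mul_mem_iff]
        exact fun h => hqb h.symm
      have hnN : (rep N Z b)⁻¹ * rep N Z q ∈ N :=
        N.mul_mem (N.inv_mem (rep_mem N Z b)) (rep_mem N Z q)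
      exact star ρ N Z C hZN hZρ htr (hU q) (hK q) hnN hnZ
  rw [Finset.sum_congr rfl (fun q _ => hterm q), Finset.sum_sub_distrib,
    Finset.sum_ite_eq' Finset.univ b, if_pos (Finset.mem_univ b), ← Finset.smul_sum,
    sub_eq_zero] at h0
  have h1 : (Nat.card C : ℂ) • ((Nat.card N : ℂ) • (φ b : V)) =
      (Nat.card C : ℂ) • ((Nat.card Z : ℂ) • ∑ q, (φ q : V)) := by
    rw [smul_smul, smul_smul, mul_comm (Nat.card C : ℂ), mul_comm (Nat.card C : ℂ)]
    exact h0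
  exact smul_right_injective V hC0 h1

theorem finrank_U₂_le (hZN : Z ≤ N) (hZρ : ∀ z ∈ Z, ρ z = 1)
    (htr : ∀ n ∈ N, n ∉ Z → ∀ n' ∈ N, n' ∉ Z → ∃ c ∈ C, ∃ z ∈ Z, c * n * c⁻¹ = n' * z)
    (k m : ℕ) (hm : 2 ≤ m) (hQ : Fintype.card (↥N ⧸ Z.subgroupOf N) = m)
    (hFN : Module.finrank ℂ (fixInv ρ N) = k) (hV : Module.finrank ℂ V = k * m) :
    Module.finrank ℂ (U₂ ρ N C) ≤ k := by
  classical
  have hN0 : (Nat.card N : ℂ) ≠ 0 := Nat.cast_ne_zero.mpr Nat.card_pos.ne'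
  have hpi : Module.finrank ℂ ((↥N ⧸ Z.subgroupOf N) → U₂ ρ N C) =
      m * Module.finrank ℂ (U₂ ρ N C) := by
    rw [Module.finrank_pi_fintype, Finset.sum_const, Finset.card_univ, hQ, smul_eq_mul]
  have hrn := LinearMap.finrank_range_add_finrank_ker (Θ ρ N Z C)
  have hker : Module.finrank ℂ (LinearMap.ker (Θ ρ N Z C)) ≤ Module.finrank ℂ (U₂ ρ N C) := by
    let cm : U₂ ρ N C →ₗ[ℂ] ((↥N ⧸ Z.subgroupOf N) → U₂ ρ N C) :=
      LinearMap.pi (fun _ => LinearMap.id)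
    have hle : LinearMap.ker (Θ ρ N Z C) ≤ LinearMap.range cm := by
      intro φ hφ
      rw [LinearMap.mem_ker] at hφ
      refine ⟨((Nat.card Z : ℂ) / (Nat.card N : ℂ)) • ∑ q, φ q, ?_⟩
      funext b
      apply Subtype.ext
      have h1 := ker_const ρ N Z C hZN hZρ htr φ hφ b
      change (((Nat.card Z : ℂ) / (Nat.card N : ℂ)) • ∑ q, φ q : U₂ ρ N C).1 = (φ b : V)
      rw [Submodule.coe_smul, Submodule.coe_sum, div_eq_inv_mul, ← smul_smul, ← h1, smul_smul,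
        inv_mul_cancel₀ hN0, one_smul]
    calc Module.finrank ℂ (LinearMap.ker (Θ ρ N Z C))
        ≤ Module.finrank ℂ (LinearMap.range cm) := Submodule.finrank_mono hle
      _ ≤ Module.finrank ℂ (U₂ ρ N C) := LinearMap.finrank_range_le cm
  have hdisj : Disjoint (LinearMap.range (Θ ρ N Z C)) (fixInv ρ N) := by
    rw [Submodule.disjoint_def]
    intro x hx hxN
    obtain ⟨φ, rfl⟩ := hx
    have h1 : sumOp ρ N (Θ ρ N Z C φ) = 0 := by
      rw [Θ_apply, map_sum]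
      apply Finset.sum_eq_zero
      intro q _
      rw [sumOp_rho ρ N (rep_mem N Z q)]
      exact LinearMap.mem_ker.1 (Submodule.mem_inf.1 (φ q).2).2
    rw [sumOp_of_mem_fixInv ρ N hxN] at h1
    exact (smul_eq_zero.1 h1).resolve_left hN0
  have hsum := Submodule.finrank_add_finrank_le_of_disjoint hdisj
  rw [hFN, hV] at hsum
  rw [hpi] at hrn
  -- arithmetic
  obtain ⟨m₁, rfl⟩ : ∃ m₁, m = m₁ + 1 := ⟨m - 1, by omega⟩
  have hm₁ : 0 < m₁ := by omega
  set f := Module.finrank ℂ (U₂ ρ N C) with hf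
  set r := Module.finrank ℂ (LinearMap.range (Θ ρ N Z C)) with hr
  set κ := Module.finrank ℂ (LinearMap.ker (Θ ρ N Z C)) with hκ
  have h2 : m₁ * f ≤ m₁ * k := by
    have e1 : (m₁ + 1) * f = m₁ * f + f := by ring
    have e2 : k * (m₁ + 1) = m₁ * k + k := by ring
    rw [e1] at hrn
    rw [e2] at hsum
    omega
  exact Nat.le_of_mul_le_mul_left h2 hm₁

end theta

section main

variable {Γ : Type*} [Group Γ] [Fintype Γ] {V : Type*} [AddCommGroup V] [Module ℂ V]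
  [FiniteDimensional ℂ V] (ρ : Representation ℂ Γ V) (N Z C : Subgroup Γ)

theorem finrank_fixInv_N (hZN : Z ≤ N) (hZρ : ∀ z ∈ Z, ρ z = 1)
    (hvan : ∀ n ∈ N, n ∉ Z → ρ.character n = 0) (k m : ℕ) (hV : Module.finrank ℂ V = k * m)
    (hcard : Nat.card N = Nat.card Z * m) : Module.finrank ℂ (fixInv ρ N) = k := by
  classical
  have : Fintype N := Fintype.ofFinite N
  have h1 := fixdim_eq ρ N
  unfold fixdim at h1
  have hsum : ∑ h : N, ρ.character (h : Γ) = (Nat.card Z : ℂ) * ((k * m : ℕ) : ℂ) := by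
    rw [← Finset.sum_subtype (Finset.univ.filter (fun g : Γ => g ∈ N))
      (fun x => by simp) (fun g => ρ.character g),
      ← Finset.sum_filter_add_sum_filter_not _ (fun g => g ∈ Z)]
    have hfil : (Finset.univ.filter (fun g : Γ => g ∈ N)).filter (fun g => g ∈ Z) =
        Finset.univ.filter (fun g : Γ => g ∈ Z) := by
      ext g
      simp only [Finset.mem_filter, Finset.mem_univ, true_and]
      exact ⟨fun h => h.2, fun h => ⟨hZN h, h⟩⟩
    rw [hfil, Finset.sum_congr rfl (g := fun _ => ((k * m : ℕ) : ℂ)),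
      Finset.sum_const, card_filter_mem, nsmul_eq_mul, Finset.sum_eq_zero, add_zero]
    · intro g hg
      rw [Finset.mem_filter, Finset.mem_filter] at hg
      exact hvan g hg.1.2 hg.2
    · intro g hg
      rw [Finset.mem_filter] at hg
      have hg1 : ρ g = ρ 1 := by rw [hZρ g hg.2, map_one]
      have : ρ.character g = ρ.character 1 := by
        unfold Representation.character
        rw [hg1]
      rw [this, Representation.char_one, hV]
  rw [hsum, Fintype.card_eq_nat_card, hcard] at h1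
  have hZ0 : (Nat.card Z : ℂ) ≠ 0 := Nat.cast_ne_zero.mpr Nat.card_pos.ne'
  have hm0 : (m : ℂ) ≠ 0 := by
    intro h
    have : m = 0 := by exact_mod_cast h
    rw [this, mul_zero] at hcard
    exact Nat.card_pos.ne' hcard
  have h2 : ((Module.finrank ℂ (fixInv ρ N) : ℕ) : ℂ) = (k : ℂ) := by
    rw [← h1]
    push_cast
    field_simp
  exact_mod_cast h2

theorem key_intrinsic [hN : N.Normal] (hZN : Z ≤ N) (hZρ : ∀ z ∈ Z, ρ z = 1)
    (hNC : ∀ γ : Γ, ∃ n ∈ N, ∃ c ∈ C, γ = n * c)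
    (htr : ∀ n ∈ N, n ∉ Z → ∀ n' ∈ N, n' ∉ Z → ∃ c ∈ C, ∃ z ∈ Z, c * n * c⁻¹ = n' * z)
    (hvan : ∀ n ∈ N, n ∉ Z → ρ.character n = 0) (k : ℕ)
    (hk : Module.finrank ℂ V = k * (Nat.card N / Nat.card Z)) :
    Module.finrank ℂ (fixInv ρ C) ≤ Module.finrank ℂ (fixInv ρ (⊤ : Subgroup Γ)) + k := by
  classical
  by_cases hcase : ∀ n ∈ N, n ∈ Z
  · -- degenerate case
    have hle : fixInv ρ C ≤ fixInv ρ (⊤ : Subgroup Γ) := by
      intro v hv
      rw [mem_fixInv] at hv ⊢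
      intro γ _
      obtain ⟨n, hn, c, hc, rfl⟩ := hNC γ
      rw [map_mul, Module.End.mul_apply, hv c hc, hZρ n (hcase n hn), Module.End.one_apply]
    exact le_trans (Submodule.finrank_mono hle) (Nat.le_add_right _ _)
  · push Not at hcase
    obtain ⟨n₀, hn₀, hn₀Z⟩ := hcase
    have : Fintype (↥N ⧸ Z.subgroupOf N) := Fintype.ofFinite _
    -- the index
    have hidx : Nat.card (Z.subgroupOf N) * (Z.subgroupOf N).index = Nat.card N :=
      Subgroup.card_mul_index _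
    have hcZ : Nat.card (Z.subgroupOf N) = Nat.card Z :=
      Nat.card_congr (Subgroup.subgroupOfEquivOfLe hZN).toEquiv
    rw [hcZ] at hidx
    have hZpos : 0 < Nat.card Z := Nat.card_pos
    have hm : Nat.card N / Nat.card Z = (Z.subgroupOf N).index := by
      rw [← hidx, Nat.mul_div_cancel_left _ hZpos]
    have hQ : Fintype.card (↥N ⧸ Z.subgroupOf N) = (Z.subgroupOf N).index := by
      rw [Subgroup.index, Nat.card_eq_fintype_card]
    have h2 : 2 ≤ (Z.subgroupOf N).index := by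
      have h0 : (Z.subgroupOf N).index ≠ 0 := Subgroup.index_ne_zero_of_finite
      have h1 : (Z.subgroupOf N).index ≠ 1 := by
        rw [Ne, Subgroup.index_eq_one]
        intro htop
        have : (⟨n₀, hn₀⟩ : N) ∈ Z.subgroupOf N := by rw [htop]; exact Subgroup.mem_top _
        exact hn₀Z (Subgroup.mem_subgroupOf.1 this)
      omega
    rw [hm] at hk
    have hFN := finrank_fixInv_N ρ N Z hZN hZρ hvan k _ hk hidx.symm
    have hf := finrank_U₂_le ρ N Z C hZN hZρ htr k _ h2 hQ hFN hk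
    -- rank-nullity for the sum over `N` on the `C`-fixed space
    let g : fixInv ρ C →ₗ[ℂ] V := (sumOp ρ N).domRestrict (fixInv ρ C)
    have hrn := LinearMap.finrank_range_add_finrank_ker g
    have hrange : LinearMap.range g ≤ fixInv ρ (⊤ : Subgroup Γ) := by
      rintro x ⟨u, rfl⟩
      rw [mem_fixInv]
      intro γ _
      obtain ⟨n, hn, c, hc, rfl⟩ := hNC γ
      change ρ (n * c) (sumOp ρ N (u : V)) = sumOp ρ N (u : V)
      have hu := u.2
      rw [mem_fixInv] at hu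
      rw [map_mul, Module.End.mul_apply, rho_sumOp_normal ρ N c, hu c hc, rho_sumOp ρ N hn]
    have hkle : Module.finrank ℂ (LinearMap.ker g) ≤ Module.finrank ℂ (U₂ ρ N C) := by
      rw [← Submodule.finrank_map_subtype_eq (fixInv ρ C) (LinearMap.ker g)]
      apply Submodule.finrank_mono
      rintro x ⟨u, hu, rfl⟩
      rw [SetLike.mem_coe, LinearMap.mem_ker] at hu
      exact Submodule.mem_inf.2 ⟨u.2, LinearMap.mem_ker.2 hu⟩
    have hr := Submodule.finrank_mono hrange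
    omega

end main

end PkG5

open PkG1 PkG5 in
/-- PK-G5 : a character of `J = N C` vanishing on `N ∖ Z`, with `C` transitive on `N/Z ∖ 1` -/
theorem fixdim_complement_le {𝔾 : Type u} [Group 𝔾] [Finite 𝔾] (J N Z C : Subgroup 𝔾)
    [Fintype C] [Fintype J]
    (hNJ : N ≤ J) (hCJ : C ≤ J) (hZN : Z ≤ N)
    (hnorm : ∀ j ∈ J, ∀ n ∈ N, j * n * j⁻¹ ∈ N)
    (hZc : ∀ z ∈ Z, ∀ j ∈ J, z * j = j * z)
    (hNC : ∀ j ∈ J, ∃ n ∈ N, ∃ c ∈ C, j = n * c)
    (hab : ∀ n ∈ N, ∀ n' ∈ N, n * n' * n⁻¹ * n'⁻¹ ∈ Z)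
    (htr : ∀ n ∈ N, n ∉ Z → ∀ n' ∈ N, n' ∉ Z → ∃ c ∈ C, ∃ z ∈ Z, c * n * c⁻¹ = n' * z)
    {Φ : 𝔾 → ℂ} (hΦ : IsCharacter J (fun j : J => Φ (j : 𝔾)))
    (hΦZ : ∀ z ∈ Z, ∀ j ∈ J, Φ (z * j) = Φ j)
    (hΦN : ∀ n ∈ N, n ∉ Z → Φ n = 0) (k : ℕ) (hk : Φ 1 = k * (Nat.card N / Nat.card Z : ℕ)) :
    (fixdim C Φ).re ≤ (fixdim J Φ).re + k := by
  classical
  obtain ⟨d, ρ, hρ⟩ := hΦ
  have hchar : ∀ j : J, ρ.character j = Φ (j : 𝔾) := fun j => congr_fun hρ j
  have hd : Module.finrank ℂ (Fin d → ℂ) = d := by simp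
  have hone : Φ 1 = (d : ℂ) := by
    have := hchar 1
    rw [Representation.char_one, hd] at this
    exact this.symm
  -- the subgroups inside `J`
  have hN' : (N.subgroupOf J).Normal := by
    refine ⟨fun x hx g => ?_⟩
    rw [Subgroup.mem_subgroupOf] at hx ⊢
    exact hnorm g g.2 x hx
  have hZN' : Z.subgroupOf J ≤ N.subgroupOf J := fun x hx => hZN hx
  have hZρ : ∀ z ∈ Z.subgroupOf J, ρ z = 1 := by
    intro z hz
    rw [Subgroup.mem_subgroupOf] at hz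
    have hcz : ρ.character z = (d : ℂ) := by
      rw [hchar z, ← hone]
      have := hΦZ (z : 𝔾) hz 1 J.one_mem
      rwa [mul_one] at this
    obtain ⟨ω, hω⟩ := Cfsg.Agent.Lib.Helper7.br_scalar_of_norm_eq ρ z (by rw [hcz]; simp)
    by_cases hd0 : d = 0
    · subst hd0
      ext v i
      exact i.elim0
    · have htr : ρ.character z = ω * d := by
        unfold Representation.character
        rw [hω, map_smul, LinearMap.trace_id, hd, smul_eq_mul]
      rw [hcz] at htr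
      have hω1 : ω = 1 := by
        have hd0' : (d : ℂ) ≠ 0 := Nat.cast_ne_zero.mpr hd0
        field_simp at htr
        exact htr.symm
      rw [hω, hω1, one_smul]
      rfl
  have hNC' : ∀ γ : J, ∃ n ∈ N.subgroupOf J, ∃ c ∈ C.subgroupOf J, γ = n * c := by
    intro γ
    obtain ⟨n, hn, c, hc, h⟩ := hNC γ γ.2
    exact ⟨⟨n, hNJ hn⟩, hn, ⟨c, hCJ hc⟩, hc, Subtype.ext h⟩
  have htr' : ∀ n ∈ N.subgroupOf J, n ∉ Z.subgroupOf J → ∀ n' ∈ N.subgroupOf J,
      n' ∉ Z.subgroupOf J → ∃ c ∈ C.subgroupOf J, ∃ z ∈ Z.subgroupOf J, c * n * c⁻¹ = n' * z := by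
    intro n hn hnZ n' hn' hnZ'
    obtain ⟨c, hc, z, hz, h⟩ := htr n hn hnZ n' hn' hnZ'
    exact ⟨⟨c, hCJ hc⟩, hc, ⟨z, hNJ (hZN hz)⟩, hz, Subtype.ext h⟩
  have hvan : ∀ n ∈ N.subgroupOf J, n ∉ Z.subgroupOf J → ρ.character n = 0 := by
    intro n hn hnZ
    rw [hchar n]
    exact hΦN n hn hnZ
  have hcN : Nat.card (N.subgroupOf J) = Nat.card N :=
    Nat.card_congr (Subgroup.subgroupOfEquivOfLe hNJ).toEquiv
  have hcZ : Nat.card (Z.subgroupOf J) = Nat.card Z :=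
    Nat.card_congr (Subgroup.subgroupOfEquivOfLe (le_trans hZN hNJ)).toEquiv
  have hk' : Module.finrank ℂ (Fin d → ℂ) =
      k * (Nat.card (N.subgroupOf J) / Nat.card (Z.subgroupOf J)) := by
    rw [hd, hcN, hcZ]
    rw [hone] at hk
    exact_mod_cast hk
  have hkey := key_intrinsic ρ (N.subgroupOf J) (Z.subgroupOf J) (C.subgroupOf J) hZN' hZρ hNC'
    htr' hvan k hk'
  have h1 := fixdim_eq_amb J ρ hρ C hCJ
  have h2 := fixdim_eq_amb J ρ hρ J le_rfl
  rw [Subgroup.subgroupOf_self] at h2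
  rw [h1, h2, Complex.natCast_re, Complex.natCast_re]
  exact_mod_cast hkey

end Cfsg.Agent.Lib.Helper2.WG
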