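import Mathlib
import Cfsg.Prelude.Def_Characters
import Cfsg.Prelude.Def_Blocks
import Cfsg.Agent.Lib.Helper8.Deflation
import Cfsg.Agent.Lib.Helper2.RelMAbelian
import Cfsg.Agent.Lib.Helper2.PiSection
import Cfsg.Agent.Lib.Helper4.CharTools
import Cfsg.Agent.S0887
import Cfsg.Agent.S0148

/-!
# Constituents modulo a normal subgroup in the kernel

For normal subgroups `Q, C` of `T` and `χ ∈ Irr(T)` with `Q` in its kernel, an irreducible
constituent `θ` of `χ_C` with `Q ∩ C` in its kernel whose degree is controlled through `T/Q`.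
-/

set_option autoImplicit false
set_option linter.unusedSectionVars false

namespace Cfsg.Agent.Lib.Helper8.WT

open Cfsg
open scoped ComplexConjugate
open Cfsg.Agent.Lib.Helper1 Cfsg.Agent.Lib.Helper4 Cfsg.Agent.Lib.Helper8

universe u

section

variable {T : Type u} [Group T] [Fintype T]

theorem exists_constituent_mod (Q C : Subgroup T) [hQn : Q.Normal] [hCn : C.Normal] [Fintype C]
    {χ : T → ℂ} (hχ : IsIrrCharacter T χ) (hQ : ∀ q ∈ Q, χ q = χ 1) :
    ∃ θ : C → ℂ, IsIrrCharacter C θ ∧ classInner (fun c : C => χ c) θ ≠ 0 ∧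
      (∀ z : C, (z : T) ∈ Q → θ z = θ 1) ∧
      ∃ c d : ℕ, χ 1 = c ∧ θ 1 = d ∧ d ∣ c ∧ c / d ∣ (Q ⊔ C).index ∧
        d ∣ (Q.subgroupOf C).index ∧ d * d ≤ (Q.subgroupOf C).index := by
  classical
  obtain ⟨χb, hχb, hχbf⟩ := exists_deflation Q hχ hQ
  set f : T →* T ⧸ Q := QuotientGroup.mk' Q with hf
  have hfs : Function.Surjective f := QuotientGroup.mk'_surjective Q
  set Nb : Subgroup (T ⧸ Q) := C.map f with hNb
  haveI hNbn : Nb.Normal := Subgroup.Normal.map hCn f hfs
  haveI : Fintype (T ⧸ Q) := Fintype.ofFinite _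
  haveI : Fintype Nb := Fintype.ofFinite _
  have hres : IsCharacter Nb (fun n : Nb => χb n) :=
    Cfsg.Agent.S0148.isCharacter_restrict Nb (isCharacter_of_irr hχb)
  obtain ⟨hc1, hcpos⟩ := irr_apply_one_eq_charDegree hχ
  have hχb1 : χb 1 = χ 1 := by
    have := hχbf 1
    rwa [QuotientGroup.mk_one] at this
  have h1 : (fun n : Nb => χb n) 1 ≠ 0 := by
    show χb ((1 : Nb) : T ⧸ Q) ≠ 0
    rw [Subgroup.coe_one, hχb1, hc1]
    exact Nat.cast_ne_zero.2 hcpos.ne'
  obtain ⟨ψ, hψ, m, hm, hin⟩ := exists_constituent hres h1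
  obtain ⟨hd1, hdpos⟩ := irr_apply_one_eq_charDegree hψ
  have hcon : classInner (fun n : Nb => χb n) ψ ≠ 0 := by
    rw [hin]
    exact Nat.cast_ne_zero.2 hm.ne'
  obtain ⟨hdc, hidx⟩ := Cfsg.Agent.S0887.result Nb χb hχb ψ hψ hcon (charDegree χ) (charDegree ψ)
    (by rw [hχb1, hc1]) hd1
  set π : C →* Nb := f.subgroupMap C with hπ
  have hπs : Function.Surjective π := MonoidHom.subgroupMap_surjective f C
  have hπcoe : ∀ c : C, ((π c : Nb) : T ⧸ Q) = f c := fun c => rfl
  refine ⟨fun c => ψ (π c), Cfsg.Agent.Lib.Helper2.PiSection.isIrrCharacter_comp_surjective hψ π hπs,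
    ?_, ?_, charDegree χ, charDegree ψ, hc1, ?_, hdc, ?_, ?_, ?_⟩
  · have e1 : (fun c : C => χ c) = fun c : C => (fun n : Nb => χb n) (π c) := by
      funext c
      show χ c = χb ((π c : Nb) : T ⧸ Q)
      rw [hπcoe]
      exact (hχbf c).symm
    rw [e1, Cfsg.Agent.Lib.Helper2.RelMAbelian.classInner_comp_surjective π hπs
      (fun n : Nb => χb n) ψ]
    exact hcon
  · intro z hz
    have : π z = 1 := by
      apply Subtype.ext
      rw [hπcoe, Subgroup.coe_one]
      exact (QuotientGroup.eq_one_iff (z : T)).2 hz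
    show ψ (π z) = ψ (π 1)
    rw [this, map_one]
  · show ψ (π 1) = _
    rw [map_one]
    exact hd1
  · have : Nb.index = (Q ⊔ C).index := by
      rw [hNb, Subgroup.index_map, MonoidHom.range_eq_top.2 hfs, Subgroup.index_top, mul_one,
        hf, QuotientGroup.ker_mk', sup_comm]
    rwa [this] at hidx
  · have hcard : Nat.card Nb = (Q.subgroupOf C).index := by
      have hk : π.ker = Q.subgroupOf C := by
        ext z
        rw [MonoidHom.mem_ker, Subgroup.mem_subgroupOf]
        constructor
        · intro h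
          have := congrArg Subtype.val h
          rw [hπcoe, Subgroup.coe_one] at this
          exact (QuotientGroup.eq_one_iff (z : T)).1 this
        · intro h
          apply Subtype.ext
          rw [hπcoe, Subgroup.coe_one]
          exact (QuotientGroup.eq_one_iff (z : T)).2 h
      rw [← hk, Subgroup.index_ker, MonoidHom.range_eq_top.2 hπs, Subgroup.card_top]
    rw [← hcard]
    exact charDegree_dvd_card hψ
  · have hcard : Nat.card Nb = (Q.subgroupOf C).index := by
      have hk : π.ker = Q.subgroupOf C := by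
        ext z
        rw [MonoidHom.mem_ker, Subgroup.mem_subgroupOf]
        constructor
        · intro h
          have := congrArg Subtype.val h
          rw [hπcoe, Subgroup.coe_one] at this
          exact (QuotientGroup.eq_one_iff (z : T)).1 this
        · intro h
          apply Subtype.ext
          rw [hπcoe, Subgroup.coe_one]
          exact (QuotientGroup.eq_one_iff (z : T)).2 h
      rw [← hk, Subgroup.index_ker, MonoidHom.range_eq_top.2 hπs, Subgroup.card_top]
    rw [← hcard]
    have hs := sum_norm_sq_irr hψ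
    have h2 : ‖ψ 1‖ ^ 2 ≤ ∑ g : Nb, ‖ψ g‖ ^ 2 :=
      Finset.single_le_sum (f := fun g : Nb => ‖ψ g‖ ^ 2) (fun g _ => by positivity)
        (Finset.mem_univ (1 : Nb))
    rw [hs, hd1] at h2
    have h3 : ((charDegree ψ * charDegree ψ : ℕ) : ℝ) ≤ (Nat.card Nb : ℝ) := by
      push_cast
      have : ‖((charDegree ψ : ℕ) : ℂ)‖ = (charDegree ψ : ℝ) := by
        rw [Complex.norm_natCast]
      rw [this] at h2
      nlinarith [h2]
    exact_mod_cast h3

end

end Cfsg.Agent.Lib.Helper8.WT
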