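import Mathlib
import Cfsg.Prelude.Def_Characters
import Cfsg.Prelude.Def_Blocks
import Cfsg.Agent.Lib.Helper8.BlockCoeff
import Cfsg.Agent.Lib.Helper8.Deflation
import Cfsg.Agent.Lib.Helper4.CharTools

/-!
# Constituents of a character fixed by a block idempotent lie in the block
-/

set_option autoImplicit false
set_option linter.unusedSectionVars false

namespace Cfsg.Agent.Lib.Helper8.WT

open Cfsg
open scoped ComplexConjugate
open Cfsg.Agent.Lib.Helper1 Cfsg.Agent.Lib.Helper4 Cfsg.Agent.Lib.Helper8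

universe u

section

variable {K : Type u} [Group K] [Fintype K] {M : Ideal AlgInt}

theorem constituent_mem_block (hM : M.IsPrime) {e : Set (IrrCharacter K)} (he : IsPBlock M e)
    {Ψ : K → ℂ} (hΨ : IsCharacter K Ψ) (hsum : ∑ k, blockCoeff e k * Ψ k = Ψ 1)
    (θ : IrrCharacter K) (hθ : classInner Ψ (θ : K → ℂ) ≠ 0) : θ ∈ e := by
  classical
  haveI : Fintype (IrrCharacter K) := Fintype.ofFinite _
  obtain ⟨hcf, hS, hω⟩ := blockCoeff_spec hM he
  have hexp := class_function_expansion Ψ (isClassFunction_of_isCharacter hΨ)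
  choose mult hmult using fun ψ : IrrCharacter K => classInner_char_irr_nat hΨ ψ.2
  have hdeg : ∀ ψ : IrrCharacter K, (ψ : K → ℂ) 1 = (charDegree (ψ : K → ℂ) : ℂ) :=
    fun ψ => (irr_apply_one_eq_charDegree ψ.2).1
  have hdpos : ∀ ψ : IrrCharacter K, 0 < charDegree (ψ : K → ℂ) :=
    fun ψ => (irr_apply_one_eq_charDegree ψ.2).2
  -- value at one
  have h1 : Ψ 1 = ∑ ψ : IrrCharacter K, ((mult ψ * charDegree (ψ : K → ℂ) : ℕ) : ℂ) := by
    have := congrFun hexp 1
    rw [Finset.sum_apply] at this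
    rw [this]
    refine Finset.sum_congr rfl fun ψ _ => ?_
    rw [Pi.smul_apply, smul_eq_mul, hmult ψ, hdeg ψ]
    push_cast
    ring
  -- value of the idempotent sum
  have h2 : ∑ k, blockCoeff e k * Ψ k =
      ∑ ψ : IrrCharacter K, (if ψ ∈ e then ((mult ψ * charDegree (ψ : K → ℂ) : ℕ) : ℂ) else 0) := by
    have e1 : ∀ k, blockCoeff e k * Ψ k =
        ∑ ψ : IrrCharacter K, (mult ψ : ℂ) * (blockCoeff e k * (ψ : K → ℂ) k) := by
      intro k
      have := congrFun hexp k
      rw [Finset.sum_apply] at this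
      rw [this, Finset.mul_sum]
      refine Finset.sum_congr rfl fun ψ _ => ?_
      rw [Pi.smul_apply, smul_eq_mul, hmult ψ]
      ring
    rw [Finset.sum_congr rfl fun k _ => e1 k, Finset.sum_comm]
    refine Finset.sum_congr rfl fun ψ _ => ?_
    rw [← Finset.mul_sum]
    have h3 := hω ψ
    unfold omega at h3
    have hd0 : (ψ : K → ℂ) 1 ≠ 0 := by
      rw [hdeg ψ]
      exact Nat.cast_ne_zero.2 (hdpos ψ).ne'
    rw [div_eq_iff hd0] at h3
    rw [h3]
    by_cases hψ : ψ ∈ e
    · rw [if_pos hψ, if_pos hψ, one_mul, hdeg ψ]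
      push_cast
      ring
    · rw [if_neg hψ, if_neg hψ, zero_mul, mul_zero]
  rw [h2, h1] at hsum
  have hsumN : ∑ ψ : IrrCharacter K, (if ψ ∈ e then mult ψ * charDegree (ψ : K → ℂ) else 0) =
      ∑ ψ : IrrCharacter K, mult ψ * charDegree (ψ : K → ℂ) := by
    have : ((∑ ψ : IrrCharacter K, (if ψ ∈ e then mult ψ * charDegree (ψ : K → ℂ) else 0) : ℕ) : ℂ) =
        ((∑ ψ : IrrCharacter K, mult ψ * charDegree (ψ : K → ℂ) : ℕ) : ℂ) := by
      rw [Nat.cast_sum, Nat.cast_sum, ← hsum]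
      refine Finset.sum_congr rfl fun ψ _ => ?_
      split_ifs <;> simp
    exact_mod_cast this
  have hle : ∀ ψ ∈ (Finset.univ : Finset (IrrCharacter K)),
      (if ψ ∈ e then mult ψ * charDegree (ψ : K → ℂ) else 0) ≤ mult ψ * charDegree (ψ : K → ℂ) := by
    intro ψ _
    split_ifs
    · exact le_rfl
    · exact Nat.zero_le _
  have heq := (Finset.sum_eq_sum_iff_of_le hle).1 hsumN θ (Finset.mem_univ θ)
  by_contra hθe
  rw [if_neg hθe] at heq
  have hm0 : mult θ = 0 := by
    rcases Nat.eq_zero_or_pos (mult θ) with h | h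
    · exact h
    · exfalso
      have := Nat.mul_pos h (hdpos θ)
      omega
  apply hθ
  rw [hmult θ, hm0]
  simp

end

end Cfsg.Agent.Lib.Helper8.WT
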