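import Mathlib
import Cfsg.Prelude.Def_Characters
import Cfsg.Prelude.Def_Blocks
import Cfsg.Agent.Lib.Helper8.WT1

set_option autoImplicit false
set_option linter.unusedSectionVars false

namespace Cfsg.Agent.Lib.Helper8.WT

open Cfsg
open scoped ComplexConjugate
open Cfsg.Agent.Lib.Helper1 Cfsg.Agent.Lib.Helper4 Cfsg.Agent.Lib.Helper8

universe u

section

variable {T : Type u} [Group T] [Fintype T]

/-- `p`-adic form of `exists_constituent_mod` for a character of `p`-defect zero modulo `Q`. -/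
theorem exists_constituent_val (p : ℕ) [Fact p.Prime] (Q C : Subgroup T) [hQn : Q.Normal]
    [hCn : C.Normal] [Fintype C] {χ : T → ℂ} (hχ : IsIrrCharacter T χ) (hQ : ∀ q ∈ Q, χ q = χ 1)
    (hdeg : (charDegree χ).factorization p + (Nat.card Q).factorization p =
      (Nat.card T).factorization p) :
    ∃ θ : C → ℂ, IsIrrCharacter C θ ∧ classInner (fun c : C => χ c) θ ≠ 0 ∧
      (∀ z : C, (z : T) ∈ Q → θ z = θ 1) ∧
      ∃ d : ℕ, θ 1 = d ∧ d ∣ (Q.subgroupOf C).index ∧ d * d ≤ (Q.subgroupOf C).index ∧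
        d.factorization p = (Q.subgroupOf C).index.factorization p := by
  classical
  obtain ⟨θ, hθ, hcon, hker, c, d, hc, hd, hdc, hidx, hds, hdd⟩ :=
    exists_constituent_mod Q C hχ hQ
  refine ⟨θ, hθ, hcon, hker, d, hd, hds, hdd, ?_⟩
  have hcdeg : charDegree χ = c := by
    have := (irr_apply_one_eq_charDegree hχ).1
    rw [hc] at this
    exact_mod_cast this.symm
  have hcpos : 0 < c := by
    rw [← hcdeg]
    exact (irr_apply_one_eq_charDegree hχ).2
  have hdpos : 0 < d := Nat.pos_of_dvd_of_pos hdc hcpos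
  obtain ⟨k, hk⟩ := hdc
  have hkpos : 0 < k := by
    rcases Nat.eq_zero_or_pos k with h | h
    · rw [h, mul_zero] at hk
      omega
    · exact h
  have hkdiv : c / d = k := by
    rw [hk]
    exact Nat.mul_div_cancel_left k hdpos
  rw [hkdiv] at hidx
  set s := (Q.subgroupOf C).index with hs
  set i1 := (Q ⊔ C).index with hi1
  set r := C.relIndex Q with hr
  have hspos : 0 < s := Nat.pos_of_ne_zero Subgroup.index_ne_zero_of_finite
  have hi1pos : 0 < i1 := Nat.pos_of_ne_zero Subgroup.index_ne_zero_of_finite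
  have hrpos : 0 < r := Nat.pos_of_ne_zero Subgroup.index_ne_zero_of_finite
  have hCpos : 0 < Nat.card C := Nat.card_pos
  have hZpos : 0 < Nat.card ↥(Q ⊓ C) := Nat.card_pos
  have E1 : Nat.card C * C.index = Nat.card T := Subgroup.card_mul_index C
  have E2 : r * i1 = C.index := by
    have := Subgroup.relIndex_mul_index (le_sup_right : C ≤ Q ⊔ C)
    rwa [Subgroup.relIndex_sup_right] at this
  have E3 : Nat.card ↥(Q ⊓ C) * r = Nat.card Q := by
    have := Subgroup.relIndex_mul_relIndex ⊥ (Q ⊓ C) Q (bot_le : (⊥ : Subgroup T) ≤ Q ⊓ C)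
      (inf_le_left : Q ⊓ C ≤ Q)
    rwa [Subgroup.relIndex_bot_left, Subgroup.relIndex_bot_left, Subgroup.inf_relIndex_left] at this
  have E4 : Nat.card ↥(Q ⊓ C) * s = Nat.card C := by
    have := Subgroup.relIndex_mul_relIndex ⊥ (Q ⊓ C) C (bot_le : (⊥ : Subgroup T) ≤ Q ⊓ C)
      (inf_le_right : Q ⊓ C ≤ C)
    rwa [Subgroup.relIndex_bot_left, Subgroup.relIndex_bot_left, Subgroup.inf_relIndex_right] at this
  have F1 := congrArg (fun n : ℕ => n.factorization p) E1
  have F2 := congrArg (fun n : ℕ => n.factorization p) E2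
  have F3 := congrArg (fun n : ℕ => n.factorization p) E3
  have F4 := congrArg (fun n : ℕ => n.factorization p) E4
  have F5 := congrArg (fun n : ℕ => n.factorization p) hk
  beta_reduce at F1 F2 F3 F4 F5
  have hCi : 0 < C.index := Nat.pos_of_ne_zero Subgroup.index_ne_zero_of_finite
  rw [Nat.factorization_mul hCpos.ne' hCi.ne', Finsupp.add_apply] at F1
  rw [Nat.factorization_mul hrpos.ne' hi1pos.ne', Finsupp.add_apply] at F2
  rw [Nat.factorization_mul hZpos.ne' hrpos.ne', Finsupp.add_apply] at F3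
  rw [Nat.factorization_mul hZpos.ne' hspos.ne', Finsupp.add_apply] at F4
  rw [Nat.factorization_mul hdpos.ne' hkpos.ne', Finsupp.add_apply] at F5
  have G1 : k.factorization p ≤ i1.factorization p :=
    (Nat.factorization_le_iff_dvd hkpos.ne' hi1pos.ne').2 hidx p
  have G2 : d.factorization p ≤ s.factorization p :=
    (Nat.factorization_le_iff_dvd hdpos.ne' hspos.ne').2 hds p
  rw [hcdeg] at hdeg
  omega

end

end Cfsg.Agent.Lib.Helper8.WT
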