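import Mathlib
import Cfsg.Prelude.Def_Characters
import Cfsg.Prelude.Def_Blocks
import Cfsg.Prelude.Def_BrauerPairs
import Cfsg.Agent.Lib.Helper8.WT3
import Cfsg.Agent.Lib.Helper8.WT2
import Cfsg.Agent.Lib.Helper8.BP3
import Cfsg.Agent.Lib.Helper8.GH2
import Cfsg.Agent.S0969

set_option autoImplicit false
set_option linter.unusedSectionVars false

namespace Cfsg.Agent.Lib.Helper8.WT

open Cfsg
open scoped ComplexConjugate
open Cfsg.Agent.Lib.Helper1 Cfsg.Agent.Lib.Helper4 Cfsg.Agent.Lib.Helper8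

universe u

section

variable {G : Type u} [Group G] [Fintype G] {M : Ideal AlgInt} {p : ℕ} [Fact p.Prime]

/-- **A Brauer pair carrying a weight is centric**: `Z(Q)` is a defect group of `e`. -/
theorem weight_centric (hM : IsPModular p M) (Q C : Subgroup G)
    (hC : C = Subgroup.centralizer (Q : Set G))
    {e : Set (IrrCharacter C)} (hQp : IsPGroup p Q)
    (he : IsPBlock M e)
    (T : Subgroup G) (hT : ∀ y : G, y ∈ T ↔ y ∈ Subgroup.normalizer (Q : Set G) ∧
      StabilizesBlock C e y)
    (F' : Set (IrrCharacter T)) (hF' : IsPBlock M F')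
    (hF'e : ∀ t : T, blockCoeff F' t = subgroupBlockCoeff C e (t : G))
    (χ : IrrCharacter T) (hχ : χ ∈ F')
    (hχQ : ∀ q : G, q ∈ Q → ∀ t : T, ∀ t' : T, (t' : G) = q * (t : G) →
      (χ : T → ℂ) t' = (χ : T → ℂ) t)
    (hdeg : (charDegree (χ : T → ℂ)).factorization p + (Nat.card Q).factorization p =
      (Nat.card T).factorization p) :
    IsDefectGroup p M e ((Q ⊓ C).subgroupOf C) := by
  classical
  have hMp := isPModular_isPrime hM
  haveI : Fintype C := Fintype.ofFinite _
  haveI : Fintype T := Fintype.ofFinite _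
  have hTN : T ≤ Subgroup.normalizer (Q : Set G) := fun t ht => ((hT t).1 ht).1
  have hCN : C ≤ Subgroup.normalizer (Q : Set G) := by
    rw [hC]
    exact Subgroup.centralizer_le_normalizer _
  have hCT : C ≤ T := fun c hc => (hT c).2 ⟨hCN hc, stabilizesBlock_of_mem C e hc⟩
  have hQT : Q ≤ T := fun q hq => (hT q).2 ⟨Subgroup.le_normalizer hq,
    stabilizesBlock_of_centralizes C e (fun k hk => by
      rw [hC] at hk
      exact Subgroup.mem_centralizer_iff.1 hk q hq)⟩
  haveI hQ'n : (Q.subgroupOf T).Normal := Subgroup.normal_subgroupOf_of_le_normalizer hTN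
  have hNC : Subgroup.normalizer (Q : Set G) ≤ Subgroup.normalizer (C : Set G) := by
    rw [hC]
    exact normalizer_le_normalizer_centralizer Q
  haveI hC'n : (C.subgroupOf T).Normal :=
    Subgroup.normal_subgroupOf_of_le_normalizer (hTN.trans hNC)
  haveI : Fintype (C.subgroupOf T) := Fintype.ofFinite _
  have hker : ∀ q ∈ Q.subgroupOf T, (χ : T → ℂ) q = (χ : T → ℂ) 1 := by
    intro q hq
    exact hχQ (q : G) (Subgroup.mem_subgroupOf.1 hq) 1 q (by simp)
  have hcardQ : Nat.card (Q.subgroupOf T) = Nat.card Q :=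
    Nat.card_congr (Subgroup.subgroupOfEquivOfLe hQT).toEquiv
  have hdeg' : (charDegree (χ : T → ℂ)).factorization p +
      (Nat.card (Q.subgroupOf T)).factorization p = (Nat.card T).factorization p := by
    rw [hcardQ]
    exact hdeg
  obtain ⟨θ', hθ', hcon', hker', d, hd, hds, hdd, hdval⟩ :=
    exists_constituent_val p (Q.subgroupOf T) (C.subgroupOf T) χ.2 hker hdeg'
  set E := Subgroup.subgroupOfEquivOfLe hCT with hE
  set θ : IrrCharacter C := ⟨fun c => θ' (E.symm c), isIrrCharacter_comp_mulEquiv hθ' E.symm⟩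
    with hθdef
  have hθapp : ∀ c : C, (θ : C → ℂ) c = θ' (E.symm c) := fun c => rfl
  -- the restriction of `χ` to `C`
  have hΨ : IsCharacter C (fun c : C => (χ : T → ℂ) ⟨(c : G), hCT c.2⟩) :=
    isCharacter_comp_hom (isCharacter_of_irr χ.2) (Subgroup.inclusion hCT)
  have hsum : ∑ c : C, blockCoeff e c * (χ : T → ℂ) ⟨(c : G), hCT c.2⟩ = (χ : T → ℂ) 1 := by
    obtain ⟨-, -, hω⟩ := blockCoeff_spec hMp hF'
    have h1 := hω χ
    rw [if_pos hχ] at h1
    unfold omega at h1
    have hd0 : (χ : T → ℂ) 1 ≠ 0 := irr_apply_one_ne_zero χ.2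
    rw [div_eq_iff hd0, one_mul] at h1
    rw [← h1]
    have hsupp : ∀ t : T, t ∉ C.subgroupOf T → blockCoeff F' t * (χ : T → ℂ) t = 0 := by
      intro t ht
      rw [hF'e t, subgroupBlockCoeff_of_not_mem C e (fun h => ht (Subgroup.mem_subgroupOf.2 h)),
        zero_mul]
    rw [sum_eq_sum_subgroup_of_support (C.subgroupOf T) _ hsupp]
    rw [← Equiv.sum_comp E.toEquiv]
    refine Finset.sum_congr rfl fun k _ => ?_
    rw [hF'e, subgroupBlockCoeff_of_mem C e (Subgroup.mem_subgroupOf.1 k.2)]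
    rfl
  have hconθ : classInner (fun c : C => (χ : T → ℂ) ⟨(c : G), hCT c.2⟩) (θ : C → ℂ) ≠ 0 := by
    rw [← classInner_subgroupOf' T C hCT (χ : T → ℂ) (θ : C → ℂ)]
    have e1 : (fun m : C.subgroupOf T => (θ : C → ℂ) (Subgroup.subgroupOfEquivOfLe hCT m)) = θ' := by
      funext m
      rw [hθapp]
      exact congrArg θ' (E.symm_apply_apply m)
    rw [e1]
    exact hcon'
  have hθe : θ ∈ e := constituent_mem_block hMp he hΨ hsum θ hconθ
  -- the degree
  set P' := (Q ⊓ C).subgroupOf C with hP'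
  have hP'p : IsPGroup p P' := (hQp.to_le inf_le_left).comap_subtype
  have hP'Z : P' ≤ Subgroup.center C := by
    subst hC
    exact inf_centralizer_le_center Q
  have hθ1 : (θ : C → ℂ) 1 = d := by
    rw [hθapp, map_one]
    exact hd
  have hθdeg : charDegree (θ : C → ℂ) = d := by
    have := (irr_apply_one_eq_charDegree θ.2).1
    rw [hθ1] at this
    exact_mod_cast this.symm
  have hidx : ((Q.subgroupOf T).subgroupOf (C.subgroupOf T)).index = P'.index := by
    have h1 : ((Q.subgroupOf T).subgroupOf (C.subgroupOf T)).index =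
        (Q.subgroupOf T).relIndex (C.subgroupOf T) := rfl
    have h2 : P'.index = (Q ⊓ C).relIndex C := rfl
    rw [h1, h2, Subgroup.relIndex_subgroupOf hCT, Subgroup.inf_relIndex_right]
  have hfin : (charDegree (θ : C → ℂ)).factorization p = P'.index.factorization p := by
    rw [hθdeg, hdval, hidx]
  have := (Cfsg.Agent.S0969.result p M hM P' hP'p hP'Z θ hfin).1
  rwa [← eq_blockOf_of_mem hMp he hθe] at this

end

end Cfsg.Agent.Lib.Helper8.WT
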