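import Mathlib
import Cfsg.Prelude.Def_Characters
import Cfsg.Prelude.Def_Blocks
import Cfsg.Prelude.Def_BrauerPairs
import Cfsg.Agent.Lib.Helper8.WT4

set_option autoImplicit false
set_option linter.unusedSectionVars false

namespace Cfsg.Agent.Lib.Helper8.WT

open Cfsg
open scoped ComplexConjugate
open Cfsg.Agent.Lib.Helper1 Cfsg.Agent.Lib.Helper4 Cfsg.Agent.Lib.Helper8

universe u

section

variable {G : Type u} [Group G] [Fintype G] {p : ℕ} [Fact p.Prime]

/-- **A subgroup carrying a weight is radical**: `Q = O_p(T)`. -/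
theorem weight_radical (Q : Subgroup G) (hQp : IsPGroup p Q) (T : Subgroup G)
    (hTN : T ≤ Subgroup.normalizer (Q : Set G)) (hQT : Q ≤ T)
    {χ : T → ℂ} (hχ : IsIrrCharacter T χ)
    (hχQ : ∀ q : G, q ∈ Q → ∀ t : T, ∀ t' : T, (t' : G) = q * (t : G) → χ t' = χ t)
    (hdeg : (charDegree χ).factorization p + (Nat.card Q).factorization p =
      (Nat.card T).factorization p)
    (R : Subgroup G) (hRT : R ≤ T) (hR : IsPGroup p R)
    (hRn : ∀ t ∈ T, t ∈ Subgroup.normalizer (R : Set G)) : R ≤ Q := by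
  classical
  have hp : p.Prime := Fact.out
  haveI : Fintype T := Fintype.ofFinite _
  have hSp : IsPGroup p (Q ⊔ R : Subgroup G) :=
    IsPGroup.to_sup_of_normal_left' hQp hR (hRT.trans hTN)
  have hST : Q ⊔ R ≤ T := sup_le hQT hRT
  have hSn : T ≤ Subgroup.normalizer ((Q ⊔ R : Subgroup G) : Set G) := by
    intro t ht
    have h1 := hTN ht
    have h2 := hRn t ht
    rw [Subgroup.mem_normalizer_iff_map_conj_eq] at h1 h2 ⊢
    rw [Subgroup.map_sup, h1, h2]
  haveI hQ'n : (Q.subgroupOf T).Normal := Subgroup.normal_subgroupOf_of_le_normalizer hTN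
  haveI hS'n : ((Q ⊔ R).subgroupOf T).Normal := Subgroup.normal_subgroupOf_of_le_normalizer hSn
  haveI : Fintype ((Q ⊔ R).subgroupOf T) := Fintype.ofFinite _
  have hker : ∀ q ∈ Q.subgroupOf T, χ q = χ 1 := by
    intro q hq
    exact hχQ (q : G) (Subgroup.mem_subgroupOf.1 hq) 1 q (by simp)
  have hcardQ : Nat.card (Q.subgroupOf T) = Nat.card Q :=
    Nat.card_congr (Subgroup.subgroupOfEquivOfLe hQT).toEquiv
  have hdeg' : (charDegree χ).factorization p +
      (Nat.card (Q.subgroupOf T)).factorization p = (Nat.card T).factorization p := by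
    rw [hcardQ]
    exact hdeg
  obtain ⟨θ, hθ, -, -, d, hd, hds, hdd, hdval⟩ :=
    exists_constituent_val p (Q.subgroupOf T) ((Q ⊔ R).subgroupOf T) hχ hker hdeg'
  set s := ((Q.subgroupOf T).subgroupOf ((Q ⊔ R).subgroupOf T)).index with hs
  have hspos : 0 < s := Nat.pos_of_ne_zero Subgroup.index_ne_zero_of_finite
  have hdpos : 0 < d := Nat.pos_of_dvd_of_pos hds hspos
  -- `s` is a power of `p`
  have hS'p : IsPGroup p ((Q ⊔ R).subgroupOf T) := hSp.comap_subtype
  obtain ⟨n, hn⟩ := IsPGroup.iff_card.1 hS'p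
  have hsd : s ∣ p ^ n := by
    rw [← hn]
    exact Subgroup.index_dvd_card _
  obtain ⟨i, -, hi⟩ := (Nat.dvd_prime_pow hp).1 hsd
  rw [hi] at hds
  obtain ⟨j, -, hj⟩ := (Nat.dvd_prime_pow hp).1 hds
  rw [hi, hj, Nat.Prime.factorization_pow hp, Nat.Prime.factorization_pow hp,
    Finsupp.single_eq_same, Finsupp.single_eq_same] at hdval
  have hds' : d = s := by rw [hi, hj, hdval]
  rw [← hds'] at hdd
  have hd1 : d = 1 := by nlinarith
  have hs1 : s = 1 := by rw [← hds', hd1]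
  have hle : (Q ⊔ R).subgroupOf T ≤ Q.subgroupOf T := Subgroup.relIndex_eq_one.1 hs1
  intro r hr
  have : (⟨r, hRT hr⟩ : T) ∈ Q.subgroupOf T :=
    hle (Subgroup.mem_subgroupOf.2 ((le_sup_right : R ≤ Q ⊔ R) hr))
  exact Subgroup.mem_subgroupOf.1 this

end

end Cfsg.Agent.Lib.Helper8.WT
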