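import Mathlib
import Cfsg.Prelude.Def_Blocks
import Cfsg.Agent.S0179
import Cfsg.Agent.Lib.Helper8.Deflation

/-!
# `|Z(G)| χ(1)² ≤ |G|` for an irreducible character
-/

set_option autoImplicit false

namespace Cfsg.Agent.Lib.Helper8

open Cfsg
open scoped ComplexConjugate
open Cfsg.Agent.Lib.Helper1 Cfsg.Agent.Lib.Helper4

universe u

section

variable {G : Type u} [Group G] [Finite G]

/-- the absolute value of an irreducible character at a central element -/
theorem normSq_apply_central {χ : G → ℂ} (hχ : IsIrrCharacter G χ) {z : G}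
    (hz : z ∈ Subgroup.center G) : Complex.normSq (χ z) = Complex.normSq (χ 1) := by
  classical
  haveI : Fintype G := Fintype.ofFinite _
  obtain ⟨n, ρ, hirr, rfl⟩ := hχ
  haveI := hirr
  have h1 := Cfsg.Agent.S0179.char_central_mul ρ ⟨z, hz⟩ 1
  rw [mul_one] at h1
  have h2 := Cfsg.Agent.S0179.centralHom_normSq ρ ⟨z, hz⟩
  rw [Complex.mul_conj] at h2
  have h3 : Complex.normSq (centralHom ρ ⟨z, hz⟩) = 1 := by exact_mod_cast h2
  change Complex.normSq (ρ.character z) = _
  rw [h1, Complex.normSq_mul, h3, one_mul]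

/-- **`|Z(G)| χ(1)² ≤ |G|`.** -/
theorem card_center_mul_sq_le (χ : IrrCharacter G) :
    Nat.card (Subgroup.center G) * charDegree (χ : G → ℂ) ^ 2 ≤ Nat.card G := by
  classical
  haveI : Fintype G := Fintype.ofFinite _
  have hne : (Nat.card G : ℂ) ≠ 0 := Nat.cast_ne_zero.2 Nat.card_pos.ne'
  have h1 := classInner_irr_self χ.2
  rw [classInner_def] at h1
  have h2 : ∑ g : G, (χ : G → ℂ) g * conj ((χ : G → ℂ) g) = (Nat.card G : ℂ) := by
    field_simp at h1
    exact h1
  have h3 : ∑ g : G, Complex.normSq ((χ : G → ℂ) g) = (Nat.card G : ℝ) := by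
    apply Complex.ofReal_injective
    rw [Complex.ofReal_sum, Complex.ofReal_natCast, ← h2]
    exact Finset.sum_congr rfl fun g _ => by rw [Complex.mul_conj]
  obtain ⟨hd, _⟩ := irr_apply_one_eq_charDegree χ.2
  have h4 : ∑ g ∈ Finset.univ.filter (fun g : G => g ∈ Subgroup.center G),
      Complex.normSq ((χ : G → ℂ) g)
      = (Nat.card (Subgroup.center G) : ℝ) * (charDegree (χ : G → ℂ) : ℝ) ^ 2 := by
    rw [Finset.sum_congr rfl (fun g hg => normSq_apply_central χ.2 (Finset.mem_filter.1 hg).2),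
      Finset.sum_const, nsmul_eq_mul, hd, Complex.normSq_natCast, sq]
    congr 1
    rw [Nat.card_eq_fintype_card, Fintype.card_subtype]
  have h5 : ∑ g ∈ Finset.univ.filter (fun g : G => g ∈ Subgroup.center G),
      Complex.normSq ((χ : G → ℂ) g) ≤ ∑ g : G, Complex.normSq ((χ : G → ℂ) g) :=
    Finset.sum_le_sum_of_subset_of_nonneg (Finset.filter_subset _ _)
      (fun g _ _ => Complex.normSq_nonneg _)
  rw [h3, h4] at h5
  exact_mod_cast h5

end

end Cfsg.Agent.Lib.Helper8
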