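import Mathlib
import Cfsg.Prelude.Def_Blocks
import Cfsg.Agent.Lib.Helper8.UP2
import Cfsg.Agent.Lib.Helper8.IM1
import Cfsg.Agent.Lib.Helper6.PPrimeCore

/-!
# A nilpotent group with a unique character of degree divisible by `p` is a `p`-group
-/

set_option autoImplicit false

namespace Cfsg.Agent.Lib.Helper8

open Cfsg
open scoped ComplexConjugate
open Cfsg.Agent.Lib.Helper1 Cfsg.Agent.Lib.Helper4 Cfsg.Agent.Lib.Helper6

universe u

section

variable {G : Type u} [Group G] [Finite G]

/-- In a nilpotent group the `p'`-core has `p`-power index. -/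
theorem index_pPrimeCore_of_nilpotent [Group.IsNilpotent G] (p : ℕ) [Fact p.Prime] :
    ∃ k : ℕ, (pPrimeCore p G).index = p ^ k := by
  have hp : p.Prime := Fact.out
  obtain ⟨hNn, hNc⟩ := pPrimeCore_mem_set (G := G) p
  refine ⟨_, Nat.eq_prime_pow_of_unique_prime_dvd Subgroup.index_ne_zero_of_finite ?_⟩
  intro q hq hqdvd
  by_contra hqp
  haveI : Fact q.Prime := ⟨hq⟩
  let Q : Sylow q G := default
  have hQcard := Q.card_eq_multiplicity
  have hQc : (Nat.card (Q : Subgroup G)).Coprime p := by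
    rw [hQcard]
    apply Nat.Coprime.pow_left
    exact (Nat.coprime_primes hq hp).2 hqp
  have hQle : (Q : Subgroup G) ≤ pPrimeCore p G := le_pPrimeCore inferInstance hQc
  have h1 : Nat.card (Q : Subgroup G) ∣ Nat.card (pPrimeCore p G) := Subgroup.card_dvd_of_le hQle
  have h2 : q * Nat.card (Q : Subgroup G) ∣ Nat.card G := by
    rw [← Subgroup.index_mul_card (pPrimeCore p G)]
    exact Nat.mul_dvd_mul hqdvd h1
  rw [hQcard, ← pow_succ'] at h2
  exact Nat.pow_succ_factorization_not_dvd Nat.card_pos.ne' hq h2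

/-- **A nilpotent group with a unique character of degree divisible by `p` is a `p`-group.** -/
theorem card_eq_pow_of_unique_nilpotent [Group.IsNilpotent G] (p : ℕ) [Fact p.Prime]
    (hone : Nat.card {χ : IrrCharacter G // p ∣ charDegree (χ : G → ℂ)} = 1) :
    ∃ a : ℕ, Nat.card G = p ^ a := by
  have hp : p.Prime := Fact.out
  obtain ⟨hNn, hNc⟩ := pPrimeCore_mem_set (G := G) p
  haveI : (pPrimeCore p G).Normal := hNn
  obtain ⟨k, hk⟩ := index_pPrimeCore_of_nilpotent (G := G) p
  by_cases hN1 : pPrimeCore p G = ⊥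
  · rw [hN1, Subgroup.index_bot] at hk
    exact ⟨k, hk⟩
  · exfalso
    have hcomm := commutator_le_of_unique p (pPrimeCore p G) ⟨k, hk⟩ hone hN1
    let P : Sylow p G := default
    have hcop : (Nat.card (pPrimeCore p G)).Coprime (Nat.card (P : Subgroup G)) := by
      rw [P.card_eq_multiplicity]
      exact Nat.Coprime.pow_right _ hNc
    have hinf : pPrimeCore p G ⊓ (P : Subgroup G) = ⊥ :=
      disjoint_iff.1 (Subgroup.disjoint_of_coprime_natCard hcop)
    have hPab : ∀ a ∈ (P : Subgroup G), ∀ b ∈ (P : Subgroup G), a * b = b * a := by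
      intro a ha b hb
      have h2 : a * b * a⁻¹ * b⁻¹ ∈ (P : Subgroup G) :=
        mul_mem (mul_mem (mul_mem ha hb) (inv_mem ha)) (inv_mem hb)
      have h3 : a * b * a⁻¹ * b⁻¹ ∈ pPrimeCore p G := by
        apply hcomm
        have := Subgroup.commutator_mem_commutator (H₁ := (⊤ : Subgroup G)) (H₂ := ⊤)
          (Subgroup.mem_top a) (Subgroup.mem_top b)
        rw [commutatorElement_def] at this
        exact this
      have h4 : a * b * a⁻¹ * b⁻¹ ∈ pPrimeCore p G ⊓ (P : Subgroup G) := ⟨h3, h2⟩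
      rw [hinf, Subgroup.mem_bot] at h4
      calc a * b = (a * b * a⁻¹ * b⁻¹) * (b * a) := by group
        _ = b * a := by rw [h4, one_mul]
    obtain ⟨-, ⟨χ₀, hχ₀⟩⟩ := Nat.card_eq_one_iff_unique.1 hone
    have h1 := charDegree_dvd_index_of_abelian (P : Subgroup G) hPab χ₀
    exact P.not_dvd_index (dvd_trans hχ₀ h1)

end

end Cfsg.Agent.Lib.Helper8
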