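import Mathlib
import Cfsg.Prelude.Def_Blocks
import Cfsg.Prelude.Def_Transfer
import Cfsg.Agent.Lib.Helper8.UP1
import Cfsg.Agent.Lib.Helper8.XS1
import Cfsg.Agent.Lib.Helper8.PC6
import Cfsg.Agent.Lib.Lead.Nilpotent
import Cfsg.Agent.Lib.Helper6.Frattini
import Cfsg.Agent.Lib.Helper2.FrattiniSocle

/-!
# A `p`-group with a unique nonlinear irreducible character is an extraspecial `2`-group
-/

set_option autoImplicit false

namespace Cfsg.Agent.Lib.Helper8

open Cfsg
open scoped ComplexConjugate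
open Cfsg.Agent.Lib.Helper1 Cfsg.Agent.Lib.Helper4

universe u

section

variable {G : Type u} [Group G] [Finite G]

/-- **The derived subgroup has order `p`** and is central. -/
theorem card_commutator_of_unique (p : ℕ) [Fact p.Prime] {a : ℕ} (hcard : Nat.card G = p ^ a)
    (hone : Nat.card {χ : IrrCharacter G // p ∣ charDegree (χ : G → ℂ)} = 1) :
    Nat.card (commutator G) = p ∧ commutator G ≤ Subgroup.center G := by
  classical
  haveI : Fintype G := Fintype.ofFinite _
  have hp : p.Prime := Fact.out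
  have hPG : IsPGroup p G := IsPGroup.of_card hcard
  haveI : Group.IsNilpotent G := hPG.isNilpotent
  obtain ⟨hsub, ⟨θ, hθ⟩⟩ := Nat.card_eq_one_iff_unique.1 hone
  have hdvd_of_ne : ∀ χ : IrrCharacter G, charDegree (χ : G → ℂ) ≠ 1 →
      p ∣ charDegree (χ : G → ℂ) := by
    intro χ hχ
    have h1 : charDegree (χ : G → ℂ) ∣ p ^ a := hcard ▸ charDegree_dvd_card χ.2
    obtain ⟨j, -, hj⟩ := (Nat.dvd_prime_pow hp).1 h1
    rw [hj]
    rcases Nat.eq_zero_or_pos j with h0 | h0
    · exfalso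
      rw [h0, pow_zero] at hj
      exact hχ hj
    · exact dvd_pow_self p h0.ne'
  have huniq : ∀ χ : IrrCharacter G, charDegree (χ : G → ℂ) ≠ 1 → χ = θ := by
    intro χ hχ
    have := hsub.elim ⟨χ, hdvd_of_ne χ hχ⟩ ⟨θ, hθ⟩
    exact congrArg Subtype.val this
  have hθ1 : charDegree (θ : G → ℂ) ≠ 1 := by
    intro h
    rw [h] at hθ
    exact hp.one_lt.ne' (Nat.dvd_one.1 hθ)
  -- the derived subgroup is not trivial
  have hcne : commutator G ≠ ⊥ := by
    intro h0
    apply hθ1
    apply charDegree_eq_one_of_comm G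
    intro x y
    have h5 := Subgroup.commutator_mem_commutator (H₁ := (⊤ : Subgroup G)) (H₂ := ⊤)
      (Subgroup.mem_top x) (Subgroup.mem_top y)
    rw [← commutator_def, h0, Subgroup.mem_bot] at h5
    exact commutatorElement_eq_one_iff_mul_comm.mp h5
  have hH := Cfsg.Agent.Lib.Lead.inf_center_ne_bot (commutator G) hcne
  -- an element of order `p` in `G' ∩ Z(G)`
  have hHp : p ∣ Nat.card (commutator G ⊓ Subgroup.center G : Subgroup G) := by
    obtain ⟨j, hj⟩ := (hPG.to_subgroup (commutator G ⊓ Subgroup.center G)).exists_card_eq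
    rw [hj]
    rcases Nat.eq_zero_or_pos j with h0 | h0
    · exfalso
      rw [h0, pow_zero] at hj
      exact hH (Subgroup.eq_bot_of_card_eq _ hj)
    · exact dvd_pow_self p h0.ne'
  obtain ⟨x, hx⟩ := exists_prime_orderOf_dvd_card' p hHp
  obtain ⟨z₀, hz₀def⟩ : ∃ z₀ : G, z₀ = (x : G) := ⟨_, rfl⟩
  have hz₀o : orderOf z₀ = p := by rw [hz₀def, Subgroup.orderOf_coe]; exact hx
  have hz₀c : z₀ ∈ commutator G := by rw [hz₀def]; exact (Subgroup.mem_inf.1 x.2).1
  have hz₀z : z₀ ∈ Subgroup.center G := by rw [hz₀def]; exact (Subgroup.mem_inf.1 x.2).2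
  have hz₀1 : z₀ ≠ 1 := by
    intro h
    rw [h, orderOf_one] at hz₀o
    exact hp.one_lt.ne hz₀o
  have hZ₀le : Subgroup.zpowers z₀ ≤ Subgroup.center G := by
    rw [Subgroup.zpowers_le]; exact hz₀z
  haveI hZ₀n : (Subgroup.zpowers z₀).Normal := by
    constructor
    intro n hn g
    have := Subgroup.mem_center_iff.1 (hZ₀le hn) g
    have h2 : g * n * g⁻¹ = n := by rw [this, mul_inv_cancel_right]
    rw [h2]; exact hn
  have hle : commutator G ≤ Subgroup.zpowers z₀ := by
    by_contra hB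
    obtain ⟨ψ₀, hψ₀⟩ := exists_irr_nonlinear_quot (Subgroup.zpowers z₀) hB
    have hdegβ : charDegree (inflIrr (Subgroup.zpowers z₀) ψ₀ : G → ℂ)
        = charDegree (ψ₀ : G ⧸ Subgroup.zpowers z₀ → ℂ) := by
      unfold charDegree
      rw [inflIrr_apply, QuotientGroup.mk_one]
    have hβθ : inflIrr (Subgroup.zpowers z₀) ψ₀ = θ := huniq _ (by rw [hdegβ]; exact hψ₀)
    have hθz : (θ : G → ℂ) z₀ = (θ : G → ℂ) 1 := by
      rw [← hβθ, inflIrr_apply, inflIrr_apply,
        (QuotientGroup.eq_one_iff z₀).2 (Subgroup.mem_zpowers z₀), QuotientGroup.mk_one]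
    obtain ⟨χ, hχ⟩ := exists_irr_apply_ne hz₀1
    apply hχ
    by_cases hχ1 : charDegree (χ : G → ℂ) = 1
    · have h1 : (χ : G → ℂ) 1 = 1 := by
        rw [(irr_apply_one_eq_charDegree χ.2).1, hχ1, Nat.cast_one]
      rw [linear_irr_commutator χ.2 h1 hz₀c, h1]
    · rw [huniq χ hχ1]; exact hθz
  have hcardc : Nat.card (commutator G) = p := by
    have h1 : Nat.card (commutator G) ∣ p := by
      have := Subgroup.card_dvd_of_le hle
      rwa [Nat.card_zpowers, hz₀o] at this
    rcases (Nat.dvd_prime hp).1 h1 with h2 | h2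
    · exact absurd (Subgroup.eq_bot_of_card_eq _ h2) hcne
    · exact h2
  exact ⟨hcardc, hle.trans hZ₀le⟩

end

end Cfsg.Agent.Lib.Helper8
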