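import Mathlib
import Cfsg.Prelude.Def_Blocks
import Cfsg.Prelude.Def_Transfer
import Cfsg.Agent.Lib.Helper8.XS3
import Cfsg.Agent.Lib.Helper8.LinearCount

/-!
# A `p`-group with a unique nonlinear irreducible character is an extraspecial `2`-group, II
-/

set_option autoImplicit false

namespace Cfsg.Agent.Lib.Helper8

open Cfsg
open scoped ComplexConjugate
open Cfsg.Agent.Lib.Helper1 Cfsg.Agent.Lib.Helper4

universe u

section

variable {G : Type u} [Group G] [Finite G]

/-- the sum of squares of the degrees, with a unique nonlinear character -/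
theorem index_add_sq_of_unique (p : ℕ) [Fact p.Prime] {a : ℕ} (hcard : Nat.card G = p ^ a)
    (hone : Nat.card {χ : IrrCharacter G // p ∣ charDegree (χ : G → ℂ)} = 1) :
    ∃ θ : IrrCharacter G, p ∣ charDegree (θ : G → ℂ) ∧
      (commutator G).index + charDegree (θ : G → ℂ) ^ 2 = Nat.card G := by
  classical
  haveI : Fintype G := Fintype.ofFinite _
  haveI : Fintype (IrrCharacter G) := Fintype.ofFinite _
  have hp : p.Prime := Fact.out
  obtain ⟨hsub, ⟨θ, hθ⟩⟩ := Nat.card_eq_one_iff_unique.1 hone
  refine ⟨θ, hθ, ?_⟩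
  have hdvd_of_ne : ∀ χ : IrrCharacter G, charDegree (χ : G → ℂ) ≠ 1 →
      p ∣ charDegree (χ : G → ℂ) := by
    intro χ hχ
    have h1 : charDegree (χ : G → ℂ) ∣ p ^ a := hcard ▸ charDegree_dvd_card χ.2
    obtain ⟨j, -, hj⟩ := (Nat.dvd_prime_pow hp).1 h1
    rw [hj]
    rcases Nat.eq_zero_or_pos j with h0 | h0
    · exfalso
      rw [h0, pow_zero] at hj
      exact hχ hj
    · exact dvd_pow_self p h0.ne'
  have huniq : ∀ χ : IrrCharacter G, charDegree (χ : G → ℂ) ≠ 1 → χ = θ := by
    intro χ hχ
    have := hsub.elim ⟨χ, hdvd_of_ne χ hχ⟩ ⟨θ, hθ⟩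
    exact congrArg Subtype.val this
  have hθ1 : charDegree (θ : G → ℂ) ≠ 1 := by
    intro h
    rw [h] at hθ
    exact hp.one_lt.ne' (Nat.dvd_one.1 hθ)
  have hsum := sum_charDegree_sq G
  rw [← Finset.sum_filter_add_sum_filter_not Finset.univ
    (fun χ : IrrCharacter G => charDegree (χ : G → ℂ) = 1)] at hsum
  have h1 : ∑ χ ∈ Finset.univ.filter (fun χ : IrrCharacter G => charDegree (χ : G → ℂ) = 1),
      charDegree (χ : G → ℂ) ^ 2 = (commutator G).index := by
    rw [Finset.sum_congr rfl (fun χ hχ => by rw [(Finset.mem_filter.1 hχ).2, one_pow]),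
      Finset.sum_const, smul_eq_mul, mul_one, ← card_linear_irr, Nat.card_eq_fintype_card,
      Fintype.card_subtype]
    congr 1
    ext χ
    simp only [Finset.mem_filter, Finset.mem_univ, true_and]
    rw [(irr_apply_one_eq_charDegree χ.2).1]
    constructor
    · intro h; rw [h, Nat.cast_one]
    · intro h; exact_mod_cast h
  have h2 : Finset.univ.filter (fun χ : IrrCharacter G => ¬ charDegree (χ : G → ℂ) = 1) = {θ} := by
    ext χ
    simp only [Finset.mem_filter, Finset.mem_univ, true_and, Finset.mem_singleton]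
    constructor
    · exact huniq χ
    · intro h; rw [h]; exact hθ1
  rw [h1, h2, Finset.sum_singleton] at hsum
  exact hsum

/-- **Main theorem for `p`-groups.** -/
theorem extraspecial_of_unique_pgroup (p : ℕ) [Fact p.Prime] {a : ℕ} (hcard : Nat.card G = p ^ a)
    (hone : Nat.card {χ : IrrCharacter G // p ∣ charDegree (χ : G → ℂ)} = 1) :
    p = 2 ∧ IsExtraspecial 2 G := by
  classical
  have hp : p.Prime := Fact.out
  have hPG : IsPGroup p G := IsPGroup.of_card hcard
  haveI : Group.IsNilpotent G := hPG.isNilpotent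
  obtain ⟨hcc, hcz⟩ := card_commutator_of_unique p hcard hone
  obtain ⟨θ, hθ, hsq⟩ := index_add_sq_of_unique p hcard hone
  set d := charDegree (θ : G → ℂ) with hd
  set m := (commutator G).index with hm
  have hpm : p * m = Nat.card G := by
    rw [← hcc, hm]; exact Subgroup.card_mul_index _
  -- `p = 2`
  have h1 : (p - 1) * m = d ^ 2 := by
    have hp1 : 1 ≤ p := hp.one_lt.le
    have : p * m = m + d ^ 2 := by rw [hpm, hsq]
    have h2 : (p - 1) * m + m = p * m := by
      rw [← Nat.succ_mul, Nat.succ_eq_add_one, Nat.sub_add_cancel hp1]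
    omega
  have hdpow : ∃ e, d = p ^ e := by
    have h2 : d ∣ p ^ a := hcard ▸ charDegree_dvd_card θ.2
    obtain ⟨j, -, hj⟩ := (Nat.dvd_prime_pow hp).1 h2
    exact ⟨j, hj⟩
  obtain ⟨e, he⟩ := hdpow
  have hp2 : p = 2 := by
    have h2 : (p - 1) ∣ p ^ (2 * e) := by
      rw [pow_mul', ← he]
      exact Dvd.intro _ h1
    have h3 : Nat.Coprime (p - 1) (p ^ (2 * e)) := by
      apply Nat.Coprime.pow_right
      rw [Nat.coprime_comm, Nat.Prime.coprime_iff_not_dvd hp]
      intro h4
      have h5 : p ≤ p - 1 := Nat.le_of_dvd (by have := hp.two_le; omega) h4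
      have := hp.two_le
      omega
    have h4 := Nat.Coprime.eq_one_of_dvd h3 h2
    omega
  subst hp2
  refine ⟨rfl, ?_⟩
  have hmd : m = d ^ 2 := by simpa using h1
  -- the centre
  have hZle : Nat.card (Subgroup.center G) ≤ 2 := by
    have h2 := card_center_mul_sq_le θ
    rw [← hd, ← hpm, hmd] at h2
    have hdpos : 0 < d ^ 2 := by
      have : 0 < d := (irr_apply_one_eq_charDegree θ.2).2
      positivity
    exact Nat.le_of_mul_le_mul_right h2 hdpos
  have hcz' : commutator G = Subgroup.center G :=
    Subgroup.eq_of_le_of_card_ge hcz (by rw [hcc]; exact hZle)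
  have hZcard : Nat.card (Subgroup.center G) = 2 := by rw [← hcz', hcc]
  -- the Frattini subgroup
  have hfr1 : commutator G ≤ frattini G :=
    Cfsg.Agent.Lib.Helper2.FrattiniSocle.commutator_le_frattini_of_nilpotent
  have hfr2 : frattini G ≤ commutator G := by
    apply Cfsg.Agent.Lib.Helper6.frattini_le_of_elemAb (p := 2) (commutator G)
    · intro x y
      rw [commutator_def]
      exact Subgroup.commutator_mem_commutator (Subgroup.mem_top x) (Subgroup.mem_top y)
    · intro x
      rw [hcz', Subgroup.mem_center_iff]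
      intro y
      -- `x² y = y x²`
      obtain ⟨c, hcdef⟩ : ∃ c : G, c = x * y * x⁻¹ * y⁻¹ := ⟨_, rfl⟩
      have hcmem : c ∈ commutator G := by
        have := Subgroup.commutator_mem_commutator (H₁ := (⊤ : Subgroup G)) (H₂ := ⊤)
          (Subgroup.mem_top x) (Subgroup.mem_top y)
        rw [commutatorElement_def, ← commutator_def] at this
        rw [hcdef]; exact this
      have hccen : ∀ g : G, g * c = c * g := fun g => Subgroup.mem_center_iff.1 (hcz hcmem) g
      have hc2 : c * c = 1 := by
        have h3 : (⟨c, hcmem⟩ : commutator G) ^ Nat.card (commutator G) = 1 := pow_card_eq_one'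
        rw [hcc] at h3
        have h4 := congrArg Subtype.val h3
        simpa [pow_two] using h4
      have hxy : x * y = c * (y * x) := by rw [hcdef]; group
      calc y * x ^ 2 = y * x * x := by rw [pow_two, mul_assoc]
        _ = (c * c) * (y * x * x) := by rw [hc2, one_mul]
        _ = c * ((c * (y * x)) * x) := by simp only [mul_assoc]
        _ = c * ((x * y) * x) := by rw [← hxy]
        _ = (c * x) * (y * x) := by simp only [mul_assoc]
        _ = (x * c) * (y * x) := by rw [hccen x]
        _ = x * (c * (y * x)) := by simp only [mul_assoc]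
        _ = x * (x * y) := by rw [← hxy]
        _ = x ^ 2 * y := by rw [pow_two, mul_assoc]
  have hfr : frattini G = commutator G := le_antisymm hfr2 hfr1
  exact ⟨⟨hPG, hfr.trans hcz', hcz'⟩, hZcard⟩

end

end Cfsg.Agent.Lib.Helper8
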