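import Mathlib
import Cfsg.Prelude.Def_Blocks
import Cfsg.Prelude.Def_Transfer
import Cfsg.Agent.Lib.Helper8.XS2
import Cfsg.Agent.Lib.Helper8.XS4
import Cfsg.Agent.S0095
import Cfsg.Agent.S0894

/-!
# Nilpotent groups with a unique character of degree divisible by `p`
-/

set_option autoImplicit false

namespace Cfsg.Agent.Lib.Helper8

open Cfsg
open scoped ComplexConjugate
open Cfsg.Agent.Lib.Helper1 Cfsg.Agent.Lib.Helper4

universe u

section

variable {G : Type u} [Group G] [Finite G]

/-- An extraspecial `2`-group has exactly one irreducible character of even degree. -/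
theorem card_even_degree_of_extraspecial [hf : Fact (Nat.Prime 2)] (h : IsExtraspecial 2 G) :
    Nat.card {χ : IrrCharacter G // 2 ∣ charDegree (χ : G → ℂ)} = 1 := by
  obtain ⟨n, hn, hcard⟩ := Cfsg.Agent.S0095.result h
  obtain ⟨hdeg, hcount⟩ := Cfsg.Agent.S0894.result 2 n h hcard
  have h21 : 2 - 1 = 1 := rfl
  rw [h21] at hcount
  rw [← hcount]
  apply Nat.card_congr
  apply Equiv.subtypeEquivRight
  intro χ
  have hd := (irr_apply_one_eq_charDegree χ.2).1
  constructor
  · intro h2
    rcases hdeg χ with h1 | h1
    · exfalso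
      rw [hd] at h1
      have : charDegree (χ : G → ℂ) = 1 := by exact_mod_cast h1
      rw [this] at h2
      norm_num at h2
    · exact_mod_cast h1
  · intro h1
    rw [hd] at h1
    have : charDegree (χ : G → ℂ) = 2 ^ n := by exact_mod_cast h1
    rw [this]
    exact dvd_pow_self 2 (by omega)

theorem unique_iff_extraspecial [Group.IsNilpotent G] (p : ℕ) [Fact p.Prime] :
    Nat.card {χ : IrrCharacter G // p ∣ charDegree (χ : G → ℂ)} = 1 ↔
      (p = 2 ∧ IsExtraspecial 2 G) := by
  constructor
  · intro hone
    obtain ⟨a, ha⟩ := card_eq_pow_of_unique_nilpotent p hone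
    exact extraspecial_of_unique_pgroup p ha hone
  · rintro ⟨rfl, h⟩
    exact card_even_degree_of_extraspecial h

end

end Cfsg.Agent.Lib.Helper8
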