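import Mathlib
import Cfsg.Agent.Lib.Helper8.ZS7
import Cfsg.Agent.Lib.Helper8.SylowConj

/-!
# A consequence of the Z*-theorem: central intersections of Sylow 2-subgroups

If any two distinct Sylow `2`-subgroups meet in a subgroup central in some Sylow `2`-subgroup, then the
involution of a cyclic characteristic subgroup of a Sylow `2`-subgroup is isolated.
-/

set_option autoImplicit false
set_option maxHeartbeats 1600000

namespace Cfsg.Agent.Lib.Helper8

open Cfsg

universe u

section

variable {G : Type u} [Group G] [Finite G] (S : Sylow 2 G) (C : Subgroup ↥(S : Subgroup G))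

omit [Finite G] in
/-- A cyclic group has at most one involution. -/
theorem zc_unique_inv [Finite ↥C] (hCc : IsCyclic ↥C) {c d : ↥(S : Subgroup G)} (hc : c ∈ C)
    (hc2 : orderOf c = 2) (hd : d ∈ C) (hd2 : orderOf d = 2) : d = c := by
  classical
  haveI : Fintype ↥C := Fintype.ofFinite _
  by_contra hne
  have hcc : (⟨c, hc⟩ : C) ^ 2 = 1 := by
    apply Subtype.ext
    have := pow_orderOf_eq_one c
    rw [hc2] at this
    simpa using this
  have hdd : (⟨d, hd⟩ : C) ^ 2 = 1 := by
    apply Subtype.ext
    have := pow_orderOf_eq_one d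
    rw [hd2] at this
    simpa using this
  have hc1 : (⟨c, hc⟩ : C) ≠ 1 := by
    intro h
    have : c = 1 := congrArg Subtype.val h
    rw [this, orderOf_one] at hc2
    omega
  have hd1 : (⟨d, hd⟩ : C) ≠ 1 := by
    intro h
    have : d = 1 := congrArg Subtype.val h
    rw [this, orderOf_one] at hd2
    omega
  have hcd : (⟨d, hd⟩ : C) ≠ ⟨c, hc⟩ := by
    intro h
    exact hne (congrArg Subtype.val h)
  have hle := IsCyclic.card_pow_eq_one_le (α := ↥C) (n := 2) (by norm_num)
  have hsub : ({1, ⟨c, hc⟩, ⟨d, hd⟩} : Finset ↥C) ⊆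
      Finset.univ.filter (fun a : ↥C => a ^ 2 = 1) := by
    intro a ha
    rw [Finset.mem_filter]
    refine ⟨Finset.mem_univ _, ?_⟩
    simp only [Finset.mem_insert, Finset.mem_singleton] at ha
    rcases ha with rfl | rfl | rfl
    · exact one_pow 2
    · exact hcc
    · exact hdd
  have h3 : ({1, ⟨c, hc⟩, ⟨d, hd⟩} : Finset ↥C).card = 3 := by
    rw [Finset.card_insert_of_notMem, Finset.card_insert_of_notMem, Finset.card_singleton]
    · simp only [Finset.mem_singleton]
      exact fun h => hcd h.symm
    · simp only [Finset.mem_insert, Finset.mem_singleton, not_or]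
      exact ⟨fun h => hc1 h.symm, fun h => hd1 h.symm⟩
  have := Finset.card_le_card hsub
  omega

/-- An element of `G` mapping `S` into itself by conjugation fixes the involution of `C`. -/
theorem zc_conj_fix (hCc : IsCyclic ↥C) (hCh : C.Characteristic) {c : ↥(S : Subgroup G)}
    (hc : c ∈ C) (hc2 : orderOf c = 2) (n : G)
    (hn : ∀ s ∈ (S : Subgroup G), n * s * n⁻¹ ∈ (S : Subgroup G)) :
    n * (c : G) * n⁻¹ = (c : G) := by
  let f : ↥(S : Subgroup G) →* ↥(S : Subgroup G) :=
    { toFun := fun s => ⟨n * s * n⁻¹, hn s s.2⟩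
      map_one' := by
        apply Subtype.ext
        simp
      map_mul' := by
        intro a b
        apply Subtype.ext
        simp }
  have hinj : Function.Injective f := by
    intro a b hab
    have h1 : n * (a : G) * n⁻¹ = n * (b : G) * n⁻¹ := congrArg Subtype.val hab
    exact Subtype.ext (mul_left_cancel (mul_right_cancel h1))
  have hbij := Finite.injective_iff_bijective.1 hinj
  have h1 := hCh.fixed (MulEquiv.ofBijective f hbij)
  have h2 : (MulEquiv.ofBijective f hbij) c ∈ C := by
    have : c ∈ C.comap (MulEquiv.ofBijective f hbij).toMonoidHom := by rw [h1]; exact hc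
    exact this
  have h3 : orderOf ((MulEquiv.ofBijective f hbij) c) = 2 := by
    rw [MulEquiv.orderOf_eq]; exact hc2
  have h4 := zc_unique_inv S C hCc hc hc2 h2 h3
  exact congrArg Subtype.val h4

/-- The involution of `C` is central in `S`. -/
theorem zc_central (hCc : IsCyclic ↥C) (hCh : C.Characteristic) {c : ↥(S : Subgroup G)}
    (hc : c ∈ C) (hc2 : orderOf c = 2) (s : G) (hs : s ∈ (S : Subgroup G)) :
    Commute (c : G) s := by
  have h1 := zc_conj_fix S C hCc hCh hc hc2 s
    (fun t ht => Subgroup.mul_mem _ (Subgroup.mul_mem _ hs ht) (Subgroup.inv_mem _ hs))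
  have : s * (c : G) = (c : G) * s := by
    calc s * (c : G) = (s * (c : G) * s⁻¹) * s := by group
      _ = (c : G) * s := by rw [h1]
  exact this.symm

end

end Cfsg.Agent.Lib.Helper8
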