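import Mathlib
import Cfsg.Agent.Lib.Helper8.ZC1

/-!
# Central intersections of Sylow 2-subgroups: the involution of a cyclic characteristic subgroup
-/

set_option autoImplicit false
set_option maxHeartbeats 1600000

namespace Cfsg.Agent.Lib.Helper8

open Cfsg

universe u

section

variable {G : Type u} [Group G] [Finite G] (S : Sylow 2 G) (C : Subgroup ↥(S : Subgroup G))

omit [Finite G] in
theorem zc_mem_smul {g t : G} (ht : t ∈ ((g • S : Sylow 2 G) : Subgroup G)) :
    ∃ s ∈ (S : Subgroup G), t = g * s * g⁻¹ := by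
  rw [Sylow.coe_subgroup_smul] at ht
  obtain ⟨s, hs, rfl⟩ := (Subgroup.mem_smul_pointwise_iff_exists _ _ _).1 ht
  exact ⟨s, hs, by simp [MulAut.smul_def]⟩

omit [Finite G] in
theorem zc_smul_mem {g s : G} (hs : s ∈ (S : Subgroup G)) :
    g * s * g⁻¹ ∈ ((g • S : Sylow 2 G) : Subgroup G) := by
  rw [Sylow.coe_subgroup_smul]
  have := Subgroup.smul_mem_pointwise_smul s (MulAut.conj g) (S : Subgroup G) hs
  simpa [MulAut.smul_def] using this

/-- If the conjugate `g c g⁻¹` is central in the Sylow subgroup `x S x⁻¹`, it is `x c x⁻¹`. -/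
theorem zc_key (hCc : IsCyclic ↥C) (hCh : C.Characteristic) {c : ↥(S : Subgroup G)}
    (hc : c ∈ C) (hc2 : orderOf c = 2) (g x : G)
    (hU : ∀ s ∈ (S : Subgroup G), Commute (g * (c : G) * g⁻¹) (x * s * x⁻¹)) :
    x * (c : G) * x⁻¹ = g * (c : G) * g⁻¹ := by
  haveI : Fact (Nat.Prime 2) := ⟨Nat.prime_two⟩
  have hcZ := zc_central S C hCc hCh hc hc2
  have hT : ((g • S : Sylow 2 G) : Subgroup G) ≤
      Subgroup.centralizer ({g * (c : G) * g⁻¹} : Set G) := by
    intro t ht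
    obtain ⟨s, hs, rfl⟩ := zc_mem_smul S ht
    rw [Subgroup.mem_centralizer_singleton_iff]
    have := (hcZ s hs).eq
    calc g * s * g⁻¹ * (g * (c : G) * g⁻¹) = g * (s * (c : G)) * g⁻¹ := by group
      _ = g * ((c : G) * s) * g⁻¹ := by rw [this]
      _ = g * (c : G) * g⁻¹ * (g * s * g⁻¹) := by group
  have hU' : ((x • S : Sylow 2 G) : Subgroup G) ≤
      Subgroup.centralizer ({g * (c : G) * g⁻¹} : Set G) := by
    intro t ht
    obtain ⟨s, hs, rfl⟩ := zc_mem_smul S ht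
    rw [Subgroup.mem_centralizer_singleton_iff]
    exact (hU s hs).eq.symm
  obtain ⟨h, hhH, hle⟩ := exists_conj_sylow_ge
    (Subgroup.centralizer ({g * (c : G) * g⁻¹} : Set G)) ((g • S : Sylow 2 G).subtype hT)
    (x • S : Sylow 2 G).isPGroup' hU'
  have hD : (((g • S : Sylow 2 G).subtype hT : Sylow 2 _) : Subgroup
      (Subgroup.centralizer ({g * (c : G) * g⁻¹} : Set G))).map
      (Subgroup.centralizer ({g * (c : G) * g⁻¹} : Set G)).subtype =
      ((g • S : Sylow 2 G) : Subgroup G) := by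
    rw [Sylow.coe_subtype]
    exact Subgroup.map_subgroupOf_eq_of_le hT
  rw [hD] at hle
  have hn : ∀ s ∈ (S : Subgroup G), ((h * g)⁻¹ * x) * s * ((h * g)⁻¹ * x)⁻¹ ∈ (S : Subgroup G) := by
    intro s hs
    obtain ⟨t, ht, hts⟩ := hle (zc_smul_mem S (g := x) hs)
    obtain ⟨s', hs', rfl⟩ := zc_mem_smul S ht
    have e : ((h * g)⁻¹ * x) * s * ((h * g)⁻¹ * x)⁻¹ = s' := by
      have h1 : h * (g * s' * g⁻¹) * h⁻¹ = x * s * x⁻¹ := by
        simpa using hts
      calc ((h * g)⁻¹ * x) * s * ((h * g)⁻¹ * x)⁻¹ = (h * g)⁻¹ * (x * s * x⁻¹) * (h * g) := by group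
        _ = (h * g)⁻¹ * (h * (g * s' * g⁻¹) * h⁻¹) * (h * g) := by rw [h1]
        _ = s' := by group
    rw [e]; exact hs'
  have h1 := zc_conj_fix S C hCc hCh hc hc2 _ hn
  have h2 : h * (g * (c : G) * g⁻¹) = (g * (c : G) * g⁻¹) * h :=
    Subgroup.mem_centralizer_singleton_iff.1 hhH
  calc x * (c : G) * x⁻¹
      = (h * g) * (((h * g)⁻¹ * x) * (c : G) * ((h * g)⁻¹ * x)⁻¹) * (h * g)⁻¹ := by group
    _ = (h * g) * (c : G) * (h * g)⁻¹ := by rw [h1]
    _ = (h * (g * (c : G) * g⁻¹)) * h⁻¹ := by group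
    _ = g * (c : G) * g⁻¹ := by rw [h2]; group

/-- Under the central-intersection hypothesis, the only conjugate of `c` in `S` is `c`. -/
theorem zc_weakly_closed
    (hCI : ∀ S T : Sylow 2 G, S ≠ T → ∃ U : Sylow 2 G,
      (S : Subgroup G) ⊓ (T : Subgroup G) ≤
        (Subgroup.center ↥(U : Subgroup G)).map (U : Subgroup G).subtype)
    (hCc : IsCyclic ↥C) (hCh : C.Characteristic) {c : ↥(S : Subgroup G)}
    (hc : c ∈ C) (hc2 : orderOf c = 2) (g : G) (hg : g * (c : G) * g⁻¹ ∈ (S : Subgroup G)) :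
    g * (c : G) * g⁻¹ = (c : G) := by
  haveI : Fact (Nat.Prime 2) := ⟨Nat.prime_two⟩
  have hcZ := zc_central S C hCc hCh hc hc2
  have hT : ((g • S : Sylow 2 G) : Subgroup G) ≤
      Subgroup.centralizer ({g * (c : G) * g⁻¹} : Set G) := by
    intro t ht
    obtain ⟨s, hs, rfl⟩ := zc_mem_smul S ht
    rw [Subgroup.mem_centralizer_singleton_iff]
    have := (hcZ s hs).eq
    calc g * s * g⁻¹ * (g * (c : G) * g⁻¹) = g * (s * (c : G)) * g⁻¹ := by group
      _ = g * ((c : G) * s) * g⁻¹ := by rw [this]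
      _ = g * (c : G) * g⁻¹ * (g * s * g⁻¹) := by group
  have hcR : Subgroup.zpowers (c : G) ≤ Subgroup.centralizer ({g * (c : G) * g⁻¹} : Set G) := by
    rw [Subgroup.zpowers_le, Subgroup.mem_centralizer_singleton_iff]
    exact (hcZ _ hg).eq
  have hcP : IsPGroup 2 (Subgroup.zpowers (c : G)) := by
    apply IsPGroup.of_card (n := 1)
    rw [Nat.card_zpowers, pow_one, Subgroup.orderOf_coe]; exact hc2
  obtain ⟨h, hhH, hle⟩ := exists_conj_sylow_ge
    (Subgroup.centralizer ({g * (c : G) * g⁻¹} : Set G)) ((g • S : Sylow 2 G).subtype hT) hcP hcR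
  have hD : (((g • S : Sylow 2 G).subtype hT : Sylow 2 _) : Subgroup
      (Subgroup.centralizer ({g * (c : G) * g⁻¹} : Set G))).map
      (Subgroup.centralizer ({g * (c : G) * g⁻¹} : Set G)).subtype =
      ((g • S : Sylow 2 G) : Subgroup G) := by
    rw [Sylow.coe_subtype]
    exact Subgroup.map_subgroupOf_eq_of_le hT
  rw [hD] at hle
  obtain ⟨t, ht, htc⟩ := hle (Subgroup.mem_zpowers (c : G))
  obtain ⟨s₀, hs₀, rfl⟩ := zc_mem_smul S ht
  have htc' : (h * g) * s₀ * (h * g)⁻¹ = (c : G) := by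
    have : h * (g * s₀ * g⁻¹) * h⁻¹ = (c : G) := by simpa using htc
    rw [← this]; group
  have h2 : h * (g * (c : G) * g⁻¹) = (g * (c : G) * g⁻¹) * h :=
    Subgroup.mem_centralizer_singleton_iff.1 hhH
  have hg' : (h * g) * (c : G) * (h * g)⁻¹ = g * (c : G) * g⁻¹ := by
    calc (h * g) * (c : G) * (h * g)⁻¹ = (h * (g * (c : G) * g⁻¹)) * h⁻¹ := by group
      _ = g * (c : G) * g⁻¹ := by rw [h2]; group
  by_cases hST : S = ((h * g) • S : Sylow 2 G)
  · -- `h * g` normalizes `S`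
    have hn : ∀ s ∈ (S : Subgroup G), (h * g) * s * (h * g)⁻¹ ∈ (S : Subgroup G) := by
      intro s hs
      have := zc_smul_mem S (g := h * g) hs
      rw [← hST] at this
      exact this
    rw [← hg']
    exact zc_conj_fix S C hCc hCh hc hc2 _ hn
  · obtain ⟨U, hUle⟩ := hCI S ((h * g) • S : Sylow 2 G) hST
    obtain ⟨x, hx⟩ := MulAction.exists_smul_eq G S U
    have hcen : ∀ y : G, y ∈ (S : Subgroup G) → y ∈ (((h * g) • S : Sylow 2 G) : Subgroup G) →
        ∀ s ∈ (S : Subgroup G), Commute y (x * s * x⁻¹) := by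
      intro y hy1 hy2 s hs
      obtain ⟨z, hz, hzy⟩ := hUle ⟨hy1, hy2⟩
      have hsU : x * s * x⁻¹ ∈ (U : Subgroup G) := by
        rw [← hx]; exact zc_smul_mem S hs
      have := Subgroup.mem_center_iff.1 hz ⟨x * s * x⁻¹, hsU⟩
      have h3 := congrArg Subtype.val this
      simp only [Subgroup.coe_mul] at h3
      rw [← hzy]
      exact h3.symm
    have k1 := zc_key S C hCc hCh hc hc2 1 x (by
      intro s hs
      have hc1 : (c : G) ∈ (((h * g) • S : Sylow 2 G) : Subgroup G) := by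
        rw [← htc']; exact zc_smul_mem S hs₀
      have := hcen (c : G) c.2 hc1 s hs
      simpa using this)
    have k2 := zc_key S C hCc hCh hc hc2 (h * g) x (by
      intro s hs
      have hc1 : (h * g) * (c : G) * (h * g)⁻¹ ∈ (((h * g) • S : Sylow 2 G) : Subgroup G) :=
        zc_smul_mem S c.2
      have hc0 : (h * g) * (c : G) * (h * g)⁻¹ ∈ (S : Subgroup G) := by rw [hg']; exact hg
      exact hcen _ hc0 hc1 s hs)
    rw [← hg', ← k2, k1]
    simp

/-- The involution of a cyclic characteristic subgroup of `S` is central modulo `O(G)`. -/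
theorem zc_main
    (hCI : ∀ S T : Sylow 2 G, S ≠ T → ∃ U : Sylow 2 G,
      (S : Subgroup G) ⊓ (T : Subgroup G) ≤
        (Subgroup.center ↥(U : Subgroup G)).map (U : Subgroup G).subtype)
    (hCc : IsCyclic ↥C) (hCh : C.Characteristic) {c : ↥(S : Subgroup G)}
    (hc : c ∈ C) (hc2 : orderOf c = 2) (g : G) :
    (QuotientGroup.mk (s := Cfsg.oddCore G) (g * (c : G) * g⁻¹)) =
      QuotientGroup.mk (s := Cfsg.oddCore G) (c : G) := by
  have hc2' : orderOf (c : G) = 2 := by rw [Subgroup.orderOf_coe]; exact hc2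
  have hz := zs_isolated_of_sylow S hc2'
    (fun g hg => zc_weakly_closed S C hCI hCc hCh hc hc2 g hg)
  have h1 := zstar_pPrimeCore hz g
  obtain ⟨hn, -⟩ := Cfsg.Agent.Lib.Helper6.pPrimeCore_mem_set (G := G) 2
  rw [QuotientGroup.eq]
  have h2 := hn.conj_mem _ h1 (c : G)⁻¹
  have e : (c : G)⁻¹ * ((c : G) * g * (c : G)⁻¹ * g⁻¹) * (c : G)⁻¹⁻¹ =
      (g * (c : G) * g⁻¹)⁻¹ * (c : G) := by group
  rw [e] at h2
  exact h2

end

end Cfsg.Agent.Lib.Helper8
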