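import Mathlib
import Cfsg.Agent.Lib.Lead.ClassTwo
import Cfsg.Agent.Lib.Lead.ZJ5

set_option autoImplicit false

/-!
A `p'`-element normalizing a `p`-group `B` of class at most two (`p` odd) and centralizing all its
elements of order dividing `p` centralizes `B`.
-/

namespace Cfsg.Agent.Lib.Helper8

namespace ZE

open scoped commutatorElement

variable {G : Type*} [Group G]

/-- the power formula when the commutator commutes with both elements -/
theorem mul_pow_of_commute (x y : G) (hx : Commute ⁅y, x⁆ x) (hy : Commute ⁅y, x⁆ y) (n : ℕ) :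
    (x * y) ^ n = x ^ n * y ^ n * ⁅y, x⁆ ^ (n.choose 2) := by
  induction n with
  | zero => simp
  | succ n ih =>
    have hcp : ∀ k : ℕ, Commute (⁅y, x⁆ ^ k) x := fun k => hx.pow_left k
    have hcq : ∀ k : ℕ, Commute (⁅y, x⁆ ^ k) y := fun k => hy.pow_left k
    have h1 : y ^ n * x = x * y ^ n * ⁅y, x⁆ ^ n := by
      have h2 : ⁅y ^ n, x⁆ = ⁅y, x⁆ ^ n :=
        Cfsg.Agent.Lib.Lead.commutatorElement_pow_left y x hy n
      have h3 : y ^ n * x = ⁅y ^ n, x⁆ * x * y ^ n := by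
        rw [commutatorElement_def]; group
      rw [h3, h2, (hcp n).eq, mul_assoc, ((hcq n).pow_right n).eq, ← mul_assoc]
    have hch : (n + 1).choose 2 = n.choose 2 + n := by
      rw [Nat.choose_succ_succ' n 1, Nat.choose_one_right, add_comm]
    have hc2 : Commute (⁅y, x⁆ ^ (n.choose 2)) (x * y) := (hcp _).mul_right (hcq _)
    calc (x * y) ^ (n + 1) = (x * y) ^ n * (x * y) := pow_succ _ _
      _ = x ^ n * y ^ n * ⁅y, x⁆ ^ (n.choose 2) * (x * y) := by rw [ih]
      _ = x ^ n * y ^ n * (x * y) * ⁅y, x⁆ ^ (n.choose 2) := by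
        rw [mul_assoc (x ^ n * y ^ n), hc2.eq, ← mul_assoc]
      _ = x ^ n * (y ^ n * x) * y * ⁅y, x⁆ ^ (n.choose 2) := by group
      _ = x ^ n * (x * y ^ n * ⁅y, x⁆ ^ n) * y * ⁅y, x⁆ ^ (n.choose 2) := by rw [h1]
      _ = x ^ n * x * y ^ n * (⁅y, x⁆ ^ n * y) * ⁅y, x⁆ ^ (n.choose 2) := by group
      _ = x ^ n * x * y ^ n * (y * ⁅y, x⁆ ^ n) * ⁅y, x⁆ ^ (n.choose 2) := by rw [(hcq n).eq]
      _ = (x ^ n * x) * (y ^ n * y) * (⁅y, x⁆ ^ n * ⁅y, x⁆ ^ (n.choose 2)) := by
        simp only [mul_assoc]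
      _ = x ^ (n + 1) * y ^ (n + 1) * ⁅y, x⁆ ^ ((n + 1).choose 2) := by
        rw [← pow_succ, ← pow_succ, ← pow_add, hch, add_comm (n.choose 2) n]

/-- for odd `p`: `(xy)^p = x^p y^p` when `⁅y, x⁆` commutes with `x`, `y` and has order dividing `p` -/
theorem mul_pow_prime_of_commute {p : ℕ} [hp : Fact p.Prime] (hp2 : p ≠ 2) (x y : G)
    (hx : Commute ⁅y, x⁆ x) (hy : Commute ⁅y, x⁆ y) (hc : ⁅y, x⁆ ^ p = 1) :
    (x * y) ^ p = x ^ p * y ^ p := by
  rw [mul_pow_of_commute x y hx hy p]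
  have h3 : 2 < p := lt_of_le_of_ne hp.out.two_le (Ne.symm hp2)
  obtain ⟨k, hk⟩ := Nat.Prime.dvd_choose_self hp.out (by norm_num : (2 : ℕ) ≠ 0) h3
  rw [hk, pow_mul, hc, one_pow, mul_one]

/-- the stability argument -/
theorem commute_of_commute_comm {p : ℕ} [Fact p.Prime] [Finite G] {B : Subgroup G}
    (hB : IsPGroup p B) (w : G) (hw : (orderOf w).Coprime p) (x : G)
    (he : x⁻¹ * (w * x * w⁻¹) ∈ B) (hc : w * (x⁻¹ * (w * x * w⁻¹)) = x⁻¹ * (w * x * w⁻¹) * w) :
    w * x = x * w := by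
  set e := x⁻¹ * (w * x * w⁻¹) with hedef
  have hwe : Commute w e := hc
  have key : ∀ k : ℕ, w ^ k * x * (w ^ k)⁻¹ = x * e ^ k := by
    intro k
    induction k with
    | zero => simp
    | succ k ih =>
      have h1 : w ^ (k + 1) * x * (w ^ (k + 1))⁻¹ = w * (w ^ k * x * (w ^ k)⁻¹) * w⁻¹ := by
        rw [pow_succ']; group
      rw [h1, ih]
      have h2 : w * (x * e ^ k) * w⁻¹ = (w * x * w⁻¹) * (w * e ^ k * w⁻¹) := by group
      have h3 : w * e ^ k * w⁻¹ = e ^ k := by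
        rw [(hwe.pow_right k).eq, mul_assoc, mul_inv_cancel, mul_one]
      have h4 : w * x * w⁻¹ = x * e := by rw [hedef]; group
      rw [h2, h3, h4, mul_assoc, ← pow_succ']
  have h1 := key (orderOf w)
  rw [pow_orderOf_eq_one, one_mul, inv_one, mul_one] at h1
  have h2 : e ^ orderOf w = 1 := by
    have := mul_left_cancel (a := x) (b := 1) (c := e ^ orderOf w) (by rw [mul_one]; exact h1)
    exact this.symm
  obtain ⟨j, hj⟩ := hB ⟨e, he⟩
  have hj' : e ^ p ^ j = 1 := by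
    have := congrArg Subtype.val hj
    simpa using this
  have h3 : orderOf e ∣ orderOf w := orderOf_dvd_of_pow_eq_one h2
  have h4 : orderOf e ∣ p ^ j := orderOf_dvd_of_pow_eq_one hj'
  have h5 : orderOf e = 1 := by
    have h6 := Nat.dvd_gcd h3 h4
    rw [Nat.Coprime.gcd_eq_one (Nat.Coprime.pow_right j hw)] at h6
    exact Nat.dvd_one.mp h6
  rw [orderOf_eq_one_iff] at h5
  have h6 : w * x * w⁻¹ = x := by
    have : w * x * w⁻¹ = x * e := by rw [hedef]; group
    rw [this, h5, mul_one]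
  calc w * x = (w * x * w⁻¹) * w := by group
    _ = x * w := by rw [h6]


theorem card_lt_of_lt' [Finite G] {M B : Subgroup G} (h : M < B) : Nat.card M < Nat.card B := by
  by_contra hge
  push Not at hge
  exact h.ne (Subgroup.eq_of_le_of_card_ge h.le hge)

/-- Gorenstein 5.3.10 for class at most two, in internal form -/
theorem centralizes_of_centralizes_omega {p : ℕ} [hp : Fact p.Prime] [Finite G] (hp2 : p ≠ 2)
    (w : G) (hw : (orderOf w).Coprime p) :
    ∀ (k : ℕ) (B : Subgroup G), Nat.card B = k → IsPGroup p B →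
      (∀ a ∈ B, ∀ b ∈ B, ∀ c ∈ B, ⁅a, b⁆ * c = c * ⁅a, b⁆) →
      w ∈ Subgroup.normalizer (B : Set G) →
      (∀ b ∈ B, b ^ p = 1 → w * b = b * w) → ∀ b ∈ B, w * b = b * w := by
  intro k
  induction k using Nat.strong_induction_on with
  | _ k ih =>
  intro B hk hB hcl hwN hom
  have hconj : ∀ x ∈ B, w * x * w⁻¹ ∈ B := fun x hx =>
    (Subgroup.mem_normalizer_iff.mp hwN x).mp hx
  have heB : ∀ x ∈ B, x⁻¹ * (w * x * w⁻¹) ∈ B := fun x hx =>
    B.mul_mem (B.inv_mem hx) (hconj x hx)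
  suffices hsuff : ∀ x ∈ B, w * (x⁻¹ * (w * x * w⁻¹)) = x⁻¹ * (w * x * w⁻¹) * w by
    intro b hb
    exact commute_of_commute_comm hB w hw b (heB b hb) (hsuff b hb)
  set E : Subgroup G := Subgroup.closure {e | ∃ x ∈ B, e = x⁻¹ * (w * x * w⁻¹)} with hE
  have hEB : E ≤ B := (Subgroup.closure_le B).mpr (by rintro _ ⟨x, hx, rfl⟩; exact heB x hx)
  have hcardlt : ∀ {M : Subgroup G}, M < B → Nat.card M < k := by
    intro M hM
    rw [← hk]
    exact card_lt_of_lt' hM
  have hwE : w ∈ Subgroup.normalizer (E : Set G) := by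
    apply Subgroup.mem_normalizer_fintype
    intro y hy
    rw [SetLike.mem_coe] at hy ⊢
    induction hy using Subgroup.closure_induction with
    | mem y hy =>
      obtain ⟨x, hx, rfl⟩ := hy
      apply Subgroup.subset_closure
      refine ⟨w * x * w⁻¹, hconj x hx, ?_⟩
      group
    | one => simp
    | mul a b _ _ iha ihb =>
      have : w * (a * b) * w⁻¹ = (w * a * w⁻¹) * (w * b * w⁻¹) := by group
      rw [this]; exact E.mul_mem iha ihb
    | inv a _ iha =>
      have : w * a⁻¹ * w⁻¹ = (w * a * w⁻¹)⁻¹ := by group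
      rw [this]; exact E.inv_mem iha
  by_cases hEeq : E = B
  swap
  · have hlt : E < B := lt_of_le_of_ne hEB hEeq
    have h1 := ih _ (hcardlt hlt) E rfl (hB.to_le hEB)
      (fun a ha b hb c hc => hcl a (hEB ha) b (hEB hb) c (hEB hc)) hwE
      (fun b hb hbp => hom b (hEB hb) hbp)
    intro x hx
    exact h1 _ (Subgroup.subset_closure ⟨x, hx, rfl⟩)
  by_cases hB1 : B = ⊥
  · intro x hx
    rw [hB1, Subgroup.mem_bot] at hx
    subst hx
    simp
  have hder_lt : ⁅B, B⁆ < B := Cfsg.Agent.Lib.Lead.ZJ.commutator_lt_of_isPGroup hB hB1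
  have hwder : w ∈ Subgroup.normalizer ((⁅B, B⁆ : Subgroup G) : Set G) := by
    rw [Subgroup.mem_normalizer_iff_map_conj_eq] at hwN ⊢
    rw [Subgroup.map_commutator, hwN]
  have hder : ∀ c ∈ ⁅B, B⁆, w * c = c * w :=
    ih _ (hcardlt hder_lt) ⁅B, B⁆ rfl (hB.to_le hder_lt.le)
      (fun a ha b hb c hc => hcl a (hder_lt.le ha) b (hder_lt.le hb) c (hder_lt.le hc)) hwder
      (fun b hb hbp => hom b (hder_lt.le hb) hbp)
  have hcomm_mem : ∀ a ∈ B, ∀ b ∈ B, ⁅a, b⁆ ∈ ⁅B, B⁆ := fun a ha b hb =>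
    Subgroup.commutator_mem_commutator ha hb
  -- the central fixed points
  let Zf : Subgroup G :=
    { carrier := {z | z ∈ B ∧ (∀ b ∈ B, z * b = b * z) ∧ w * z = z * w}
      one_mem' := ⟨B.one_mem, fun b _ => by simp, by simp⟩
      mul_mem' := by
        rintro a b ⟨ha, hac, haw⟩ ⟨hb, hbc, hbw⟩
        refine ⟨B.mul_mem ha hb, ?_, ?_⟩
        · intro c hc
          rw [mul_assoc, hbc c hc, ← mul_assoc, hac c hc, mul_assoc]
        · rw [← mul_assoc, haw, mul_assoc, hbw, ← mul_assoc]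
      inv_mem' := by
        rintro a ⟨ha, hac, haw⟩
        refine ⟨B.inv_mem ha, ?_, ?_⟩
        · intro c hc
          have := hac c hc
          calc a⁻¹ * c = a⁻¹ * (c * a) * a⁻¹ := by group
            _ = a⁻¹ * (a * c) * a⁻¹ := by rw [this]
            _ = c * a⁻¹ := by group
        · calc w * a⁻¹ = a⁻¹ * (a * w) * a⁻¹ := by group
            _ = a⁻¹ * (w * a) * a⁻¹ := by rw [haw]
            _ = a⁻¹ * w := by group }
  have hZf : ∀ z, z ∈ Zf ↔ z ∈ B ∧ (∀ b ∈ B, z * b = b * z) ∧ w * z = z * w := fun z => Iff.rfl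
  have hcommZf : ∀ a ∈ B, ∀ b ∈ B, ⁅a, b⁆ ∈ Zf := by
    intro a ha b hb
    rw [hZf]
    exact ⟨hder_lt.le (hcomm_mem a ha b hb), fun c hc => hcl a ha b hb c hc,
      hder _ (hcomm_mem a ha b hb)⟩
  -- conjugation by w commutes with p-th powers
  have hconjpow : ∀ x : G, (w * x * w⁻¹) ^ p = w * x ^ p * w⁻¹ := fun x => conj_pow
  have hfix : ∀ z, w * z = z * w → w * z * w⁻¹ = z := by
    intro z hz
    rw [hz, mul_assoc, mul_inv_cancel, mul_one]
  let D' : Subgroup G :=
    { carrier := {x | x ∈ B ∧ x ^ p ∈ Zf}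
      one_mem' := ⟨B.one_mem, by rw [one_pow]; exact Zf.one_mem⟩
      mul_mem' := by
        rintro x y ⟨hx, hxp⟩ ⟨hy, hyp⟩
        refine ⟨B.mul_mem hx hy, ?_⟩
        have h1 : Commute ⁅y, x⁆ x := hcl y hy x hx x hx
        have h2 : Commute ⁅y, x⁆ y := hcl y hy x hx y hy
        rw [mul_pow_of_commute x y h1 h2 p]
        exact Zf.mul_mem (Zf.mul_mem hxp hyp) (Zf.pow_mem (hcommZf y hy x hx) _)
      inv_mem' := by
        rintro x ⟨hx, hxp⟩
        refine ⟨B.inv_mem hx, ?_⟩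
        rw [inv_pow]
        exact Zf.inv_mem hxp }
  have hD' : ∀ x, x ∈ D' ↔ x ∈ B ∧ x ^ p ∈ Zf := fun x => Iff.rfl
  have hD'B : D' ≤ B := fun x hx => ((hD' x).mp hx).1
  have hwD' : w ∈ Subgroup.normalizer (D' : Set G) := by
    apply Subgroup.mem_normalizer_fintype
    intro x hx
    rw [SetLike.mem_coe, hD'] at hx ⊢
    refine ⟨hconj x hx.1, ?_⟩
    rw [hconjpow, hfix _ ((hZf _).mp hx.2).2.2]
    exact hx.2
  by_cases hDeq : D' = B
  · -- all p-th powers are central fixed points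
    have hpow : ∀ x ∈ B, x ^ p ∈ Zf := by
      intro x hx
      rw [← hDeq] at hx
      exact ((hD' x).mp hx).2
    intro x hx
    apply hom _ (heB x hx)
    set y := w * x * w⁻¹ with hy
    have hyB : y ∈ B := hconj x hx
    have hxi : x⁻¹ ∈ B := B.inv_mem hx
    have h1 : Commute ⁅y, x⁻¹⁆ x⁻¹ := hcl y hyB x⁻¹ hxi x⁻¹ hxi
    have h2 : Commute ⁅y, x⁻¹⁆ y := hcl y hyB x⁻¹ hxi y hyB
    have hyp : y ^ p = x ^ p := by
      rw [hy, hconjpow, hfix _ ((hZf _).mp (hpow x hx)).2.2]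
    have h3 : ⁅y, x⁻¹⁆ ^ p = 1 := by
      rw [← Cfsg.Agent.Lib.Lead.commutatorElement_pow_left y x⁻¹ h2 p, hyp,
        commutatorElement_eq_one_iff_mul_comm]
      exact ((hZf _).mp (hpow x hx)).2.1 x⁻¹ hxi
    rw [mul_pow_prime_of_commute hp2 x⁻¹ y h1 h2 h3, hyp, inv_pow, inv_mul_cancel]
  · have hlt : D' < B := lt_of_le_of_ne hD'B hDeq
    have h1 := ih _ (hcardlt hlt) D' rfl (hB.to_le hD'B)
      (fun a ha b hb c hc => hcl a (hD'B ha) b (hD'B hb) c (hD'B hc)) hwD'
      (fun b hb hbp => hom b (hD'B hb) hbp)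
    have hD'Zf : D' ≤ Zf := by
      intro u hu
      rw [hZf]
      have huB : u ∈ B := hD'B hu
      have hwu : w * u = u * w := h1 u hu
      refine ⟨huB, ?_, hwu⟩
      have hle : E ≤ Subgroup.centralizer ({u} : Set G) := by
        rw [hE, Subgroup.closure_le]
        rintro _ ⟨x, hx, rfl⟩
        rw [SetLike.mem_coe, Subgroup.mem_centralizer_iff]
        intro h hh
        rw [Set.mem_singleton_iff] at hh
        subst hh
        set y := w * x * w⁻¹ with hy
        have h2 : w * ⁅x, h⁆ * w⁻¹ = ⁅x, h⁆ := hfix _ (hder _ (hcomm_mem x hx h huB))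
        have h3 : w * ⁅x, h⁆ * w⁻¹ = ⁅y, w * h * w⁻¹⁆ := by
          rw [hy, commutatorElement_def, commutatorElement_def]; group
        rw [hfix h hwu] at h3
        rw [h3, commutatorElement_def, commutatorElement_def] at h2
        -- y h y⁻¹ h⁻¹ = x h x⁻¹ h⁻¹
        have h4 : y * h * y⁻¹ = x * h * x⁻¹ := by
          have := congrArg (· * h) h2
          simpa [mul_assoc] using this
        calc h * (x⁻¹ * y) = x⁻¹ * (x * h * x⁻¹) * y := by group
          _ = x⁻¹ * (y * h * y⁻¹) * y := by rw [h4]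
          _ = x⁻¹ * y * h := by group
      rw [hEeq] at hle
      intro b hb
      have := Subgroup.mem_centralizer_iff.mp (hle hb) u (Set.mem_singleton u)
      exact this
    have hdesc : ∀ j : ℕ, ∀ x ∈ B, x ^ p ^ j ∈ Zf → x ∈ Zf := by
      intro j
      induction j with
      | zero => intro x _ hx; simpa using hx
      | succ j ihj =>
        intro x hx hxp
        apply ihj x hx
        apply hD'Zf
        rw [hD']
        refine ⟨B.pow_mem hx _, ?_⟩
        rw [← pow_mul, ← pow_succ]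
        exact hxp
    have hall : ∀ x ∈ B, w * x = x * w := by
      intro x hx
      obtain ⟨j, hj⟩ := hB ⟨x, hx⟩
      have hj' : x ^ p ^ j = 1 := by
        have := congrArg Subtype.val hj
        simpa using this
      have := hdesc j x hx (by rw [hj']; exact Zf.one_mem)
      exact ((hZf x).mp this).2.2
    intro x hx
    exact hall _ (heB x hx)

end ZE

end Cfsg.Agent.Lib.Helper8

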