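import Mathlib
import Cfsg.Agent.Lib.Helper8.ZE1
import Cfsg.Agent.Lib.Lead.Thom8
import Cfsg.Agent.Lib.Lead.ZJ7
import Cfsg.Agent.Lib.Lead.GT4

set_option autoImplicit false

/-!
Auxiliary lemmas for the `ZJ`-theorem for `Z(J_n(S))` itself.
-/

namespace Cfsg.Agent.Lib.Helper8

namespace ZE

open Cfsg.Agent.Lib.Lead Cfsg.Agent.Lib.Lead.ZJ Cfsg.Agent.Lib.Lead.Thom Cfsg.Agent.Lib.Lead.GT
open scoped commutatorElement

universe u

variable {G : Type u} [Group G]

theorem normalizer_le_normalizer_Zc [Finite G] (D : Subgroup G) :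
    Subgroup.normalizer (D : Set G) ≤ Subgroup.normalizer (Zc D : Set G) := by
  intro g hg
  apply Subgroup.mem_normalizer_fintype
  intro x hx
  rw [SetLike.mem_coe] at hx ⊢
  refine ⟨(Subgroup.mem_normalizer_iff.mp hg x).mp hx.1, ?_⟩
  show g * x * g⁻¹ ∈ Subgroup.centralizer (D : Set G)
  rw [Subgroup.mem_centralizer_iff]
  intro d hd
  have h1 : g⁻¹ * d * g ∈ D := (Subgroup.mem_normalizer_iff''.mp hg d).mp hd
  have h2 := (Subgroup.mem_centralizer_iff.mp hx.2) _ h1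
  calc d * (g * x * g⁻¹) = g * ((g⁻¹ * d * g) * x) * g⁻¹ := by group
    _ = g * (x * (g⁻¹ * d * g)) * g⁻¹ := by rw [h2]
    _ = g * x * g⁻¹ * d := by group

theorem normalizer_le_normalizer_centralizer [Finite G] (D : Subgroup G) :
    Subgroup.normalizer (D : Set G) ≤
      Subgroup.normalizer ((Subgroup.centralizer (D : Set G) : Subgroup G) : Set G) := by
  intro g hg
  apply Subgroup.mem_normalizer_fintype
  intro x hx
  rw [SetLike.mem_coe, Subgroup.mem_centralizer_iff] at hx ⊢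
  intro d hd
  have h1 : g⁻¹ * d * g ∈ D := (Subgroup.mem_normalizer_iff''.mp hg d).mp hd
  have h2 := hx _ h1
  calc d * (g * x * g⁻¹) = g * ((g⁻¹ * d * g) * x) * g⁻¹ := by group
    _ = g * (x * (g⁻¹ * d * g)) * g⁻¹ := by rw [h2]
    _ = g * x * g⁻¹ * d := by group

theorem closure_normal_of_conj (s : Set G) (h : ∀ x ∈ s, ∀ g : G, g * x * g⁻¹ ∈ s) :
    (Subgroup.closure s).Normal := by
  constructor
  intro x hx g
  induction hx using Subgroup.closure_induction with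
  | mem y hy => exact Subgroup.subset_closure (h y hy g)
  | one => simp
  | mul a b _ _ iha ihb =>
    have : g * (a * b) * g⁻¹ = (g * a * g⁻¹) * (g * b * g⁻¹) := by group
    rw [this]; exact Subgroup.mul_mem _ iha ihb
  | inv a _ iha =>
    have : g * a⁻¹ * g⁻¹ = (g * a * g⁻¹)⁻¹ := by group
    rw [this]; exact Subgroup.inv_mem _ iha

/-- the subgroup generated by the elements of `B` of order dividing `n` -/
def omegaN (n : ℕ) (B : Subgroup G) : Subgroup G :=
  Subgroup.closure {b | b ∈ B ∧ b ^ n = 1}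

theorem omegaN_le (n : ℕ) (B : Subgroup G) : omegaN n B ≤ B :=
  (Subgroup.closure_le B).mpr (fun _ hb => hb.1)

theorem mem_omegaN {n : ℕ} {B : Subgroup G} {b : G} (hb : b ∈ B) (hbn : b ^ n = 1) :
    b ∈ omegaN n B := Subgroup.subset_closure ⟨hb, hbn⟩

instance omegaN_normal (n : ℕ) (B : Subgroup G) [hB : B.Normal] : (omegaN n B).Normal := by
  apply closure_normal_of_conj
  rintro x ⟨hx, hxn⟩ g
  refine ⟨hB.conj_mem x hx g, ?_⟩
  rw [conj_pow, hxn, mul_one, mul_inv_cancel]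

/-- in class two, commutators with elements of `omegaN n B` have order dividing `n` -/
theorem commutator_pow_eq_one {n : ℕ} {B : Subgroup G}
    (hcl : ∀ a ∈ B, ∀ b ∈ B, ∀ c ∈ B, ⁅a, b⁆ * c = c * ⁅a, b⁆) :
    ∀ x ∈ omegaN n B, ∀ y ∈ B, ⁅x, y⁆ ^ n = 1 := by
  intro x hx y hy
  have hxB := omegaN_le n B hx
  unfold omegaN at hx
  induction hx using Subgroup.closure_induction with
  | mem b hb =>
    have h1 : Commute ⁅b, y⁆ b := hcl b hb.1 y hy b hb.1
    rw [← Cfsg.Agent.Lib.Lead.commutatorElement_pow_left b y h1 n, hb.2]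
    simp [commutatorElement_def]
  | one => simp [commutatorElement_def]
  | mul a b ha hb iha ihb =>
    have haB : a ∈ B := omegaN_le n B ha
    have hbB : b ∈ B := omegaN_le n B hb
    have h1 : a * ⁅b, y⁆ * a⁻¹ = ⁅b, y⁆ := by
      rw [← hcl b hbB y hy a haB, mul_assoc, mul_inv_cancel, mul_one]
    rw [commutatorElement_mul_left_eq_conj_mul, h1]
    have h2 : Commute ⁅b, y⁆ ⁅a, y⁆ :=
      hcl b hbB y hy _ (B.mul_mem (B.mul_mem (B.mul_mem haB hy) (B.inv_mem haB)) (B.inv_mem hy))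
    rw [h2.mul_pow, iha haB, ihb hbB, one_mul]
  | inv a ha iha =>
    have haB : a ∈ B := omegaN_le n B ha
    have h1 : a⁻¹ * ⁅y, a⁆ * a = ⁅y, a⁆ := by
      rw [mul_assoc, hcl y hy a haB a haB, ← mul_assoc, inv_mul_cancel, one_mul]
    rw [commutatorElement_inv_left, h1, ← commutatorElement_inv, inv_pow, iha haB, inv_one]


theorem commutator_le_centralizer {B : Subgroup G}
    (hcl : ∀ a ∈ B, ∀ b ∈ B, ∀ c ∈ B, ⁅a, b⁆ * c = c * ⁅a, b⁆) :
    ⁅B, B⁆ ≤ Subgroup.centralizer (B : Set G) := by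
  rw [Subgroup.commutator_le]
  intro a ha b hb
  rw [Subgroup.mem_centralizer_iff]
  intro c hc
  exact (hcl a ha b hb c hc).symm

theorem abelExp_commutator_omegaN {n : ℕ} {B : Subgroup G}
    (hcl : ∀ a ∈ B, ∀ b ∈ B, ∀ c ∈ B, ⁅a, b⁆ * c = c * ⁅a, b⁆) :
    AbelExp n ⁅omegaN n B, omegaN n B⁆ := by
  have hle : ⁅omegaN n B, omegaN n B⁆ ≤ ⁅B, B⁆ :=
    Subgroup.commutator_mono (omegaN_le n B) (omegaN_le n B)
  have hleB : ⁅B, B⁆ ≤ B := by
    rw [Subgroup.commutator_le]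
    intro a ha b hb
    exact B.mul_mem (B.mul_mem (B.mul_mem ha hb) (B.inv_mem ha)) (B.inv_mem hb)
  have hcomm : ∀ x ∈ ⁅omegaN n B, omegaN n B⁆, ∀ y ∈ ⁅omegaN n B, omegaN n B⁆, x * y = y * x := by
    intro x hx y hy
    have h1 := commutator_le_centralizer hcl (hle hx)
    exact ((Subgroup.mem_centralizer_iff.mp h1) y (hleB (hle hy))).symm
  refine ⟨hcomm, ?_⟩
  intro a ha
  have ha' := ha
  rw [Subgroup.commutator_def] at ha'
  induction ha' using Subgroup.closure_induction with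
  | mem g hg =>
    obtain ⟨g₁, hg₁, g₂, hg₂, rfl⟩ := hg
    exact commutator_pow_eq_one hcl g₁ hg₁ g₂ (omegaN_le n B hg₂)
  | one => exact one_pow n
  | mul x y hx hy ihx ihy =>
    rw [← Subgroup.commutator_def] at hx hy
    have : Commute x y := hcomm x hx y hy
    rw [this.mul_pow, ihx hx, ihy hy, one_mul]
  | inv x hx ih =>
    rw [← Subgroup.commutator_def] at hx
    rw [inv_pow, ih hx, inv_one]

section Finite

variable [Finite G] {p : ℕ} [hp : Fact p.Prime]

/-- `p'`-elements of `stabPre p B₁` centralize `B₁` -/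
theorem mem_centralizer_of_mem_stabPre (B₁ : Subgroup G) [B₁.Normal] (w : G)
    (hw : w ∈ stabPre p B₁) (hwo : (orderOf w).Coprime p) :
    w ∈ Subgroup.centralizer (B₁ : Set G) := by
  unfold stabPre at hw
  rw [Subgroup.mem_comap] at hw
  set C := Subgroup.centralizer (B₁ : Set G) with hC
  have hpg : IsPGroup p (Cfsg.pCore p (G ⧸ C)) := Cfsg.Agent.Lib.Helper9.pCore_isPGroup' p
  obtain ⟨j, hj⟩ := hpg ⟨_, hw⟩
  have hj' : (QuotientGroup.mk' C w) ^ p ^ j = 1 := by
    have := congrArg Subtype.val hj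
    simpa using this
  have h2 : (QuotientGroup.mk' C w) ^ orderOf w = 1 := by
    rw [← map_pow, pow_orderOf_eq_one, map_one]
  have h3 : orderOf (QuotientGroup.mk' C w) ∣ p ^ j := orderOf_dvd_of_pow_eq_one hj'
  have h4 : orderOf (QuotientGroup.mk' C w) ∣ orderOf w := orderOf_dvd_of_pow_eq_one h2
  have h5 : orderOf (QuotientGroup.mk' C w) = 1 := by
    have h6 := Nat.dvd_gcd h4 h3
    rw [Nat.Coprime.gcd_eq_one (Nat.Coprime.pow_right j hwo)] at h6
    exact Nat.dvd_one.mp h6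
  rw [orderOf_eq_one_iff] at h5
  exact (QuotientGroup.eq_one_iff w).mp h5

/-- passing from `Ω_n(B)` to `B` in `stabPre` (class two, `p` odd) -/
theorem stabPre_omegaN_le (hp2 : p ≠ 2) {n : ℕ} (hn : p ∣ n) (B : Subgroup G) [hBn : B.Normal]
    (hB : IsPGroup p B) (hcl : ∀ a ∈ B, ∀ b ∈ B, ∀ c ∈ B, ⁅a, b⁆ * c = c * ⁅a, b⁆) :
    stabPre p (omegaN n B) ≤ stabPre p B := by
  intro a ha
  unfold stabPre
  rw [Subgroup.mem_comap]
  refine mem_pCore_quot_of (Subgroup.centralizer (B : Set G)) (stabPre p (omegaN n B)) ?_ a ha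
  intro w hw hwo
  have h1 := mem_centralizer_of_mem_stabPre (omegaN n B) w hw hwo
  rw [Subgroup.mem_centralizer_iff]
  intro b hb
  symm
  refine centralizes_of_centralizes_omega hp2 w hwo _ B rfl hB hcl ?_ ?_ b hb
  · rw [Subgroup.normalizer_eq_top_iff.mpr hBn]; exact Subgroup.mem_top w
  · intro b hb hbp
    have hbn : b ^ n = 1 := by
      obtain ⟨m, rfl⟩ := hn
      rw [pow_mul, hbp, one_pow]
    exact ((Subgroup.mem_centralizer_iff.mp h1) b (mem_omegaN hb hbn)).symm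

end Finite

end ZE

end Cfsg.Agent.Lib.Helper8

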