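import Mathlib
import Cfsg.Agent.Lib.Helper8.ZE2

set_option autoImplicit false

/-!
The `ZJ`-theorem for `Z(J_n(S))` itself (`p ∣ n`), not only for `⋂ maxIn n S`.
-/

namespace Cfsg.Agent.Lib.Helper8

namespace ZE

open Cfsg.Agent.Lib.Lead Cfsg.Agent.Lib.Lead.ZJ Cfsg.Agent.Lib.Lead.Thom Cfsg.Agent.Lib.Lead.GT
open scoped commutatorElement

universe u

variable {G : Type u} [Group G] [Finite G] {p : ℕ} [hp : Fact p.Prime]

/-- elements of the centralizer of `B` normalize `X ⊓ B` -/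
theorem centralizer_le_normalizer_inf (X B : Subgroup G) :
    Subgroup.centralizer (B : Set G) ≤ Subgroup.normalizer ((X ⊓ B : Subgroup G) : Set G) := by
  intro c hc
  have hcx : ∀ x ∈ B, c * x * c⁻¹ = x := by
    intro x hx
    have := (Subgroup.mem_centralizer_iff.mp hc) x hx
    rw [← this, mul_inv_cancel_right]
  apply Subgroup.mem_normalizer_fintype
  intro x hx
  rw [SetLike.mem_coe] at hx ⊢
  rw [hcx x hx.2]; exact hx

theorem zpowers_le_of_commute {n : ℕ} {T A : Subgroup G} (hA : A ∈ maxIn n T) {b : G}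
    (hbT : b ∈ T) (hbn : b ^ n = 1) (hc : ∀ a ∈ A, b * a = a * b) : b ∈ A := by
  have h1 : Subgroup.zpowers b ≤ A := by
    apply le_of_centralizes hA (Subgroup.zpowers_le.mpr hbT) (abelExp_zpowers b hbn)
    intro y hy a ha
    obtain ⟨i, rfl⟩ := Subgroup.mem_zpowers_iff.mp hy
    have h3 : Commute b a := hc a ha
    exact (h3.zpow_left i).eq
  exact h1 (Subgroup.mem_zpowers b)

/-- the key lemma: `Z(J_n(S)) ∩ B` is normal for every normal `p`-subgroup `B` -/
theorem zc_inf_normal (hp2 : p ≠ 2) (n : ℕ) (hn : p ∣ n) (S : Sylow p G) (hq : QuadHyp p G) :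
    ∀ (k : ℕ) (B : Subgroup G), B.Normal → IsPGroup p B → Nat.card B = k →
      (Zc (Jn n G (S : Subgroup G)) ⊓ B).Normal := by
  intro k
  induction k using Nat.strong_induction_on with
  | _ k ih =>
  intro B hBn hBp hk
  have := hBn
  set J := Jn n G (S : Subgroup G) with hJ
  set Z := Zc J with hZ
  by_cases hB1 : B = ⊥
  · rw [hB1, inf_bot_eq]; infer_instance
  have hSp : IsPGroup p (S : Subgroup G) := S.isPGroup'
  have hBS : B ≤ S := hBp.le_sylow_of_normal S
  have hJfun := isJFunctor_Jn.{u} (p := p) hn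
  have hSJ : (S : Subgroup G) ≤ Subgroup.normalizer (J : Set G) :=
    le_trans Subgroup.le_normalizer (hJfun.sec.normalizer_le _ hSp)
  have hSZ : (S : Subgroup G) ≤ Subgroup.normalizer (Z : Set G) :=
    le_trans hSJ (normalizer_le_normalizer_Zc J)
  have hJS : J ≤ S := Jn_le n _
  have hZJ : Z ≤ J := Zc_le J
  have hZcJ : Z ≤ Subgroup.centralizer (J : Set G) := inf_le_right
  have hZab : ∀ x ∈ Z, ∀ y ∈ Z, x * y = y * x := fun x hx y hy =>
    ((Subgroup.mem_centralizer_iff.mp (hZcJ hy)) x (hZJ hx))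
  set L := Subgroup.normalClosure ((Z ⊓ B : Subgroup G) : Set G) with hL
  have hLB : L ≤ B := Subgroup.normalClosure_le_normal inf_le_right
  have hZbL : Z ⊓ B ≤ L := Subgroup.subset_normalClosure
  have hcardlt : ∀ {M : Subgroup G}, M < B → Nat.card M < k := by
    intro M hM
    rw [← hk]
    exact card_lt_of_lt' hM
  by_cases hLeq : L = B
  swap
  · have hlt : L < B := lt_of_le_of_ne hLB hLeq
    have h1 := ih _ (hcardlt hlt) L Subgroup.normalClosure_normal (hBp.to_le hLB) rfl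
    have h2 : Z ⊓ L = Z ⊓ B :=
      le_antisymm (inf_le_inf_left _ hLB) (le_inf inf_le_left hZbL)
    rw [← h2]; exact h1
  -- now `B` is the normal closure of `Z ⊓ B`
  have hder_lt : ⁅B, B⁆ < B := commutator_lt_of_isPGroup hBp hB1
  have hdern : (⁅B, B⁆ : Subgroup G).Normal := Subgroup.commutator_normal B B
  have hKn : (Z ⊓ ⁅B, B⁆).Normal :=
    ih _ (hcardlt hder_lt) ⁅B, B⁆ hdern (hBp.to_le hder_lt.le) rfl
  have hZbB : ⁅Z ⊓ B, B⁆ ≤ Z ⊓ ⁅B, B⁆ := by
    apply le_inf
    · rw [Subgroup.commutator_le]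
      intro w hw y hy
      rw [commutatorElement_def]
      have h1 : y * w⁻¹ * y⁻¹ ∈ Z :=
        (Subgroup.mem_normalizer_iff.mp (hSZ (hBS hy)) w⁻¹).mp (Z.inv_mem hw.1)
      have e : w * y * w⁻¹ * y⁻¹ = w * (y * w⁻¹ * y⁻¹) := by group
      rw [e]; exact Z.mul_mem hw.1 h1
    · exact Subgroup.commutator_mono inf_le_right le_rfl
  have hBB : ⁅B, B⁆ ≤ Z ⊓ ⁅B, B⁆ := by
    have := commutator_normalClosure_le (Z ⊓ ⁅B, B⁆) B (Z ⊓ B) hZbB
    rw [← hL, hLeq] at this
    exact this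
  have hBZ : ⁅B, B⁆ ≤ Z := le_trans hBB inf_le_left
  -- class two
  have hBcent : B ≤ Subgroup.centralizer ((⁅B, B⁆ : Subgroup G) : Set G) := by
    have h1 : L ≤ Subgroup.centralizer ((⁅B, B⁆ : Subgroup G) : Set G) := by
      apply Subgroup.normalClosure_le_normal
      intro z hz
      rw [SetLike.mem_coe, Subgroup.mem_centralizer_iff]
      intro c hc
      exact hZab c (hBZ hc) z hz.1
    rw [hLeq] at h1
    exact h1
  have hcl : ∀ a ∈ B, ∀ b ∈ B, ∀ c ∈ B, ⁅a, b⁆ * c = c * ⁅a, b⁆ := by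
    intro a ha b hb c hc
    exact (Subgroup.mem_centralizer_iff.mp (hBcent hc)) _
      (Subgroup.commutator_mem_commutator ha hb)
  -- the subgroup generated by the elements of order dividing `n`
  set B₁ := omegaN n B with hB₁
  have hB₁B : B₁ ≤ B := omegaN_le n B
  have hB₁S : B₁ ≤ S := le_trans hB₁B hBS
  have hB₁p : IsPGroup p B₁ := hBp.to_le hB₁B
  have hB₁n : B₁.Normal := omegaN_normal n B
  have hSNB₁ : (S : Subgroup G) ≤ Subgroup.normalizer (B₁ : Set G) := by
    rw [Subgroup.normalizer_eq_top_iff.mpr hB₁n]; exact le_top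
  have hB₁ae : AbelExp n ⁅B₁, B₁⁆ := abelExp_commutator_omegaN hcl
  have hderA : ∀ A ∈ maxIn n (S : Subgroup G), ⁅B₁, B₁⁆ ≤ A := by
    intro A hA
    have hle : ⁅B₁, B₁⁆ ≤ Z := le_trans (Subgroup.commutator_mono hB₁B hB₁B) hBZ
    apply le_of_centralizes hA (le_trans hle (le_trans hZJ hJS)) hB₁ae
    intro x hx a ha
    exact ((Subgroup.mem_centralizer_iff.mp (hZcJ (hle hx))) a (le_Jn hA ha)).symm
  -- passing from quadratic action on `B₁` to `stabPre p B`
  have hstab : ∀ A ∈ maxIn n (S : Subgroup G), B₁ ≤ Subgroup.normalizer (A : Set G) →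
      A ≤ (S : Subgroup G) ⊓ stabPre p B := by
    intro A hA hBA
    have h1 : A ≤ stabPre p B₁ := hq B₁ hB₁p A (hSp.to_le hA.1) hA.2.1.1 hBA
    exact le_inf hA.1 (le_trans h1 (stabPre_omegaN_le hp2 hn B hBp hcl))
  -- a member normalized by `B₁`
  obtain ⟨U₀, hU₀⟩ := maxIn_nonempty n (S : Subgroup G)
  obtain ⟨A₀, hA₀, -, -, hBA₀⟩ := replacement_property_sub hp2 n (S : Subgroup G) (S : Subgroup G)
    B₁ hSp le_rfl hB₁S Subgroup.le_normalizer hSNB₁ (fun _ => True) (fun _ _ => trivial)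
    ⟨U₀, hU₀, hderA U₀ hU₀, trivial⟩
  set P₁ : Subgroup G := (S : Subgroup G) ⊓ stabPre p B with hP₁
  have hA₀P₁ : A₀ ≤ P₁ := hstab A₀ hA₀ hBA₀
  have hP₁p : IsPGroup p P₁ := hSp.to_le inf_le_left
  have hJ₁J : Jn n G P₁ ≤ J := by
    apply sSup_le
    intro A hA
    exact le_Jn (mem_maxIn_of_le inf_le_left hA₀ hA₀P₁ hA)
  have hfact := normalizer_sup_centralizer_eq_top S B
  rw [← hP₁] at hfact
  -- `Y = C(J(P₁)) ∩ B` is normal
  set Y : Subgroup G := Subgroup.centralizer (Jn n G P₁ : Set G) ⊓ B with hY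
  have hYn : Y.Normal := by
    rw [← Subgroup.normalizer_eq_top_iff, eq_top_iff, ← hfact]
    apply sup_le
    · refine le_trans ?_ Subgroup.inf_normalizer_le_normalizer_inf
      apply le_inf
      · exact le_trans (hJfun.sec.normalizer_le _ hP₁p) (normalizer_le_normalizer_centralizer _)
      · rw [Subgroup.normalizer_eq_top_iff.mpr hBn]; exact le_top
    · exact centralizer_le_normalizer_inf _ B
  have hBY : B ≤ Y := by
    have h1 : L ≤ Y := by
      apply Subgroup.normalClosure_le_normal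
      intro z hz
      exact ⟨Subgroup.centralizer_le hJ₁J (hZcJ hz.1), hz.2⟩
    rw [hLeq] at h1
    exact h1
  have hBc₁ : ∀ A ∈ maxIn n P₁, ∀ b ∈ B, ∀ a ∈ A, b * a = a * b := by
    intro A hA b hb a ha
    exact ((Subgroup.mem_centralizer_iff.mp (hBY hb).1) a (le_Jn hA ha)).symm
  have hB₁le : ∀ A ∈ maxIn n (S : Subgroup G), (∀ b ∈ B, ∀ a ∈ A, b * a = a * b) → B₁ ≤ A := by
    intro A hA hc
    rw [hB₁, omegaN, Subgroup.closure_le]
    rintro b ⟨hb, hbn⟩
    exact zpowers_le_of_commute hA (hBS hb) hbn (hc b hb)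
  have hnorm : ∀ A ∈ maxIn n (S : Subgroup G), B₁ ≤ Subgroup.normalizer (A : Set G) →
      ∀ b ∈ B, ∀ a ∈ A, b * a = a * b := by
    intro A hA hBA
    have hAP₁ : A ≤ P₁ := hstab A hA hBA
    exact hBc₁ A (mem_maxIn_sub inf_le_left hA hAP₁)
  -- every member centralizes `B`
  have hall : ∀ A ∈ maxIn n (S : Subgroup G), ∀ b ∈ B, ∀ a ∈ A, b * a = a * b := by
    by_contra hcon
    push Not at hcon
    obtain ⟨U, hU, hUc⟩ := hcon
    have hBU : ¬ B₁ ≤ U := by
      intro hle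
      obtain ⟨b, hb, a, ha, hne⟩ := hUc
      exact hne (hnorm U hU (le_trans hle Subgroup.le_normalizer) b hb a ha)
    obtain ⟨A, hA, -, hnBA, hBA⟩ := replacement_property_sub hp2 n (S : Subgroup G)
      (S : Subgroup G) B₁ hSp le_rfl hB₁S Subgroup.le_normalizer hSNB₁
      (fun A => ¬ B₁ ≤ A) (by
        intro A' hlt hle
        rw [inf_eq_right.mpr hle] at hlt
        exact lt_irrefl _ hlt)
      ⟨U, hU, hderA U hU, hBU⟩
    exact hnBA (hB₁le A hA (hnorm A hA hBA))
  have hJB : J ≤ Subgroup.centralizer (B : Set G) := by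
    apply sSup_le
    intro A hA a ha
    rw [Subgroup.mem_centralizer_iff]
    intro b hb
    exact hall A hA b hb a ha
  -- the Frattini argument on the normal closure of `J`
  set M := Subgroup.normalClosure (J : Set G) with hM
  have hMn : M.Normal := Subgroup.normalClosure_normal
  have hMB : M ≤ Subgroup.centralizer (B : Set G) := Subgroup.normalClosure_le_normal hJB
  have hJM : J ≤ M := Subgroup.subset_normalClosure
  obtain ⟨T, hT⟩ := Cfsg.Agent.Lib.Helper9.exists_sylow_map_eq_inf S M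
  have hfr : Subgroup.normalizer ((((S : Subgroup G) ⊓ M : Subgroup G)) : Set G) ⊔ M = ⊤ := by
    have := Sylow.normalizer_sup_eq_top T
    rw [hT] at this
    exact this
  have hmid : Jn n G ((S : Subgroup G) ⊓ M) = J :=
    Jn_mid n (S : Subgroup G) ((S : Subgroup G) ⊓ M) (le_inf hJS hJM) inf_le_left
  rw [← Subgroup.normalizer_eq_top_iff, eq_top_iff, ← hfr]
  apply sup_le
  · refine le_trans ?_ Subgroup.inf_normalizer_le_normalizer_inf
    apply le_inf
    · have h1 := hJfun.sec.normalizer_le ((S : Subgroup G) ⊓ M) (hSp.to_le inf_le_left)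
      rw [hmid] at h1
      exact le_trans h1 (normalizer_le_normalizer_Zc J)
    · rw [Subgroup.normalizer_eq_top_iff.mpr hBn]; exact le_top
  · exact le_trans hMB (centralizer_le_normalizer_inf _ B)

/-- the `ZJ`-theorem for `Z(J_n(S))` -/
theorem zc_normal (hp2 : p ≠ 2) (n : ℕ) (hn : p ∣ n)
    (hc : Subgroup.centralizer (Cfsg.pCore p G : Set G) ≤ Cfsg.pCore p G)
    (S : Sylow p G) (hq : QuadHyp p G) : (Zc (Jn n G (S : Subgroup G))).Normal := by
  have hQn : (Cfsg.pCore p G).Normal := Cfsg.Agent.Lib.Helper9.pCore_normal' p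
  have hQ : IsPGroup p (Cfsg.pCore p G) := Cfsg.Agent.Lib.Helper9.pCore_isPGroup' p
  have hQS : Cfsg.pCore p G ≤ S := Cfsg.Agent.Lib.Helper9.pCore_le_sylow S
  have hSp : IsPGroup p (S : Subgroup G) := S.isPGroup'
  set J := Jn n G (S : Subgroup G) with hJ
  have hJfun := isJFunctor_Jn.{u} (p := p) hn
  have hSZ : (S : Subgroup G) ≤ Subgroup.normalizer (Zc J : Set G) :=
    le_trans (le_trans Subgroup.le_normalizer (hJfun.sec.normalizer_le _ hSp))
      (normalizer_le_normalizer_Zc J)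
  have hZS : Zc J ≤ S := le_trans (Zc_le J) (Jn_le n _)
  have hZab : ∀ x ∈ Zc J, ∀ y ∈ Zc J, x * y = y * x := fun x hx y hy =>
    ((Subgroup.mem_centralizer_iff.mp hy.2) x hx.1)
  have h1 : Zc J ≤ stabPre p (Cfsg.pCore p G) :=
    hq (Cfsg.pCore p G) hQ _ (hSp.to_le hZS) hZab (le_trans hQS hSZ)
  have h2 : stabPre p (Cfsg.pCore p G) ≤ Cfsg.pCore p G :=
    Cfsg.Agent.Lib.Helper9.le_pCore (stabPre_normal p _) (stabPre_isPGroup _ hQ hc)
  have h3 := zc_inf_normal hp2 n hn S hq _ (Cfsg.pCore p G) hQn hQ rfl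
  rw [← hJ, inf_eq_left.mpr (le_trans h1 h2)] at h3
  exact h3

end ZE

end Cfsg.Agent.Lib.Helper8
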