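import Mathlib
import Cfsg.Agent.Lib.Helper8.ZE3
import Cfsg.Agent.Lib.Lead.GT13

set_option autoImplicit false

/-!
The Glauberman–Thompson normal `p`-complement theorem for `Z(J_n(S))`.
-/

namespace Cfsg.Agent.Lib.Helper8

namespace ZE

open Cfsg.Agent.Lib.Lead Cfsg.Agent.Lib.Lead.ZJ Cfsg.Agent.Lib.Lead.Thom Cfsg.Agent.Lib.Lead.GT
open scoped commutatorElement

universe u

variable {p : ℕ} [hp : Fact p.Prime]

theorem Zc_ne_bot {X : Type u} [Group X] [Finite X] (D : Subgroup X) (hD : IsPGroup p D)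
    (hD1 : D ≠ ⊥) : Zc D ≠ ⊥ := by
  have : Nontrivial D := (Subgroup.nontrivial_iff_ne_bot D).mpr hD1
  have := hD.center_nontrivial
  obtain ⟨z, hz⟩ := exists_ne (1 : Subgroup.center D)
  intro hbot
  apply hz
  have hzc := z.2
  have h1 : ((z : D) : X) ∈ Zc D := by
    refine ⟨(z : D).2, ?_⟩
    show ((z : D) : X) ∈ Subgroup.centralizer (D : Set X)
    rw [Subgroup.mem_centralizer_iff]
    intro d hd
    have := (Subgroup.mem_center_iff.mp hzc) ⟨d, hd⟩
    exact congrArg Subtype.val this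
  rw [hbot, Subgroup.mem_bot] at h1
  apply Subtype.ext
  apply Subtype.ext
  exact h1

theorem isSecFunctor_zc (n : ℕ) (hn : p ∣ n) :
    IsSecFunctor.{u} p (fun (X : Type u) [Group X] (D : Subgroup X) => Zc (Jn n X D)) where
  le := fun X _ _ D _ => le_trans (Zc_le _) (Jn_le n D)
  ne_bot := fun X _ _ D hD hD1 =>
    Zc_ne_bot _ (hD.to_le (Jn_le n D)) (Jn_ne_bot hn hD hD1)
  map := fun X Y _ _ _ _ f D _ hinj => by
    show Zc (Jn n Y (D.map f)) = (Zc (Jn n X D)).map f
    rw [Jn_map n f D hinj, Zc_map_of_injOn f (Jn n X D) (hinj.mono (Jn_le n D))]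

/-- the Glauberman–Thompson normal `p`-complement theorem for `Z(J_n(T))` -/
theorem glauberman_thompson_zc (hp2 : p ≠ 2) (n : ℕ) (hn : p ∣ n) {X : Type u} [Group X] [Finite X]
    (T : Sylow p X)
    (hN : PNilp p (Subgroup.normalizer (Zc (Jn n X (T : Subgroup X)) : Set X))) : PNilp p X := by
  have hW := isSecFunctor_zc.{u} (p := p) n hn
  have key := reduction (p := p) (C := fun _ _ => True) (φ := True) hW
    (fun _ _ _ _ _ => trivial) (fun _ _ _ _ _ _ => trivial) (by
      intro X _ _ hmc T D hAdm hN hs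
      have hDT : D = T := hAdm.2 trivial
      subst hDT
      obtain ⟨K, hK, -⟩ := hs.shape
      have hq := quadHyp_of_shape hp2 (Cfsg.pCore p X) K hK
      have hnorm := zc_normal hp2 n hn hs.cent T hq
      apply hmc.not_nilp
      exact pnilp_of_eq_top (Subgroup.normalizer_eq_top_iff.mpr hnorm) hN)
  exact key X trivial T T ⟨sClosed_self _, fun _ => rfl⟩ hN

theorem centerThompsonOf_eq {X : Type u} [Group X] (p : ℕ) (D : Subgroup X) :
    Cfsg.centerThompsonOf p D = Zc (Jn p X D) := by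
  unfold Cfsg.centerThompsonOf Zc
  rw [thompsonSubgroupOf_eq']

end ZE

end Cfsg.Agent.Lib.Helper8
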