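import Mathlib
import Cfsg.Agent.Lib.Helper8.ZE4
import Cfsg.Agent.Lib.Lead.SCF1

set_option autoImplicit false

/-!
Control of strong fusion by `N(Z(J_e(S)))` in `Qd(p)`-free groups, `J_e` the Thompson subgroup
generated by the elementary abelian subgroups of largest order.
-/

namespace Cfsg.Agent.Lib.Helper8

namespace ZE

open Cfsg.Agent.Lib.Lead Cfsg.Agent.Lib.Lead.ZJ Cfsg.Agent.Lib.Lead.Thom Cfsg.Agent.Lib.Lead.GT
open Cfsg.Agent.Lib.Lead.SCF
open Cfsg.Agent.Lib.Helper4 Cfsg.Agent.Lib.Helper7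

universe u

/-- the functor `Q ↦ Z(J_n(Q))` -/
def WZe (n : ℕ) : ∀ (Q : Type u) [Group Q], Subgroup Q :=
  fun Q _ => Zc (Jn n Q ⊤)

theorem inducedFunctor_WZe {G : Type u} [Group G] [Finite G] (n : ℕ) (T : Subgroup G) :
    Cfsg.inducedFunctor (WZe n) T = Zc (Jn n G T) := by
  unfold Cfsg.inducedFunctor WZe
  have hinj : Set.InjOn T.subtype ((⊤ : Subgroup T) : Set T) :=
    Set.injOn_of_injective T.subtype_injective
  have h1 := Jn_map n T.subtype ⊤ hinj
  have h2 : (⊤ : Subgroup T).map T.subtype = T := by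
    rw [← MonoidHom.range_eq_map, Subgroup.range_subtype]
  rw [h2] at h1
  rw [h1, Zc_map_of_injOn T.subtype _ (hinj.mono (Jn_le n _))]

theorem isCharPFunctor_WZe (p : ℕ) [Fact p.Prime] (n : ℕ) (hn : p ∣ n) :
    Cfsg.IsCharPFunctor.{u} p (WZe n) := by
  have hW := isSecFunctor_zc.{u} (p := p) n hn
  refine ⟨?_, ?_⟩
  · intro Q _ _ hQ hnt
    apply hW.ne_bot Q ⊤ (hQ.to_subgroup _)
    intro h
    obtain ⟨x, hx⟩ := exists_ne (1 : Q)
    have : x ∈ (⊤ : Subgroup Q) := Subgroup.mem_top x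
    rw [h, Subgroup.mem_bot] at this
    exact hx this
  · intro Q R _ _ _ hQ φ
    have : Finite R := Finite.of_equiv Q φ.toEquiv
    have h1 := hW.map Q R φ.toMonoidHom ⊤ (hQ.to_subgroup _)
      (Set.injOn_of_injective φ.injective)
    have h2 : (⊤ : Subgroup Q).map φ.toMonoidHom = ⊤ :=
      Subgroup.map_top_of_surjective _ φ.surjective
    rw [h2] at h1
    exact h1.symm

section

variable {p : ℕ} [Fact p.Prime] {X : Type u} [Group X] [Finite X]

/-- `N(Z(J_n(S)))` controls strong fusion in a `Qd(p)`-free group -/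
theorem ctl_zc_of_qf (hp : p ≠ 2) (n : ℕ) (hn : p ∣ n) (hqf : QF p X) (S : Sylow p X) :
    Ctl (Zc (Jn n X (S : Subgroup X))) (S : Subgroup X) := by
  have h𝓦 : ∀ W' ∈ ({WZe n} : Set (∀ (Q : Type u) [Group Q], Subgroup Q)),
      Cfsg.IsCharPFunctor.{u} p W' := by
    intro W' hW'
    rw [Set.mem_singleton_iff.mp hW']; exact isCharPFunctor_WZe p n hn
  have hloc' : ∀ (K R : Subgroup X) [hR : (R.subgroupOf K).Normal],
      Subgroup.centralizer ((Cfsg.pCore p (↥K ⧸ R.subgroupOf K) : Subgroup (↥K ⧸ R.subgroupOf K)) :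
        Set (↥K ⧸ R.subgroupOf K)) ≤ Cfsg.pCore p (↥K ⧸ R.subgroupOf K) →
      Cfsg.FamilyControlsStrongFusionIn p (indFam {WZe n} (↥K ⧸ R.subgroupOf K)) ⊤ := by
    intro K R hR hc
    obtain ⟨T⟩ : Nonempty (Sylow p (↥K ⧸ R.subgroupOf K)) := inferInstance
    apply fcsf_top_of_reach T
    intro A h hA hhA
    apply Reach.single hA ?_ hhA
    refine ⟨Cfsg.inducedFunctor (WZe n), ⟨WZe n, rfl, rfl⟩, ⟨Subgroup.mem_top _, ?_⟩⟩
    have hn' : (Cfsg.inducedFunctor (WZe n) (T : Subgroup (↥K ⧸ R.subgroupOf K))).Normal := by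
      rw [inducedFunctor_WZe]
      have hqf' : QF p (↥K ⧸ R.subgroupOf K) := by
        intro h1
        apply hqf
        have h2 : Cfsg.Agent.Lib.Helper9.IsSectionOf (↥K ⧸ R.subgroupOf K) X :=
          ⟨K, QuotientGroup.mk' _, QuotientGroup.mk'_surjective _⟩
        exact h1.trans h2
      exact zc_normal hp n hn hc T
        (quadHyp_of_isNormalizerPStable (isNormalizerPStable_of_qf hp hqf'))
    rw [Subgroup.normalizer_eq_top_iff.mpr hn']
    exact Subgroup.mem_top _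
  have hmain := fcsf_of_sections (G := X) h𝓦 hloc' X (IsSectionOf.refl X)
  intro A g hA hgA
  have hTi : ¬ p ∣ (S : Subgroup X).relIndex ⊤ := by
    rw [Subgroup.relIndex_top_right]; exact S.not_dvd_index
  obtain ⟨c, hc, hceq⟩ := reach_of_familyControls (indFam_isConjugacyFunctor h𝓦) hmain le_top
    S.isPGroup' hTi A g (Subgroup.mem_top _) hA hgA
  refine ⟨c, ?_, hceq⟩
  rw [← inducedFunctor_WZe]
  apply Cfsg.Agent.S1969.fchain_mem hc
  rintro _ ⟨W', hW', rfl⟩
  rw [Set.mem_singleton_iff.mp hW']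

end

end ZE

end Cfsg.Agent.Lib.Helper8
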