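import Mathlib
import Cfsg.Agent.Lib.Helper8.ZQ1

/-!
# The Z*-theorem for subgroups of weakly closed `2`-elements
-/

set_option autoImplicit false
set_option maxHeartbeats 1600000

namespace Cfsg.Agent.Lib.Helper8

open Cfsg

universe u

/-- If every element of `Q ≤ S` is its only conjugate in the Sylow `2`-subgroup `S`, then `Q` is central
modulo `O(G)`. -/
theorem zq_main : ∀ (n : ℕ) (G : Type u) [Group G] [Finite G] (S : Sylow 2 G) (Q : Subgroup G),
    Nat.card G = n → Q ≤ (S : Subgroup G) →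
    (∀ q ∈ Q, ∀ g : G, g * q * g⁻¹ ∈ (S : Subgroup G) → g * q * g⁻¹ = q) →
    ∀ q ∈ Q, ∀ g : G, q * g * q⁻¹ * g⁻¹ ∈ pPrimeCore 2 G := by
  intro n
  induction n using Nat.strong_induction_on with
  | _ n ih =>
    intro G _ _ S Q hn hQS hWC q hq g
    haveI : Fact (Nat.Prime 2) := ⟨Nat.prime_two⟩
    obtain ⟨hNn, hNc⟩ := Cfsg.Agent.Lib.Helper6.pPrimeCore_mem_set (G := G) 2
    haveI := hNn
    have two_elt : ∀ s ∈ (S : Subgroup G), ∃ k : ℕ, orderOf s = 2 ^ k := by
      intro s hs
      obtain ⟨k, hk⟩ := IsPGroup.iff_orderOf.mp S.isPGroup' ⟨s, hs⟩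
      rw [Subgroup.orderOf_mk] at hk
      exact ⟨k, hk⟩
    by_cases hN : pPrimeCore 2 G = ⊥
    · rw [hN, Subgroup.mem_bot]
      have hO : ∀ N : Subgroup G, N.Normal → Odd (Nat.card N) → N = ⊥ := by
        intro N hNn' hodd
        have := Cfsg.Agent.Lib.Helper6.le_pPrimeCore hNn'
          (Nat.Coprime.symm (Nat.coprime_two_left.2 hodd))
        rw [hN] at this
        exact le_bot_iff.1 this
      by_cases hq1 : q = 1
      · rw [hq1]; group
      · obtain ⟨k, hk⟩ := two_elt q (hQS hq)
        have hk0 : k ≠ 0 := by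
          rintro rfl
          rw [pow_zero, orderOf_eq_one_iff] at hk
          exact hq1 hk
        obtain ⟨j, rfl⟩ := Nat.exists_eq_succ_of_ne_zero hk0
        obtain ⟨t, htdef⟩ : ∃ t : G, t = q ^ (2 ^ j) := ⟨_, rfl⟩
        have ht2 : orderOf t = 2 := by
          apply orderOf_eq_prime
          · rw [htdef, ← pow_mul, ← pow_succ, ← hk, pow_orderOf_eq_one]
          · rw [htdef]
            apply pow_ne_one_of_lt_orderOf (pow_ne_zero _ two_ne_zero)
            rw [hk]
            exact Nat.pow_lt_pow_right (by norm_num) (Nat.lt_succ_self j)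
        have htQ : t ∈ Q := by rw [htdef]; exact Subgroup.pow_mem _ hq _
        have htiso : IsIsolatedInvolution t :=
          zs_isolated_of_sylow S ht2 (fun g hg => hWC t htQ g hg)
        have htc : ∀ g : G, g * t * g⁻¹ = t := by
          intro g
          have := zstar_pPrimeCore htiso g
          rw [hN, Subgroup.mem_bot] at this
          have h2 : t * g * t⁻¹ = g := mul_inv_eq_one.1 this
          calc g * t * g⁻¹ = (t * g * t⁻¹) * t * g⁻¹ := by rw [h2]
            _ = t := by group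
        haveI hZn : (Subgroup.zpowers t).Normal := ⟨fun x hx g => by
          obtain ⟨i, rfl⟩ := Subgroup.mem_zpowers_iff.1 hx
          have : g * t ^ i * g⁻¹ = (g * t * g⁻¹) ^ i := by
            have := map_zpow (MulAut.conj g) t i
            simpa using this
          rw [this, htc g]
          exact Subgroup.zpow_mem _ (Subgroup.mem_zpowers t) i⟩
        have hZcard : Nat.card (Subgroup.zpowers t) = 2 := by rw [Nat.card_zpowers, ht2]
        have hZS : Subgroup.zpowers t ≤ (S : Subgroup G) :=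
          Subgroup.zpowers_le.2 (hQS htQ)
        have hcard : Nat.card (G ⧸ Subgroup.zpowers t) < n := by
          have h1 := Subgroup.card_eq_card_quotient_mul_card_subgroup (Subgroup.zpowers t)
          rw [hZcard, hn] at h1
          have h3 : 0 < Nat.card (G ⧸ Subgroup.zpowers t) := Nat.card_pos
          omega
        have hπ : Function.Surjective (QuotientGroup.mk' (Subgroup.zpowers t)) :=
          QuotientGroup.mk'_surjective _
        have hWC' : ∀ q' ∈ Q.map (QuotientGroup.mk' (Subgroup.zpowers t)),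
            ∀ g' : G ⧸ Subgroup.zpowers t,
            g' * q' * g'⁻¹ ∈ ((S.mapSurjective hπ : Sylow 2 (G ⧸ Subgroup.zpowers t)) :
              Subgroup (G ⧸ Subgroup.zpowers t)) → g' * q' * g'⁻¹ = q' := by
          rintro _ ⟨q0, hq0, rfl⟩ g' hg'
          obtain ⟨g0, rfl⟩ := hπ g'
          rw [Sylow.coe_mapSurjective] at hg'
          obtain ⟨s, hs, hsq⟩ := hg'
          have h1 : (QuotientGroup.mk' (Subgroup.zpowers t)) (s⁻¹ * (g0 * q0 * g0⁻¹)) = 1 := by
            have h0 : (QuotientGroup.mk' (Subgroup.zpowers t)) (g0 * q0 * g0⁻¹) =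
                (QuotientGroup.mk' (Subgroup.zpowers t)) g0 *
                  (QuotientGroup.mk' (Subgroup.zpowers t)) q0 *
                  ((QuotientGroup.mk' (Subgroup.zpowers t)) g0)⁻¹ := by
              rw [map_mul, map_mul, map_inv]
            rw [map_mul, map_inv, hsq, h0, inv_mul_cancel]
          have h2 : s⁻¹ * (g0 * q0 * g0⁻¹) ∈ Subgroup.zpowers t := by
            rwa [← QuotientGroup.ker_mk' (Subgroup.zpowers t), MonoidHom.mem_ker]
          have h3 : g0 * q0 * g0⁻¹ ∈ (S : Subgroup G) := by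
            have : g0 * q0 * g0⁻¹ = s * (s⁻¹ * (g0 * q0 * g0⁻¹)) := by group
            rw [this]
            exact Subgroup.mul_mem _ hs (hZS h2)
          have h4 := hWC q0 hq0 g0 h3
          rw [← map_inv, ← map_mul, ← map_mul, h4]
        have hcore' : pPrimeCore 2 (G ⧸ Subgroup.zpowers t) = ⊥ := by
          obtain ⟨hn', hc'⟩ := Cfsg.Agent.Lib.Helper6.pPrimeCore_mem_set
            (G := G ⧸ Subgroup.zpowers t) 2
          exact zq_quot_core hO (Subgroup.zpowers t) hZcard _ hn' (Nat.Coprime.odd_of_right hc')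
        have key := ih (Nat.card (G ⧸ Subgroup.zpowers t)) hcard (G ⧸ Subgroup.zpowers t)
          (S.mapSurjective hπ) (Q.map (QuotientGroup.mk' (Subgroup.zpowers t))) rfl
          (by rw [Sylow.coe_mapSurjective]; exact Subgroup.map_mono hQS) hWC'
          ((QuotientGroup.mk' (Subgroup.zpowers t)) q) (Subgroup.mem_map_of_mem _ hq)
          ((QuotientGroup.mk' (Subgroup.zpowers t)) g)
        rw [hcore', Subgroup.mem_bot] at key
        have h5 : q * g * q⁻¹ * g⁻¹ ∈ Subgroup.zpowers t := by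
          rw [← QuotientGroup.ker_mk' (Subgroup.zpowers t), MonoidHom.mem_ker]
          simpa using key
        have h6 : g * q * g⁻¹ ∈ (S : Subgroup G) := by
          have : g * q * g⁻¹ = (q * g * q⁻¹ * g⁻¹)⁻¹ * q := by group
          rw [this]
          exact Subgroup.mul_mem _ (Subgroup.inv_mem _ (hZS h5)) (hQS hq)
        have h7 := hWC q hq g h6
        calc q * g * q⁻¹ * g⁻¹ = q * (g * q * g⁻¹)⁻¹ := by group
          _ = 1 := by rw [h7, mul_inv_cancel]
    · have hcard : Nat.card (G ⧸ pPrimeCore 2 G) < n := by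
        have h1 := Subgroup.card_eq_card_quotient_mul_card_subgroup (pPrimeCore 2 G)
        have h2 : 1 < Nat.card (pPrimeCore 2 G) := by
          rcases Nat.lt_or_ge 1 (Nat.card (pPrimeCore 2 G)) with h | h
          · exact h
          · exact absurd ((Subgroup.card_le_one_iff_eq_bot _).1 h) hN
        have h3 : 0 < Nat.card (G ⧸ pPrimeCore 2 G) := Nat.card_pos
        rw [hn] at h1
        nlinarith
      have hπ : Function.Surjective (QuotientGroup.mk' (pPrimeCore 2 G)) :=
        QuotientGroup.mk'_surjective _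
      have hWC' : ∀ q' ∈ Q.map (QuotientGroup.mk' (pPrimeCore 2 G)),
          ∀ g' : G ⧸ pPrimeCore 2 G,
          g' * q' * g'⁻¹ ∈ ((S.mapSurjective hπ : Sylow 2 (G ⧸ pPrimeCore 2 G)) :
            Subgroup (G ⧸ pPrimeCore 2 G)) → g' * q' * g'⁻¹ = q' := by
        rintro _ ⟨q0, hq0, rfl⟩ g' hg'
        obtain ⟨g0, rfl⟩ := hπ g'
        rw [Sylow.coe_mapSurjective] at hg'
        obtain ⟨s, hs, hsq⟩ := hg'
        have h2 : (g0 * q0 * g0⁻¹) * s⁻¹ ∈ pPrimeCore 2 G := by
          have h0 : (QuotientGroup.mk' (pPrimeCore 2 G)) (g0 * q0 * g0⁻¹) =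
              (QuotientGroup.mk' (pPrimeCore 2 G)) g0 *
                (QuotientGroup.mk' (pPrimeCore 2 G)) q0 *
                ((QuotientGroup.mk' (pPrimeCore 2 G)) g0)⁻¹ := by
            rw [map_mul, map_mul, map_inv]
          rw [← QuotientGroup.ker_mk' (pPrimeCore 2 G), MonoidHom.mem_ker, map_mul, map_inv, hsq,
            h0, mul_inv_cancel]
        have hy2 : ∃ k : ℕ, orderOf (g0 * q0 * g0⁻¹) = 2 ^ k := by
          rw [Cfsg.Agent.Lib.Helper2.QuatSylow.orderOf_conj']
          exact two_elt q0 (hQS hq0)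
        obtain ⟨d, hd, hdy⟩ := zq_conj_into (pPrimeCore 2 G) hNc (two_elt s hs) hy2 h2
        have h3 : (d * g0) * q0 * (d * g0)⁻¹ ∈ (S : Subgroup G) := by
          have : (d * g0) * q0 * (d * g0)⁻¹ = d * (g0 * q0 * g0⁻¹) * d⁻¹ := by group
          rw [this, hdy]
          exact hs
        have h4 := hWC q0 hq0 (d * g0) h3
        have hd1 : (QuotientGroup.mk' (pPrimeCore 2 G)) d = 1 := by
          rw [← MonoidHom.mem_ker, QuotientGroup.ker_mk']
          exact hd
        have h5 : (QuotientGroup.mk' (pPrimeCore 2 G)) g0 * (QuotientGroup.mk' (pPrimeCore 2 G)) q0 *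
            ((QuotientGroup.mk' (pPrimeCore 2 G)) g0)⁻¹ =
            (QuotientGroup.mk' (pPrimeCore 2 G)) ((d * g0) * q0 * (d * g0)⁻¹) := by
          rw [map_mul, map_mul, map_inv, map_mul, hd1, one_mul]
        rw [h5, h4]
      have hcore' : pPrimeCore 2 (G ⧸ pPrimeCore 2 G) = ⊥ :=
        Cfsg.Agent.Lib.Helper3.pPrimeCore_quotient_eq_bot
      have key := ih (Nat.card (G ⧸ pPrimeCore 2 G)) hcard (G ⧸ pPrimeCore 2 G)
        (S.mapSurjective hπ) (Q.map (QuotientGroup.mk' (pPrimeCore 2 G))) rfl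
        (by rw [Sylow.coe_mapSurjective]; exact Subgroup.map_mono hQS) hWC'
        ((QuotientGroup.mk' (pPrimeCore 2 G)) q) (Subgroup.mem_map_of_mem _ hq)
        ((QuotientGroup.mk' (pPrimeCore 2 G)) g)
      rw [hcore', Subgroup.mem_bot] at key
      rw [← QuotientGroup.ker_mk' (pPrimeCore 2 G), MonoidHom.mem_ker]
      simpa using key

/-- Z*-theorem for a subgroup of weakly closed elements of a Sylow `2`-subgroup. -/
theorem zstar_weakly_closed {G : Type u} [Group G] [Finite G] (S : Sylow 2 G) {Q : Subgroup G}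
    (hQS : Q ≤ (S : Subgroup G))
    (hWC : ∀ q ∈ Q, ∀ g : G, g * q * g⁻¹ ∈ (S : Subgroup G) → g * q * g⁻¹ = q) {q : G} (hq : q ∈ Q)
    (g : G) : q * g * q⁻¹ * g⁻¹ ∈ pPrimeCore 2 G :=
  zq_main _ G S Q rfl hQS hWC q hq g

end Cfsg.Agent.Lib.Helper8
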