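import Mathlib
import Cfsg.Prelude.Def_FusionSystem
import Cfsg.Prelude.Def_CaseTheorems
import Cfsg.Agent.Lib.Helper8.ZQ2

/-!
# The centre of the fusion system of a group at the prime `2`: `Z(F_S(G)) = S ∩ Z*(G)`
-/

set_option autoImplicit false
set_option maxHeartbeats 1600000

namespace Cfsg.Agent.Lib.Helper8

open Cfsg Cfsg.FusionSystem

universe u

section

variable {G : Type u} [Group G] [Finite G] (S : Sylow 2 G)

omit [Finite G] in
/-- A map of the system fixes every element of a central subgroup that lies in its source. -/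
theorem zq_isCentral_fixes (F : FusionSystem (S : Subgroup G)) {Q : Subgroup G}
    (hQ : F.IsCentral Q) {R : Subgroup G} {φ : R →* G} (hφ : φ ∈ F.Hom R) (x : R)
    (hx : (x : G) ∈ Q) : φ x = x := by
  obtain ⟨ψ, -, hψR, hψQ⟩ := hQ.2 R φ hφ
  have h1 := hψR x
  have h2 := hψQ ⟨x, hx⟩
  have h3 : (Subgroup.inclusion le_sup_left x : ↥(R ⊔ Q)) =
      Subgroup.inclusion le_sup_right (⟨x, hx⟩ : Q) := Subtype.ext rfl
  rw [← h1, h3, h2]

omit [Finite G] in
/-- Elements of a central subgroup are weakly closed in `S`. -/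
theorem zq_central_wc {Q : Subgroup G}
    (hQ : (groupFusionSystem (S : Subgroup G)).IsCentral Q) {q : G} (hq : q ∈ Q) (g : G)
    (hg : g * q * g⁻¹ ∈ (S : Subgroup G)) : g * q * g⁻¹ = q := by
  have hqS : q ∈ (S : Subgroup G) := hQ.1 hq
  have hφ : conjHom (Subgroup.zpowers q) g ∈
      (groupFusionSystem (S : Subgroup G)).Hom (Subgroup.zpowers q) := by
    refine ⟨Subgroup.zpowers_le.2 hqS, ?_, g, fun x => rfl⟩
    rintro ⟨x, hx⟩
    obtain ⟨i, rfl⟩ := Subgroup.mem_zpowers_iff.1 hx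
    show g * q ^ i * g⁻¹ ∈ (S : Subgroup G)
    have : g * q ^ i * g⁻¹ = (g * q * g⁻¹) ^ i := by
      have := map_zpow (MulAut.conj g) q i
      simpa using this
    rw [this]
    exact Subgroup.zpow_mem _ hg i
  exact zq_isCentral_fixes S _ hQ hφ ⟨q, Subgroup.mem_zpowers q⟩ hq

/-- Central subgroups of the fusion system lie in `S ∩ Z*(G)`. -/
theorem zq_center_le :
    (groupFusionSystem (S : Subgroup G)).center ≤ (S : Subgroup G) ⊓
      (Subgroup.center (G ⧸ Cfsg.oddCore G)).comap (QuotientGroup.mk' (Cfsg.oddCore G)) := by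
  apply sSup_le
  intro Q hQ
  have hQ' : (groupFusionSystem (S : Subgroup G)).IsCentral Q := hQ
  obtain ⟨hn, -⟩ := Cfsg.Agent.Lib.Helper6.pPrimeCore_mem_set (G := G) 2
  intro q hq
  rw [Subgroup.mem_inf]
  refine ⟨hQ'.1 hq, ?_⟩
  rw [Subgroup.mem_comap, Subgroup.mem_center_iff]
  intro g'
  obtain ⟨g, rfl⟩ := QuotientGroup.mk'_surjective (Cfsg.oddCore G) g'
  have h1 := zstar_weakly_closed S hQ'.1 (fun q hq g hg => zq_central_wc S hQ' hq g hg) hq g⁻¹
  have h2 : (g * q)⁻¹ * (q * g) ∈ Cfsg.oddCore G := by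
    have h3 := hn.conj_mem _ (Subgroup.inv_mem _ h1) q⁻¹
    have e : q⁻¹ * (q * g⁻¹ * q⁻¹ * g⁻¹⁻¹)⁻¹ * q⁻¹⁻¹ = (g * q)⁻¹ * (q * g) := by group
    rw [e] at h3
    exact h3
  rw [← map_mul, ← map_mul]
  exact QuotientGroup.eq.2 h2

/-- For `w ∈ S ∩ Z*(G)` the cyclic subgroup `⟨w⟩` is central in the fusion system. -/
theorem zq_isCentral_zpowers {w : G} (hwS : w ∈ (S : Subgroup G))
    (hwZ : ∀ a : G, w * a * w⁻¹ * a⁻¹ ∈ pPrimeCore 2 G) :
    (groupFusionSystem (S : Subgroup G)).IsCentral (Subgroup.zpowers w) := by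
  haveI : Fact (Nat.Prime 2) := ⟨Nat.prime_two⟩
  obtain ⟨hn, hc⟩ := Cfsg.Agent.Lib.Helper6.pPrimeCore_mem_set (G := G) 2
  haveI := hn
  have two_elt : ∀ s ∈ (S : Subgroup G), ∃ k : ℕ, orderOf s = 2 ^ k := by
    intro s hs
    obtain ⟨k, hk⟩ := IsPGroup.iff_orderOf.mp S.isPGroup' ⟨s, hs⟩
    rw [Subgroup.orderOf_mk] at hk
    exact ⟨k, hk⟩
  -- `w` is central in `S`
  have hwc : ∀ s ∈ (S : Subgroup G), Commute w s := by
    intro s hs
    have h1 : w * s * w⁻¹ * s⁻¹ ∈ (S : Subgroup G) :=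
      Subgroup.mul_mem _ (Subgroup.mul_mem _ (Subgroup.mul_mem _ hwS hs) (Subgroup.inv_mem _ hwS))
        (Subgroup.inv_mem _ hs)
    have h2 := Cfsg.Agent.Lib.Helper6.eq_one_of_pElement_of_coprime_card hc (hwZ s)
      (two_elt _ h1)
    have h3 : w * s * w⁻¹ = s := mul_inv_eq_one.1 h2
    show w * s = s * w
    calc w * s = (w * s * w⁻¹) * w := by group
      _ = s * w := by rw [h3]
  refine ⟨Subgroup.zpowers_le.2 hwS, ?_⟩
  rintro P φ ⟨hPS, hφS, g, hg⟩
  -- the centralizer of the image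
  have hwK : w ∈ Subgroup.centralizer (φ.range : Set G) := by
    rw [Subgroup.mem_centralizer_iff]
    rintro _ ⟨x, rfl⟩
    exact ((hwc _ (hφS x)).eq).symm
  have hyK : g * w * g⁻¹ ∈ Subgroup.centralizer (φ.range : Set G) := by
    rw [Subgroup.mem_centralizer_iff]
    rintro _ ⟨x, rfl⟩
    rw [hg x]
    have := (hwc _ (hPS x.2)).eq
    calc g * (x : G) * g⁻¹ * (g * w * g⁻¹) = g * ((x : G) * w) * g⁻¹ := by group
      _ = g * (w * (x : G)) * g⁻¹ := by rw [this]
      _ = g * w * g⁻¹ * (g * (x : G) * g⁻¹) := by group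
  have hcop : (Nat.card ((pPrimeCore 2 G).subgroupOf
      (Subgroup.centralizer (φ.range : Set G)))).Coprime 2 := by
    have hdvd : Nat.card ((pPrimeCore 2 G).subgroupOf
        (Subgroup.centralizer (φ.range : Set G))) ∣ Nat.card (pPrimeCore 2 G) := by
      apply Subgroup.card_dvd_of_injective
        (((Subgroup.centralizer (φ.range : Set G)).subtype.comp
          ((pPrimeCore 2 G).subgroupOf (Subgroup.centralizer (φ.range : Set G))).subtype).codRestrict
          (pPrimeCore 2 G) (fun x => x.2))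
      intro a b hab
      have := congrArg Subtype.val hab
      exact Subtype.ext (Subtype.ext this)
    exact Nat.Coprime.coprime_dvd_left hdvd hc
  have hw2 : ∃ k : ℕ, orderOf (⟨w, hwK⟩ : Subgroup.centralizer (φ.range : Set G)) = 2 ^ k := by
    rw [Subgroup.orderOf_mk]; exact two_elt w hwS
  have hy2 : ∃ k : ℕ, orderOf (⟨g * w * g⁻¹, hyK⟩ : Subgroup.centralizer (φ.range : Set G)) =
      2 ^ k := by
    rw [Subgroup.orderOf_mk, Cfsg.Agent.Lib.Helper2.QuatSylow.orderOf_conj']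
    exact two_elt w hwS
  have hyw : (⟨g * w * g⁻¹, hyK⟩ : Subgroup.centralizer (φ.range : Set G)) *
      (⟨w, hwK⟩ : Subgroup.centralizer (φ.range : Set G))⁻¹ ∈
      (pPrimeCore 2 G).subgroupOf (Subgroup.centralizer (φ.range : Set G)) := by
    rw [Subgroup.mem_subgroupOf]
    show g * w * g⁻¹ * w⁻¹ ∈ pPrimeCore 2 G
    have := Subgroup.inv_mem _ (hwZ g)
    have e : (w * g * w⁻¹ * g⁻¹)⁻¹ = g * w * g⁻¹ * w⁻¹ := by group
    rwa [e] at this
  obtain ⟨d, -, hdy⟩ := zq_conj_into ((pPrimeCore 2 G).subgroupOf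
    (Subgroup.centralizer (φ.range : Set G))) hcop hw2 hy2 hyw
  have hdy' : (d : G) * (g * w * g⁻¹) * (d : G)⁻¹ = w := by
    have := congrArg Subtype.val hdy
    simp only [Subgroup.coe_mul, Subgroup.coe_inv] at this
    exact this
  have hdK : ∀ x : P, (d : G) * φ x * (d : G)⁻¹ = φ x := by
    intro x
    have := Subgroup.mem_centralizer_iff.1 d.2 (φ x) ⟨x, rfl⟩
    calc (d : G) * φ x * (d : G)⁻¹ = (φ x * (d : G)) * (d : G)⁻¹ := by rw [this]
      _ = φ x := by group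
  -- the extension
  have hP1 : ∀ x : P, ((d : G) * g) * (x : G) * ((d : G) * g)⁻¹ = φ x := by
    intro x
    calc ((d : G) * g) * (x : G) * ((d : G) * g)⁻¹ = (d : G) * (g * (x : G) * g⁻¹) * (d : G)⁻¹ := by
          group
      _ = (d : G) * φ x * (d : G)⁻¹ := by rw [hg x]
      _ = φ x := hdK x
  have hW1 : ((d : G) * g) * w * ((d : G) * g)⁻¹ = w := by
    calc ((d : G) * g) * w * ((d : G) * g)⁻¹ = (d : G) * (g * w * g⁻¹) * (d : G)⁻¹ := by group
      _ = w := hdy'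
  have hW2 : ∀ x ∈ Subgroup.zpowers w, ((d : G) * g) * x * ((d : G) * g)⁻¹ = x := by
    intro x hx
    obtain ⟨i, rfl⟩ := Subgroup.mem_zpowers_iff.1 hx
    have : ((d : G) * g) * w ^ i * ((d : G) * g)⁻¹ = (((d : G) * g) * w * ((d : G) * g)⁻¹) ^ i :=
      conj_zpow.symm
    rw [this, hW1]
  have hsup : P ⊔ Subgroup.zpowers w ≤
      (S : Subgroup G).comap (MulAut.conj ((d : G) * g)).toMonoidHom := by
    apply sup_le
    · intro x hx
      rw [Subgroup.mem_comap]
      show ((d : G) * g) * x * ((d : G) * g)⁻¹ ∈ (S : Subgroup G)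
      rw [hP1 ⟨x, hx⟩]
      exact hφS _
    · intro x hx
      rw [Subgroup.mem_comap]
      show ((d : G) * g) * x * ((d : G) * g)⁻¹ ∈ (S : Subgroup G)
      rw [hW2 x hx]
      exact (Subgroup.zpowers_le.2 hwS) hx
  refine ⟨conjHom (P ⊔ Subgroup.zpowers w) ((d : G) * g),
    ⟨sup_le hPS (Subgroup.zpowers_le.2 hwS), fun x => hsup x.2, (d : G) * g, fun x => rfl⟩, ?_, ?_⟩
  · intro x
    exact hP1 x
  · intro x
    exact hW2 x x.2

/-- **Glauberman's Z*-theorem in fusion language.** -/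
theorem zq_center_eq :
    (groupFusionSystem (S : Subgroup G)).center = (S : Subgroup G) ⊓
      (Subgroup.center (G ⧸ Cfsg.oddCore G)).comap (QuotientGroup.mk' (Cfsg.oddCore G)) := by
  apply le_antisymm (zq_center_le S)
  intro w hw
  rw [Subgroup.mem_inf] at hw
  obtain ⟨hwS, hwZ⟩ := hw
  rw [Subgroup.mem_comap, Subgroup.mem_center_iff] at hwZ
  obtain ⟨hn, -⟩ := Cfsg.Agent.Lib.Helper6.pPrimeCore_mem_set (G := G) 2
  have hwZ' : ∀ a : G, w * a * w⁻¹ * a⁻¹ ∈ pPrimeCore 2 G := by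
    intro a
    have h1 := hwZ ((QuotientGroup.mk' (Cfsg.oddCore G)) a)
    rw [← map_mul, ← map_mul] at h1
    have h2 : (a * w)⁻¹ * (w * a) ∈ Cfsg.oddCore G := QuotientGroup.eq.1 h1
    have h3 := hn.conj_mem _ h2 (a * w)
    have e : (a * w) * ((a * w)⁻¹ * (w * a)) * (a * w)⁻¹ = w * a * w⁻¹ * a⁻¹ := by group
    rw [e] at h3
    exact h3
  have hcen := zq_isCentral_zpowers S hwS hwZ'
  have hle : Subgroup.zpowers w ≤ (groupFusionSystem (S : Subgroup G)).center :=
    le_sSup hcen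
  exact hle (Subgroup.mem_zpowers w)

end

end Cfsg.Agent.Lib.Helper8
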