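import Mathlib
import Cfsg.Prelude.Def_Transfer
import Cfsg.Agent.Lib.Helper8.ZQ2

/-!
# Weakly closed cyclic subgroups of the centre of a Sylow `2`-subgroup

If `q` is central in the Sylow `2`-subgroup `S` and `⟨q⟩` is weakly closed in `S`, then `q` is the only
conjugate of `q` in `S`.  Consequently, if all subgroups of `Z(S)` are weakly closed, then
`G = O(G) C_G(Z(S))`.
-/

set_option autoImplicit false
set_option maxHeartbeats 1600000

namespace Cfsg.Agent.Lib.Helper8

open Cfsg

universe u

section

variable {G : Type u} [Group G]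

/-- If `i ^ n ≡ 1` modulo `2 ^ k` with `n` odd, then `i ≡ 1` modulo `2 ^ k`. -/
theorem zw_two_pow_dvd {i : ℤ} {k n : ℕ} (hn : Odd n) (h : ((2 : ℤ) ^ k) ∣ i ^ n - 1) :
    ((2 : ℤ) ^ k) ∣ i - 1 := by
  rcases Nat.eq_zero_or_pos k with hk | hk
  · rw [hk, pow_zero]; exact one_dvd _
  · have h2 : (2 : ℤ) ∣ i ^ n - 1 := dvd_trans (dvd_pow_self 2 hk.ne') h
    have hin : Odd (i ^ n) := by
      obtain ⟨t, ht⟩ := h2
      exact ⟨t, by linarith⟩
    have hi : Odd i := by
      rcases Int.even_or_odd i with he | ho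
      · exfalso
        have : Even (i ^ n) := he.pow_of_ne_zero (by rintro rfl; exact absurd hn (by decide))
        exact (Int.not_even_iff_odd.2 hin) this
      · exact ho
    have hsum : Odd (∑ j ∈ Finset.range n, i ^ j) := by
      have : ∀ m : ℕ, (Odd m → Odd (∑ j ∈ Finset.range m, i ^ j)) ∧
          (Even m → Even (∑ j ∈ Finset.range m, i ^ j)) := by
        intro m
        induction m with
        | zero => exact ⟨fun h => absurd h (by decide), fun _ => by simp⟩
        | succ m ih =>
          rw [Finset.sum_range_succ]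
          constructor
          · intro hm
            have hme : Even m := by
              rcases Nat.even_or_odd m with h | h
              · exact h
              · exact absurd hm (Nat.not_odd_iff_even.2 (Nat.even_add_one.2 (Nat.not_even_iff_odd.2 h)))
            exact (ih.2 hme).add_odd (hi.pow)
          · intro hm
            have hmo : Odd m := by
              rcases Nat.even_or_odd m with h | h
              · exact absurd hm (Nat.not_even_iff_odd.2 (Even.add_one h))
              · exact h
            exact (ih.1 hmo).add_odd (hi.pow)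
      exact (this n).1 hn
    have hcop : IsCoprime ((2 : ℤ) ^ k) (∑ j ∈ Finset.range n, i ^ j) := by
      apply IsCoprime.pow_left
      obtain ⟨t, ht⟩ := hsum
      exact ⟨-t, 1, by rw [ht]; ring⟩
    have hfac : i ^ n - 1 = (i - 1) * ∑ j ∈ Finset.range n, i ^ j := (mul_geom_sum i n).symm
    rw [hfac] at h
    exact hcop.dvd_of_dvd_mul_right h

/-- Conjugating by powers. -/
theorem zw_conj_pow {g q : G} {i : ℤ} (h : g * q * g⁻¹ = q ^ i) (j : ℕ) :
    g ^ j * q * (g ^ j)⁻¹ = q ^ (i ^ j) := by
  induction j with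
  | zero => simp
  | succ j ih =>
    have e : g ^ (j + 1) * q * (g ^ (j + 1))⁻¹ = g * (g ^ j * q * (g ^ j)⁻¹) * g⁻¹ := by
      rw [pow_succ', mul_inv_rev]; simp only [mul_assoc]
    rw [e, ih, ← conj_zpow, h, ← zpow_mul, pow_succ]
    rw [mul_comm]

end

section

variable {G : Type u} [Group G] [Finite G]

/-- If `q` is central in `S` and `⟨q⟩` is weakly closed in `S`, then `q` is weakly closed as an
element. -/
theorem zw_wc_element (S : Sylow 2 G) {q : G} (hqS : q ∈ (S : Subgroup G))
    (hqZ : ∀ s ∈ (S : Subgroup G), Commute q s)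
    (hwc : IsWeaklyClosed (Subgroup.zpowers q) (S : Subgroup G)) (g : G)
    (hg : g * q * g⁻¹ ∈ (S : Subgroup G)) : g * q * g⁻¹ = q := by
  haveI : Fact (Nat.Prime 2) := ⟨Nat.prime_two⟩
  have hmap : (Subgroup.zpowers q).map (MulAut.conj g).toMonoidHom = Subgroup.zpowers q := by
    apply hwc.2 g
    rw [MonoidHom.map_zpowers, Subgroup.zpowers_le]
    exact hg
  have hgq : g * q * g⁻¹ ∈ Subgroup.zpowers q := by
    rw [← hmap]
    exact ⟨q, Subgroup.mem_zpowers q, rfl⟩
  obtain ⟨i, hi⟩ := Subgroup.mem_zpowers_iff.1 hgq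
  -- `g` normalizes `⟨q⟩`
  have hgL : g ∈ Subgroup.normalizer (Subgroup.zpowers q : Set G) := by
    rw [Subgroup.mem_normalizer_iff]
    intro h
    constructor
    · intro hh
      rw [← hmap]
      exact ⟨h, hh, rfl⟩
    · intro hh
      rw [← hmap] at hh
      obtain ⟨a, ha, hah⟩ := hh
      have : a = h := by
        have h1 : g * a * g⁻¹ = g * h * g⁻¹ := hah
        exact mul_left_cancel (mul_right_cancel h1)
      rw [← this]; exact ha
  -- the centralizer of `q` is normal in the normalizer of `⟨q⟩`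
  have hDL : Subgroup.centralizer ({q} : Set G) ≤
      Subgroup.normalizer (Subgroup.zpowers q : Set G) := by
    intro d hd
    have hdq : d * q = q * d := Subgroup.mem_centralizer_singleton_iff.1 hd
    rw [Subgroup.mem_normalizer_iff]
    intro h
    have key : ∀ a ∈ Subgroup.zpowers q, d * a * d⁻¹ = a := by
      intro a ha
      obtain ⟨j, rfl⟩ := Subgroup.mem_zpowers_iff.1 ha
      have : d * q * d⁻¹ = q := by rw [hdq]; group
      rw [← conj_zpow, this]
    constructor
    · intro hh
      rw [key h hh]; exact hh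
    · intro hh
      have h3 := key _ hh
      have h4 : d * h * d⁻¹ = h := mul_left_cancel (mul_right_cancel h3)
      rw [← h4]; exact hh
  haveI hnorm : ((Subgroup.centralizer ({q} : Set G)).subgroupOf
      (Subgroup.normalizer (Subgroup.zpowers q : Set G))).Normal := by
    constructor
    intro d hd l
    rw [Subgroup.mem_subgroupOf] at hd ⊢
    rw [Subgroup.mem_centralizer_singleton_iff] at hd ⊢
    simp only [Subgroup.coe_mul, Subgroup.coe_inv]
    -- `l⁻¹ q l` is a power of `q`, hence commutes with `d`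
    have hl : (l : G)⁻¹ ∈ Subgroup.normalizer (Subgroup.zpowers q : Set G) :=
      Subgroup.inv_mem _ l.2
    have h1 : (l : G)⁻¹ * q * (l : G)⁻¹⁻¹ ∈ Subgroup.zpowers q :=
      (Subgroup.mem_normalizer_iff.1 hl q).1 (Subgroup.mem_zpowers q)
    rw [inv_inv] at h1
    obtain ⟨j, hj⟩ := Subgroup.mem_zpowers_iff.1 h1
    have hdj : (d : G) * q ^ j = q ^ j * (d : G) := by
      have : Commute (d : G) q := hd
      exact (this.zpow_right j).eq
    calc (l : G) * (d : G) * (l : G)⁻¹ * q
        = (l : G) * ((d : G) * ((l : G)⁻¹ * q * (l : G))) * (l : G)⁻¹ := by group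
      _ = (l : G) * ((d : G) * q ^ j) * (l : G)⁻¹ := by rw [hj]
      _ = (l : G) * (q ^ j * (d : G)) * (l : G)⁻¹ := by rw [hdj]
      _ = (l : G) * (((l : G)⁻¹ * q * (l : G)) * (d : G)) * (l : G)⁻¹ := by rw [hj]
      _ = q * ((l : G) * (d : G) * (l : G)⁻¹) := by group
  -- the index is odd
  have hSD : (S : Subgroup G) ≤ Subgroup.centralizer ({q} : Set G) := by
    intro s hs
    exact Subgroup.mem_centralizer_singleton_iff.2 (hqZ s hs).eq.symm
  have hodd : Odd ((Subgroup.centralizer ({q} : Set G)).relIndex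
      (Subgroup.normalizer (Subgroup.zpowers q : Set G))) := by
    have h1 : (Subgroup.centralizer ({q} : Set G)).relIndex
        (Subgroup.normalizer (Subgroup.zpowers q : Set G)) ∣
        (Subgroup.centralizer ({q} : Set G)).index :=
      Subgroup.relIndex_dvd_index_of_le hDL
    have h2 : (Subgroup.centralizer ({q} : Set G)).index ∣ (S : Subgroup G).index :=
      Subgroup.index_dvd_of_le hSD
    have h3 : ¬ 2 ∣ (S : Subgroup G).index := S.not_dvd_index
    rw [← Nat.not_even_iff_odd, even_iff_two_dvd]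
    exact fun h => h3 (dvd_trans h (dvd_trans h1 h2))
  have hpow := Subgroup.pow_index_mem ((Subgroup.centralizer ({q} : Set G)).subgroupOf
      (Subgroup.normalizer (Subgroup.zpowers q : Set G))) (⟨g, hgL⟩ : Subgroup.normalizer
      (Subgroup.zpowers q : Set G))
  rw [Subgroup.mem_subgroupOf, Subgroup.mem_centralizer_singleton_iff] at hpow
  simp only [Subgroup.coe_pow] at hpow
  obtain ⟨n, hn⟩ : ∃ n : ℕ, n = ((Subgroup.centralizer ({q} : Set G)).subgroupOf
      (Subgroup.normalizer (Subgroup.zpowers q : Set G))).index := ⟨_, rfl⟩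
  rw [← hn] at hpow
  have hnodd : Odd n := by rw [hn]; exact hodd
  have h4 := zw_conj_pow hi.symm n
  have h5 : g ^ n * q * (g ^ n)⁻¹ = q := by rw [hpow]; group
  rw [h5] at h4
  have h6 : (orderOf q : ℤ) ∣ i ^ n - 1 := by
    rw [orderOf_dvd_sub_iff_zpow_eq_zpow, zpow_one]
    exact h4.symm
  obtain ⟨k, hk⟩ := IsPGroup.iff_orderOf.mp S.isPGroup' ⟨q, hqS⟩
  rw [Subgroup.orderOf_mk] at hk
  rw [hk] at h6
  push_cast at h6
  have h7 := zw_two_pow_dvd hnodd h6
  have h8 : (orderOf q : ℤ) ∣ i - 1 := by rw [hk]; push_cast; exact h7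
  rw [orderOf_dvd_sub_iff_zpow_eq_zpow, zpow_one] at h8
  rw [← hi, h8]

end

end Cfsg.Agent.Lib.Helper8
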