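import Mathlib
import Cfsg.Prelude.Def_CaseTheorems
import Cfsg.Agent.Lib.Helper8.ZW1

/-!
# `G = O(G) C_G(Z(S))` when all subgroups of `Z(S)` are weakly closed
-/

set_option autoImplicit false
set_option maxHeartbeats 1600000

namespace Cfsg.Agent.Lib.Helper8

open Cfsg

universe u

section

variable {X : Type u} [Group X] [Finite X]

/-- If the `2`-subgroup `W` is central modulo the normal subgroup `N` of odd order, then every element
is the product of an element of `N` and an element centralizing `W`. -/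
theorem zw_conj_sub (N : Subgroup X) [hNn : N.Normal] (hN : (Nat.card N).Coprime 2)
    {W : Subgroup X} (hW : IsPGroup 2 W) (h : X) (hh : ∀ w ∈ W, h * w * h⁻¹ * w⁻¹ ∈ N) :
    ∃ n ∈ N, ∀ w ∈ W, (n⁻¹ * h) * w * (n⁻¹ * h)⁻¹ = w := by
  haveI : Fact (Nat.Prime 2) := ⟨Nat.prime_two⟩
  have hWL : W ≤ N ⊔ W := le_sup_right
  obtain ⟨T, hT⟩ := exists_sylow_map_ge (N ⊔ W) hW hWL
  have hT2 : IsPGroup 2 ((T : Subgroup ↥(N ⊔ W)).map (N ⊔ W).subtype) := T.isPGroup'.map _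
  have two_elt : ∀ n : X, n ∈ N → (∃ k : ℕ, orderOf n = 2 ^ k) → n = 1 := by
    intro n hnN hk
    exact Cfsg.Agent.Lib.Helper6.eq_one_of_pElement_of_coprime_card hN hnN hk
  have hT'W : ∀ t ∈ (T : Subgroup ↥(N ⊔ W)).map (N ⊔ W).subtype, t ∈ W := by
    intro t ht
    have htL : t ∈ N ⊔ W := by
      obtain ⟨t', -, rfl⟩ := ht
      exact t'.2
    obtain ⟨n, hn, z, hz, rfl⟩ := Subgroup.mem_sup_of_normal_left.1 htL
    have hnT : n ∈ (T : Subgroup ↥(N ⊔ W)).map (N ⊔ W).subtype := by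
      have : n = (n * z) * z⁻¹ := by group
      rw [this]
      exact Subgroup.mul_mem _ ht (Subgroup.inv_mem _ (hT hz))
    obtain ⟨k, hk⟩ := IsPGroup.iff_orderOf.mp hT2 ⟨n, hnT⟩
    rw [Subgroup.orderOf_mk] at hk
    rw [two_elt n hn ⟨k, hk⟩, one_mul]
    exact hz
  have hY : IsPGroup 2 (W.map (MulAut.conj h).toMonoidHom) := hW.map _
  have hYL : W.map (MulAut.conj h).toMonoidHom ≤ N ⊔ W := by
    rintro _ ⟨w, hw, rfl⟩
    show h * w * h⁻¹ ∈ N ⊔ W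
    have : h * w * h⁻¹ = (h * w * h⁻¹ * w⁻¹) * w := by group
    rw [this]
    exact Subgroup.mul_mem _ (le_sup_left (a := N) (hh w hw)) (hWL hw)
  obtain ⟨l, hlL, hle⟩ := exists_conj_sylow_ge (N ⊔ W) T hY hYL
  obtain ⟨n, hn, w₀, hw₀, rfl⟩ := Subgroup.mem_sup_of_normal_left.1 hlL
  refine ⟨n, hn, ?_⟩
  intro w hw
  obtain ⟨t, ht, hty⟩ := hle ⟨w, hw, rfl⟩
  have htW := hT'W t ht
  have h1 : (n * w₀) * t * (n * w₀)⁻¹ = h * w * h⁻¹ := hty
  obtain ⟨t', ht'def⟩ : ∃ t' : X, t' = w₀ * t * w₀⁻¹ := ⟨_, rfl⟩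
  have ht'W : t' ∈ W := by
    rw [ht'def]
    exact Subgroup.mul_mem _ (Subgroup.mul_mem _ hw₀ htW) (Subgroup.inv_mem _ hw₀)
  have h2 : h * w * h⁻¹ = n * t' * n⁻¹ := by
    rw [← h1, ht'def]; group
  have h3 : t' * w⁻¹ ∈ N := by
    have h4 : n * t' * n⁻¹ * w⁻¹ ∈ N := by rw [← h2]; exact hh w hw
    have h5 : t' * n * t'⁻¹ ∈ N := hNn.conj_mem n hn t'
    have h6 : (t' * n * t'⁻¹) * n⁻¹ * (n * t' * n⁻¹ * w⁻¹) ∈ N :=
      Subgroup.mul_mem _ (Subgroup.mul_mem _ h5 (Subgroup.inv_mem _ hn)) h4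
    have e : (t' * n * t'⁻¹) * n⁻¹ * (n * t' * n⁻¹ * w⁻¹) = t' * w⁻¹ := by group
    rwa [e] at h6
  have h7 : t' * w⁻¹ = 1 := by
    have hmem : t' * w⁻¹ ∈ W := Subgroup.mul_mem _ ht'W (Subgroup.inv_mem _ hw)
    obtain ⟨k, hk⟩ := IsPGroup.iff_orderOf.mp hW ⟨t' * w⁻¹, hmem⟩
    rw [Subgroup.orderOf_mk] at hk
    exact two_elt _ h3 ⟨k, hk⟩
  have h8 : t' = w := mul_inv_eq_one.1 h7
  calc (n⁻¹ * h) * w * (n⁻¹ * h)⁻¹ = n⁻¹ * (h * w * h⁻¹) * n := by group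
    _ = n⁻¹ * (n * t' * n⁻¹) * n := by rw [h2]
    _ = w := by rw [h8]; group

end

section

variable {H : Type u} [Group H] [Finite H]

/-- If every subgroup of `Z(S)` is weakly closed in the Sylow `2`-subgroup `S`, then
`H = O(H) C_H(Z(S))`. -/
theorem zw_main (S : Sylow 2 H)
    (hwc : ∀ Z₀ : Subgroup H,
      Z₀ ≤ ((Subgroup.center (S : Subgroup H)).map (S : Subgroup H).subtype) →
      Cfsg.IsWeaklyClosed Z₀ (S : Subgroup H)) (h : H) :
    ∃ o ∈ Cfsg.oddCore H, ∃ c ∈ Subgroup.centralizer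
      (((Subgroup.center (S : Subgroup H)).map (S : Subgroup H).subtype : Subgroup H) : Set H),
      h = o * c := by
  haveI : Fact (Nat.Prime 2) := ⟨Nat.prime_two⟩
  obtain ⟨hn, hc⟩ := Cfsg.Agent.Lib.Helper6.pPrimeCore_mem_set (G := H) 2
  haveI := hn
  have hWS : (Subgroup.center (S : Subgroup H)).map (S : Subgroup H).subtype ≤ (S : Subgroup H) := by
    rintro _ ⟨z, -, rfl⟩
    exact z.2
  have hWZ : ∀ q ∈ (Subgroup.center (S : Subgroup H)).map (S : Subgroup H).subtype,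
      ∀ s ∈ (S : Subgroup H), Commute q s := by
    rintro _ ⟨z, hz, rfl⟩ s hs
    have := Subgroup.mem_center_iff.1 hz ⟨s, hs⟩
    have h2 := congrArg Subtype.val this
    simp only [Subgroup.coe_mul] at h2
    exact h2.symm
  have hWC : ∀ q ∈ (Subgroup.center (S : Subgroup H)).map (S : Subgroup H).subtype, ∀ g : H,
      g * q * g⁻¹ ∈ (S : Subgroup H) → g * q * g⁻¹ = q := by
    intro q hq g hg
    exact zw_wc_element S (hWS hq) (hWZ q hq) (hwc _ (Subgroup.zpowers_le.2 hq)) g hg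
  have hW2 : IsPGroup 2 ((Subgroup.center (S : Subgroup H)).map (S : Subgroup H).subtype) :=
    S.isPGroup'.to_le hWS
  have hh : ∀ w ∈ (Subgroup.center (S : Subgroup H)).map (S : Subgroup H).subtype,
      h * w * h⁻¹ * w⁻¹ ∈ pPrimeCore 2 H := by
    intro w hw
    have := Subgroup.inv_mem _ (zstar_weakly_closed S hWS hWC hw h)
    have e : (w * h * w⁻¹ * h⁻¹)⁻¹ = h * w * h⁻¹ * w⁻¹ := by group
    rwa [e] at this
  obtain ⟨n, hnN, hcen⟩ := zw_conj_sub (pPrimeCore 2 H) hc hW2 h hh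
  refine ⟨n, hnN, n⁻¹ * h, ?_, by group⟩
  rw [Subgroup.mem_centralizer_iff]
  intro w hw
  have h1 := hcen w hw
  calc w * (n⁻¹ * h) = ((n⁻¹ * h) * w * (n⁻¹ * h)⁻¹) * (n⁻¹ * h) := by rw [h1]
    _ = (n⁻¹ * h) * w := by group

end

end Cfsg.Agent.Lib.Helper8
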